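import Cfsg.Agent.OddHalf.SpN.Start_m3
import Cfsg.Agent.OddHalf.Front.FE
import Cfsg.Agent.Schreier.Basic
import Mathlib
import Cfsg.Agent.KFacts.Unit.Torus
import Cfsg.Agent.KFacts.Unit.Point
import Cfsg.Agent.S0283
import Cfsg.Agent.KFacts.Unit.GLAct
import Cfsg.Agent.KFacts.J2.Basic
import Cfsg.Agent.KFacts.MulSpor.J3
import Cfsg.Agent.J2Type.Cent5
import Cfsg.Agent.OddHalf.D9.Amb
import Cfsg.Agent.OddHalf.Iface
import Cfsg.Agent.StandardComponent.StdCtx
import Cfsg.Agent.OddHalf.D9.KillAny_m3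
import Cfsg.Agent.OddHalf.D9.Cut
import Cfsg.Agent.Lib.FastPerm
import Cfsg.Agent.OddHalf.SpTwo.EndCOP_m3
import Cfsg.Agent.FastGrp
import Cfsg.Agent.Prune
set_option linter.all false

section
prune_inst 0x7ffcfefbaff8addfffff7e7ffffddffc39d05fffefdff90bffe5efff4fdf032f0fe5fbaf8de090ffdef6e29410b87813f97ee67feb6bdc7ffffd5ff45ffbee1fe5ffbd0951df98b40ffc6ffffbf07f8e7f3fffffffffffffffffffffffffffffffffffffffff

-- part: OddHalf/D7Out/FrGen
section
prune_inst 0x10104100152200000018000020003862fa000102006f000181000b0206c50f0020050721c4a000101012aa5420340048119800400030000000000800011c01a0002a42020240a100200000003007180c00000000000000000000000000000000000000000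
set_option linter.all false
open scoped Cfsg.Agent.FastGrp

/-!
# D7, the front: the frame for a general `K` (helper875)

* `KF0 U Z` : the facts on `K` (a Sylow 2-subgroup `U` of `K` and an elementary abelian `Z ≤ Z(U)`), `KF` : and `K`
  transitive on `Z#`;
* `perf_le` : perfect subgroups of `C(t)` lie in `K` (from the Schreier property of `K`);
* `fr0`, `fr` : a Sylow 2-subgroup `T` of `C(t)` with `T ∩ K = U` and the frame `Defs.Fr`, `Defs.FrT`.
-/

set_option autoImplicit false

namespace Cfsg.Agent.OddHalf.D7Out.FrGen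

open Cfsg.Agent.OddHalf
open scoped commutatorElement

/-- the facts on the group `Y = K` used by the front, without the transitivity of `Y` on `Z#` -/
structure KF0 {Y : Type*} [Group Y] (U Z : Subgroup Y) : Prop where
  pU : IsPGroup 2 ↥U
  maxU : ∀ P : Subgroup Y, IsPGroup 2 ↥P → U ≤ P → P ≤ U
  ZU : Z ≤ U
  Zc : ∀ z ∈ Z, ∀ u ∈ U, u * z = z * u
  Zsq : ∀ z ∈ Z, z * z = 1
  Z1 : Z ≠ ⊥
  /-- (T1s) in automorphism form -/
  aut : ∀ α : MulAut Y, (∃ n : ℕ, α ^ 2 ^ n = 1) → (∀ u ∈ U, α u = u) → ∃ z ∈ Z, ∀ x, α x = z * x * z⁻¹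
  /-- every element of `Z` lies in a perfect subgroup of its centralizer -/
  P2' : ∀ z ∈ Z, ∃ L : Subgroup Y, ⁅L, L⁆ = L ∧ z ∈ L ∧ ∀ y ∈ L, y * z = z * y

/-- the facts on the group `Y = K` used by the front, `Z` a root group -/
structure KF {Y : Type*} [Group Y] (U Z : Subgroup Y) : Prop extends KF0 U Z where
  trans : ∀ z ∈ Z, ∀ z' ∈ Z, z ≠ 1 → z' ≠ 1 → ∃ k : Y, k * z * k⁻¹ = z'

/-- for a group transitive on `Z#`, one perfect subgroup is sufficient -/
theorem P2_of_trans {Y : Type*} [Group Y] {Z : Subgroup Y}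
    (trans : ∀ z ∈ Z, ∀ z' ∈ Z, z ≠ 1 → z' ≠ 1 → ∃ k : Y, k * z * k⁻¹ = z')
    (P2 : ∃ z ∈ Z, z ≠ 1 ∧ ∃ L : Subgroup Y, ⁅L, L⁆ = L ∧ z ∈ L ∧ ∀ y ∈ L, y * z = z * y) :
    ∀ z ∈ Z, ∃ L : Subgroup Y, ⁅L, L⁆ = L ∧ z ∈ L ∧ ∀ y ∈ L, y * z = z * y := by
  intro z hz
  obtain ⟨z₁, hz₁, hz₁1, L, hL, hzL, hLz⟩ := P2
  by_cases hz1 : z = 1
  · refine ⟨⊥, ?_, ?_, ?_⟩
    · exact Subgroup.commutator_bot_left _
    · rw [hz1]; exact one_mem _
    · intro y _; rw [hz1, mul_one, one_mul]
  obtain ⟨k, hk⟩ := trans z₁ hz₁ z hz hz₁1 hz1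
  refine ⟨L.map (MulAut.conj k).toMonoidHom, ?_, ⟨z₁, hzL, hk⟩, ?_⟩
  · rw [← Subgroup.map_commutator, hL]
  · rintro _ ⟨y, hy, rfl⟩
    show k * y * k⁻¹ * z = z * (k * y * k⁻¹)
    rw [← hk]
    calc k * y * k⁻¹ * (k * z₁ * k⁻¹) = k * (y * z₁) * k⁻¹ := by group
      _ = k * (z₁ * y) * k⁻¹ := by rw [hLz y hy]
      _ = k * z₁ * k⁻¹ * (k * y * k⁻¹) := by group

/-- `KF0` is carried by isomorphisms -/
theorem KF0.map {Y Y' : Type*} [Group Y] [Group Y'] (e : Y ≃* Y') {U Z : Subgroup Y} (F : KF0 U Z) :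
    KF0 (U.map e.toMonoidHom) (Z.map e.toMonoidHom) where
  pU := F.pU.map _
  maxU := by
    intro P hP hle
    have h1 : IsPGroup 2 ↥(P.map e.symm.toMonoidHom) := hP.map _
    have h2 := F.maxU _ h1 (fun u hu => ⟨e u, hle ⟨u, hu, rfl⟩, by simp⟩)
    intro x hx
    exact ⟨e.symm x, h2 ⟨x, hx, rfl⟩, by simp⟩
  ZU := Subgroup.map_mono F.ZU
  Zc := by
    rintro _ ⟨z, hz, rfl⟩ _ ⟨u, hu, rfl⟩
    show e u * e z = e z * e u
    rw [← map_mul, ← map_mul, F.Zc z hz u hu]
  Zsq := by
    rintro _ ⟨z, hz, rfl⟩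
    show e z * e z = 1
    rw [← map_mul, F.Zsq z hz, map_one]
  Z1 := by
    intro h0
    rw [Subgroup.map_eq_bot_iff_of_injective _ e.injective] at h0
    exact F.Z1 h0
  aut := by
    rintro α ⟨n, hn⟩ hα
    have hpow : ∀ k : ℕ, ((MulAut.congr e.symm) α) ^ k = (MulAut.congr e.symm) (α ^ k) := fun k => by
      rw [map_pow]
    obtain ⟨z, hz, h1⟩ := F.aut ((MulAut.congr e.symm) α) ⟨n, by rw [hpow, hn, map_one]⟩ (fun u hu => by
      have h2 := hα (e u) ⟨u, hu, rfl⟩
      show e.symm (α (e u)) = u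
      rw [h2, MulEquiv.symm_apply_apply])
    refine ⟨e z, ⟨z, hz, rfl⟩, fun x => ?_⟩
    have h2 : e.symm (α (e (e.symm x))) = z * e.symm x * z⁻¹ := h1 (e.symm x)
    have h3 := congrArg e h2
    simpa using h3
  P2' := by
    rintro _ ⟨z, hz, rfl⟩
    obtain ⟨L, hL, hzL, hLz⟩ := F.P2' z hz
    refine ⟨L.map e.toMonoidHom, ?_, ⟨z, hzL, rfl⟩, ?_⟩
    · rw [← Subgroup.map_commutator, hL]
    · rintro _ ⟨y, hy, rfl⟩
      show e y * e z = e z * e y
      rw [← map_mul, ← map_mul, hLz y hy]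

/-- `KF` is carried by isomorphisms -/
theorem KF.map {Y Y' : Type*} [Group Y] [Group Y'] (e : Y ≃* Y') {U Z : Subgroup Y} (F : KF U Z) :
    KF (U.map e.toMonoidHom) (Z.map e.toMonoidHom) where
  toKF0 := F.toKF0.map e
  trans := by
    rintro _ ⟨z, hz, rfl⟩ _ ⟨z', hz', rfl⟩ h1 h1'
    obtain ⟨k, hk⟩ := F.trans z hz z' hz' (fun h => h1 (by rw [h, map_one])) (fun h => h1' (by rw [h, map_one]))
    refine ⟨e k, ?_⟩
    show e k * e z * (e k)⁻¹ = e z'
    rw [← hk, map_mul, map_mul, map_inv]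

variable {G : Type*} [Group G] {K : Subgroup G}

/-- the image in `G` of a subgroup of `↥K` -/
theorem mem_map {P : Subgroup ↥K} {g : G} : g ∈ P.map K.subtype ↔ ∃ hg : g ∈ K, (⟨g, hg⟩ : ↥K) ∈ P := by
  constructor
  · rintro ⟨x, hx, rfl⟩
    exact ⟨x.2, hx⟩
  · rintro ⟨hg, h1⟩
    exact ⟨⟨g, hg⟩, h1, rfl⟩

/-- a Sylow 2-subgroup of `C(t)` containing `U` -/
theorem exists_T [Finite G] {t v : G} (S : Front.FE.Start0 K t v) {U₀ : Subgroup G} (hU : IsPGroup 2 ↥U₀)
    (hUK : U₀ ≤ K) (hUm : ∀ P : Subgroup G, IsPGroup 2 ↥P → U₀ ≤ P → P ≤ K → P ≤ U₀) :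
    ∃ T : Subgroup G, IsPGroup 2 ↥T ∧ v ∈ T ∧ (∀ x ∈ T, x * t = t * x) ∧
      (∀ P : Subgroup G, IsPGroup 2 ↥P → T ≤ P → (∀ x ∈ P, x * t = t * x) → P ≤ T) ∧ T ⊓ K = U₀ := by
  set C : Subgroup G := Subgroup.centralizer ({t} : Set G) with hC
  have hUC : U₀ ≤ C := fun x hx => Subgroup.mem_centralizer_singleton_iff.2 (S.Kt x (hUK hx))
  obtain ⟨P, hP⟩ := (hU.comap_of_injective C.subtype C.subtype_injective).exists_le_sylow
  set T : Subgroup G := (P : Subgroup ↥C).map C.subtype with hT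
  have pT : IsPGroup 2 ↥T := P.isPGroup'.map _
  have tc : ∀ x ∈ T, x * t = t * x := by
    rintro _ ⟨y, -, rfl⟩
    exact Subgroup.mem_centralizer_singleton_iff.1 y.2
  have max : ∀ Q : Subgroup G, IsPGroup 2 ↥Q → T ≤ Q → (∀ x ∈ Q, x * t = t * x) → Q ≤ T := by
    intro Q hQ hle hQt
    have hQC : Q ≤ C := fun x hx => Subgroup.mem_centralizer_singleton_iff.2 (hQt x hx)
    have h1 := P.is_maximal' (hQ.comap_of_injective C.subtype C.subtype_injective) (by
      intro y hy
      exact hle ⟨y, hy, rfl⟩)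
    intro x hx
    have h2 : (⟨x, hQC hx⟩ : ↥C) ∈ Q.comap C.subtype := hx
    rw [h1] at h2
    exact ⟨⟨x, hQC hx⟩, h2, rfl⟩
  have hUT : U₀ ≤ T := fun x hx => ⟨⟨x, hUC hx⟩, hP (by exact hx), rfl⟩
  refine ⟨T, pT, ?_, tc, max, ?_⟩
  · -- `R` is normalised by `T`
    have hRC : ∀ x ∈ Subgroup.zpowers v, x * t = t * x := S.Qt
    have hle : T ≤ Subgroup.normalizer ((Subgroup.zpowers v : Subgroup G) : Set G) := by
      intro x hx
      have hxt := tc x hx
      have key : ∀ y : G, y * t = t * y → y * v * y⁻¹ ∈ Subgroup.zpowers v := by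
        intro y hy
        apply S.cK
        · have hvt := hRC v (Subgroup.mem_zpowers v)
          have hyt : y⁻¹ * t = t * y⁻¹ := by
            rw [inv_mul_eq_iff_eq_mul, ← mul_assoc, hy, mul_inv_cancel_right]
          calc y * v * y⁻¹ * t = y * v * (y⁻¹ * t) := by group
            _ = y * (v * t) * y⁻¹ := by rw [hyt]; group
            _ = y * t * v * y⁻¹ := by rw [hvt]; group
            _ = t * (y * v * y⁻¹) := by rw [hy]; group
        · intro k hk
          have hyN := S.nK y hy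
          have h1 : y⁻¹ * k * y ∈ K := by
            apply (Subgroup.mem_normalizer_iff.1 hyN (y⁻¹ * k * y)).2
            have e : y * (y⁻¹ * k * y) * y⁻¹ = k := by group
            rw [e]; exact hk
          have h2 := S.qK _ h1
          calc k * (y * v * y⁻¹) = y * (y⁻¹ * k * y * v) * y⁻¹ := by group
            _ = y * (v * (y⁻¹ * k * y)) * y⁻¹ := by rw [h2]
            _ = y * v * y⁻¹ * k := by group
      have key2 : ∀ y : G, y * t = t * y → ∀ r ∈ Subgroup.zpowers v, y * r * y⁻¹ ∈ Subgroup.zpowers v := by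
        intro y hy r hr
        obtain ⟨j, rfl⟩ := Subgroup.mem_zpowers_iff.1 hr
        have e : y * v ^ j * y⁻¹ = (y * v * y⁻¹) ^ j := by rw [conj_zpow]
        rw [e]
        exact zpow_mem (key y hy) j
      rw [Subgroup.mem_normalizer_iff]
      intro r
      constructor
      · exact key2 x hxt r
      · intro hr
        have hxt' : x⁻¹ * t = t * x⁻¹ := by
          rw [inv_mul_eq_iff_eq_mul, ← mul_assoc, hxt, mul_inv_cancel_right]
        have h3 := key2 x⁻¹ hxt' _ hr
        have e : x⁻¹ * (x * r * x⁻¹) * x⁻¹⁻¹ = r := by group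
        rwa [e] at h3
    have h1 : IsPGroup 2 ((T ⊔ Subgroup.zpowers v : Subgroup G)) := pT.to_sup_of_normal_right' S.pQ hle
    have h2 : ∀ x ∈ T ⊔ Subgroup.zpowers v, x * t = t * x := by
      have : T ⊔ Subgroup.zpowers v ≤ C := by
        rw [sup_le_iff]
        exact ⟨fun x hx => Subgroup.mem_centralizer_singleton_iff.2 (tc x hx), fun x hx =>
          Subgroup.mem_centralizer_singleton_iff.2 (hRC x hx)⟩
      intro x hx
      exact Subgroup.mem_centralizer_singleton_iff.1 (this hx)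
    exact max _ h1 le_sup_left h2 ((le_sup_right : Subgroup.zpowers v ≤ _) (Subgroup.mem_zpowers v))
  · apply le_antisymm
    · exact hUm _ (pT.to_le inf_le_left) (le_inf hUT hUK) inf_le_right
    · exact le_inf hUT hUK

/-- conjugation by `g ∈ N(K)` -/
def cjK {K : Subgroup G} {g : G} (hg : g ∈ Subgroup.normalizer (K : Set G)) : MulAut ↥K where
  toFun k := ⟨g * k * g⁻¹, (Subgroup.mem_normalizer_iff.1 hg k).1 k.2⟩
  invFun k := ⟨g⁻¹ * k * g, (Subgroup.mem_normalizer_iff.1 hg _).2 (by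
    have e : g * (g⁻¹ * (k : G) * g) * g⁻¹ = k := by group
    rw [e]; exact k.2)⟩
  left_inv k := Subtype.ext (by
    change g⁻¹ * (g * k * g⁻¹) * g = k
    group)
  right_inv k := Subtype.ext (by
    change g * (g⁻¹ * k * g) * g⁻¹ = k
    group)
  map_mul' k k' := Subtype.ext (by
    change g * (k * k') * g⁻¹ = g * k * g⁻¹ * (g * k' * g⁻¹)
    group)

theorem cjK_pow {K : Subgroup G} {g : G} (hg : g ∈ Subgroup.normalizer (K : Set G)) (m : ℕ) (k : ↥K) :
    (((cjK hg) ^ m) k : G) = g ^ m * k * (g ^ m)⁻¹ := by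
  induction m generalizing k with
  | zero => simp
  | succ m ih =>
    rw [pow_succ, MulAut.mul_apply, ih]
    change g ^ m * (g * k * g⁻¹) * (g ^ m)⁻¹ = _
    rw [pow_succ]; group

/-- the action of `P ≤ N(K)` on `K` -/
def actK {K P : Subgroup G} (hP : ∀ x ∈ P, x ∈ Subgroup.normalizer (K : Set G)) : ↥P →* MulAut ↥K where
  toFun h := cjK (hP h h.2)
  map_one' := by
    ext k
    change ((1 : ↥P) : G) * k * ((1 : ↥P) : G)⁻¹ = k
    simp
  map_mul' h h' := by
    ext k
    change ((h * h' : ↥P) : G) * k * ((h * h' : ↥P) : G)⁻¹ = (h : G) * ((h' : G) * k * (h' : G)⁻¹) * (h : G)⁻¹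
    rw [Subgroup.coe_mul]
    group

/-- perfect subgroups of `C(t)` lie in `K` -/
theorem perf_le {t v : G} (S : Front.FE.Start0 K t v) (hs : Schreier.Basic.Sch ↥K) {P : Subgroup G}
    (hPt : ∀ x ∈ P, x * t = t * x) (hP : ⁅P, P⁆ = P) : P ≤ K := by
  have hpt : ⁅(⊤ : Subgroup ↥P), (⊤ : Subgroup ↥P)⁆ = ⊤ := by
    apply Subgroup.map_injective P.subtype_injective
    rw [Subgroup.map_commutator, ← MonoidHom.range_eq_map, Subgroup.range_subtype, hP]
  have hPN : ∀ x ∈ P, x ∈ Subgroup.normalizer (K : Set G) := fun x hx => S.nK x (hPt x hx)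
  have h1 : (actK hPN).range ≤ (MulAut.conj : ↥K →* MulAut ↥K).range := by
    apply hs
    rw [MonoidHom.range_eq_map, ← Subgroup.map_commutator, hpt]
  have h2 : ∀ p ∈ P, ∃ k ∈ K, k⁻¹ * p ∈ Subgroup.zpowers v := by
    intro p hp
    obtain ⟨k, hk⟩ := h1 ⟨⟨p, hp⟩, rfl⟩
    refine ⟨k, k.2, ?_⟩
    apply S.cK
    · have h3 := hPt p hp
      have h4 := S.Kt k k.2
      have h5 : (k : G)⁻¹ * t = t * (k : G)⁻¹ := by
        rw [inv_mul_eq_iff_eq_mul, ← mul_assoc, h4, mul_inv_cancel_right]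
      calc (k : G)⁻¹ * p * t = (k : G)⁻¹ * t * p := by rw [mul_assoc, h3, ← mul_assoc]
        _ = t * ((k : G)⁻¹ * p) := by rw [h5, mul_assoc]
    · intro x hx
      have h3 : MulAut.conj k ⟨x, hx⟩ = actK hPN ⟨p, hp⟩ ⟨x, hx⟩ := by rw [hk]
      have h4 : (k : G) * x * (k : G)⁻¹ = p * x * p⁻¹ := congrArg Subtype.val h3
      symm
      calc (k : G)⁻¹ * p * x = (k : G)⁻¹ * (p * x * p⁻¹) * p := by group
        _ = (k : G)⁻¹ * (k * x * (k : G)⁻¹) * p := by rw [h4]
        _ = x * ((k : G)⁻¹ * p) := by group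
  rw [← hP, Subgroup.commutator_le]
  intro p hp q hq
  obtain ⟨k, hk, hkc⟩ := h2 p hp
  obtain ⟨l, hl, hld⟩ := h2 q hq
  obtain ⟨c, hc⟩ : ∃ c, c = k⁻¹ * p := ⟨_, rfl⟩
  obtain ⟨d, hd⟩ : ∃ d, d = l⁻¹ * q := ⟨_, rfl⟩
  rw [← hc] at hkc
  rw [← hd] at hld
  have hpc : p = k * c := by rw [hc]; group
  have hqd : q = l * d := by rw [hd]; group
  have hcd : c * d = d * c := by
    obtain ⟨i, rfl⟩ := Subgroup.mem_zpowers_iff.1 hkc
    obtain ⟨j, rfl⟩ := Subgroup.mem_zpowers_iff.1 hld
    rw [← zpow_add, ← zpow_add, add_comm]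
  have hcl : l * c = c * l := S.QK c hkc l hl
  have hdk : k * d = d * k := S.QK d hld k hk
  have h3 : p * q = k * l * (c * d) := by
    rw [hpc, hqd]
    calc k * c * (l * d) = k * (c * l) * d := by group
      _ = k * (l * c) * d := by rw [hcl]
      _ = _ := by group
  have h4 : q * p = l * k * (c * d) := by
    rw [hpc, hqd]
    calc l * d * (k * c) = l * (d * k) * c := by group
      _ = l * (k * d) * c := by rw [hdk]
      _ = l * k * (d * c) := by group
      _ = _ := by rw [hcd]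
  have h5 : ⁅p, q⁆ = k * l * (l * k)⁻¹ := by
    calc ⁅p, q⁆ = p * q * (q * p)⁻¹ := by rw [commutatorElement_def]; group
      _ = _ := by rw [h3, h4]; group
  rw [h5]
  exact K.mul_mem (K.mul_mem hk hl) (K.inv_mem (K.mul_mem hl hk))

/-- **The frame.** -/
theorem fr0 [Finite G] {t v : G} (S : Front.FE.Start K t v) {U Z : Subgroup ↥K} (F : KF0 U Z)
    (hs : Schreier.Basic.Sch ↥K) :
    ∃ T : Subgroup G, Defs.Fr t v K (U.map K.subtype) (Z.map K.subtype) T := by
  have : Fact (Nat.Prime 2) := ⟨Nat.prime_two⟩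
  have hUp : IsPGroup 2 ↥(U.map K.subtype) := F.pU.map _
  have hUK : U.map K.subtype ≤ K := Subgroup.map_subtype_le _
  have hUm : ∀ P : Subgroup G, IsPGroup 2 ↥P → U.map K.subtype ≤ P → P ≤ K → P ≤ U.map K.subtype := by
    intro P hP hle hPK
    have h1 : IsPGroup 2 ↥(P.subgroupOf K) := hP.comap_of_injective K.subtype K.subtype_injective
    have h2 := F.maxU _ h1 (fun x hx => hle ⟨x, hx, rfl⟩)
    intro x hx
    have h3 : (⟨x, hPK hx⟩ : ↥K) ∈ P.subgroupOf K := hx
    exact ⟨_, h2 h3, rfl⟩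
  obtain ⟨T, pT, vT, tc, max, hTK⟩ := exists_T S.toStart0 hUp hUK hUm
  have hKR : ∀ x ∈ K, x ∈ Subgroup.zpowers v → x = 1 := by
    intro x hx hxv
    exact S.cen x hx fun y hy => S.QK x hxv y hy
  refine ⟨T, ?_⟩
  constructor
  · exact S.tt
  · exact S.t1
  · exact S.pQ
  · exact S.tQ
  · exact S.nK
  · exact S.qK
  · exact S.cK
  · exact hKR
  · exact pT
  · exact vT
  · exact tc
  · exact max
  · exact hTK.symm
  · exact Subgroup.map_mono F.ZU
  · rintro _ ⟨z, hz, rfl⟩ _ ⟨u, hu, rfl⟩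
    exact congrArg Subtype.val (F.Zc z hz u hu)
  · rintro _ ⟨z, hz, rfl⟩
    exact congrArg Subtype.val (F.Zsq z hz)
  · intro h0
    rw [Subgroup.map_eq_bot_iff_of_injective _ K.subtype_injective] at h0
    exact F.Z1 h0
  · intro x hx hxU
    have hxN := S.nK x (tc x hx)
    obtain ⟨m, hm⟩ := pT ⟨x, hx⟩
    have hm' : x ^ 2 ^ m = 1 := congrArg Subtype.val hm
    obtain ⟨z, hz, hzK⟩ := F.aut (cjK hxN) ⟨m, by
      ext k
      rw [cjK_pow, hm']
      simp⟩ (fun u hu => by
      apply Subtype.ext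
      change x * u * x⁻¹ = u
      rw [hxU u ⟨u, hu, rfl⟩, mul_inv_cancel_right])
    have hr : (z : G)⁻¹ * x ∈ Subgroup.zpowers v := by
      apply S.cK
      · have h1 := tc x hx
        have h2 := S.Kt z z.2
        have h3 : (z : G)⁻¹ * t = t * (z : G)⁻¹ := by
          rw [inv_mul_eq_iff_eq_mul, ← mul_assoc, h2, mul_inv_cancel_right]
        calc (z : G)⁻¹ * x * t = (z : G)⁻¹ * t * x := by rw [mul_assoc, h1, ← mul_assoc]
          _ = t * ((z : G)⁻¹ * x) := by rw [h3, mul_assoc]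
      · intro k hk
        have h4 : x * k * x⁻¹ = z * k * (z : G)⁻¹ := congrArg Subtype.val (hzK ⟨k, hk⟩)
        symm
        calc (z : G)⁻¹ * x * k = (z : G)⁻¹ * (x * k * x⁻¹) * x := by group
          _ = (z : G)⁻¹ * (z * k * (z : G)⁻¹) * x := by rw [h4]
          _ = k * ((z : G)⁻¹ * x) := by group
    refine ⟨(z : G)⁻¹ * x, hr, z, ⟨z, hz, rfl⟩, ?_⟩
    rw [← S.QK _ hr z z.2]; group
  · rintro _ ⟨z, hz, rfl⟩ g hg
    obtain ⟨L₀, hL₀, hzL₀, hLz₀⟩ := F.P2' z hz
    have hg' : g * t * g⁻¹ = z := hg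
    set L : Subgroup G := L₀.map K.subtype with hL
    have hLp : ⁅L, L⁆ = L := by rw [hL, ← Subgroup.map_commutator, hL₀]
    set L' : Subgroup G := L.map (MulAut.conj g⁻¹).toMonoidHom with hL'
    have hp : ⁅L', L'⁆ = L' := by rw [hL', ← Subgroup.map_commutator, hLp]
    have h1 : ∀ x ∈ L', x * t = t * x := by
      rintro _ ⟨_, ⟨w, hw, rfl⟩, rfl⟩
      have h2 : (w : G) * z = z * w := congrArg Subtype.val (hLz₀ w hw)
      show g⁻¹ * w * g⁻¹⁻¹ * t = t * (g⁻¹ * w * g⁻¹⁻¹)
      calc g⁻¹ * w * g⁻¹⁻¹ * t = g⁻¹ * (w * (g * t * g⁻¹)) * g := by group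
        _ = g⁻¹ * (w * z) * g := by rw [hg']
        _ = g⁻¹ * (z * w) * g := by rw [h2]
        _ = g⁻¹ * (g * t * g⁻¹ * w) * g := by rw [hg']
        _ = t * (g⁻¹ * w * g⁻¹⁻¹) := by group
    have h2 := perf_le S.toStart0 hs h1 hp
    have h3 : t ∈ L' := ⟨z, ⟨z, hzL₀, rfl⟩, by
      show g⁻¹ * z * g⁻¹⁻¹ = t
      rw [← hg']; group⟩
    exact S.t1 (hKR t (h2 h3) S.tQ)

/-- **The frame**, `Z` a root group. -/
theorem fr [Finite G] {t v : G} (S : Front.FE.Start K t v) {U Z : Subgroup ↥K} (F : KF U Z)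
    (hs : Schreier.Basic.Sch ↥K) :
    ∃ T : Subgroup G, Defs.FrT t v K (U.map K.subtype) (Z.map K.subtype) T := by
  obtain ⟨T, hT⟩ := fr0 S F.toKF0 hs
  refine ⟨T, hT, ?_⟩
  rintro _ ⟨z, hz, rfl⟩ _ ⟨z', hz', rfl⟩ hz1 hz1'
  obtain ⟨k, hk⟩ := F.trans z hz z' hz' (fun e => hz1 (by rw [e]; rfl)) (fun e => hz1' (by rw [e]; rfl))
  exact ⟨k, k.2, congrArg Subtype.val hk⟩

end Cfsg.Agent.OddHalf.D7Out.FrGen

private theorem dce_a1556fc6cdc2 : _root_.True := by
  try have : _root_.True := by simp only [_root_.Cfsg.Agent.OddHalf.D7Out.FrGen.cjK.congr_simp]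
  exact _root_.True.intro
end

-- part: OddHalf/D7Out/TwChoice
section
prune_inst 0x10104100112200000018000020003c02da000102006f000180000b0206840f0020050721c4a000101012a25420340068118800400030000000000000011c01a0002a42000240a100200000003007180c00000000000000000000000000000000000000000
set_option linter.all false
open scoped Cfsg.Agent.FastGrp

/-!
# D7, outer 2-part: the choice of `T = U P` (helper903; text: helper490, bb ODD 11669, section 3; d7row 102)

`K` normal in `C(t)`, `Y ≤ C(t)` (the stabiliser of a frame), `C(t) = K Y`, `K ∩ Y` without involutions, `U` a Sylow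
2-subgroup of `K` normalised by `Y`. For a Sylow 2-subgroup `P` of `Y`:

* `T = U P` is a Sylow 2-subgroup of `C(t)`, `T ∩ K = U`, `P ∩ K = 1`, `R = ⟨v⟩ ≤ P` (`exists_out`);
* the frame `Defs.Fr` holds for this `T` (`Out.fr0`, `Out.fr`; more generally `fr0_of` for every Sylow `T` with
  `T ∩ K = U`);
* (CYC) ⟹ `P = ⟨y⟩ R` (`Out.cyc`), and for `R = ⟨t⟩`: `P` is abelian (`Out.comm`), its involutions are `t, g, t g`
  (`Out.inv`);
* `Us ≥ U` normalised by `P` with `C_Us(t) = U`: `S = Us P` has `C_S(t) = T`, `P ∩ Us = 1` (`Out.doubled`).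
-/

set_option autoImplicit false

namespace Cfsg.Agent.OddHalf.D7Out.TwChoice

open Subgroup Cfsg.Agent.OddHalf

variable {G : Type*} [Group G]

/-- The input of the choice. -/
structure Hyp (t v : G) (K Y U : Subgroup G) : Prop where
  Yt : ∀ y ∈ Y, y * t = t * y
  vY : v ∈ Y
  /-- `C(t) = K Y` -/
  KY : ∀ g : G, g * t = t * g → ∃ k ∈ K, ∃ y ∈ Y, g = k * y
  /-- `K ∩ Y` has odd order -/
  odd : ∀ x ∈ K, x ∈ Y → x * x = 1 → x = 1
  UK : U ≤ K
  pU : IsPGroup 2 ↥U
  maxU : ∀ P : Subgroup G, IsPGroup 2 ↥P → U ≤ P → P ≤ K → P ≤ U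
  YU : ∀ y ∈ Y, ∀ u ∈ U, y * u * y⁻¹ ∈ U

/-- The output of the choice. -/
structure Out (t v : G) (K Y U P T : Subgroup G) : Prop where
  pP : IsPGroup 2 ↥P
  PY : P ≤ Y
  /-- `P` is a Sylow 2-subgroup of `Y` -/
  maxP : ∀ Q : Subgroup G, IsPGroup 2 ↥Q → P ≤ Q → Q ≤ Y → Q ≤ P
  vP : v ∈ P
  /-- `P ∩ K = 1` -/
  PK : ∀ x ∈ P, x ∈ K → x = 1
  /-- `P` normalises `U` -/
  PU : ∀ p ∈ P, ∀ u ∈ U, p * u * p⁻¹ ∈ U
  UT : U ≤ T
  PT : P ≤ T
  /-- `T = U P` -/
  T_eq : ∀ x, x ∈ T ↔ ∃ u ∈ U, ∃ p ∈ P, x = u * p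
  pT : IsPGroup 2 ↥T
  tc : ∀ x ∈ T, x * t = t * x
  /-- `T` is a Sylow 2-subgroup of `C(t)` -/
  max : ∀ Q : Subgroup G, IsPGroup 2 ↥Q → T ≤ Q → (∀ x ∈ Q, x * t = t * x) → Q ≤ T
  TK : T ⊓ K = U

theorem comm_inv {a t : G} (h : a * t = t * a) : a⁻¹ * t = t * a⁻¹ := by
  rw [inv_mul_eq_iff_eq_mul, ← mul_assoc, h, mul_inv_cancel_right]

theorem mem_normalizer_of [Finite G] {U : Subgroup G} {y : G} (h : ∀ u ∈ U, y * u * y⁻¹ ∈ U) :
    y ∈ normalizer (U : Set G) := by
  have hk : ∀ k : ℕ, ∀ x ∈ U, y ^ k * x * (y ^ k)⁻¹ ∈ U := by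
    intro k
    induction k with
    | zero => intro x hx; simpa using hx
    | succ k ih =>
      intro x hx
      have := h _ (ih x hx)
      have e : y * (y ^ k * x * (y ^ k)⁻¹) * y⁻¹ = y ^ (k + 1) * x * (y ^ (k + 1))⁻¹ := by
        rw [pow_succ' y k]; group
      rwa [e] at this
  rw [mem_normalizer_iff]
  intro x
  constructor
  · exact h x
  · intro hx
    have h1 := hk (orderOf y - 1) _ hx
    have e : y ^ (orderOf y - 1) = y⁻¹ := by
      rw [eq_inv_iff_mul_eq_one, ← pow_succ, Nat.sub_add_cancel (orderOf_pos y), pow_orderOf_eq_one]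
    rw [e] at h1
    have e2 : y⁻¹ * (y * x * y⁻¹) * y⁻¹⁻¹ = x := by group
    rwa [e2] at h1

/-- `R = ⟨v⟩` is normalised by `C(t)` -/
theorem conj_R {K : Subgroup G} {t v : G} (S : Front.FE.Start0 K t v) {y : G} (hy : y * t = t * y) :
    ∀ r ∈ zpowers v, y * r * y⁻¹ ∈ zpowers v := by
  have key : y * v * y⁻¹ ∈ zpowers v := by
    apply S.cK
    · have hvt := S.Qt v (mem_zpowers v)
      have hyt := comm_inv hy
      calc y * v * y⁻¹ * t = y * v * (y⁻¹ * t) := by group
        _ = y * (v * t) * y⁻¹ := by rw [hyt]; group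
        _ = y * t * v * y⁻¹ := by rw [hvt]; group
        _ = t * (y * v * y⁻¹) := by rw [hy]; group
    · intro k hk
      have hyN := S.nK y hy
      have h1 : y⁻¹ * k * y ∈ K := by
        apply (mem_normalizer_iff.1 hyN (y⁻¹ * k * y)).2
        have e : y * (y⁻¹ * k * y) * y⁻¹ = k := by group
        rw [e]; exact hk
      have h2 := S.qK _ h1
      calc k * (y * v * y⁻¹) = y * (y⁻¹ * k * y * v) * y⁻¹ := by group
        _ = y * (v * (y⁻¹ * k * y)) * y⁻¹ := by rw [h2]
        _ = y * v * y⁻¹ * k := by group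
  intro r hr
  obtain ⟨j, rfl⟩ := mem_zpowers_iff.1 hr
  have e : y * v ^ j * y⁻¹ = (y * v * y⁻¹) ^ j := by rw [conj_zpow]
  rw [e]
  exact zpow_mem key j

/-- the product `U P` -/
theorem mem_sup_iff {U P : Subgroup G} (h : ∀ p ∈ P, ∀ u ∈ U, p * u * p⁻¹ ∈ U) {x : G} :
    x ∈ U ⊔ P ↔ ∃ u ∈ U, ∃ p ∈ P, x = u * p := by
  constructor
  · intro hx
    let M : Subgroup G :=
      { carrier := {x | ∃ u ∈ U, ∃ p ∈ P, x = u * p}
        one_mem' := ⟨1, one_mem _, 1, one_mem _, (one_mul 1).symm⟩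
        mul_mem' := by
          rintro _ _ ⟨u, hu, p, hp, rfl⟩ ⟨u', hu', p', hp', rfl⟩
          exact ⟨u * (p * u' * p⁻¹), mul_mem hu (h p hp u' hu'), p * p', mul_mem hp hp', by group⟩
        inv_mem' := by
          rintro _ ⟨u, hu, p, hp, rfl⟩
          exact ⟨p⁻¹ * u⁻¹ * p⁻¹⁻¹, h _ (inv_mem hp) _ (inv_mem hu), p⁻¹, inv_mem hp, by group⟩ }
    have h1 : U ⊔ P ≤ M := sup_le (fun u hu => ⟨u, hu, 1, one_mem _, (mul_one u).symm⟩)
      (fun p hp => ⟨1, one_mem _, p, hp, (one_mul p).symm⟩)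
    exact h1 hx
  · rintro ⟨u, hu, p, hp, rfl⟩
    exact mul_mem ((le_sup_left : U ≤ _) hu) ((le_sup_right : P ≤ _) hp)

/-- **The choice of `T = U P`**, for a given Sylow 2-subgroup `P` of `Y`. -/
theorem out_of_max [Finite G] {t v : G} {K Y U P : Subgroup G} (S : Front.FE.Start0 K t v) (H : Hyp t v K Y U)
    (pP : IsPGroup 2 ↥P) (PY : P ≤ Y)
    (maxP : ∀ Q : Subgroup G, IsPGroup 2 ↥Q → P ≤ Q → Q ≤ Y → Q ≤ P) : Out t v K Y U P (U ⊔ P) := by
  classical
  have : Fact (Nat.Prime 2) := ⟨Nat.prime_two⟩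
  have Pt : ∀ x ∈ P, x * t = t * x := fun x hx => H.Yt x (PY hx)
  have Ut : ∀ x ∈ U, x * t = t * x := fun x hx => S.Kt x (H.UK hx)
  have hPU : ∀ p ∈ P, ∀ u ∈ U, p * u * p⁻¹ ∈ U := fun p hp => H.YU p (PY hp)
  have hPN : P ≤ normalizer (U : Set G) := fun p hp => mem_normalizer_of (hPU p hp)
  have pT : IsPGroup 2 ↥(U ⊔ P) := by
    rw [sup_comm]
    exact pP.to_sup_of_normal_right' H.pU hPN
  have hTt : ∀ x ∈ U ⊔ P, x * t = t * x := by
    have : U ⊔ P ≤ centralizer ({t} : Set G) := sup_le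
      (fun x hx => mem_centralizer_singleton_iff.2 (Ut x hx))
      (fun x hx => mem_centralizer_singleton_iff.2 (Pt x hx))
    exact fun x hx => mem_centralizer_singleton_iff.1 (this hx)
  have hTK : (U ⊔ P) ⊓ K = U := by
    apply le_antisymm
    · exact H.maxU _ (pT.to_le inf_le_left) (le_inf le_sup_left H.UK) inf_le_right
    · exact le_inf le_sup_left H.UK
  -- `v ∈ P`
  have hv : v ∈ P := by
    have h1 : IsPGroup 2 ↥(P ⊔ zpowers v) := by
      refine pP.to_sup_of_normal_right' S.pQ ?_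
      exact fun p hp => mem_normalizer_of (conj_R S (Pt p hp))
    exact maxP _ h1 le_sup_left (sup_le PY (zpowers_le.2 H.vY)) ((le_sup_right : zpowers v ≤ _) (mem_zpowers v))
  have hPK : ∀ x ∈ P, x ∈ K → x = 1 := by
    intro x hx hxK
    by_contra hx1
    obtain ⟨y, hy, hyy, hy1⟩ := Front.FE.exists_involution hx1 (pP.to_le (zpowers_le.2 hx))
    exact hy1 (H.odd y (zpowers_le.2 hxK hy) (PY (zpowers_le.2 hx hy)) hyy)
  refine ⟨pP, PY, maxP, hv, hPK, hPU, le_sup_left, le_sup_right, fun x => mem_sup_iff hPU, pT, hTt, ?_, hTK⟩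
  -- `T` is a Sylow 2-subgroup of `C(t)`
  intro Q hQ hTQ hQt
  set C : Subgroup G := centralizer ({t} : Set G) with hC
  have hYC : Y ≤ C := fun y hy => mem_centralizer_singleton_iff.2 (H.Yt y hy)
  have hQC : Q ≤ C := fun y hy => mem_centralizer_singleton_iff.2 (hQt y hy)
  have hN : (K.subgroupOf C).Normal := by
    refine ⟨fun n hn g => ?_⟩
    rw [mem_subgroupOf] at hn ⊢
    exact (mem_normalizer_iff.1 (S.nK g (mem_centralizer_singleton_iff.1 g.2)) (n : G)).1 hn
  set π : ↥C →* ↥C ⧸ K.subgroupOf C := QuotientGroup.mk' (K.subgroupOf C) with hπ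
  have hπeq : ∀ a b : ↥C, π a = π b ↔ (a : G)⁻¹ * b ∈ K := by
    intro a b
    rw [hπ, QuotientGroup.mk'_apply, QuotientGroup.mk'_apply, QuotientGroup.eq, mem_subgroupOf]
    rfl
  set f : ↥Y →* ↥C ⧸ K.subgroupOf C := π.comp (inclusion hYC) with hf
  have hsurj : Function.Surjective f := by
    intro q
    obtain ⟨c, rfl⟩ := QuotientGroup.mk'_surjective _ q
    obtain ⟨k, hk, y, hy, hc⟩ := H.KY c (mem_centralizer_singleton_iff.1 c.2)
    refine ⟨⟨y, hy⟩, ?_⟩
    show π (inclusion hYC ⟨y, hy⟩) = π c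
    rw [hπeq]
    show y⁻¹ * (c : G) ∈ K
    rw [hc]
    have h1 : y⁻¹ * (k * y) = y⁻¹ * k * y⁻¹⁻¹ := by group
    rw [h1]
    exact (mem_normalizer_iff.1 (S.nK y⁻¹ (comm_inv (H.Yt y hy))) k).1 hk
  let P0 : Sylow 2 ↥Y := ⟨P.subgroupOf Y, pP.comap_of_injective Y.subtype Y.subtype_injective, by
    intro R hR hle
    apply le_antisymm _ hle
    intro y hy
    have h1 : R.map Y.subtype ≤ P := by
      apply maxP _ (hR.map Y.subtype)
      · intro x hx
        exact ⟨⟨x, PY hx⟩, hle (by exact hx), rfl⟩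
      · exact map_subtype_le _
    exact h1 ⟨y, hy, rfl⟩⟩
  have hP0 : ∀ y : ↥Y, y ∈ (P0 : Subgroup ↥Y) ↔ (y : G) ∈ P := fun y => Iff.rfl
  have h1 : (Q.subgroupOf C).map π = (P0.mapSurjective hsurj : Subgroup (↥C ⧸ K.subgroupOf C)) := by
    apply (P0.mapSurjective hsurj).is_maximal'
    · exact (hQ.comap_of_injective C.subtype C.subtype_injective).map _
    · rw [Sylow.coe_mapSurjective]
      rintro _ ⟨y, hy, rfl⟩
      exact ⟨inclusion hYC y, hTQ ((le_sup_right : P ≤ U ⊔ P) ((hP0 y).1 hy)), rfl⟩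
  intro x hx
  have h2 : π ⟨x, hQC hx⟩ ∈ (P0.mapSurjective hsurj : Subgroup (↥C ⧸ K.subgroupOf C)) := by
    rw [← h1]
    exact ⟨⟨x, hQC hx⟩, hx, rfl⟩
  rw [Sylow.coe_mapSurjective] at h2
  obtain ⟨p, hp, hpx⟩ := h2
  have hp' : (p : G) ∈ P := (hP0 p).1 hp
  have h3 : (p : G)⁻¹ * x ∈ K := (hπeq _ _).1 hpx
  have h4 : (p : G)⁻¹ * x ∈ Q := mul_mem (inv_mem (hTQ ((le_sup_right : P ≤ U ⊔ P) hp'))) hx
  have h5 : (p : G)⁻¹ * x ∈ U := by
    refine H.maxU (Q ⊓ K) (hQ.to_le inf_le_left) (le_inf ?_ H.UK) inf_le_right ⟨h4, h3⟩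
    exact le_trans le_sup_left hTQ
  have h6 : x = p * ((p : G)⁻¹ * x) := by group
  rw [h6]
  exact mul_mem ((le_sup_right : P ≤ U ⊔ P) hp') ((le_sup_left : U ≤ U ⊔ P) h5)

/-- **The choice of `T = U P`** -/
theorem exists_out [Finite G] {t v : G} {K Y U : Subgroup G} (S : Front.FE.Start0 K t v) (H : Hyp t v K Y U) :
    ∃ P : Subgroup G, Out t v K Y U P (U ⊔ P) := by
  have : Fact (Nat.Prime 2) := ⟨Nat.prime_two⟩
  obtain ⟨P0⟩ : Nonempty (Sylow 2 ↥Y) := inferInstance
  refine ⟨(P0 : Subgroup ↥Y).map Y.subtype, out_of_max S H (P0.isPGroup'.map _) (map_subtype_le _) ?_⟩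
  intro Q hQ hle hQY x hx
  have h1 := P0.is_maximal' (hQ.comap_of_injective Y.subtype Y.subtype_injective) (by
    intro y hy
    exact hle ⟨y, hy, rfl⟩)
  have h2 : (⟨x, hQY hx⟩ : ↥Y) ∈ Q.comap Y.subtype := hx
  rw [h1] at h2
  exact ⟨⟨x, hQY hx⟩, h2, rfl⟩

/-! ### The frame for a given `T` -/

open FrGen in
/-- **The frame for a given Sylow 2-subgroup `T` of `C(t)`** with `T ∩ K = U`. -/
theorem fr0_of {K : Subgroup G} {t v : G} (S : Front.FE.Start K t v) {U Z : Subgroup ↥K}
    (F : KF0 U Z) (hs : Schreier.Basic.Sch ↥K) {T : Subgroup G} (pT : IsPGroup 2 ↥T) (vT : v ∈ T)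
    (tc : ∀ x ∈ T, x * t = t * x)
    (max : ∀ P : Subgroup G, IsPGroup 2 ↥P → T ≤ P → (∀ x ∈ P, x * t = t * x) → P ≤ T)
    (hTK : T ⊓ K = U.map K.subtype) :
    Defs.Fr t v K (U.map K.subtype) (Z.map K.subtype) T := by
  have hKR : ∀ x ∈ K, x ∈ Subgroup.zpowers v → x = 1 := by
    intro x hx hxv
    exact S.cen x hx fun y hy => S.QK x hxv y hy
  constructor
  · exact S.tt
  · exact S.t1
  · exact S.pQ
  · exact S.tQ
  · exact S.nK
  · exact S.qK
  · exact S.cK
  · exact hKR
  · exact pT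
  · exact vT
  · exact tc
  · exact max
  · exact hTK.symm
  · exact Subgroup.map_mono F.ZU
  · rintro _ ⟨z, hz, rfl⟩ _ ⟨u, hu, rfl⟩
    exact congrArg Subtype.val (F.Zc z hz u hu)
  · rintro _ ⟨z, hz, rfl⟩
    exact congrArg Subtype.val (F.Zsq z hz)
  · intro h0
    rw [Subgroup.map_eq_bot_iff_of_injective _ K.subtype_injective] at h0
    exact F.Z1 h0
  · intro x hx hxU
    have hxN := S.nK x (tc x hx)
    obtain ⟨m, hm⟩ := pT ⟨x, hx⟩
    have hm' : x ^ 2 ^ m = 1 := congrArg Subtype.val hm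
    obtain ⟨z, hz, hzK⟩ := F.aut (cjK hxN) ⟨m, by
      ext k
      rw [cjK_pow, hm']
      simp⟩ (fun u hu => by
      apply Subtype.ext
      change x * u * x⁻¹ = u
      rw [hxU u ⟨u, hu, rfl⟩, mul_inv_cancel_right])
    have hr : (z : G)⁻¹ * x ∈ Subgroup.zpowers v := by
      apply S.cK
      · have h1 := tc x hx
        have h2 := S.Kt z z.2
        have h3 : (z : G)⁻¹ * t = t * (z : G)⁻¹ := by
          rw [inv_mul_eq_iff_eq_mul, ← mul_assoc, h2, mul_inv_cancel_right]
        calc (z : G)⁻¹ * x * t = (z : G)⁻¹ * t * x := by rw [mul_assoc, h1, ← mul_assoc]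
          _ = t * ((z : G)⁻¹ * x) := by rw [h3, mul_assoc]
      · intro k hk
        have h4 : x * k * x⁻¹ = z * k * (z : G)⁻¹ := congrArg Subtype.val (hzK ⟨k, hk⟩)
        symm
        calc (z : G)⁻¹ * x * k = (z : G)⁻¹ * (x * k * x⁻¹) * x := by group
          _ = (z : G)⁻¹ * (z * k * (z : G)⁻¹) * x := by rw [h4]
          _ = k * ((z : G)⁻¹ * x) := by group
    refine ⟨(z : G)⁻¹ * x, hr, z, ⟨z, hz, rfl⟩, ?_⟩
    rw [← S.QK _ hr z z.2]; group
  · rintro _ ⟨z, hz, rfl⟩ g hg
    obtain ⟨L₀, hL₀, hzL₀, hLz₀⟩ := F.P2' z hz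
    have hg' : g * t * g⁻¹ = z := hg
    set L : Subgroup G := L₀.map K.subtype with hL
    have hLp : ⁅L, L⁆ = L := by rw [hL, ← Subgroup.map_commutator, hL₀]
    set L' : Subgroup G := L.map (MulAut.conj g⁻¹).toMonoidHom with hL'
    have hp : ⁅L', L'⁆ = L' := by rw [hL', ← Subgroup.map_commutator, hLp]
    have h1 : ∀ x ∈ L', x * t = t * x := by
      rintro _ ⟨_, ⟨w, hw, rfl⟩, rfl⟩
      have h2 : (w : G) * z = z * w := congrArg Subtype.val (hLz₀ w hw)
      show g⁻¹ * w * g⁻¹⁻¹ * t = t * (g⁻¹ * w * g⁻¹⁻¹)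
      calc g⁻¹ * w * g⁻¹⁻¹ * t = g⁻¹ * (w * (g * t * g⁻¹)) * g := by group
        _ = g⁻¹ * (w * z) * g := by rw [hg']
        _ = g⁻¹ * (z * w) * g := by rw [h2]
        _ = g⁻¹ * (g * t * g⁻¹ * w) * g := by rw [hg']
        _ = t * (g⁻¹ * w * g⁻¹⁻¹) := by group
    have h2 := perf_le S.toStart0 hs h1 hp
    have h3 : t ∈ L' := ⟨z, ⟨z, hzL₀, rfl⟩, by
      show g⁻¹ * z * g⁻¹⁻¹ = t
      rw [← hg']; group⟩
    exact S.t1 (hKR t (h2 h3) S.tQ)

/-- the frame, `Z` a root group, for a given `T` -/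
theorem fr_of {K : Subgroup G} {t v : G} (S : Front.FE.Start K t v) {U Z : Subgroup ↥K}
    (F : FrGen.KF U Z) (hs : Schreier.Basic.Sch ↥K) {T : Subgroup G} (pT : IsPGroup 2 ↥T) (vT : v ∈ T)
    (tc : ∀ x ∈ T, x * t = t * x)
    (max : ∀ P : Subgroup G, IsPGroup 2 ↥P → T ≤ P → (∀ x ∈ P, x * t = t * x) → P ≤ T)
    (hTK : T ⊓ K = U.map K.subtype) :
    Defs.FrT t v K (U.map K.subtype) (Z.map K.subtype) T := by
  refine ⟨fr0_of S F.toKF0 hs pT vT tc max hTK, ?_⟩
  rintro _ ⟨z, hz, rfl⟩ _ ⟨z', hz', rfl⟩ hz1 hz1'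
  obtain ⟨k, hk⟩ := F.trans z hz z' hz' (fun e => hz1 (by rw [e]; rfl)) (fun e => hz1' (by rw [e]; rfl))
  exact ⟨k, k.2, congrArg Subtype.val hk⟩

/-- the frame for `T = U P` -/
theorem Out.fr0 {K Y P : Subgroup G} {t v : G} {U Z : Subgroup ↥K} {T : Subgroup G}
    (O : Out t v K Y (U.map K.subtype) P T) (S : Front.FE.Start K t v) (F : FrGen.KF0 U Z)
    (hs : Schreier.Basic.Sch ↥K) : Defs.Fr t v K (U.map K.subtype) (Z.map K.subtype) T :=
  fr0_of S F hs O.pT (O.PT O.vP) O.tc O.max O.TK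

/-- the frame for `T = U P`, `Z` a root group -/
theorem Out.fr {K Y P : Subgroup G} {t v : G} {U Z : Subgroup ↥K} {T : Subgroup G}
    (O : Out t v K Y (U.map K.subtype) P T) (S : Front.FE.Start K t v) (F : FrGen.KF U Z)
    (hs : Schreier.Basic.Sch ↥K) : Defs.FrT t v K (U.map K.subtype) (Z.map K.subtype) T :=
  fr_of S F hs O.pT (O.PT O.vP) O.tc O.max O.TK

/-! ### (CYC) -/

/-- (CYC): 2-subgroups of `C(t)` induce a cyclic group of outer automorphisms of `K` -/
def CycT (t v : G) (K : Subgroup G) : Prop :=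
  ∀ P : Subgroup G, IsPGroup 2 ↥P → (∀ x ∈ P, x * t = t * x) →
    ∃ y ∈ P, ∀ x ∈ P, ∃ i : ℤ, ∃ k ∈ K, ∃ r ∈ zpowers v, x = y ^ i * k * r

/-- (CYC) as a fact on the group `Y = K`: 2-groups of automorphisms have cyclic image in `Out(K)` -/
def CycOut (Y : Type*) [Group Y] : Prop :=
  ∀ A : Subgroup (MulAut Y), IsPGroup 2 ↥A → ∃ α ∈ A, ∀ β ∈ A, ∃ i : ℤ, ∃ k : Y, β = α ^ i * MulAut.conj k

theorem CycOut.of_equiv {Y Y' : Type*} [Group Y] [Group Y'] (e : Y ≃* Y') (h : CycOut Y) : CycOut Y' := by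
  intro A hA
  obtain ⟨α, hα, h1⟩ := h (A.map (MulAut.congr e.symm).toMonoidHom) (hA.map _)
  obtain ⟨α', hα', rfl⟩ := hα
  refine ⟨α', hα', fun β hβ => ?_⟩
  obtain ⟨i, k, hk⟩ := h1 (MulAut.congr e.symm β) ⟨β, hβ, rfl⟩
  refine ⟨i, e k, ?_⟩
  have h2 := congrArg (MulAut.congr e) hk
  have h3 : ∀ γ : MulAut Y', MulAut.congr e (MulAut.congr e.symm γ) = γ := by
    intro γ
    ext x
    show e (e.symm (γ (e (e.symm x)))) = γ x
    simp
  rw [h3, map_mul, map_zpow] at h2
  change β = (MulAut.congr e (MulAut.congr e.symm α')) ^ i * _ at h2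
  rw [h3] at h2
  rw [h2]
  congr 1
  ext x
  show e (k * e.symm x * k⁻¹) = e k * x * (e k)⁻¹
  simp

/-- (CYC) from the cyclic image in `Aut(Y) / Inn(Y)` -/
theorem CycOut.of_isCyclic {Y : Type*} [Group Y]
    (h : have := Schreier.Basic.conj_range_normal Y
      ∀ A : Subgroup (MulAut Y), IsPGroup 2 ↥A →
        IsCyclic ↥(A.map (QuotientGroup.mk' (MulAut.conj : Y →* MulAut Y).range))) : CycOut Y := by
  have := Schreier.Basic.conj_range_normal Y
  intro A hA
  obtain ⟨⟨_, ⟨α, hα, rfl⟩⟩, hg⟩ := (h A hA).exists_generator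
  refine ⟨α, hα, fun β hβ => ?_⟩
  obtain ⟨i, hi⟩ := mem_zpowers_iff.1 (hg ⟨_, ⟨β, hβ, rfl⟩⟩)
  have h1 : (QuotientGroup.mk' (MulAut.conj : Y →* MulAut Y).range) (α ^ i) =
      (QuotientGroup.mk' (MulAut.conj : Y →* MulAut Y).range) β := by
    rw [map_zpow]
    exact congrArg Subtype.val hi
  rw [QuotientGroup.mk'_apply, QuotientGroup.mk'_apply, QuotientGroup.eq] at h1
  obtain ⟨k, hk⟩ := h1
  refine ⟨i, k, ?_⟩
  rw [hk, mul_inv_cancel_left]

/-- the K-fact (CYC) gives (CYC) in `C(t)` -/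
theorem cycT_of {K : Subgroup G} {t v : G} (S : Front.FE.Start0 K t v) (h : CycOut ↥K) : CycT t v K := by
  intro P hP hPt
  have hPN : ∀ x ∈ P, x ∈ normalizer (K : Set G) := fun x hx => S.nK x (hPt x hx)
  have h1 : IsPGroup 2 ↥(FrGen.actK hPN).range := by
    rw [MonoidHom.range_eq_map]
    exact (hP.to_le (le_refl P) |>.of_equiv (Subgroup.topEquiv (G := ↥P)).symm).map _
  obtain ⟨_, ⟨y, rfl⟩, hy⟩ := h _ h1
  refine ⟨y, y.2, fun x hx => ?_⟩
  obtain ⟨i, k, hk⟩ := hy _ ⟨⟨x, hx⟩, rfl⟩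
  refine ⟨i, k, k.2, ((y : G) ^ i * k)⁻¹ * x, ?_, by group⟩
  have hyit : ∀ j : ℤ, (y : G) ^ j * t = t * (y : G) ^ j := fun j => (Commute.zpow_left (hPt y y.2) j).eq
  have hkt := S.Kt k k.2
  have h0 : Commute ((y : G) ^ i * k) t := Commute.mul_left (hyit i) hkt
  apply S.cK
  · exact (h0.inv_left.mul_left (hPt x hx)).eq
  · intro z hz
    have h2 : FrGen.actK hPN ⟨x, hx⟩ ⟨z, hz⟩ = ((FrGen.actK hPN y) ^ i * MulAut.conj k) ⟨z, hz⟩ := by rw [hk]
    rw [← map_zpow, MulAut.mul_apply] at h2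
    have h3 : x * z * x⁻¹ = ((y ^ i : ↥P) : G) * ((k : G) * z * (k : G)⁻¹) * ((y ^ i : ↥P) : G)⁻¹ :=
      congrArg Subtype.val h2
    rw [Subgroup.coe_zpow] at h3
    symm
    calc ((y : G) ^ i * k)⁻¹ * x * z = ((y : G) ^ i * k)⁻¹ * (x * z * x⁻¹) * x := by group
      _ = ((y : G) ^ i * k)⁻¹ * ((y : G) ^ i * ((k : G) * z * (k : G)⁻¹) * ((y : G) ^ i)⁻¹) * x := by rw [h3]
      _ = z * (((y : G) ^ i * k)⁻¹ * x) := by group

section out

variable {t v : G} {K Y U P T : Subgroup G}

/-- `P = ⟨y⟩ R` -/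
theorem Out.cyc (O : Out t v K Y U P T) (h : CycT t v K) :
    ∃ y ∈ P, ∀ x ∈ P, ∃ i : ℤ, ∃ r ∈ zpowers v, x = y ^ i * r := by
  obtain ⟨y, hy, h1⟩ := h P O.pP fun x hx => O.tc x (O.PT hx)
  refine ⟨y, hy, fun x hx => ?_⟩
  obtain ⟨i, k, hk, r, hr, hxk⟩ := h1 x hx
  have hrP : r ∈ P := zpowers_le.2 O.vP hr
  have h2 : k ∈ P := by
    have e : k = (y ^ i)⁻¹ * x * r⁻¹ := by rw [hxk]; group
    rw [e]
    exact mul_mem (mul_mem (inv_mem (zpow_mem hy i)) hx) (inv_mem hrP)
  have h3 := O.PK k h2 hk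
  refine ⟨i, r, hr, ?_⟩
  rw [hxk, h3, mul_one]

/-- if `R` is central then `P` is abelian -/
theorem Out.comm (O : Out t v K Y U P T) (h : CycT t v K) (hv : ∀ x ∈ P, x * v = v * x) :
    ∀ x ∈ P, ∀ y ∈ P, x * y = y * x := by
  obtain ⟨g, hg, h1⟩ := O.cyc h
  have hr : ∀ r ∈ zpowers v, ∀ x ∈ P, x * r = r * x := by
    intro r hr x hx
    obtain ⟨j, rfl⟩ := mem_zpowers_iff.1 hr
    exact ((Commute.zpow_right (hv x hx)) j).eq
  intro x hx y hy
  obtain ⟨i, r, hr1, rfl⟩ := h1 x hx
  obtain ⟨j, s, hs1, rfl⟩ := h1 y hy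
  have c1 : Commute (g ^ i) (g ^ j) := (Commute.refl g).zpow_zpow i j
  have c2 : Commute (g ^ i) s := hr s hs1 _ (zpow_mem hg i)
  have c3 : Commute (g ^ j) r := hr r hr1 _ (zpow_mem hg j)
  have c4 : Commute r s := by
    obtain ⟨a, rfl⟩ := mem_zpowers_iff.1 hr1
    obtain ⟨b, rfl⟩ := mem_zpowers_iff.1 hs1
    exact (Commute.refl v).zpow_zpow a b
  exact ((c1.mul_right c2).mul_left (c3.symm.mul_right c4)).eq

/-- two elements of `P - R` with squares in the central group `R` differ by an element of `R` -/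
theorem Out.uniq (O : Out t v K Y U P T) (h : CycT t v K) (hv : ∀ x ∈ P, x * v = v * x) {a b : G} (ha : a ∈ P)
    (hb : b ∈ P) (haa : a * a ∈ zpowers v) (hbb : b * b ∈ zpowers v) (ha1 : a ∉ zpowers v) (hb1 : b ∉ zpowers v) :
    a * b⁻¹ ∈ zpowers v := by
  obtain ⟨y, hy, h1⟩ := O.cyc h
  have hr : ∀ r ∈ zpowers v, ∀ x ∈ P, Commute x r := by
    intro r hr x hx
    obtain ⟨j, rfl⟩ := mem_zpowers_iff.1 hr
    exact (Commute.zpow_right (hv x hx)) j
  let N : AddSubgroup ℤ :=
    { carrier := {i | y ^ i ∈ zpowers v}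
      zero_mem' := by show y ^ (0 : ℤ) ∈ zpowers v; rw [zpow_zero]; exact one_mem _
      add_mem' := by
        intro i j (hi : y ^ i ∈ zpowers v) (hj : y ^ j ∈ zpowers v)
        show y ^ (i + j) ∈ zpowers v
        rw [zpow_add]; exact mul_mem hi hj
      neg_mem' := by
        intro i (hi : y ^ i ∈ zpowers v)
        show y ^ (-i) ∈ zpowers v
        rw [zpow_neg]; exact inv_mem hi }
  have hN : ∀ i : ℤ, i ∈ N ↔ y ^ i ∈ zpowers v := fun i => Iff.rfl
  obtain ⟨n, hn⟩ := Int.subgroup_cyclic N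
  have hn' : ∀ i : ℤ, y ^ i ∈ zpowers v ↔ ∃ m : ℤ, m * n = i := by
    intro i
    rw [← hN, hn, AddSubgroup.mem_closure_singleton]
    simp only [smul_eq_mul]
  obtain ⟨i, r, hri, rfl⟩ := h1 a ha
  obtain ⟨j, s, hsj, rfl⟩ := h1 b hb
  have key : ∀ (i : ℤ) (r : G), r ∈ zpowers v → y ^ i * r * (y ^ i * r) ∈ zpowers v → y ^ i * r ∉ zpowers v →
      ∃ m : ℤ, 2 * i = (2 * m + 1) * n := by
    intro i r hri h2 h3
    have e1 : y ^ i * r * (y ^ i * r) = y ^ (2 * i) * (r * r) := by
      rw [two_mul, zpow_add]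
      calc y ^ i * r * (y ^ i * r) = y ^ i * (r * y ^ i) * r := by group
        _ = y ^ i * (y ^ i * r) * r := by rw [(hr r hri _ (zpow_mem hy i)).eq]
        _ = y ^ i * y ^ i * (r * r) := by group
    have h4 : y ^ (2 * i) ∈ zpowers v := by
      rw [e1] at h2
      exact (Subgroup.mul_mem_cancel_right _ (mul_mem hri hri)).1 h2
    obtain ⟨m, hm⟩ := (hn' _).1 h4
    rcases Int.even_or_odd' m with ⟨c, rfl | rfl⟩
    · exfalso
      apply h3
      refine mul_mem ((hn' i).2 ⟨c, ?_⟩) hri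
      have : 2 * (c * n) = 2 * i := by rw [← hm]; ring
      omega
    · exact ⟨c, hm.symm⟩
  obtain ⟨m, hm⟩ := key i r hri haa ha1
  obtain ⟨m', hm'⟩ := key j s hsj hbb hb1
  have h5 : y ^ (i - j) ∈ zpowers v := by
    rw [hn']
    refine ⟨m - m', ?_⟩
    have h6 : 2 * ((m - m') * n) = 2 * i - 2 * j := by rw [hm, hm']; ring
    omega
  have e2 : y ^ i * r * (y ^ j * s)⁻¹ = y ^ (i - j) * (r * s⁻¹) := by
    have c1 : r * s⁻¹ ∈ zpowers v := mul_mem hri (inv_mem hsj)
    have c2 := (hr _ c1 _ (zpow_mem hy (-j))).eq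
    rw [zpow_neg] at c2
    rw [zpow_sub]
    calc y ^ i * r * (y ^ j * s)⁻¹ = y ^ i * (r * s⁻¹ * (y ^ j)⁻¹) := by group
      _ = y ^ i * ((y ^ j)⁻¹ * (r * s⁻¹)) := by rw [c2]
      _ = y ^ i * (y ^ j)⁻¹ * (r * s⁻¹) := by group
  rw [e2]
  exact mul_mem h5 (mul_mem hri (inv_mem hsj))

/-- the elements `x = u p` of `T` with `x ^ 2 ∈ R U` resp. `x ^ 2 ∈ U` have `p ^ 2 ∈ R` resp. `p ^ 2 = 1` -/
theorem Out.exists_mul (O : Out t v K Y U P T) {x : G} (hx : x ∈ T) :
    ∃ u ∈ U, ∃ p ∈ P, x = u * p ∧ (∀ r ∈ P, ∀ w ∈ U, x * x = w * r → p * p = r) := by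
  obtain ⟨u, hu, p, hp, rfl⟩ := (O.T_eq x).1 hx
  refine ⟨u, hu, p, hp, rfl, ?_⟩
  intro r hr w hw he
  have hPU := O.PU p hp u hu
  have h1 : p * p * r⁻¹ ∈ P := mul_mem (mul_mem hp hp) (inv_mem hr)
  have h2 : p * p * r⁻¹ = (u * (p * u * p⁻¹))⁻¹ * w := by
    calc p * p * r⁻¹ = (u * (p * u * p⁻¹))⁻¹ * (u * p * (u * p)) * r⁻¹ := by group
      _ = (u * (p * u * p⁻¹))⁻¹ * w := by rw [he]; group
  have h3 : p * p * r⁻¹ ∈ U := by
    rw [h2]; exact mul_mem (inv_mem (mul_mem hu hPU)) hw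
  have h4 := O.PK _ h1 (by rw [← O.TK] at h3; exact h3.2)
  rw [mul_inv_eq_one] at h4
  exact h4

/-- **The involutions of `P`**, for `R = ⟨t⟩` -/
theorem Out.inv (O : Out t t K Y U P T) (h : CycT t t K) (tt : t * t = 1) :
    (∀ p ∈ P, p * p = 1 → p = 1 ∨ p = t) ∨
      ∃ g ∈ P, g * g = 1 ∧ g ≠ 1 ∧ g ≠ t ∧ (∀ p ∈ P, p * p = 1 → p = 1 ∨ p = t ∨ p = g ∨ p = t * g) ∧
        (∀ p ∈ P, p * p = 1 ∨ p * p = t → p = 1 ∨ p = t ∨ p = g ∨ p = t * g) := by
  have hz : ∀ x, x ∈ zpowers t ↔ x = 1 ∨ x = t := by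
    intro x
    constructor
    · intro hx
      obtain ⟨i, rfl⟩ := mem_zpowers_iff.1 hx
      rcases Int.even_or_odd' i with ⟨c, rfl | rfl⟩
      · left
        rw [zpow_mul, zpow_ofNat, pow_two, tt, one_zpow]
      · right
        rw [zpow_add, zpow_mul, zpow_ofNat, pow_two, tt, one_zpow, zpow_one, one_mul]
    · rintro (rfl | rfl)
      · exact one_mem _
      · exact mem_zpowers _
  have ht : ∀ x ∈ P, x * t = t * x := fun x hx => O.tc x (O.PT hx)
  by_cases h1 : ∀ p ∈ P, p * p = 1 → p = 1 ∨ p = t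
  · exact Or.inl h1
  right
  push Not at h1
  obtain ⟨g, hg, hgg, hg1, hgt⟩ := h1
  have hgz : g ∉ zpowers t := fun h => by
    rcases (hz g).1 h with h2 | h2
    · exact hg1 h2
    · exact hgt h2
  have key : ∀ p ∈ P, p * p = 1 ∨ p * p = t → p = 1 ∨ p = t ∨ p = g ∨ p = t * g := by
    intro p hp hpp
    by_cases hpz : p ∈ zpowers t
    · rcases (hz p).1 hpz with h2 | h2
      · exact Or.inl h2
      · exact Or.inr (Or.inl h2)
    have h2 := O.uniq h ht hp hg ((hz _).2 hpp) (by rw [hgg]; exact one_mem _) hpz hgz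
    have hgi : g⁻¹ = g := inv_eq_of_mul_eq_one_right hgg
    rw [hgi] at h2
    rcases (hz _).1 h2 with h3 | h3
    · right; right; left
      calc p = p * g * g := by rw [mul_assoc, hgg, mul_one]
        _ = g := by rw [h3, one_mul]
    · right; right; right
      calc p = p * g * g := by rw [mul_assoc, hgg, mul_one]
        _ = t * g := by rw [h3]
  exact ⟨g, hg, hgg, hg1, hgt, fun p hp hpp => key p hp (Or.inl hpp), key⟩

/-- `T = ⟨y⟩ R U` -/
theorem Out.cyc_T (O : Out t v K Y U P T) (h : CycT t v K) :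
    ∃ y ∈ P, ∀ x ∈ T, ∃ i : ℤ, ∃ r ∈ zpowers v, ∃ u ∈ U, x = y ^ i * r * u := by
  obtain ⟨y, hy, h1⟩ := O.cyc h
  refine ⟨y, hy, fun x hx => ?_⟩
  obtain ⟨u, hu, p, hp, rfl⟩ := (O.T_eq x).1 hx
  obtain ⟨i, r, hr, hpr⟩ := h1 p hp
  refine ⟨i, r, hr, p⁻¹ * u * p⁻¹⁻¹, O.PU _ (inv_mem hp) _ hu, ?_⟩
  rw [← hpr]; group

/-- (c01) for `T` from (c01) for `P` -/
theorem Out.c01 (O : Out t v K Y U P T) {W : Subgroup G} (hUW : ∀ u ∈ U, ∀ w ∈ W, u * w = w * u)
    (hW : ∀ g ∈ P, g * g = 1 → (∀ w ∈ W, g * w = w * g) ∨ (∀ w ∈ W, t * g * w = w * (t * g))) :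
    ∀ x ∈ T, x * x ∈ U → (∀ w ∈ W, x * w = w * x) ∨ (∀ w ∈ W, t * x * w = w * (t * x)) := by
  intro x hx hxx
  obtain ⟨u, hu, p, hp, rfl, h1⟩ := O.exists_mul hx
  have hpp := h1 1 (one_mem _) _ hxx (mul_one _).symm
  have hut := O.tc u (O.UT hu)
  rcases hW p hp hpp with h2 | h2
  · left
    intro w hw
    exact (Commute.mul_left (hUW u hu w hw) (h2 w hw)).eq
  · right
    intro w hw
    have e : t * (u * p) = u * (t * p) := by rw [← mul_assoc, ← hut, mul_assoc]
    rw [e]
    exact (Commute.mul_left (hUW u hu w hw) (h2 w hw)).eq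

/-- `|C(t) : T|` is odd -/
theorem Out.odd_relIndex [Finite G] (O : Out t v K Y U P T) : ¬ 2 ∣ T.relIndex (centralizer ({t} : Set G)) := by
  have : Fact (Nat.Prime 2) := ⟨Nat.prime_two⟩
  set C : Subgroup G := centralizer ({t} : Set G) with hC
  have hTC : T ≤ C := fun x hx => mem_centralizer_singleton_iff.2 (O.tc x hx)
  let T0 : Sylow 2 ↥C := ⟨T.subgroupOf C, O.pT.comap_of_injective C.subtype C.subtype_injective, by
    intro R hR hle
    apply le_antisymm _ hle
    intro y hy
    have h1 : R.map C.subtype ≤ T := by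
      apply O.max _ (hR.map C.subtype)
      · intro x hx
        exact ⟨⟨x, hTC hx⟩, hle (by exact hx), rfl⟩
      · rintro _ ⟨x, -, rfl⟩
        exact mem_centralizer_singleton_iff.1 x.2
    exact h1 ⟨y, hy, rfl⟩⟩
  exact T0.not_dvd_index

/-! ### The doubled group -/

/-- the doubled group `S = Us P` -/
structure Dbl (t : G) (U P T Us S : Subgroup G) : Prop where
  UsS : Us ≤ S
  PS : P ≤ S
  TS : T ≤ S
  UUs : U ≤ Us
  S_eq : ∀ x, x ∈ S ↔ ∃ u ∈ Us, ∃ p ∈ P, x = u * p
  pS : IsPGroup 2 ↥S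
  /-- `C_S(t) = T` -/
  CS : ∀ x ∈ S, x * t = t * x → x ∈ T
  /-- `P ∩ Us = 1` -/
  PUs : ∀ p ∈ P, p ∈ Us → p = 1
  /-- `S` normalises `Us` -/
  SUs : ∀ x ∈ S, ∀ u ∈ Us, x * u * x⁻¹ ∈ Us
  /-- the projection `S → P` with kernel `Us` -/
  proj : ∃ ρ : ↥S →* ↥P, (∀ (x : G) (h : x ∈ S), x * ((ρ ⟨x, h⟩ : ↥P) : G)⁻¹ ∈ Us) ∧
    (∀ (x : G) (h : x ∈ S), x ∈ Us → ρ ⟨x, h⟩ = 1) ∧ (∀ (x : G) (h : x ∈ S) (hp : x ∈ P), ρ ⟨x, h⟩ = ⟨x, hp⟩)

/-- the projection of a semidirect product -/
theorem exists_proj {Us P S : Subgroup G} (hS : ∀ x, x ∈ S ↔ ∃ u ∈ Us, ∃ p ∈ P, x = u * p)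
    (hP : ∀ p ∈ P, ∀ u ∈ Us, p * u * p⁻¹ ∈ Us) (h1 : ∀ p ∈ P, p ∈ Us → p = 1) :
    ∃ ρ : ↥S →* ↥P, (∀ (x : G) (h : x ∈ S), x * ((ρ ⟨x, h⟩ : ↥P) : G)⁻¹ ∈ Us) ∧
    (∀ (x : G) (h : x ∈ S), x ∈ Us → ρ ⟨x, h⟩ = 1) ∧
    (∀ (x : G) (h : x ∈ S) (hp : x ∈ P), ρ ⟨x, h⟩ = ⟨x, hp⟩) := by
  have hex : ∀ x : ↥S, ∃ p : ↥P, (x : G) * (p : G)⁻¹ ∈ Us := by
    rintro ⟨x, hx⟩
    obtain ⟨u, hu, p, hp, rfl⟩ := (hS x).1 hx
    exact ⟨⟨p, hp⟩, by simpa using hu⟩
  have huniq : ∀ (x : G) (p q : ↥P), x * (p : G)⁻¹ ∈ Us → x * (q : G)⁻¹ ∈ Us → p = q := by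
    intro x p q hp hq
    have h2 : (p : G) * (q : G)⁻¹ ∈ Us := by
      have e : (p : G) * (q : G)⁻¹ = (x * (p : G)⁻¹)⁻¹ * (x * (q : G)⁻¹) := by group
      rw [e]; exact mul_mem (inv_mem hp) hq
    have h3 := h1 _ (mul_mem p.2 (inv_mem q.2)) h2
    rw [mul_inv_eq_one] at h3
    exact Subtype.ext h3
  choose f hf using hex
  refine ⟨MonoidHom.mk' f ?_, ?_, ?_, ?_⟩
  · intro x y
    apply huniq ((x * y : ↥S) : G) _ _ (hf _)
    rw [Subgroup.coe_mul, Subgroup.coe_mul]
    have e : (x : G) * y * ((f x : G) * (f y : G))⁻¹ =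
        ((x : G) * (f x : G)⁻¹) * ((f x : G) * ((y : G) * (f y : G)⁻¹) * (f x : G)⁻¹) := by group
    rw [e]
    exact mul_mem (hf x) (hP _ (f x).2 _ (hf y))
  · intro x h
    exact hf ⟨x, h⟩
  · intro x h hx
    exact huniq x _ _ (hf ⟨x, h⟩) (by simpa using hx)
  · intro x h hp
    exact huniq x _ _ (hf ⟨x, h⟩) (by simp)

end out

end Cfsg.Agent.OddHalf.D7Out.TwChoice
end

-- part: KFacts/Unit/KF
section
set_option linter.all false
open scoped Cfsg.Agent.FastGrp

/-!
# The facts `FrGen.KF` for `PSU n F q`, `q` even, `n ≥ 6`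

`exists_kf`: every Sylow 2-subgroup `U` of `PSU n F q` lies in `PP u` and contains `QQ u` for an isotropic vector `u`;
`RR u` is the group `Z` of `FrGen.KF`.
-/

set_option autoImplicit false

namespace Cfsg.Agent.KFacts.Unit.KF

open scoped commutatorElement

open Cfsg Cfsg.Agent.LieClassical.HermBasic Cfsg.Agent.LieClassical.HermSiegel
  Cfsg.Agent.LieClassical.HermGen Cfsg.Agent.LieClassical.SUBasic Matrix
  Cfsg.Agent.ClassicalGeometry.PSUAutBasic Cfsg.Agent.ClassicalGeometry.PSUAutSylow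
  Cfsg.Agent.ClassicalGeometry.PSUAutUnip Cfsg.Agent.ClassicalGeometry.PSUAutPhi

variable {F : Type*} [Field F] [Fintype F] {q n : ℕ}

/-- The transvection group is elementary abelian. -/
theorem RR_sq [CharP F 2] (hF : Fintype.card F = q ^ 2) {u : Fin n → F} (hu : hermForm n F q u u = 0)
    {x : PSU n F q} (hx : x ∈ RR hF u hu) : x * x = 1 := by
  obtain ⟨μ, hμ, rfl⟩ := mem_RR.1 hx
  rw [← map_mul]
  have h1 : transv hF u hu μ hμ * transv hF u hu μ hμ = 1 := by
    apply ext_act
    intro v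
    rw [act_mul, act_transv, act_transv, act_one, herm_add_left, herm_smul_left, hu, mul_zero, add_zero, add_assoc,
      ← add_smul, CharTwo.add_self_eq_zero, zero_smul, add_zero]
  rw [h1, map_one]

theorem RR_ne_bot (hF : Fintype.card F = q ^ 2) (hn : 3 ≤ n) {u : Fin n → F} (hu0 : u ≠ 0)
    (hu : hermForm n F q u u = 0) : RR hF u hu ≠ ⊥ := by
  obtain ⟨μ, hμ0, hμ⟩ := exists_trace_zero_ne hF
  intro h0
  have h1 : pr n F q (transv hF u hu μ hμ) ∈ RR hF u hu := mem_RR.2 ⟨μ, hμ, rfl⟩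
  rw [h0, Subgroup.mem_bot] at h1
  have h00 : (0 : F) + 0 ^ q = 0 := by
    have := two_le hF
    rw [zero_add, zero_pow (by omega)]
  have h2 : pr n F q (transv hF u hu μ hμ) = pr n F q (transv hF u hu 0 h00) := by
    rw [h1]
    symm
    have : transv hF u hu 0 h00 = 1 := by
      apply ext_act
      intro v
      rw [act_transv, act_one, zero_mul, zero_smul, add_zero]
    rw [this, map_one]
  have h3 := siegel_pr_inj hF hn _ _ h2
  obtain ⟨f, hff, huf, hfu⟩ := exists_partner hF hu0 hu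
  have h4 := congrArg (fun g => act g f) h3
  change act (transv hF u hu μ hμ) f = act (transv hF u hu 0 h00) f at h4
  rw [act_transv, act_transv, hfu, mul_one, zero_mul, zero_smul, add_zero, add_eq_left] at h4
  rcases smul_eq_zero.1 h4 with h5 | h5
  · exact hμ0 h5
  · exact hu0 h5

theorem exists_kf [CharP F 2] (hF : Fintype.card F = q ^ 2) (hn : 6 ≤ n) (U : Sylow 2 (PSU n F q)) :
    ∃ (u : Fin n → F) (_ : u ≠ 0) (hu : hermForm n F q u u = 0),
      QQ hF u hu ≤ (U : Subgroup (PSU n F q)) ∧ (U : Subgroup (PSU n F q)) ≤ PP q u ∧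
      Cfsg.Agent.OddHalf.D7Out.FrGen.KF (U : Subgroup (PSU n F q)) (RR hF u hu) := by
  have : Fact (Nat.Prime 2) := ⟨Nat.prime_two⟩
  obtain ⟨S, hS⟩ := exists_sylow_lift (F := F) (q := q) (n := n) 2 U
  obtain ⟨u, hu0, hu, hfix⟩ := exists_fixed 2 hF (by omega) S.isPGroup'
  have hQS := siegG_le_sylow 2 hF S hu hfix
  have hQU : QQ hF u hu ≤ (U : Subgroup (PSU n F q)) := by
    rw [← hS]; exact Subgroup.map_mono hQS
  have hUP : (U : Subgroup (PSU n F q)) ≤ PP q u := by
    rw [← hS]; exact Subgroup.map_mono (fun g hg => hfix g hg)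
  obtain ⟨f, H⟩ := exists_hyp hF hu0 hu
  refine ⟨u, hu0, hu, hQU, hUP, ?_⟩
  exact
    { pU := U.isPGroup'
      maxU := fun P hP hle => (U.is_maximal' hP hle).le
      ZU := (RR_le_QQ hF hu).trans hQU
      Zc := fun z hz x hx => PP_comm_RR hF hu (hUP hx) hz
      Zsq := fun z hz => RR_sq hF hu hz
      Z1 := RR_ne_bot hF (by omega) hu0 hu
      aut := by
        intro α _ hα
        obtain ⟨z, hz, hz1⟩ := autCent_point hF (by omega) hu0 hu α (fun x hx => hα x (hQU hx))
        exact ⟨z, hz, fun x => by rw [hz1, MulAut.conj_apply]⟩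
      trans := by
        intro z hz z' hz' h1 h1'
        obtain ⟨k, -, hk⟩ := HH_trans hF H hz hz' h1 h1'
        exact ⟨k, hk⟩
      P2' := fun z hz => ⟨PP q u, PP_perfect hF hn hu0 hu, QQ_le_PP hF hu (RR_le_QQ hF hu hz),
          fun y hy => PP_comm_RR hF hu hy hz⟩ }

end Cfsg.Agent.KFacts.Unit.KF
end

-- part: KFacts/Unit/FrontKF
section
set_option linter.all false
open scoped Cfsg.Agent.FastGrp

/-!
# The facts of the front (`FrGen.KF`) for `PSU n F q`, `q` even, `n ≥ 6` (helper850)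

`u` an isotropic vector, `QQ u` the unipotent radical of its stabiliser, `RR u` its transvection group. Every maximal
2-subgroup `U ≥ QQ u` lies in `PP u`, and `KF U (RR u)`.
-/

set_option autoImplicit false

namespace Cfsg.Agent.KFacts.Unit

open Cfsg Cfsg.Agent.LieClassical.HermBasic Cfsg.Agent.LieClassical.HermSiegel
  Cfsg.Agent.LieClassical.HermGen Cfsg.Agent.LieClassical.SUBasic Matrix
  Cfsg.Agent.ClassicalGeometry.PSUAutBasic Cfsg.Agent.ClassicalGeometry.PSUAutSylow
  Cfsg.Agent.ClassicalGeometry.PSUAutUnip Cfsg.Agent.ClassicalGeometry.PSUAutPhi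
  Cfsg.Agent.OddHalf.D7Out
open scoped commutatorElement

variable {F : Type*} [Field F] [Fintype F] {q n : ℕ}

/-- a non-trivial element of `RR u` -/
theorem exists_RR_ne_one (hF : Fintype.card F = q ^ 2) (hn : 3 ≤ n) {u : Fin n → F} (hu0 : u ≠ 0)
    (hu : hermForm n F q u u = 0) : ∃ x ∈ RR hF u hu, x ≠ 1 := by
  obtain ⟨μ0, hμ0, hμ⟩ := exists_trace_zero_ne hF
  refine ⟨_, mem_RR.2 ⟨_, hμ, rfl⟩, fun h => ?_⟩
  have h2 := two_le hF
  have h0 : (0 : F) + 0 ^ q = 0 := by rw [zero_pow (by omega), add_zero]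
  have h1 : pr n F q (transv hF u hu μ0 hμ) = pr n F q (transv hF u hu 0 h0) := by
    rw [h, transv_zero, map_one]
  have h3 := siegel_pr_inj hF hn _ _ h1
  obtain ⟨f, -, -, hfu⟩ := exists_partner hF hu0 hu
  have h4 := congrArg (fun g => act g f) h3
  simp only [act_siegel] at h4
  rw [smul_zero, add_zero, herm_zero_right hF, sub_zero, sub_zero, add_right_inj, hfu, mul_one, mul_one,
    zero_smul] at h4
  rcases smul_eq_zero.1 h4 with h5 | h5
  · exact hμ0 h5
  · exact hu0 h5

theorem center_eq_bot' [CharP F 2] (hF : Fintype.card F = q ^ 2) (hn : 6 ≤ n) {u : Fin n → F} (hu0 : u ≠ 0)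
    (hu : hermForm n F q u u = 0) : Subgroup.center (PSU n F q) = ⊥ := by
  have hs : IsSimpleGroup (PSU n F q) := Cfsg.Agent.S0283.result hF n (by omega) (by omega)
  rcases hs.eq_bot_or_eq_top_of_normal (Subgroup.center (PSU n F q))
    (inferInstance : (Subgroup.center (PSU n F q)).Normal) with h | h
  · exact h
  · exfalso
    obtain ⟨x, hx, hx1⟩ := exists_RR_ne_one hF (by omega) hu0 hu
    have h1 := PP_perfect hF hn hu0 hu
    have h2 : ⁅PP q u, PP q u⁆ = (⊥ : Subgroup (PSU n F q)) := by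
      rw [eq_bot_iff, Subgroup.commutator_le]
      intro a _ b _
      have hb : b ∈ Subgroup.center (PSU n F q) := by rw [h]; trivial
      rw [Subgroup.mem_bot, commutatorElement_eq_one_iff_mul_comm]
      exact (Subgroup.mem_center_iff.1 hb a)
    rw [h2] at h1
    have h3 : x ∈ (PP q u : Subgroup (PSU n F q)) := QQ_le_PP hF hu (RR_le_QQ hF hu hx)
    rw [← h1, Subgroup.mem_bot] at h3
    exact hx1 h3

end Cfsg.Agent.KFacts.Unit
end

-- part: OddHalf/D7Out/TwFrame_mg
section
prune_inst 0x201000000000000000180000000000001000000000400001000003020204020020000001400000001000080020000000008800000000000000000000000400000000400002000100200000002000000000000000000000000000000000000000000000000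
set_option linter.all false
open scoped Cfsg.Agent.FastGrp

-- part: OddHalf/D7Out/TwFrame
section
/-!
# D7, outer 2-part: the frame group `Y` from facts on `K` (helper903)

`FrameFact Fr U` : facts on the group `K` alone about a family `Fr` of subgroups (the root subgroups of a frame);
`frY t K Fr` : the elements of `C(t)` which normalise every `Fr i`; `hyp_of` : `TwChoice.Hyp t v K (frY t K Fr) U`.
-/

set_option autoImplicit false

namespace Cfsg.Agent.OddHalf.D7Out.TwFrame

open Subgroup Cfsg.Agent.OddHalf TwChoice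

/-- the facts on `K` about the frame `Fr` and the Sylow 2-subgroup `U` -/
structure FrameFact {Y : Type*} [Group Y] {ι : Type*} (Fr : ι → Subgroup Y) (U : Subgroup Y) : Prop where
  pU : IsPGroup 2 ↥U
  maxU : ∀ P : Subgroup Y, IsPGroup 2 ↥P → U ≤ P → P ≤ U
  /-- `K` is transitive on the images of the frame under `Aut(K)` -/
  trans : ∀ α : MulAut Y, ∃ k : Y, ∀ i, ∀ x ∈ Fr i, k⁻¹ * α x * k ∈ Fr i
  /-- the stabiliser of the frame in `K` has odd order -/
  odd : ∀ x : Y, (∀ i, ∀ y ∈ Fr i, x * y * x⁻¹ ∈ Fr i) → x * x = 1 → x = 1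
  /-- the stabiliser of the frame in `Aut(K)` normalises `U` -/
  fix : ∀ α : MulAut Y, (∀ i, ∀ x ∈ Fr i, α x ∈ Fr i) → ∀ u ∈ U, α u ∈ U

/-- `FrameFact` is carried by isomorphisms -/
theorem FrameFact.map {Y Y' : Type*} [Group Y] [Group Y'] (e : Y ≃* Y') {ι : Type*} {Fr : ι → Subgroup Y}
    {U : Subgroup Y} (F : FrameFact Fr U) :
    FrameFact (fun i => (Fr i).map e.toMonoidHom) (U.map e.toMonoidHom) where
  pU := F.pU.map _
  maxU := by
    intro P hP hle
    have h1 : IsPGroup 2 ↥(P.map e.symm.toMonoidHom) := hP.map _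
    have h2 := F.maxU _ h1 (fun u hu => ⟨e u, hle ⟨u, hu, rfl⟩, by simp⟩)
    intro x hx
    exact ⟨e.symm x, h2 ⟨x, hx, rfl⟩, by simp⟩
  trans := by
    intro α
    obtain ⟨k, hk⟩ := F.trans (MulAut.congr e.symm α)
    refine ⟨e k, ?_⟩
    rintro i _ ⟨x, hx, rfl⟩
    have h1 : k⁻¹ * e.symm (α (e x)) * k ∈ Fr i := hk i x hx
    refine ⟨_, h1, ?_⟩
    show e (k⁻¹ * e.symm (α (e x)) * k) = (e k)⁻¹ * α (e x) * e k
    simp only [_root_.map_mul, _root_.map_inv, _root_.MulEquiv.apply_symm_apply]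
  odd := by
    intro x hx hxx
    have h1 := F.odd (e.symm x) (by
      intro i y hy
      obtain ⟨z, hz, hze⟩ := hx i (e y) ⟨y, hy, rfl⟩
      have h2 : e z = x * e y * x⁻¹ := hze
      have h3 : z = e.symm x * y * (e.symm x)⁻¹ := by
        apply e.injective
        rw [h2]
        simp only [_root_.map_mul, _root_.MulEquiv.apply_symm_apply, _root_.map_inv]
      rw [← h3]; exact hz) (by rw [← map_mul, hxx, map_one])
    rw [← e.apply_symm_apply x, h1, map_one]
  fix := by
    intro α hα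
    rintro _ ⟨u, hu, rfl⟩
    have h1 := F.fix (MulAut.congr e.symm α) (by
      intro i x hx
      obtain ⟨z, hz, hze⟩ := hα i (e x) ⟨x, hx, rfl⟩
      have h2 : e z = α (e x) := hze
      show e.symm (α (e x)) ∈ Fr i
      rw [← h2, e.symm_apply_apply]; exact hz) u hu
    have h2 : e.symm (α (e u)) ∈ U := h1
    exact ⟨_, h2, by show e (e.symm (α (e u))) = α (e u); simp⟩

variable {G : Type*} [Group G]

/-- the stabiliser in `C(t)` of the frame -/
def frY [Finite G] (t : G) (K : Subgroup G) {ι : Type*} (Fr : ι → Subgroup ↥K) : Subgroup G :=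
  centralizer ({t} : Set G) ⊓ ⨅ i, normalizer (((Fr i).map K.subtype : Subgroup G) : Set G)

variable [Finite G] {t v : G} {K : Subgroup G} {ι : Type*} {Fr : ι → Subgroup ↥K} {U : Subgroup ↥K}

theorem mem_frY {g : G} : g ∈ frY t K Fr ↔ g * t = t * g ∧
    ∀ i, ∀ x ∈ (Fr i).map K.subtype, g * x * g⁻¹ ∈ (Fr i).map K.subtype := by
  rw [frY, mem_inf, mem_centralizer_singleton_iff, mem_iInf]
  refine and_congr_right fun _ => forall_congr' fun i => ?_
  constructor
  · intro h x hx
    exact (mem_normalizer_iff.1 h x).1 hx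
  · intro h
    exact mem_normalizer_of h

omit [Finite G] in
theorem conj_mem_iff {g : G} (hg : g ∈ normalizer (K : Set G)) {A B : Subgroup ↥K} :
    (∀ x ∈ A.map K.subtype, g * x * g⁻¹ ∈ B.map K.subtype) ↔ ∀ x ∈ A, FrGen.cjK hg x ∈ B := by
  constructor
  · intro h x hx
    obtain ⟨y, hy, he⟩ := h x ⟨x, hx, rfl⟩
    have h1 : y = FrGen.cjK hg x := Subtype.ext he
    rw [← h1]; exact hy
  · rintro h _ ⟨x, hx, rfl⟩
    exact ⟨_, h x hx, rfl⟩

/-- **The input of `TwChoice` from the facts on `K`** -/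
theorem hyp_of (S : Front.FE.Start0 K t v) (F : FrameFact Fr U) :
    TwChoice.Hyp t v K (frY t K Fr) (U.map K.subtype) where
  Yt y hy := (mem_frY.1 hy).1
  vY := by
    rw [mem_frY]
    refine ⟨S.Qt v (mem_zpowers v), ?_⟩
    rintro i _ ⟨x, hx, rfl⟩
    refine ⟨x, hx, ?_⟩
    show (x : G) = v * x * v⁻¹
    rw [← S.qK x x.2, mul_inv_cancel_right]
  KY := by
    intro g hg
    have hgN := S.nK g hg
    obtain ⟨k, hk⟩ := F.trans (FrGen.cjK hgN)
    have hkt := S.Kt k k.2
    refine ⟨k, k.2, (k : G)⁻¹ * g, ?_, by group⟩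
    rw [mem_frY]
    refine ⟨(Commute.mul_left (Commute.inv_left hkt) hg).eq, ?_⟩
    rintro i _ ⟨x, hx, rfl⟩
    refine ⟨_, hk i x hx, ?_⟩
    show (k : G)⁻¹ * (g * x * g⁻¹) * k = (k : G)⁻¹ * g * x * ((k : G)⁻¹ * g)⁻¹
    group
  odd := by
    intro x hxK hxY hxx
    have h1 := F.odd ⟨x, hxK⟩ (by
      intro i y hy
      obtain ⟨z, hz, he⟩ := (mem_frY.1 hxY).2 i y ⟨y, hy, rfl⟩
      have h2 : z = ⟨x, hxK⟩ * y * ⟨x, hxK⟩⁻¹ := Subtype.ext he
      rw [← h2]; exact hz) (Subtype.ext hxx)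
    exact congrArg Subtype.val h1
  UK := map_subtype_le _
  pU := F.pU.map _
  maxU := by
    intro P hP hle hPK
    have h1 : IsPGroup 2 ↥(P.subgroupOf K) := hP.comap_of_injective K.subtype K.subtype_injective
    have h2 := F.maxU _ h1 (fun x hx => hle ⟨x, hx, rfl⟩)
    intro x hx
    have h3 : (⟨x, hPK hx⟩ : ↥K) ∈ P.subgroupOf K := hx
    exact ⟨_, h2 h3, rfl⟩
  YU := by
    intro y hy
    obtain ⟨hyt, hyi⟩ := mem_frY.1 hy
    have hyN := S.nK y hyt
    exact (conj_mem_iff hyN).2 (F.fix (FrGen.cjK hyN) fun i => (conj_mem_iff hyN).1 (hyi i))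

/-- **The choice of `T = U P`** from the facts on `K` -/
theorem exists_out (S : Front.FE.Start0 K t v) (F : FrameFact Fr U) :
    ∃ P : Subgroup G, TwChoice.Out t v K (frY t K Fr) (U.map K.subtype) P (U.map K.subtype ⊔ P) :=
  TwChoice.exists_out S (hyp_of S F)

end Cfsg.Agent.OddHalf.D7Out.TwFrame
end

-- part: KFacts/TwFrame/Syl
section
/-!
# Subgroups of odd index contain the 2-subgroups above them
-/

set_option autoImplicit false

namespace Cfsg.Agent.KFacts.TwFrame.Syl

variable {G : Type*} [Group G]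

theorem le_of_odd {H : Type*} [Group H] [Finite H] {U P : Subgroup H} (hU : Odd U.index) (hP : IsPGroup 2 P)
    (hUP : U ≤ P) : P ≤ U := by
  rw [← Subgroup.relIndex_eq_one]
  have h1 : U.relIndex P ∣ U.index := Subgroup.relIndex_dvd_index_of_le hUP
  have h2 : U.relIndex P ∣ Nat.card P := Subgroup.relIndex_dvd_card U P
  have : Fact (Nat.Prime 2) := ⟨Nat.prime_two⟩
  obtain ⟨k, hk⟩ := hP.exists_card_eq
  rw [hk] at h2
  obtain ⟨m, -, hm⟩ := (Nat.dvd_prime_pow Nat.prime_two).1 h2
  rcases Nat.eq_zero_or_pos m with rfl | hm0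
  · simpa using hm
  · exfalso
    have h3 : 2 ∣ U.index := dvd_trans (by rw [hm]; exact dvd_pow_self 2 (by omega)) h1
    exact (Nat.not_even_iff_odd.2 hU) (even_iff_two_dvd.2 h3)

theorem le_map_of_odd {H : Type*} [Group H] [Finite H] {j : H →* G} (inj : Function.Injective j)
    {U : Subgroup H} (hU : Odd U.index) {P : Subgroup G} (hP : IsPGroup 2 P) (hUP : U.map j ≤ P) (hPK : P ≤ j.range) :
    P ≤ U.map j := by
  have h1 : P = (P.comap j).map j := by
    rw [Subgroup.map_comap_eq, inf_eq_right.2 hPK]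
  have h2 : IsPGroup 2 (P.comap j) := hP.comap_of_injective j inj
  rw [h1]
  exact Subgroup.map_mono (le_of_odd hU h2 (Subgroup.map_le_iff_le_comap.1 hUP))

/-- An element `x` of order two of `K` which normalises the Sylow 2-subgroup `U` of `K = j.range` lies in `U`. -/
theorem mem_of_norm {H : Type*} [Group H] [Finite H] {j : H →* G} (inj : Function.Injective j)
    {U : Subgroup H} (hU : Odd U.index) (h2 : IsPGroup 2 U) {x : G} (hx : x ∈ j.range) (hxx : x * x = 1)
    (hn : ∀ u ∈ U.map j, x * u * x⁻¹ ∈ U.map j) : x ∈ U.map j := by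
  have hxi : x⁻¹ = x := inv_eq_of_mul_eq_one_left hxx
  have hn' : Subgroup.zpowers x ≤ Subgroup.normalizer ((U.map j : Subgroup G) : Set G) := by
    rw [Subgroup.zpowers_le, Subgroup.mem_normalizer_iff]
    intro u
    refine ⟨fun h => hn u h, fun h => ?_⟩
    have h3 := hn _ h
    have h4 : x * (x * u * x⁻¹) * x⁻¹ = u := by
      rw [hxi]
      calc x * (x * u * x) * x = (x * x) * u * (x * x) := by group
        _ = u := by rw [hxx, one_mul, mul_one]
    rwa [h4] at h3
  have hP : IsPGroup 2 ↥((U.map j) ⊔ Subgroup.zpowers x : Subgroup G) := by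
    have h3 : IsPGroup 2 ↥(Subgroup.zpowers x) := by
      rintro ⟨y, hy⟩
      obtain ⟨k, rfl⟩ := Subgroup.mem_zpowers_iff.1 hy
      refine ⟨1, Subtype.ext ?_⟩
      rw [Subgroup.coe_pow, Subgroup.coe_one, pow_one, pow_two, ← zpow_add, ← two_mul, zpow_mul, zpow_two, hxx,
        one_zpow]
    exact IsPGroup.to_sup_of_normal_left' (h2.map j) h3 hn'
  exact le_map_of_odd inj hU hP le_sup_left (sup_le (by
    rw [MonoidHom.range_eq_map]; exact Subgroup.map_mono le_top) (by rw [Subgroup.zpowers_le]; exact hx))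
    (Subgroup.mem_sup_right (Subgroup.mem_zpowers _))

end Cfsg.Agent.KFacts.TwFrame.Syl
end

-- part: OddHalf/D7Out/TwClaim
section
/-!
# Node D7 of S1765: the CLAIM LEMMA with a class `PP` of subgroups (helper490)

`D7Out/Claim.lean` (helper76) with an arbitrary conjugation-closed class `PP` of subgroups in place of the class of
perfect subgroups: the involutions of the `PP`-subgroups of `C(t)` lie in `K`. For `U_6(2)` and `U_7(2)` one takes the class
of the groups generated by elements of odd order.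
-/

set_option autoImplicit false

namespace Cfsg.Agent.OddHalf.D7Out.TwClaim

open Subgroup
open Cfsg.Agent.OddHalf.D7Out.Claim (mem_norm card_orbit_odd)

variable {G : Type*} [Group G]

/-- The involutions `p ∈ U` with `p ∈ P ≤ K`, `P` a `PP`-subgroup centralising `p`. -/
def P0 (PP : Subgroup G → Prop) (K U : Subgroup G) : Set G :=
  {p | p ∈ U ∧ p * p = 1 ∧ ∃ P : Subgroup G, PP P ∧ P ≤ K ∧ p ∈ P ∧ ∀ x ∈ P, x * p = p * x}

/-- The hypotheses of the claim lemma. -/
structure Hyp (PP : Subgroup G → Prop) (t : G) (K U Us T W S : Subgroup G) {A : Type*} [CommGroup A]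
    (mu : S →* A) : Prop where
  tt : t * t = 1
  K_t : ∀ x ∈ K, x * t = t * x
  /-- `PP` is closed under conjugation -/
  hconj : ∀ (P : Subgroup G) (g : G), PP P → PP (P.map (MulAut.conj g).toMonoidHom)
  /-- the involutions of the `PP`-subgroups of `C(t)` lie in `K` -/
  hS : ∀ P : Subgroup G, PP P → (∀ x ∈ P, x * t = t * x) → ∀ p ∈ P, p * p = 1 → p ∈ K
  t_K : t ∉ K
  T_S : T ≤ S
  Us_S : Us ≤ S
  U_Us : U ≤ Us
  W_Us : W ≤ Us
  W_cent : ∀ w ∈ W, ∀ x ∈ Us, w * x = x * w
  hU : ∀ x ∈ K, x ∈ T → x ∈ U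
  /-- `C_S(t) = T` -/
  CS : ∀ x ∈ S, x * t = t * x → x ∈ T
  mu_Us : ∀ x (h : x ∈ Us), mu ⟨x, Us_S h⟩ = 1
  hfree : ∀ x ∈ Us, t * x * (t * x) = 1 → ∃ y ∈ Us, y * t * y⁻¹ = t * x
  /-- a conjugate of `W` in `T` which centralises the root elements of `U` contains `t` -/
  hf3 : ∀ g : G, (∀ w ∈ W, g * w * g⁻¹ ∈ T) →
    (∀ w ∈ W, ∀ p ∈ P0 PP K U, g * w * g⁻¹ * p = p * (g * w * g⁻¹)) → ∃ w ∈ W, g * w * g⁻¹ = t
  hkey : ∀ u p : G, ∀ hu : u ∈ S, p ∈ S → u * u = 1 → p * p = 1 → u * p = p * u → mu ⟨u, hu⟩ ≠ 1 →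
    (∀ w ∈ W, w * u = u * w) → (∃ w ∈ W, w * p ≠ p * w) → t * p ∉ Us → t * (p * u) ∈ Us

/-- **Claim lemma.** -/
theorem claim {PP : Subgroup G → Prop} {t : G} {K U Us T W S : Subgroup G} {A : Type*} [CommGroup A]
    {mu : S →* A} (H : Hyp PP t K U Us T W S mu) (h u : G) (hu : h⁻¹ * t * h = u) (huS : u ∈ S) (huU : u ∉ Us)
    (hCS : ∀ x, x ∈ S ∧ x * u = u * x ↔ h * x * h⁻¹ ∈ T)
    (hWu : ∀ w ∈ W, w * u = u * w) : mu ⟨u, huS⟩ = 1 := by
  by_contra hmu
  have huu : u * u = 1 := by
    rw [← hu]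
    calc h⁻¹ * t * h * (h⁻¹ * t * h) = h⁻¹ * (t * t) * h := by group
      _ = 1 := by rw [H.tt]; group
  -- a root element `p` of `K^h` not centralising `W`
  obtain ⟨p0, hp0, hp0W⟩ : ∃ p ∈ P0 PP K U, ∃ w ∈ W, w * (h⁻¹ * p * h) ≠ (h⁻¹ * p * h) * w := by
    by_contra hc
    push Not at hc
    have hWT : ∀ w ∈ W, h * w * h⁻¹ ∈ T := fun w hw =>
      (hCS w).1 ⟨H.Us_S (H.W_Us hw), hWu w hw⟩
    obtain ⟨w, hw, hwt⟩ := H.hf3 h hWT (by
      intro w hw p hp
      have h1 := hc p hp w hw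
      calc h * w * h⁻¹ * p = h * (w * (h⁻¹ * p * h)) * h⁻¹ := by group
        _ = h * ((h⁻¹ * p * h) * w) * h⁻¹ := by rw [h1]
        _ = p * (h * w * h⁻¹) := by group)
    apply huU
    have e : u = w := by rw [← hu, ← hwt]; group
    rw [e]; exact H.W_Us hw
  obtain ⟨hp0U, hp02, P, hPP, hPK, hp0P, hPc⟩ := hp0
  set p := h⁻¹ * p0 * h with hpdef
  have hpp : p * p = 1 := by
    calc p * p = h⁻¹ * (p0 * p0) * h := by rw [hpdef]; group
      _ = 1 := by rw [hp02]; group
  have hp0K : p0 ∈ K := hPK hp0P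
  have hpu : p * u = u * p := by
    rw [← hu, hpdef]
    calc h⁻¹ * p0 * h * (h⁻¹ * t * h) = h⁻¹ * (p0 * t) * h := by group
      _ = h⁻¹ * (t * p0) * h := by rw [H.K_t _ hp0K]
      _ = h⁻¹ * t * h * (h⁻¹ * p0 * h) := by group
  have hp0T : p0 ∈ T := H.CS p0 (H.Us_S (H.U_Us hp0U)) (H.K_t _ hp0K)
  have hpS : p ∈ S := by
    refine ((hCS p).2 ?_).1
    have e : h * p * h⁻¹ = p0 := by rw [hpdef]; group
    rw [e]; exact hp0T
  -- `p ∉ t Us`: `p` is not conjugate to `t`
  have hnc : ∀ k : G, k⁻¹ * t * k ≠ p0 := by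
    intro k hk
    have h1 : ∀ p ∈ P.map (MulAut.conj k).toMonoidHom, p * p = 1 → p ∈ K := by
      apply H.hS _ (H.hconj P k hPP)
      rintro _ ⟨x, hx, rfl⟩
      have h2 := hPc x hx
      rw [← hk] at h2
      show k * x * k⁻¹ * t = t * (k * x * k⁻¹)
      calc k * x * k⁻¹ * t = k * (x * (k⁻¹ * t * k)) * k⁻¹ := by group
        _ = k * ((k⁻¹ * t * k) * x) * k⁻¹ := by rw [h2]
        _ = t * (k * x * k⁻¹) := by group
    apply H.t_K
    have e : k * p0 * k⁻¹ = t := by rw [← hk]; group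
    have h2 := h1 (k * p0 * k⁻¹) ⟨p0, hp0P, rfl⟩ (by rw [e]; exact H.tt)
    rwa [e] at h2
  have hptU : t * p ∉ Us := by
    intro hc
    obtain ⟨y, hy, hyt⟩ := H.hfree (t * p) hc (by
      calc t * (t * p) * (t * (t * p)) = (t * t) * p * (t * t) * p := by group
        _ = p * p := by rw [H.tt]; group
        _ = 1 := hpp)
    have h1 : y * t * y⁻¹ = p := by
      rw [hyt, ← mul_assoc, H.tt, one_mul]
    apply hnc (y⁻¹ * h⁻¹)
    calc (y⁻¹ * h⁻¹)⁻¹ * t * (y⁻¹ * h⁻¹) = h * (y * t * y⁻¹) * h⁻¹ := by group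
      _ = h * p * h⁻¹ := by rw [h1]
      _ = p0 := by rw [hpdef]; group
  have hkey := H.hkey u p huS hpS huu hpp hpu.symm hmu hWu hp0W hptU
  -- conjugate `p u` to `t`
  obtain ⟨y, hy, hyt⟩ := H.hfree (t * (p * u)) hkey (by
    calc t * (t * (p * u)) * (t * (t * (p * u))) = (t * t) * (p * u) * (t * t) * (p * u) := by group
      _ = (p * u) * (p * u) := by rw [H.tt, one_mul, mul_one]
      _ = p * (u * p) * u := by group
      _ = p * (p * u) * u := by rw [← hpu]
      _ = (p * p) * (u * u) := by group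
      _ = 1 := by rw [hpp, huu, one_mul])
  have h1 : y * t * y⁻¹ = p * u := by
    rw [hyt, ← mul_assoc, H.tt, one_mul]
  -- `P^h` conjugated by `y⁻¹` centralises `t`
  have h2 : ∀ p ∈ P.map (MulAut.conj (y⁻¹ * h⁻¹)).toMonoidHom, p * p = 1 → p ∈ K := by
    apply H.hS _ (H.hconj P _ hPP)
    · rintro _ ⟨x, hx, rfl⟩
      show (y⁻¹ * h⁻¹) * x * (y⁻¹ * h⁻¹)⁻¹ * t = t * ((y⁻¹ * h⁻¹) * x * (y⁻¹ * h⁻¹)⁻¹)
      have c1 : Commute (h⁻¹ * x * h) p := by
        show h⁻¹ * x * h * p = p * (h⁻¹ * x * h)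
        rw [hpdef]
        calc h⁻¹ * x * h * (h⁻¹ * p0 * h) = h⁻¹ * (x * p0) * h := by group
          _ = h⁻¹ * (p0 * x) * h := by rw [hPc x hx]
          _ = h⁻¹ * p0 * h * (h⁻¹ * x * h) := by group
      have c2 : Commute (h⁻¹ * x * h) u := by
        show h⁻¹ * x * h * u = u * (h⁻¹ * x * h)
        rw [← hu]
        calc h⁻¹ * x * h * (h⁻¹ * t * h) = h⁻¹ * (x * t) * h := by group
          _ = h⁻¹ * (t * x) * h := by rw [H.K_t _ (hPK hx)]
          _ = h⁻¹ * t * h * (h⁻¹ * x * h) := by group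
      have c3 : (h⁻¹ * x * h) * (p * u) = (p * u) * (h⁻¹ * x * h) := (c1.mul_right c2).eq
      rw [← h1] at c3
      calc (y⁻¹ * h⁻¹) * x * (y⁻¹ * h⁻¹)⁻¹ * t
          = y⁻¹ * ((h⁻¹ * x * h) * (y * t * y⁻¹)) * y := by group
        _ = y⁻¹ * ((y * t * y⁻¹) * (h⁻¹ * x * h)) * y := by rw [c3]
        _ = t * ((y⁻¹ * h⁻¹) * x * (y⁻¹ * h⁻¹)⁻¹) := by group
  have h3 : y⁻¹ * p * y ∈ K := by
    have e : (y⁻¹ * h⁻¹) * p0 * (y⁻¹ * h⁻¹)⁻¹ = y⁻¹ * p * y := by rw [hpdef]; group
    have h4 := h2 ((y⁻¹ * h⁻¹) * p0 * (y⁻¹ * h⁻¹)⁻¹) ⟨p0, hp0P, rfl⟩ (by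
      rw [e]
      calc y⁻¹ * p * y * (y⁻¹ * p * y) = y⁻¹ * (p * p) * y := by group
        _ = 1 := by rw [hpp]; group)
    rwa [e] at h4
  have h4 : y⁻¹ * p * y ∈ T := by
    apply H.CS
    · exact mul_mem (mul_mem (inv_mem (H.Us_S hy)) hpS) (H.Us_S hy)
    · exact H.K_t _ h3
  have h5 : y⁻¹ * p * y ∈ Us := H.U_Us (H.hU _ h3 h4)
  obtain ⟨w, hw, hwp⟩ := hp0W
  apply hwp
  have c1 := H.W_cent w hw _ h5
  have c2 := H.W_cent w hw y hy
  calc w * p = w * y * (y⁻¹ * p * y) * y⁻¹ := by group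
    _ = y * (w * (y⁻¹ * p * y)) * y⁻¹ := by rw [c2]; group
    _ = y * ((y⁻¹ * p * y) * w) * y⁻¹ := by rw [c1]
    _ = p * (y * w) * y⁻¹ := by group
    _ = p * (w * y) * y⁻¹ := by rw [c2]
    _ = p * w := by group


/-! ### The end -/

/-- **The end of D7** (K-free): a perfect group does not satisfy the hypotheses of the claim lemma, if moreover
`μ u = 1` for all involutions `u` of `S - t Us` not centralising `W`, and `μ t ≠ 1`. -/
theorem false_of [Finite G] (hG : commutator G = ⊤) {PP : Subgroup G → Prop} {t : G}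
    {K U Us T W S : Subgroup G} {A : Type*} [CommGroup A] {mu : S →* A} (H : Hyp PP t K U Us T W S mu) (htT : t ∈ T)
    (hS2 : IsPGroup 2 S) (hTt : ∀ x ∈ T, x * t = t * x)
    (hodd : ¬ 2 ∣ T.relIndex (centralizer ({t} : Set G)))
    (hinv : ∀ u : G, ∀ hu : u ∈ S, u * u = 1 → (∃ w ∈ W, w * u ≠ u * w) → t * u ∉ Us →
      mu ⟨u, hu⟩ = 1)
    (hmu : mu ⟨t, H.T_S htT⟩ ≠ 1) : False := by
  classical
  have := Fintype.ofFinite (G ⧸ S)
  have hT2 : IsPGroup 2 T := hS2.to_le H.T_S
  have hmax : ∀ P : Subgroup G, IsPGroup 2 P → T ≤ P → (∀ x ∈ P, x * t = t * x) → P ≤ T := by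
    intro P hP hTP hPt
    by_contra hne
    apply hodd
    have h1 := relIndex_mul_relIndex T P (centralizer ({t} : Set G)) hTP
      (fun x hx => mem_centralizer_singleton_iff.2 (hPt x hx))
    rw [← h1]
    apply Dvd.dvd.mul_right
    have h2 : IsPGroup 2 P := hP
    have h3 : (T.subgroupOf P).index ≠ 1 := by
      rw [Ne, index_eq_one, subgroupOf_eq_top]; exact hne
    obtain ⟨n, hn⟩ := h2.index (T.subgroupOf P)
    have hn0 : n ≠ 0 := by
      rintro rfl; exact h3 (by rw [hn]; simp)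
    show 2 ∣ (T.subgroupOf P).index
    rw [hn]
    exact dvd_pow_self 2 hn0
  obtain ⟨f, hf, s, hs, hprod⟩ := TFormula.transfer_eq_prod S mu t H.tt T hT2 hTt
  have hone := TFormula.hom_eq_one hG (MonoidHom.transfer mu) t
  rw [hprod] at hone
  -- the values
  have hmem : ∀ x g : G, x • (g : G ⧸ S) = g ↔ g⁻¹ * x * g ∈ S := by
    intro x g
    rw [MulAction.Quotient.smul_mk, smul_eq_mul, QuotientGroup.eq]
    constructor
    · intro h
      have := S.inv_mem h
      have e : ((x * g)⁻¹ * g)⁻¹ = g⁻¹ * x * g := by group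
      rwa [e] at this
    · intro h
      have := S.inv_mem h
      have e : (g⁻¹ * x * g)⁻¹ = (x * g)⁻¹ * g := by group
      rwa [e] at this
  set a := mu ⟨t, H.T_S htT⟩ with ha
  have haa : a * a = 1 := by
    rw [ha, ← map_mul]
    have : (⟨t, H.T_S htT⟩ : S) * ⟨t, H.T_S htT⟩ = 1 := Subtype.ext H.tt
    rw [this, map_one]
  set N := centralizer ({t} : Set G) ⊓ normalizer (T : Set G) with hN
  have hval : ∀ q ∈ s, f q = if q ∈ MulAction.orbit ↥N ((1 : G) : G ⧸ S) then a else 1 := by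
    intro q hq
    obtain ⟨g, rfl⟩ := QuotientGroup.mk_surjective q
    obtain ⟨h1, h2⟩ := (hs _).1 hq
    have h3 : g⁻¹ * t * g ∈ S := (hmem t g).1 h1
    have h4 : ∀ x ∈ T, g⁻¹ * x * g ∈ S := fun x hx => (hmem x g).1 (h2 x hx)
    have huu : (g⁻¹ * t * g) * (g⁻¹ * t * g) = 1 := by
      calc (g⁻¹ * t * g) * (g⁻¹ * t * g) = g⁻¹ * (t * t) * g := by group
        _ = 1 := by rw [H.tt]; group
    rw [hf _ g rfl h3]
    have hCS : ∀ x, x ∈ S ∧ x * (g⁻¹ * t * g) = (g⁻¹ * t * g) * x ↔ g * x * g⁻¹ ∈ T := by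
      intro x
      constructor
      · rintro ⟨hx, hxu⟩
        have h5 := hmax ((S.map (MulAut.conj g).toMonoidHom) ⊓ centralizer ({t} : Set G))
          ((hS2.map _).to_le inf_le_left)
          (by
            intro y hy
            refine mem_inf.2 ⟨⟨g⁻¹ * y * g, h4 y hy, ?_⟩, mem_centralizer_singleton_iff.2 (hTt y hy)⟩
            show g * (g⁻¹ * y * g) * g⁻¹ = y
            group)
          (fun y hy => mem_centralizer_singleton_iff.1 (mem_inf.1 hy).2)
        apply h5
        refine mem_inf.2 ⟨⟨x, hx, rfl⟩, mem_centralizer_singleton_iff.2 ?_⟩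
        calc g * x * g⁻¹ * t = g * (x * (g⁻¹ * t * g)) * g⁻¹ := by group
          _ = g * ((g⁻¹ * t * g) * x) * g⁻¹ := by rw [hxu]
          _ = t * (g * x * g⁻¹) := by group
      · intro hx
        have h5 := h4 _ hx
        have e : g⁻¹ * (g * x * g⁻¹) * g = x := by group
        rw [e] at h5
        refine ⟨h5, ?_⟩
        have h6 := hTt _ hx
        calc x * (g⁻¹ * t * g) = g⁻¹ * (g * x * g⁻¹ * t) * g := by group
          _ = g⁻¹ * (t * (g * x * g⁻¹)) * g := by rw [h6]
          _ = (g⁻¹ * t * g) * x := by group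
    by_cases hq1 : ((g : G) : G ⧸ S) ∈ MulAction.orbit ↥N ((1 : G) : G ⧸ S)
    · rw [if_pos hq1]
      obtain ⟨⟨n, hn⟩, hn'⟩ := hq1
      change n • ((1 : G) : G ⧸ S) = g at hn'
      rw [MulAction.Quotient.smul_mk, smul_eq_mul, mul_one, QuotientGroup.eq] at hn'
      -- `g = n s`
      have hnt : n * t = t * n := mem_centralizer_singleton_iff.1 hn.1
      have e : g⁻¹ * t * g = (n⁻¹ * g)⁻¹ * t * (n⁻¹ * g) := by
        calc g⁻¹ * t * g = g⁻¹ * (t * n) * (n⁻¹ * g) := by group
          _ = g⁻¹ * (n * t) * (n⁻¹ * g) := by rw [hnt]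
          _ = (n⁻¹ * g)⁻¹ * t * (n⁻¹ * g) := by group
      have e2 : (⟨g⁻¹ * t * g, h3⟩ : S) = ⟨n⁻¹ * g, hn'⟩⁻¹ * ⟨t, H.T_S htT⟩ * ⟨n⁻¹ * g, hn'⟩ :=
        Subtype.ext e
      rw [e2, map_mul, map_mul, map_inv, mul_comm (mu ⟨n⁻¹ * g, hn'⟩)⁻¹, inv_mul_cancel_right]
    · rw [if_neg hq1]
      by_cases hU : g⁻¹ * t * g ∈ Us
      · exact H.mu_Us _ hU
      by_cases htU : t * (g⁻¹ * t * g) ∈ Us
      · exfalso
        apply hq1
        obtain ⟨y, hy, hyt⟩ := H.hfree _ htU (by
          calc t * (t * (g⁻¹ * t * g)) * (t * (t * (g⁻¹ * t * g)))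
              = (t * t) * (g⁻¹ * t * g) * (t * t) * (g⁻¹ * t * g) := by group
            _ = (g⁻¹ * t * g) * (g⁻¹ * t * g) := by rw [H.tt, one_mul, mul_one]
            _ = 1 := huu)
        have e1 : y * t * y⁻¹ = g⁻¹ * t * g := by rw [hyt, ← mul_assoc, H.tt, one_mul]
        have hc : (g * y) * t = t * (g * y) := by
          calc (g * y) * t = g * (y * t * y⁻¹) * y := by group
            _ = g * (g⁻¹ * t * g) * y := by rw [e1]
            _ = t * (g * y) := by group
        have hyS := H.Us_S hy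
        have hnorm : ∀ x ∈ T, (g * y)⁻¹ * x * (g * y) ∈ T := by
          intro x hx
          apply H.CS
          · have h5 := h4 x hx
            have e : (g * y)⁻¹ * x * (g * y) = y⁻¹ * (g⁻¹ * x * g) * y := by group
            rw [e]
            exact mul_mem (mul_mem (inv_mem hyS) h5) hyS
          · have c1 : Commute (g * y) t := hc
            have c2 : Commute x t := hTt x hx
            exact ((c1.inv_left.mul_left c2).mul_left c1).eq
        have hnorm2 : g * y ∈ normalizer (T : Set G) := by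
          have h5 : (g * y)⁻¹ ∈ normalizer (T : Set G) := by
            apply mem_norm
            intro x hx
            rw [inv_inv]
            exact hnorm x hx
          have := inv_mem h5
          rwa [inv_inv] at this
        refine ⟨⟨g * y, mem_inf.2 ⟨mem_centralizer_singleton_iff.2 hc, hnorm2⟩⟩, ?_⟩
        show (g * y) • ((1 : G) : G ⧸ S) = g
        rw [MulAction.Quotient.smul_mk, smul_eq_mul, mul_one, QuotientGroup.eq]
        have e : (g * y)⁻¹ * g = y⁻¹ := by group
        rw [e]; exact inv_mem hyS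
      · by_cases hWu : ∀ w ∈ W, w * (g⁻¹ * t * g) = (g⁻¹ * t * g) * w
        · exact claim H g _ rfl h3 hU hCS hWu
        · push Not at hWu
          exact hinv _ h3 huu hWu htU
  rw [Finset.prod_congr rfl hval, Finset.prod_ite, Finset.prod_const, Finset.prod_const_one, mul_one]
    at hone
  have hcard : ¬ 2 ∣ (s.filter (fun q => q ∈ MulAction.orbit ↥N ((1 : G) : G ⧸ S))).card := by
    have h1 := card_orbit_odd H.T_S hTt H.CS hodd
    rw [Set.ncard_eq_toFinset_card'] at h1
    have e : s.filter (fun q => q ∈ MulAction.orbit ↥N ((1 : G) : G ⧸ S)) =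
        (MulAction.orbit ↥N ((1 : G) : G ⧸ S)).toFinset := by
      ext q
      rw [Finset.mem_filter, Set.mem_toFinset]
      constructor
      · exact fun h => h.2
      · intro h
        refine ⟨(hs q).2 ?_, h⟩
        obtain ⟨⟨n, hn⟩, rfl⟩ := h
        have hnt : n * t = t * n := mem_centralizer_singleton_iff.1 hn.1
        have hnn := hn.2
        have key : ∀ x ∈ T, x • (n • ((1 : G) : G ⧸ S)) = n • ((1 : G) : G ⧸ S) := by
          intro x hx
          rw [MulAction.Quotient.smul_mk, smul_eq_mul, mul_one, hmem]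
          have h5 : n⁻¹ ∈ normalizer (T : Set G) := inv_mem hnn
          have := (mem_normalizer_iff.1 h5 x).1 hx
          rw [inv_inv] at this
          exact H.T_S this
        exact ⟨key t htT, fun x hx => key x hx⟩
    rw [e]; exact h1
  obtain ⟨k, hk⟩ : Odd (s.filter (fun q => q ∈ MulAction.orbit ↥N ((1 : G) : G ⧸ S))).card := by
    rw [← Nat.not_even_iff_odd]
    intro h
    exact hcard h.two_dvd
  rw [hk, pow_succ, pow_mul, pow_two, haa, one_pow, one_mul] at hone
  exact hmu hone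

end Cfsg.Agent.OddHalf.D7Out.TwClaim
end

-- part: OddHalf/D7Out/TwEnd
section
/-!
# Node D7 of S1765: the K-free END for the twisted families (helper490, bb #11669)

`T` a Sylow 2-subgroup of `C(t)`, `U = T ∩ K`, `Us` the doubled unipotent group normalised by `T`, `W ≤ Z(Us)` the doubled
long root group, `T / ⟨t⟩U` cyclic. If every `g ∈ T` with `g² ∈ U` satisfies `[g, W] = 1` or `[tg, W] = 1` and the centraliser in
`T` of the root elements `P0` lies in `⟨t⟩X`, `|W| = |X|²`, then `G` is not perfect.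
-/

set_option autoImplicit false

namespace Cfsg.Agent.OddHalf.D7Out.TwEnd

open Subgroup
open Cfsg.Agent.OddHalf.D7Out.TwClaim

universe u

variable {G : Type u} [Group G]

/-- The hypotheses of the end. -/
structure Dat (PP : Subgroup G → Prop) (t : G) (K U Us T W X : Subgroup G) : Prop where
  tt : t * t = 1
  K_t : ∀ x ∈ K, x * t = t * x
  hconj : ∀ (P : Subgroup G) (g : G), PP P → PP (P.map (MulAut.conj g).toMonoidHom)
  hS : ∀ P : Subgroup G, PP P → (∀ x ∈ P, x * t = t * x) → ∀ p ∈ P, p * p = 1 → p ∈ K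
  t_K : t ∉ K
  t_T : t ∈ T
  T_t : ∀ x ∈ T, x * t = t * x
  T2 : IsPGroup 2 T
  hodd : ¬ 2 ∣ T.relIndex (centralizer ({t} : Set G))
  U_K : U ≤ K
  U_T : U ≤ T
  hU : ∀ x ∈ K, x ∈ T → x ∈ U
  U_Us : U ≤ Us
  Us2 : IsPGroup 2 Us
  T_Us : ∀ x ∈ T, ∀ y ∈ Us, x * y * x⁻¹ ∈ Us
  CUs : ∀ x ∈ Us, x * t = t * x → x ∈ U
  W_Us : W ≤ Us
  W_cent : ∀ w ∈ W, ∀ x ∈ Us, w * x = x * w
  hfree : ∀ x ∈ Us, t * x * (t * x) = 1 → ∃ y ∈ Us, y * t * y⁻¹ = t * x
  /-- `T / ⟨t⟩U` is cyclic -/
  cyc : ∃ y ∈ T, ∀ x ∈ T, ∃ i : ℤ, y ^ i * x ∈ U ∨ t * (y ^ i * x) ∈ U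
  /-- the constant `c` of `g` on `W` is `0` or `1` -/
  c01 : ∀ g ∈ T, g * g ∈ U → (∀ w ∈ W, w * g = g * w) ∨ (∀ w ∈ W, w * (t * g) = t * g * w)
  f3 : ∀ x ∈ T, (∀ p ∈ P0 PP K U, x * p = p * x) → x ∈ X ∨ t * x ∈ X
  cardW : Nat.card W = Nat.card X ^ 2
  X_ne : X ≠ ⊥

variable {PP : Subgroup G → Prop} {t : G} {K U Us T W X : Subgroup G}

/-- A quotient by a subgroup containing the commutators. -/
theorem exists_mu {S : Subgroup G} (N : Subgroup G) (hN : ∀ a ∈ S, ∀ b ∈ S, a * b * a⁻¹ * b⁻¹ ∈ N)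
    (hNS : N ≤ S) :
    ∃ (A : Type u) (_ : CommGroup A) (mu : S →* A), ∀ (s : G) (hs : s ∈ S), mu ⟨s, hs⟩ = 1 ↔ s ∈ N := by
  have hc : commutator S ≤ N.subgroupOf S := by
    rw [commutator_def, commutator_le]
    rintro ⟨a, ha⟩ - ⟨b, hb⟩ -
    rw [mem_subgroupOf]
    exact hN a ha b hb
  refine ⟨Abelianization S ⧸ ((N.subgroupOf S).map Abelianization.of), inferInstance,
    (QuotientGroup.mk' _).comp Abelianization.of, fun s hs => ?_⟩
  rw [MonoidHom.comp_apply, QuotientGroup.mk'_apply, QuotientGroup.eq_one_iff, mem_map]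
  constructor
  · rintro ⟨⟨x, hx⟩, hxN, he⟩
    rw [mem_subgroupOf] at hxN
    have h1 : (⟨x, hx⟩ : S)⁻¹ * ⟨s, hs⟩ ∈ commutator S := by
      rw [← Abelianization.ker_of, MonoidHom.mem_ker, map_mul, map_inv, he, inv_mul_cancel]
    have h2 := hc h1
    rw [mem_subgroupOf] at h2
    have h3 : x⁻¹ * s ∈ N := h2
    have := N.mul_mem hxN h3
    rwa [mul_inv_cancel_left] at this
  · intro h
    exact ⟨⟨s, hs⟩, mem_subgroupOf.2 h, rfl⟩

section mods

variable (H : Dat PP t K U Us T W X)
include H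

theorem t_Us : t ∉ Us := fun h => H.t_K (H.U_K (H.CUs t h rfl))

/-- `U` is normal in `T`. -/
theorem U_norm {x u : G} (hx : x ∈ T) (hu : u ∈ U) : x * u * x⁻¹ ∈ U := by
  apply H.CUs _ (H.T_Us x hx u (H.U_Us hu))
  have h1 := H.T_t _ (H.U_T hu)
  have h2 := H.T_t _ hx
  have c1 : Commute x t := h2
  have c2 : Commute u t := h1
  exact ((c1.mul_left c2).mul_left c1.inv_left).eq

/-- Commutators of elements of `T` lie in `U`. -/
theorem comm_U {a b : G} (ha : a ∈ T) (hb : b ∈ T) : a * b * a⁻¹ * b⁻¹ ∈ U := by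
  obtain ⟨y, hy, hcyc⟩ := H.cyc
  have key : ∀ x ∈ T, ∃ i : ℤ, ∃ u ∈ U, x = y ^ i * u ∨ x = y ^ i * t * u := by
    intro x hx
    obtain ⟨i, h | h⟩ := hcyc x hx
    · exact ⟨-i, _, h, Or.inl (by rw [zpow_neg, inv_mul_cancel_left])⟩
    · refine ⟨-i, _, h, Or.inr ?_⟩
      have e : y ^ (-i) * t * (t * (y ^ i * x)) = y ^ (-i) * (t * t) * (y ^ i * x) := by group
      rw [e, H.tt, mul_one, zpow_neg, inv_mul_cancel_left]
  -- work in `T / U`
  have hn : (U.subgroupOf T).Normal := by
    constructor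
    rintro ⟨u, hu⟩ hu' ⟨x, hx⟩
    rw [mem_subgroupOf] at hu' ⊢
    exact U_norm H hx hu'
  set f : T →* T ⧸ U.subgroupOf T := QuotientGroup.mk' _ with hf
  have hfu : ∀ (u : G) (hu : u ∈ U), f ⟨u, H.U_T hu⟩ = 1 := by
    intro u hu
    rw [hf, QuotientGroup.mk'_apply, QuotientGroup.eq_one_iff, mem_subgroupOf]
    exact hu
  have hft : ∀ q : T ⧸ U.subgroupOf T, f ⟨t, H.t_T⟩ * q = q * f ⟨t, H.t_T⟩ := by
    intro q
    obtain ⟨⟨x, hx⟩, rfl⟩ := QuotientGroup.mk'_surjective _ q
    rw [← map_mul, ← map_mul]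
    congr 1
    exact Subtype.ext (H.T_t x hx).symm
  have hval : ∀ x (hx : x ∈ T), ∃ i : ℤ, f ⟨x, hx⟩ = f ⟨y, hy⟩ ^ i ∨
      f ⟨x, hx⟩ = f ⟨y, hy⟩ ^ i * f ⟨t, H.t_T⟩ := by
    intro x hx
    obtain ⟨i, u, hu, h | h⟩ := key x hx
    · refine ⟨i, Or.inl ?_⟩
      have e : (⟨x, hx⟩ : T) = ⟨y, hy⟩ ^ i * ⟨u, H.U_T hu⟩ := Subtype.ext (by simpa using h)
      rw [e, map_mul, hfu u hu, mul_one, map_zpow]
    · refine ⟨i, Or.inr ?_⟩
      have e : (⟨x, hx⟩ : T) = ⟨y, hy⟩ ^ i * ⟨t, H.t_T⟩ * ⟨u, H.U_T hu⟩ := Subtype.ext (by simpa using h)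
      rw [e, map_mul, hfu u hu, mul_one, map_mul, map_zpow]
  have hcomm : Commute (f ⟨a, ha⟩) (f ⟨b, hb⟩) := by
    have ct : ∀ q, Commute (f ⟨t, H.t_T⟩) q := hft
    have cy : ∀ i j : ℤ, Commute (f ⟨y, hy⟩ ^ i) (f ⟨y, hy⟩ ^ j) := fun i j =>
      (Commute.refl _).zpow_zpow i j
    obtain ⟨i, h | h⟩ := hval a ha <;> obtain ⟨j, h' | h'⟩ := hval b hb <;> rw [h, h']
    · exact cy i j
    · exact (cy i j).mul_right (ct _).symm
    · exact (cy i j).mul_left (ct _)
    · exact ((cy i j).mul_right (ct _).symm).mul_left (ct _)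
  have h1 : f (⟨a, ha⟩ * ⟨b, hb⟩ * ⟨a, ha⟩⁻¹ * ⟨b, hb⟩⁻¹) = 1 := by
    rw [map_mul, map_mul, map_mul, map_inv, map_inv, hcomm.eq]
    group
  rw [hf, QuotientGroup.mk'_apply, QuotientGroup.eq_one_iff, mem_subgroupOf] at h1
  exact h1

/-- Two elements of `T` of order at most two modulo `U` and outside `⟨t⟩U` agree modulo `⟨t⟩U`. -/
theorem two_elts {g x : G} (hg : g ∈ T) (hx : x ∈ T) (hgg : g * g ∈ U) (hxx : x * x ∈ U)
    (hg1 : g ∉ U) (hg2 : t * g ∉ U) : x ∈ U ∨ t * x ∈ U ∨ g * x ∈ U ∨ t * g * x ∈ U := by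
  classical
  obtain ⟨y, hy, hcyc⟩ := H.cyc
  -- the subgroup `V = U ⟨t⟩` of `T`
  let V : Subgroup T :=
    { carrier := {z | (z : G) ∈ U ∨ t * (z : G) ∈ U}
      one_mem' := Or.inl U.one_mem
      mul_mem' := by
        rintro ⟨a, ha⟩ ⟨b, hb⟩ h1 h2
        have hta := H.T_t a ha
        rcases h1 with h1 | h1 <;> rcases h2 with h2 | h2
        · exact Or.inl (U.mul_mem h1 h2)
        · refine Or.inr ?_
          have e : t * (a * b) = a * (t * b) := by rw [← mul_assoc, ← hta, mul_assoc]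
          show t * (a * b) ∈ U
          rw [e]; exact U.mul_mem h1 h2
        · refine Or.inr ?_
          show t * (a * b) ∈ U
          rw [← mul_assoc]; exact U.mul_mem h1 h2
        · refine Or.inl ?_
          have e : a * b = (t * a) * (t * b) := by
            calc a * b = a * (t * t) * b := by rw [H.tt, mul_one]
              _ = (a * t) * (t * b) := by group
              _ = (t * a) * (t * b) := by rw [hta]
          show a * b ∈ U
          rw [e]; exact U.mul_mem h1 h2
      inv_mem' := by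
        rintro ⟨a, ha⟩ h1
        have hta := H.T_t a ha
        rcases h1 with h1 | h1
        · exact Or.inl (U.inv_mem h1)
        · refine Or.inr ?_
          have e : t * a⁻¹ = (t * a)⁻¹ := by
            have ht : t⁻¹ = t := inv_eq_of_mul_eq_one_left H.tt
            rw [← hta, mul_inv_rev, ht]
          show t * a⁻¹ ∈ U
          rw [e]; exact U.inv_mem h1 }
  have hV : ∀ z : T, z ∈ V ↔ ((z : G) ∈ U ∨ t * (z : G) ∈ U) := fun z => Iff.rfl
  have hn : V.Normal := by
    constructor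
    rintro ⟨u, hu⟩ hu' ⟨z, hz⟩
    rw [hV] at hu' ⊢
    rcases hu' with h | h
    · exact Or.inl (U_norm H hz h)
    · refine Or.inr ?_
      have e : t * (z * u * z⁻¹) = z * (t * u) * z⁻¹ := by
        rw [← mul_assoc, ← mul_assoc, ← H.T_t z hz]; group
      show t * (z * u * z⁻¹) ∈ U
      rw [e]
      exact U_norm H hz h
  set f : T →* T ⧸ V := QuotientGroup.mk' _ with hf
  have hf1 : ∀ (z : T), f z = 1 ↔ ((z : G) ∈ U ∨ t * (z : G) ∈ U) := by
    intro z
    rw [hf, QuotientGroup.mk'_apply, QuotientGroup.eq_one_iff, hV]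
  have hcycQ : ∀ q : T ⧸ V, ∃ i : ℤ, q = f ⟨y, hy⟩ ^ i := by
    intro q
    obtain ⟨⟨z, hz⟩, rfl⟩ := QuotientGroup.mk'_surjective _ q
    obtain ⟨i, h⟩ := hcyc z hz
    refine ⟨-i, ?_⟩
    have h1 : f (⟨y, hy⟩ ^ i * ⟨z, hz⟩) = 1 := by
      rw [hf1]
      simpa using h
    rw [map_mul, map_zpow] at h1
    rw [zpow_neg]
    exact (inv_eq_of_mul_eq_one_right h1).symm
  -- orders
  obtain ⟨i, hi⟩ := hcycQ (f ⟨g, hg⟩)
  obtain ⟨j, hj⟩ := hcycQ (f ⟨x, hx⟩)
  have hg0 : f ⟨g, hg⟩ ≠ 1 := by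
    rw [Ne, hf1]
    rintro (h | h)
    · exact hg1 h
    · exact hg2 h
  have hg3 : f ⟨g, hg⟩ * f ⟨g, hg⟩ = 1 := by
    rw [← map_mul, hf1]; exact Or.inl hgg
  have hx3 : f ⟨x, hx⟩ * f ⟨x, hx⟩ = 1 := by
    rw [← map_mul, hf1]; exact Or.inl hxx
  set c := f ⟨y, hy⟩ with hc
  have key : f ⟨x, hx⟩ = 1 ∨ f ⟨g, hg⟩ * f ⟨x, hx⟩ = 1 := by
    rw [hi] at hg0 hg3 ⊢
    rw [hj] at hx3 ⊢
    rw [← zpow_add, ← orderOf_dvd_iff_zpow_eq_one] at hg3 hx3
    rw [Ne, ← orderOf_dvd_iff_zpow_eq_one] at hg0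
    rw [← zpow_add, ← orderOf_dvd_iff_zpow_eq_one, ← orderOf_dvd_iff_zpow_eq_one]
    obtain ⟨a, ha⟩ := hg3
    obtain ⟨b, hb⟩ := hx3
    have hd : (orderOf c : ℤ) * a = 2 * i := by linarith only [hn, ha]
    have hd' : (orderOf c : ℤ) * b = 2 * j := by linarith only [hn, hb]
    have ha2 : a % 2 = 1 := by
      rcases Int.emod_two_eq_zero_or_one a with h | h
      · exfalso
        apply hg0
        refine ⟨a / 2, ?_⟩
        have : a = 2 * (a / 2) := by omega
        rw [this] at hd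
        linarith only [hd]
      · exact h
    rcases Int.emod_two_eq_zero_or_one b with h | h
    · left
      refine ⟨b / 2, ?_⟩
      have : b = 2 * (b / 2) := by omega
      rw [this] at hd'
      linarith only [hd']
    · right
      refine ⟨(a + b) / 2, ?_⟩
      have : a + b = 2 * ((a + b) / 2) := by omega
      have h2 : (orderOf c : ℤ) * (a + b) = 2 * (i + j) := by linarith only [ha, hb]
      rw [this] at h2
      linarith only [h2]
  rcases key with h | h
  · rw [hf1] at h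
    rcases h with h | h
    · exact Or.inl h
    · exact Or.inr (Or.inl h)
  · rw [← map_mul, hf1] at h
    rcases h with h | h
    · exact Or.inr (Or.inr (Or.inl h))
    · refine Or.inr (Or.inr (Or.inr ?_))
      have e : t * g * x = t * (g * x) := mul_assoc _ _ _
      rw [e]; exact h

end mods

/-- `S = Us T`. -/
def SS (H : Dat PP t K U Us T W X) : Subgroup G where
  carrier := {s | ∃ u ∈ Us, ∃ x ∈ T, s = u * x}
  one_mem' := ⟨1, Us.one_mem, 1, T.one_mem, by simp⟩
  mul_mem' := by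
    rintro _ _ ⟨u, hu, x, hx, rfl⟩ ⟨v, hv, y, hy, rfl⟩
    refine ⟨u * (x * v * x⁻¹), Us.mul_mem hu (H.T_Us x hx v hv), x * y, T.mul_mem hx hy, ?_⟩
    group
  inv_mem' := by
    rintro _ ⟨u, hu, x, hx, rfl⟩
    refine ⟨x⁻¹ * u⁻¹ * x, ?_, x⁻¹, T.inv_mem hx, by group⟩
    have := H.T_Us x⁻¹ (T.inv_mem hx) u⁻¹ (Us.inv_mem hu)
    rwa [inv_inv] at this

theorem Us_SS (H : Dat PP t K U Us T W X) : Us ≤ SS H := fun u hu => ⟨u, hu, 1, T.one_mem, by simp⟩

theorem T_SS (H : Dat PP t K U Us T W X) : T ≤ SS H := fun x hx => ⟨1, Us.one_mem, x, hx, by simp⟩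

theorem SS_two [Finite G] (H : Dat PP t K U Us T W X) : IsPGroup 2 (SS H) := by
  have hle : SS H ≤ Us ⊔ T := by
    rintro _ ⟨u, hu, x, hx, rfl⟩
    exact mul_mem (mem_sup_left hu) (mem_sup_right hx)
  have hTN : T ≤ normalizer (Us : Set G) := by
    intro x hx
    exact Claim.mem_norm (fun y hy => H.T_Us x hx y hy)
  exact (IsPGroup.to_sup_of_normal_left' H.Us2 H.T2 hTN).to_le hle

/-- `C_S(t) = T`. -/
theorem CS (H : Dat PP t K U Us T W X) {s : G} (hs : s ∈ SS H) (h : s * t = t * s) : s ∈ T := by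
  obtain ⟨u, hu, x, hx, rfl⟩ := hs
  have h1 : u * t = t * u := by
    have h2 := H.T_t x hx
    have c1 : Commute (u * x) t := h
    have c2 : Commute x t := h2
    have c3 : Commute (u * x * x⁻¹) t := c1.mul_left c2.inv_left
    rw [mul_inv_cancel_right] at c3
    exact c3.eq
  exact T.mul_mem (H.U_T (H.CUs u hu h1)) hx

/-- Membership modulo `Us`: for `g ∈ T` and `s = u x ∈ S`, `g s ∈ Us ↔ g x ∈ U`. -/
theorem mem_Us_iff (H : Dat PP t K U Us T W X) {g u x : G} (hg : g ∈ T) (hu : u ∈ Us) (hx : x ∈ T) :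
    g * (u * x) ∈ Us ↔ g * x ∈ U := by
  have e : g * (u * x) = (g * u * g⁻¹) * (g * x) := by group
  constructor
  · intro h
    rw [e] at h
    have h1 : g * x ∈ Us := by
      have := Us.mul_mem (Us.inv_mem (H.T_Us g hg u hu)) h
      rwa [inv_mul_cancel_left] at this
    exact H.CUs _ h1 (H.T_t _ (T.mul_mem hg hx))
  · intro h
    rw [e]
    exact Us.mul_mem (H.T_Us g hg u hu) (H.U_Us h)

theorem comm_SS (H : Dat PP t K U Us T W X) {a b : G} (ha : a ∈ SS H) (hb : b ∈ SS H) :
    a * b * a⁻¹ * b⁻¹ ∈ Us := by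
  obtain ⟨u, hu, x, hx, rfl⟩ := ha
  obtain ⟨v, hv, y, hy, rfl⟩ := hb
  have h1 := H.T_Us
  -- all in `Us` modulo `T`-commutators
  have e : u * x * (v * y) * (u * x)⁻¹ * (v * y)⁻¹ =
      u * (x * v * x⁻¹) * ((x * y * x⁻¹) * u⁻¹ * (x * y * x⁻¹)⁻¹) * (x * y * x⁻¹ * y⁻¹) * v⁻¹ := by
    group
  rw [e]
  refine Us.mul_mem (Us.mul_mem (Us.mul_mem (Us.mul_mem hu (h1 x hx v hv)) ?_) ?_) (Us.inv_mem hv)
  · exact h1 _ (T.mul_mem (T.mul_mem hx hy) (T.inv_mem hx)) _ (Us.inv_mem hu)
  · exact H.U_Us (comm_U H hx hy)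

/-- The image of an involution of `S` in `S/Us = T/U`. -/
theorem invol (H : Dat PP t K U Us T W X) {s u x : G} (hu : u ∈ Us) (hx : x ∈ T) (hs : s = u * x)
    (hss : s * s = 1) : x * x ∈ U := by
  subst hs
  have e : u * x * (u * x) = u * (x * u * x⁻¹) * (x * x) := by group
  rw [e] at hss
  have h1 : x * x = (u * (x * u * x⁻¹))⁻¹ := (inv_eq_of_mul_eq_one_right hss).symm
  have h2 : x * x ∈ Us := by
    rw [h1]; exact Us.inv_mem (Us.mul_mem hu (H.T_Us x hx u hu))
  exact H.CUs _ h2 (H.T_t _ (T.mul_mem hx hx))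

/-- The conclusion of (f3). -/
theorem hf3 [Finite G] (H : Dat PP t K U Us T W X) (g : G) (h1 : ∀ w ∈ W, g * w * g⁻¹ ∈ T)
    (h2 : ∀ w ∈ W, ∀ p ∈ P0 PP K U, g * w * g⁻¹ * p = p * (g * w * g⁻¹)) :
    ∃ w ∈ W, g * w * g⁻¹ = t := by
  classical
  by_contra hcon
  push Not at hcon
  -- `Y = W^g ≤ X ∪ tX`
  set Y : Subgroup G := W.map (MulAut.conj g).toMonoidHom with hY
  have hYc : Nat.card Y = Nat.card X ^ 2 := by
    rw [hY, ← H.cardW]
    exact (Nat.card_congr (W.equivMapOfInjective _ (MulAut.conj g).injective).toEquiv).symm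
  have hYX : ∀ y ∈ Y, y ∈ X ∨ t * y ∈ X := by
    rintro _ ⟨w, hw, rfl⟩
    exact H.f3 _ (h1 w hw) (h2 w hw)
  have htY : t ∉ Y := by
    rintro ⟨w, hw, he⟩
    exact hcon w hw he
  have hX1 : 1 < Nat.card X := by
    rw [← not_le]
    intro h
    exact H.X_ne ((Subgroup.card_le_one_iff_eq_bot _).1 h)
  -- `Y ∩ tX` : the map `Y → X`, `y ↦ y` or `t y`, is injective
  have hinj : Function.Injective (fun y : Y => if h : (y : G) ∈ X then (⟨y, h⟩ : X) else
      ⟨t * y, (hYX y y.2).resolve_left h⟩) := by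
    rintro ⟨a, ha⟩ ⟨b, hb⟩ hab
    simp only at hab
    by_cases h1 : a ∈ X <;> by_cases h2 : b ∈ X
    · rw [dif_pos h1, dif_pos h2] at hab
      exact Subtype.ext (congrArg (fun z : X => (z : G)) hab)
    · rw [dif_pos h1, dif_neg h2] at hab
      have h3 : a = t * b := congrArg (fun z : X => (z : G)) hab
      exfalso; apply htY
      have := Y.mul_mem ha (Y.inv_mem hb)
      rw [h3, mul_inv_cancel_right] at this
      exact this
    · rw [dif_neg h1, dif_pos h2] at hab
      have h3 : t * a = b := congrArg (fun z : X => (z : G)) hab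
      exfalso; apply htY
      have := Y.mul_mem hb (Y.inv_mem ha)
      rw [← h3, mul_inv_cancel_right] at this
      exact this
    · rw [dif_neg h1, dif_neg h2] at hab
      have h3 : t * a = t * b := congrArg (fun z : X => (z : G)) hab
      exact Subtype.ext (mul_left_cancel h3)
  have h3 := Nat.card_le_card_of_injective _ hinj
  rw [hYc] at h3
  nlinarith only [hX1, h3]

/-- **The end.** -/
theorem false_of [Finite G] (hG : commutator G = ⊤) (H : Dat PP t K U Us T W X) : False := by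
  classical
  have hWu : ∀ u ∈ Us, ∀ w ∈ W, w * u = u * w := fun u hu w hw => H.W_cent w hw u hu
  -- products `u x` with `x ∈ T`
  have hprod : ∀ {u x : G}, u ∈ Us → (∀ w ∈ W, w * x = x * w) → ∀ w ∈ W, w * (u * x) = u * x * w := by
    intro u x hu hx w hw
    have c1 : Commute w u := hWu u hu w hw
    have c2 : Commute w x := hx w hw
    exact (c1.mul_right c2).eq
  have hprod' : ∀ {u x : G}, u ∈ Us → (∀ w ∈ W, w * (u * x) = u * x * w) → ∀ w ∈ W, w * x = x * w := by
    intro u x hu hx w hw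
    have c1 : Commute w u := hWu u hu w hw
    have c2 : Commute w (u * x) := hx w hw
    have c3 := c1.inv_right.mul_right c2
    rw [inv_mul_cancel_left] at c3
    exact c3.eq
  by_cases hg : ∃ g ∈ T, g * g ∈ U ∧ g ∉ U ∧ t * g ∉ U
  · -- there is a further involution in `T/U`
    obtain ⟨g, hgT, hgg, hg1, hg2, hgW⟩ : ∃ g ∈ T, g * g ∈ U ∧ g ∉ U ∧ t * g ∉ U ∧
        ∀ w ∈ W, w * g = g * w := by
      obtain ⟨g, hgT, hgg, hg1, hg2⟩ := hg
      rcases H.c01 g hgT hgg with h | h
      · exact ⟨g, hgT, hgg, hg1, hg2, h⟩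
      · refine ⟨t * g, T.mul_mem H.t_T hgT, ?_, hg2, ?_, h⟩
        · have e : t * g * (t * g) = g * g := by
            calc t * g * (t * g) = t * (g * t) * g := by group
              _ = t * (t * g) * g := by rw [H.T_t g hgT]
              _ = (t * t) * (g * g) := by group
              _ = g * g := by rw [H.tt, one_mul]
          rw [e]; exact hgg
        · rw [← mul_assoc, H.tt, one_mul]; exact hg1
    set r := t * g with hr
    have hrT : r ∈ T := T.mul_mem H.t_T hgT
    have hrr : r * r ∈ U := by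
      have e : t * g * (t * g) = g * g := by
        calc t * g * (t * g) = t * (g * t) * g := by group
          _ = t * (t * g) * g := by rw [H.T_t g hgT]
          _ = (t * t) * (g * g) := by group
          _ = g * g := by rw [H.tt, one_mul]
      rw [hr, e]; exact hgg
    -- `N = Us ∪ r Us`
    let N : Subgroup G :=
      { carrier := {s | s ∈ Us ∨ r * s ∈ Us}
        one_mem' := Or.inl Us.one_mem
        mul_mem' := by
          intro a b h1 h2
          have hn : ∀ y ∈ Us, r * y * r⁻¹ ∈ Us := H.T_Us r hrT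
          have hn' : ∀ y ∈ Us, r⁻¹ * y * r ∈ Us := by
            intro y hy
            have := H.T_Us r⁻¹ (T.inv_mem hrT) y hy
            rwa [inv_inv] at this
          rcases h1 with h1 | h1 <;> rcases h2 with h2 | h2
          · exact Or.inl (Us.mul_mem h1 h2)
          · refine Or.inr ?_
            have e : r * (a * b) = (r * a * r⁻¹) * (r * b) := by group
            show r * (a * b) ∈ Us
            rw [e]; exact Us.mul_mem (hn a h1) h2
          · refine Or.inr ?_
            show r * (a * b) ∈ Us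
            rw [← mul_assoc]; exact Us.mul_mem h1 h2
          · refine Or.inl ?_
            have e : a * b = (r⁻¹ * (r * a) * r) * (r * r)⁻¹ * (r * b) := by group
            show a * b ∈ Us
            rw [e]
            exact Us.mul_mem (Us.mul_mem (hn' _ h1) (Us.inv_mem (H.U_Us hrr))) h2
        inv_mem' := by
          intro a h1
          have hn' : ∀ y ∈ Us, r⁻¹ * y * r ∈ Us := by
            intro y hy
            have := H.T_Us r⁻¹ (T.inv_mem hrT) y hy
            rwa [inv_inv] at this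
          rcases h1 with h1 | h1
          · exact Or.inl (Us.inv_mem h1)
          · refine Or.inr ?_
            show r * a⁻¹ ∈ Us
            have e : r * a⁻¹ = r * (r * a)⁻¹ * r⁻¹ * (r * r) := by group
            rw [e]
            exact Us.mul_mem (H.T_Us r hrT _ (Us.inv_mem h1)) (H.U_Us hrr) }
    have hN : ∀ s, s ∈ N ↔ (s ∈ Us ∨ r * s ∈ Us) := fun s => Iff.rfl
    have hNS : N ≤ SS H := by
      intro s hs
      rcases hs with h | h
      · exact Us_SS H h
      · have h1 := (SS H).mul_mem ((SS H).inv_mem (T_SS H hrT)) (Us_SS H h)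
        rwa [inv_mul_cancel_left] at h1
    obtain ⟨A, _, mu, hmu⟩ := exists_mu (S := SS H) N
      (fun a ha b hb => Or.inl (comm_SS H ha hb)) hNS
    -- the four cosets
    have four : ∀ s ∈ SS H, s * s = 1 → s ∈ Us ∨ t * s ∈ Us ∨ g * s ∈ Us ∨ r * s ∈ Us := by
      rintro s ⟨u, hu, x, hx, rfl⟩ hss
      have hxx := invol H hu hx rfl hss
      rcases two_elts H hgT hx hgg hxx hg1 hg2 with h | h | h | h
      · exact Or.inl (Us.mul_mem hu (H.U_Us h))
      · exact Or.inr (Or.inl ((mem_Us_iff H H.t_T hu hx).2 h))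
      · exact Or.inr (Or.inr (Or.inl ((mem_Us_iff H hgT hu hx).2 h)))
      · exact Or.inr (Or.inr (Or.inr ((mem_Us_iff H hrT hu hx).2 h)))
    -- an involution not centralising `W`, not in `tUs`, lies in `r Us`
    have inR : ∀ s ∈ SS H, s * s = 1 → (∃ w ∈ W, w * s ≠ s * w) → t * s ∉ Us → r * s ∈ Us := by
      intro s hs hss ⟨w, hw, hws⟩ hts
      rcases four s hs hss with h | h | h | h
      · exact absurd (hWu s h w hw) hws
      · exact absurd h hts
      · exfalso; apply hws
        have c1 : Commute w (g * s) := hWu _ h w hw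
        have c2 : Commute w g := hgW w hw
        have c3 := c2.inv_right.mul_right c1
        rw [inv_mul_cancel_left] at c3
        exact c3.eq
      · exact h
    have HH : Hyp PP t K U Us T W (SS H) mu :=
      { tt := H.tt
        K_t := H.K_t
        hconj := H.hconj
        hS := H.hS
        t_K := H.t_K
        T_S := T_SS H
        Us_S := Us_SS H
        U_Us := H.U_Us
        W_Us := H.W_Us
        W_cent := H.W_cent
        hU := H.hU
        CS := fun x hx h => CS H hx h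
        mu_Us := fun x hx => (hmu x _).2 (Or.inl hx)
        hfree := H.hfree
        hf3 := hf3 H
        hkey := by
          intro u p hu hp huu hpp hup hmuu hWu' hWp htp
          have h1 := inR p hp hpp hWp htp
          have h2 : u ∉ N := fun h => hmuu ((hmu u hu).2 h)
          rw [hN] at h2
          push Not at h2
          have h3 : g * u ∈ Us := by
            rcases four u hu huu with h | h | h | h
            · exact absurd h h2.1
            · exfalso
              -- `t` centralises `W`, so `p ∈ r Us` does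
              obtain ⟨w, hw, hwp⟩ := hWp
              apply hwp
              have c1 : Commute w (t * u) := hWu _ h w hw
              have c2 : Commute w u := hWu' w hw
              have c3 : Commute w t := by
                have := c1.mul_right c2.inv_right
                rwa [mul_inv_cancel_right] at this
              have c4 : Commute w g := hgW w hw
              have c5 : Commute w (r * p) := hWu _ h1 w hw
              have c6 : Commute w r := c3.mul_right c4
              have c7 := c6.inv_right.mul_right c5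
              rw [inv_mul_cancel_left] at c7
              exact c7.eq
            · exact h
            · exact absurd h h2.2
          -- `t p u = (g⁻¹ (r p) ...)`
          obtain ⟨v, hv, y, hy, rfl⟩ := hu
          obtain ⟨v', hv', y', hy', rfl⟩ := hp
          rw [mem_Us_iff H hgT hv hy] at h3
          rw [mem_Us_iff H hrT hv' hy'] at h1
          have e : v' * y' * (v * y) = (v' * (y' * v * y'⁻¹)) * (y' * y) := by group
          rw [e, mem_Us_iff H H.t_T (Us.mul_mem hv' (H.T_Us y' hy' v hv)) (T.mul_mem hy' hy)]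
          -- `t y' y = (t g) y' · (g y) · …`
          have hc := comm_U H (T.inv_mem hgT) (T.mul_mem (T.mul_mem H.t_T hgT) hy')
          -- `t * (y' * y) = g⁻¹ * (t g y') * y = (g⁻¹ (t g y') g) * (g⁻¹ y)`
          have e2 : t * (y' * y) =
              (g⁻¹ * (t * g * y') * g⁻¹⁻¹ * (t * g * y')⁻¹) * (t * g * y') * ((g * g)⁻¹ * (g * y)) *
                1 := by
            have ht : t * g = g * t := (H.T_t g hgT).symm
            have e3 : g⁻¹ * (t * g * y') * g⁻¹⁻¹ * (t * g * y')⁻¹ * (t * g * y') = g⁻¹ * (t * g) * y' * g := by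
              group
            rw [e3, ht]
            group
          rw [e2, mul_one]
          exact U.mul_mem (U.mul_mem hc h1) (U.mul_mem (U.inv_mem hgg) h3) }
    refine TwClaim.false_of hG HH H.t_T (SS_two H) H.T_t H.hodd ?_ ?_
    · intro u hu huu hWu' htu
      rw [hmu]
      exact Or.inr (inR u hu huu hWu' htu)
    · rw [Ne, hmu, hN]
      rintro (h | h)
      · exact t_Us H h
      · -- `r t = g`
        have e : r * t = g := by
          rw [hr, mul_assoc, H.T_t g hgT, ← mul_assoc, H.tt, one_mul]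
        rw [e] at h
        exact hg1 (H.CUs g h (H.T_t g hgT))
  · -- `t` is the only involution of `T/U`
    push Not at hg
    obtain ⟨A, _, mu, hmu⟩ := exists_mu (S := SS H) Us (fun a ha b hb => comm_SS H ha hb) (Us_SS H)
    have two : ∀ s ∈ SS H, s * s = 1 → s ∈ Us ∨ t * s ∈ Us := by
      rintro s ⟨u, hu, x, hx, rfl⟩ hss
      have hxx := invol H hu hx rfl hss
      by_cases h : x ∈ U
      · exact Or.inl (Us.mul_mem hu (H.U_Us h))
      · exact Or.inr ((mem_Us_iff H H.t_T hu hx).2 (hg x hx hxx h))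
    have no : ∀ s ∈ SS H, s * s = 1 → (∃ w ∈ W, w * s ≠ s * w) → t * s ∉ Us → False := by
      intro s hs hss ⟨w, hw, hws⟩ hts
      rcases two s hs hss with h | h
      · exact hws (hWu s h w hw)
      · exact hts h
    have HH : Hyp PP t K U Us T W (SS H) mu :=
      { tt := H.tt
        K_t := H.K_t
        hconj := H.hconj
        hS := H.hS
        t_K := H.t_K
        T_S := T_SS H
        Us_S := Us_SS H
        U_Us := H.U_Us
        W_Us := H.W_Us
        W_cent := H.W_cent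
        hU := H.hU
        CS := fun x hx h => CS H hx h
        mu_Us := fun x hx => (hmu x _).2 hx
        hfree := H.hfree
        hf3 := hf3 H
        hkey := fun u p hu hp huu hpp hup hmuu hWu' hWp htp => (no p hp hpp hWp htp).elim }
    refine TwClaim.false_of hG HH H.t_T (SS_two H) H.T_t H.hodd ?_ ?_
    · intro u hu huu hWu' htu
      exact (no u hu huu hWu' htu).elim
    · rw [Ne, hmu]
      exact t_Us H

end Cfsg.Agent.OddHalf.D7Out.TwEnd
end

-- part: OddHalf/D7Out/PZeroU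
section
-- merged: Cfsg.Agent.KFacts.Unit.PZero
section

/-!
# The elements of `P0` for `PSU n F q`, `q` even, `n ≥ 6` (helper552; ODD D7, outer 2-part, piece O9)

`siegel_mem_PO`: for isotropic `e ≠ 0`, `w ⊥ e` isotropic, the Siegel element `siegel e w μ` lies in the subgroup `PO e w`
generated by the elements of odd order fixing `e` and `w`; this subgroup centralises it.
`QQ_induction`: the images of these elements generate `QQ e`.
-/

set_option autoImplicit false

namespace Cfsg.Agent.KFacts.Unit.PZero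

open Cfsg Cfsg.Agent.LieClassical.HermBasic Cfsg.Agent.LieClassical.HermSiegel
  Cfsg.Agent.LieClassical.HermGen Cfsg.Agent.LieClassical.SUBasic Matrix
  Cfsg.Agent.ClassicalGeometry.PSUAutBasic Cfsg.Agent.ClassicalGeometry.PSUAutSylow
  Cfsg.Agent.ClassicalGeometry.PSUAutUnip Cfsg.Agent.ClassicalGeometry.PSUAutPhi
  Cfsg.Agent.OddHalf.D7Out.OddGen

variable {F : Type*} [Field F] {q n : ℕ}

/-- The subgroup generated by the elements of odd order fixing `e` and `w`. -/
def PO (q : ℕ) (e w : Fin n → F) : Subgroup (SU n F q) :=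
  Subgroup.closure {g | Odd (orderOf g) ∧ act g e = e ∧ act g w = w}

theorem PO_oddGen (e w : Fin n → F) : OddGen (PO q e w) := oddGen_closure fun _ h => h.1

theorem PO_fix {e w : Fin n → F} {g : SU n F q} (hg : g ∈ PO q e w) : act g e = e ∧ act g w = w := by
  rw [PO] at hg
  induction hg using Subgroup.closure_induction with
  | mem x hx => exact hx.2
  | one => exact ⟨act_one _, act_one _⟩
  | mul a b _ _ ha hb => exact ⟨by rw [act_mul, hb.1, ha.1], by rw [act_mul, hb.2, ha.2]⟩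
  | inv a _ ha =>
    exact ⟨((act_eq_iff a).1 ha.1).symm, ((act_eq_iff a).1 ha.2).symm⟩

theorem PO_conj {e w : Fin n → F} {s g : SU n F q} (he : act s e = e) (hw : act s w = w) (hg : g ∈ PO q e w) :
    s * g * s⁻¹ ∈ PO q e w := by
  have he' : act s⁻¹ e = e := ((act_eq_iff s).1 he).symm
  have hw' : act s⁻¹ w = w := ((act_eq_iff s).1 hw).symm
  have h1 : PO q e w ≤ (PO q e w).comap (MulAut.conj s).toMonoidHom := by
    rw [PO, Subgroup.closure_le]
    rintro x ⟨hx, hx1, hx2⟩
    refine Subgroup.subset_closure ⟨Odd.of_dvd_nat hx (orderOf_map_dvd _ x), ?_, ?_⟩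
    · show act (s * x * s⁻¹) e = e
      rw [act_mul, act_mul, he', hx1, he]
    · show act (s * x * s⁻¹) w = w
      rw [act_mul, act_mul, hw', hx2, hw]
  exact h1 hg

variable [Fintype F]

/-- `PO e w` centralises the Siegel elements at `e`, `w`. -/
theorem PO_comm (hF : Fintype.card F = q ^ 2) {e w : Fin n → F} {μ : F} (h : IsSiegel q e w μ) {g : SU n F q}
    (hg : g ∈ PO q e w) : g * siegel hF e w μ h = siegel hF e w μ h * g := by
  obtain ⟨h1, h2⟩ := PO_fix hg
  have h3 := conj_siegel hF h g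
  have h4 : siegel hF (act g e) (act g w) μ (h.map g) = siegel hF e w μ h := siegel_congr hF _ _ h1 h2 rfl
  rw [h4] at h3
  exact mul_inv_eq_iff_eq_mul.1 h3

section Two

variable [CharP F 2]

omit [Fintype F] in
theorem vadd (x : Fin n → F) : x + x = 0 := funext fun i => CharTwo.add_self_eq_zero (x i)

omit [Fintype F] in
theorem vneg (x : Fin n → F) : -x = x := by rw [neg_eq_iff_add_eq_zero, vadd]

/-- The setting: a hyperbolic pair orthogonal to `e` and `w`. -/
structure St (q : ℕ) (e w x y : Fin n → F) : Prop where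
  xy : Hyp q x y
  ee : hermForm n F q e e = 0
  ww : hermForm n F q w w = 0
  we : hermForm n F q w e = 0
  xe : hermForm n F q x e = 0
  ye : hermForm n F q y e = 0
  xw : hermForm n F q x w = 0
  yw : hermForm n F q y w = 0

variable {e w x y : Fin n → F}

/-- The element of order three. -/
theorem rho_mem (hF : Fintype.card F = q ^ 2) (H : St q e w x y) : rho hF H.xy ∈ PO q e w := by
  refine Subgroup.subset_closure ⟨?_, ?_, ?_⟩
  · have h1 : orderOf (rho hF H.xy) ∣ 3 := orderOf_dvd_of_pow_eq_one (rho_pow_three hF H.xy)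
    exact Odd.of_dvd_nat (by decide) h1
  · exact act_rho_of_orth hF H.xy (herm_eq_zero_swap hF H.xe) (herm_eq_zero_swap hF H.ye)
  · exact act_rho_of_orth hF H.xy (herm_eq_zero_swap hF H.xw) (herm_eq_zero_swap hF H.yw)

/-- Commutators with `rho`. -/
theorem com_mem (hF : Fintype.card F = q ^ 2) (H : St q e w x y) {s v v' : Fin n → F} {ν : F}
    (hes : hermForm n F q e s = 0) (hws : hermForm n F q w s = 0) (hxs : hermForm n F q x s = 0)
    (hys : hermForm n F q y s = 0) (hev : hermForm n F q e v = 0) (hwv : hermForm n F q w v = 0)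
    (h : IsSiegel q s v ν) (hv : act (rho hF H.xy) v = v')
    (h' : IsSiegel q s (-v + v') (ν ^ q + ν - hermForm n F q v' (-v))) :
    siegel hF s (-v + v') (ν ^ q + ν - hermForm n F q v' (-v)) h' ∈ PO q e w := by
  have hr := rho_mem hF H
  have hs1 : act (siegel hF s v ν h) e = e := act_siegel_of_orth hF h hes hev
  have hs2 : act (siegel hF s v ν h) w = w := act_siegel_of_orth hF h hws hwv
  have h1 : (siegel hF s v ν h)⁻¹ * rho hF H.xy * ((siegel hF s v ν h)⁻¹)⁻¹ ∈ PO q e w :=
    PO_conj ((act_eq_iff _).1 hs1).symm ((act_eq_iff _).1 hs2).symm hr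
  have h2 : rho hF H.xy * siegel hF s v ν h * (rho hF H.xy)⁻¹ = siegel hF s v' ν (by
      have h3 := h.map (rho hF H.xy)
      rwa [hv, act_rho_of_orth hF H.xy (herm_eq_zero_swap hF hxs) (herm_eq_zero_swap hF hys)] at h3) := by
    rw [conj_siegel]
    exact siegel_congr hF _ _ (act_rho_of_orth hF H.xy (herm_eq_zero_swap hF hxs) (herm_eq_zero_swap hF hys)) hv rfl
  have h3 := (PO q e w).mul_mem h1 ((PO q e w).inv_mem hr)
  have h4 : (siegel hF s v ν h)⁻¹ * rho hF H.xy * ((siegel hF s v ν h)⁻¹)⁻¹ * (rho hF H.xy)⁻¹ =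
      (siegel hF s v ν h)⁻¹ * (rho hF H.xy * siegel hF s v ν h * (rho hF H.xy)⁻¹) := by group
  rw [h4, h2, siegel_inv, siegel_mul] at h3
  exact h3

theorem isSiegel_norm (hF : Fintype.card F = q ^ 2) {s v : Fin n → F} (hss : hermForm n F q s s = 0)
    (hvs : hermForm n F q v s = 0) (hvv : hermForm n F q v v = 0) (l : F) :
    IsSiegel q s (l • v) (l * l ^ q) := by
  refine ⟨hss, by rw [herm_smul_left, hvs, mul_zero], ?_⟩
  rw [norm_pow_q hF, herm_smul_left, herm_smul_right, hvv, mul_zero, mul_zero, add_zero]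
  exact CharTwo.add_self_eq_zero _

theorem isSiegel_iso (hF : Fintype.card F = q ^ 2) {s v : Fin n → F} (hss : hermForm n F q s s = 0)
    (hvs : hermForm n F q v s = 0) (hvv : hermForm n F q v v = 0) (l : F) : IsSiegel q s (l • v) 0 := by
  refine ⟨hss, by rw [herm_smul_left, hvs, mul_zero], ?_⟩
  rw [zero_pow_q hF, herm_smul_left, herm_smul_right, hvv]
  ring

/-- `A_s(l) = siegel s (l x) (N l) ∈ PO e w`, and the same with `y`. -/
theorem A_mem (hF : Fintype.card F = q ^ 2) (H : St q e w x y) {s : Fin n → F} (hss : hermForm n F q s s = 0)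
    (hes : hermForm n F q e s = 0) (hws : hermForm n F q w s = 0) (hxs : hermForm n F q x s = 0)
    (hys : hermForm n F q y s = 0) (l : F) :
    siegel hF s (l • x) (l * l ^ q) (isSiegel_norm hF hss hxs H.xy.ee l) ∈ PO q e w := by
  have hsy := isSiegel_iso hF hss hys H.xy.ff l
  have hv : act (rho hF H.xy) (l • y) = l • (x + y) := by rw [act_smul, act_rho_f]
  have hsum : -(l • y) + l • (x + y) = l • x := by rw [smul_add]; abel
  have hval : (0 : F) ^ q + 0 - hermForm n F q (l • (x + y)) (-(l • y)) = l * l ^ q := by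
    rw [zero_pow_q hF, herm_neg_right hF, herm_smul_left, herm_smul_right, herm_add_left, H.xy.ef, H.xy.ff]
    ring
  have h' : IsSiegel q s (-(l • y) + l • (x + y)) ((0 : F) ^ q + 0 - hermForm n F q (l • (x + y)) (-(l • y))) := by
    rw [hsum, hval]; exact isSiegel_norm hF hss hxs H.xy.ee l
  have h1 := com_mem hF H (s := s) (v := l • y) (v' := l • (x + y)) (ν := 0) hes hws hxs hys
    (by rw [herm_smul_right, herm_eq_zero_swap hF H.ye, mul_zero])
    (by rw [herm_smul_right, herm_eq_zero_swap hF H.yw, mul_zero]) hsy hv h'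
  rwa [siegel_congr hF h' (isSiegel_norm hF hss hxs H.xy.ee l) rfl hsum hval] at h1

theorem B_mem (hF : Fintype.card F = q ^ 2) (H : St q e w x y) {s : Fin n → F} (hss : hermForm n F q s s = 0)
    (hes : hermForm n F q e s = 0) (hws : hermForm n F q w s = 0) (hxs : hermForm n F q x s = 0)
    (hys : hermForm n F q y s = 0) (l : F) :
    siegel hF s (l • y) (l * l ^ q) (isSiegel_norm hF hss hys H.xy.ff l) ∈ PO q e w := by
  have hyx : hermForm n F q y x = 1 := H.xy.fe hF
  have hxyv : hermForm n F q (x + y) (x + y) = 0 := by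
    rw [herm_add_left, herm_add_right hF, herm_add_right hF, H.xy.ee, H.xy.ff, H.xy.ef, hyx]
    simp only [zero_add, add_zero]
    exact CharTwo.add_self_eq_zero 1
  have hsy := isSiegel_iso hF hss (v := x + y) (by rw [herm_add_left, hxs, hys, add_zero]) hxyv l
  have hv : act (rho hF H.xy) (l • (x + y)) = l • x := by
    rw [act_smul, act_add, act_rho_e, act_rho_f, add_comm x y, ← add_assoc, vadd, zero_add]
  have hsum : -(l • (x + y)) + l • x = l • y := by
    rw [vneg, smul_add, add_comm (l • x), add_assoc, vadd, add_zero]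
  have hval : (0 : F) ^ q + 0 - hermForm n F q (l • x) (-(l • (x + y))) = l * l ^ q := by
    rw [zero_pow_q hF, herm_neg_right hF, herm_smul_left, herm_smul_right, herm_add_right hF, H.xy.ef, H.xy.ee]
    ring
  have h' : IsSiegel q s (-(l • (x + y)) + l • x) ((0 : F) ^ q + 0 - hermForm n F q (l • x) (-(l • (x + y)))) := by
    rw [hsum, hval]; exact isSiegel_norm hF hss hys H.xy.ff l
  have h1 := com_mem hF H (s := s) (v := l • (x + y)) (v' := l • x) (ν := 0) hes hws hxs hys
    (by rw [herm_smul_right, herm_add_right hF, herm_eq_zero_swap hF H.ye, herm_eq_zero_swap hF H.xe, add_zero,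
      mul_zero])
    (by rw [herm_smul_right, herm_add_right hF, herm_eq_zero_swap hF H.yw, herm_eq_zero_swap hF H.xw, add_zero,
      mul_zero]) hsy hv h'
  rwa [siegel_congr hF h' (isSiegel_norm hF hss hys H.xy.ff l) rfl hsum hval] at h1

/-- The transvections at `e`. -/
theorem transv_mem (hF : Fintype.card F = q ^ 2) (H : St q e w x y) {μ : F} (hμ : μ + μ ^ q = 0) :
    siegel hF e 0 μ (isSiegel_zero H.ee hμ) ∈ PO q e w := by
  have hμ' : μ ^ q = μ := by
    have h1 : μ ^ q = -μ := by linear_combination hμ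
    rw [h1, CharTwo.neg_eq]
  obtain ⟨l, hl⟩ := exists_trace_eq hF hμ'
  have hA := A_mem hF H H.ee H.ee H.we H.xe H.ye l
  have hB := B_mem hF H H.ee H.ee H.we H.xe H.ye 1
  set A := siegel hF e (l • x) (l * l ^ q) (isSiegel_norm hF H.ee H.xe H.xy.ee l)
  set B := siegel hF e ((1 : F) • y) (1 * 1 ^ q) (isSiegel_norm hF H.ee H.ye H.xy.ff 1)
  have h1 : A * B = siegel hF e 0 μ (isSiegel_zero H.ee hμ) * (B * A) := by
    rw [siegel_mul, siegel_mul, siegel_mul]
    apply siegel_congr hF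
    · rfl
    · rw [zero_add, add_comm]
    · rw [herm_smul_left, herm_smul_right, herm_smul_left, herm_smul_right, herm_zero_right hF, H.xy.fe hF, H.xy.ef,
        one_pow, one_mul, one_mul, mul_one, mul_one, ← hl]
      have h2 : l + l = 0 := CharTwo.add_self_eq_zero l
      have h3 : l ^ q + l ^ q = 0 := CharTwo.add_self_eq_zero _
      linear_combination -h3
  have h4 : siegel hF e 0 μ (isSiegel_zero H.ee hμ) = A * B * (B * A)⁻¹ := by rw [h1]; group
  rw [h4]
  exact mul_mem (mul_mem hA hB) (inv_mem (mul_mem hB hA))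

/-- **The Siegel elements.** -/
theorem siegel_mem_of_st (hF : Fintype.card F = q ^ 2) (H : St q e w x y) {μ : F} (h : IsSiegel q e w μ) :
    siegel hF e w μ h ∈ PO q e w := by
  have hew : hermForm n F q e w = 0 := herm_eq_zero_swap hF H.we
  have hA := A_mem hF H H.ee H.ee H.we H.xe H.ye (1 : F)
  have hB := B_mem hF H H.ww hew H.ww H.xw H.yw (1 : F)
  set A := siegel hF e ((1 : F) • x) (1 * 1 ^ q) (isSiegel_norm hF H.ee H.xe H.xy.ee 1)
  set B := siegel hF w ((1 : F) • y) (1 * 1 ^ q) (isSiegel_norm hF H.ww H.yw H.xy.ff 1) with hBdef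
  have hBe : act B e = e := act_siegel_of_orth hF _ hew
    (by rw [herm_smul_right, herm_eq_zero_swap hF H.ye, mul_zero])
  have hBx : act B ((1 : F) • x) = x + w := by
    rw [one_smul, hBdef, act_siegel, H.xw, herm_smul_right, H.xy.ef, zero_smul, add_zero, mul_zero, one_pow, one_mul,
      zero_sub, neg_smul, one_smul, vneg]
  have h0 : IsSiegel q e w 0 := ⟨H.ee, H.we, by rw [zero_pow_q hF, H.ww]; ring⟩
  have hBA : IsSiegel q e (x + w) (1 * 1 ^ q : F) := by
    have h1 := (isSiegel_norm hF H.ee H.xe H.xy.ee (1 : F)).map B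
    rwa [hBe, hBx] at h1
  have h1 : A⁻¹ * (B * A * B⁻¹) = siegel hF e w 0 h0 := by
    have h2 : B * A * B⁻¹ = siegel hF e (x + w) (1 * 1 ^ q) hBA := by
      rw [conj_siegel]
      exact siegel_congr hF _ _ hBe hBx rfl
    rw [h2, siegel_inv, siegel_mul]
    apply siegel_congr hF
    · rfl
    · rw [one_smul]; abel
    · rw [one_pow, one_mul, one_pow, one_smul, herm_neg_right hF, herm_add_left, H.xy.ee,
        herm_eq_zero_swap hF H.xw, add_zero, neg_zero, sub_zero]
      exact CharTwo.add_self_eq_zero 1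
  have hw0 : siegel hF e w 0 h0 ∈ PO q e w := by
    rw [← h1]
    exact mul_mem (inv_mem hA) (PO_conj hBe (act_siegel_self hF _) hA)
  have hμ : μ + μ ^ q = 0 := by have := h.tr; rwa [H.ww, add_zero] at this
  have h2 : siegel hF e w μ h = siegel hF e 0 μ (isSiegel_zero H.ee hμ) * siegel hF e w 0 h0 := by
    rw [siegel_mul]
    apply siegel_congr hF
    · rfl
    · rw [zero_add]
    · rw [herm_zero_right hF, add_zero, sub_zero]
  rw [h2]
  exact mul_mem (transv_mem hF H hμ) hw0

/-- **The Siegel elements of isotropic type lie in the subgroup generated by the elements of odd order of their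
centraliser.** -/
theorem siegel_mem_PO (hF : Fintype.card F = q ^ 2) (hn : 6 ≤ n) (he0 : e ≠ 0) {μ : F} (h : IsSiegel q e w μ)
    (hww : hermForm n F q w w = 0) : siegel hF e w μ h ∈ PO q e w := by
  obtain ⟨x, y, hxx, hyy, hxy, hxe, hye, hxw, hyw⟩ := exists_pair_perp hF hn he0 h.iso hww h.orth
  exact siegel_mem_of_st hF ⟨⟨hxx, hyy, hxy⟩, h.iso, hww, h.orth, hxe, hye, hxw, hyw⟩ h

/-! ### Generation -/

/-- `siegG e` is generated by the Siegel elements with isotropic second vector. -/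
theorem siegG_le (hF : Fintype.card F = q ^ 2) (hn : 6 ≤ n) (he0 : e ≠ 0) (hee : hermForm n F q e e = 0)
    {L : Subgroup (SU n F q)}
    (hL : ∀ (w : Fin n → F) (μ : F) (h : IsSiegel q e w μ), hermForm n F q w w = 0 → siegel hF e w μ h ∈ L) :
    siegG hF e hee ≤ L := by
  have hz : hermForm n F q (0 : Fin n → F) 0 = 0 := herm_zero_left _
  obtain ⟨x, y, hxx, hyy, hxy, hxe, hye, -, -⟩ := exists_pair_perp hF hn he0 hee hz (herm_zero_left _)
  have key : ∀ w ∈ perp q e, ∃ (μ : F) (h : IsSiegel q e w μ), siegel hF e w μ h ∈ L := by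
    refine iso_induction hF (W := perp q e) (x := x) (y := y) hxe hye hxx hyy hxy
      (P := fun w => ∃ (μ : F) (h : IsSiegel q e w μ), siegel hF e w μ h ∈ L) ?_ ?_
    · rintro a b ha hb ⟨μ, h, hm⟩ ⟨μ', h', hm'⟩
      refine ⟨_, h.mul hF h', ?_⟩
      rw [← siegel_mul hF h h']
      exact mul_mem hm hm'
    · intro s hs hss
      have h0 : IsSiegel q e s 0 := ⟨hee, hs, by rw [zero_pow_q hF, hss]; ring⟩
      exact ⟨0, h0, hL s 0 h0 hss⟩
  rintro _ ⟨w, μ, h, rfl⟩
  obtain ⟨μ', h', hm⟩ := key w h.orth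
  have hμ : (μ - μ') + (μ - μ') ^ q = 0 := by
    rw [sub_pow_q hF]; linear_combination h.tr - h'.tr
  have h2 : siegel hF e w μ h = siegel hF e 0 (μ - μ') (isSiegel_zero hee hμ) * siegel hF e w μ' h' := by
    rw [siegel_mul]
    apply siegel_congr hF
    · rfl
    · rw [zero_add]
    · rw [herm_zero_right hF]; ring
  rw [h2]
  exact mul_mem (hL 0 _ _ hz) hm

/-- **The facts on `P0` in `PSU`.** Every element of `QQ e` is a product of elements `p ∈ QQ e`, `p² = 1`, which lie in a
subgroup of `PP e` generated by elements of odd order and centralising `p`. -/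
theorem QQ_le (hF : Fintype.card F = q ^ 2) (hn : 6 ≤ n) (he0 : e ≠ 0) (hee : hermForm n F q e e = 0)
    {L : Subgroup (PSU n F q)}
    (hL : ∀ p ∈ QQ hF e hee, p * p = 1 → ∀ P : Subgroup (PSU n F q), OddGen P → P ≤ PP q e → p ∈ P →
      (∀ x ∈ P, x * p = p * x) → p ∈ L) : QQ hF e hee ≤ L := by
  have h1 : siegG hF e hee ≤ L.comap (pr n F q) := by
    apply siegG_le hF hn he0 hee
    intro w μ h hww
    have hm := siegel_mem_PO hF hn he0 h hww
    refine hL _ (mem_QQ.2 ⟨w, μ, h, rfl⟩) ?_ ((PO q e w).map (pr n F q)) ((PO_oddGen e w).map _) ?_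
      ⟨_, hm, rfl⟩ ?_
    · rw [← map_mul, siegel_mul]
      have h2 : siegel hF e (w + w) (μ + μ - hermForm n F q w w) (h.mul hF h) = 1 := by
        rw [← siegel_zero hF (IsSiegel.zero hF hee)]
        apply siegel_congr hF
        · rfl
        · exact vadd w
        · rw [hww, sub_zero]; exact CharTwo.add_self_eq_zero μ
      rw [h2, map_one]
    · rintro _ ⟨g, hg, rfl⟩
      exact mem_PP.2 ⟨g, (PO_fix hg).1, rfl⟩
    · rintro _ ⟨g, hg, rfl⟩
      show pr n F q g * pr n F q _ = _ * pr n F q g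
      rw [← map_mul, ← map_mul, PO_comm hF h hg]
  intro x hx
  obtain ⟨w, μ, h, rfl⟩ := mem_QQ.1 hx
  exact h1 ⟨w, μ, h, rfl⟩

end Two

end Cfsg.Agent.KFacts.Unit.PZero

end

-- merged: Cfsg.Agent.OddHalf.D7Out.PZeroU
section

/-!
# The fields `hconj`, `hS`, `f3` of `TwEnd.Dat` for the class `OddGen` (helper552; ODD D7, outer 2-part, piece O9)

`hconj`, `hS`: the class of the subgroups generated by elements of odd order, any `K` (from `cyc`).
`f3_U`: an element of `C(t)` normalising `K ≅ PSU n F q` and centralising `P0` lies in `⟨t⟩ RR u`.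
-/

set_option autoImplicit false

namespace Cfsg.Agent.OddHalf.D7Out.PZeroU

open Cfsg Subgroup
open Cfsg.Agent.OddHalf.D7Out.OddGen Cfsg.Agent.OddHalf.D7Out.TwClaim

variable {G : Type*} [Group G]

/-- `OddGen` is closed under conjugation. -/
theorem hconj (P : Subgroup G) (g : G) (h : OddGen P) : OddGen (P.map (MulAut.conj g).toMonoidHom) := h.conj g

/-- **The field `hS`.** -/
theorem hS [Finite G] {t : G} {K U T : Subgroup G} (tt : t * t = 1) (tK : t ∉ K)
    (K_t : ∀ x ∈ K, x * t = t * x) (hKn : ∀ c, c * t = t * c → ∀ x ∈ K, c * x * c⁻¹ ∈ K)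
    (hT : IsPGroup 2 T) (hTt : ∀ x ∈ T, x * t = t * x) (hodd : ¬ 2 ∣ T.relIndex (centralizer ({t} : Set G)))
    (hUK : U ≤ K) (cyc : ∃ y ∈ T, ∀ x ∈ T, ∃ i : ℤ, y ^ i * x ∈ U ∨ t * (y ^ i * x) ∈ U) :
    ∀ P : Subgroup G, OddGen P → (∀ x ∈ P, x * t = t * x) → ∀ p ∈ P, p * p = 1 → p ∈ K := by
  intro P hP hPt p hp hpp
  obtain ⟨y, hy, hcyc⟩ := cyc
  refine mem_of_oddGen tt tK K_t hKn hT hTt hodd hy ?_ hP hPt hp (k := 1) (by rw [pow_one, pow_two, hpp])
  intro x hx
  obtain ⟨i, h | h⟩ := hcyc x hx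
  · have e : x = y ^ (-i) * (y ^ i * x) := by group
    rw [e]
    exact mul_mem (mem_sup_left (zpow_mem (mem_zpowers y) _)) (mem_sup_right (mem_sup_right (hUK h)))
  · have e : x = y ^ (-i) * (t⁻¹ * (t * (y ^ i * x))) := by group
    rw [e]
    exact mul_mem (mem_sup_left (zpow_mem (mem_zpowers y) _))
      (mem_sup_right (mul_mem (mem_sup_left (inv_mem (mem_zpowers t))) (mem_sup_right (hUK h))))

/-! ### A general lemma: centralising a subgroup with known automorphism centraliser -/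

/-- If `x ∈ C(t)` normalises `K ≅ Y`, centralises the image of `Q ≤ Y` and every automorphism of `Y` trivial on `Q` is
conjugation by an element of `R`, then `x` or `t x` lies in the image of `R`. -/
theorem mem_of_aut [Finite G] {Y : Type*} [Group Y] {t x : G} {K : Subgroup G} (e : Y ≃* K) {Q R : Subgroup Y}
    (hx : ∀ k ∈ K, x * k * x⁻¹ ∈ K) (hxt : x * t = t * x) (K_t : ∀ k ∈ K, k * t = t * k) (tt : t * t = 1)
    (hC : ∀ z : G, z * t = t * z → (∀ k ∈ K, z * k = k * z) → z = 1 ∨ z = t)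
    (hQ : ∀ y ∈ Q, x * (e y : G) = (e y : G) * x)
    (hR : ∀ α : MulAut Y, (∀ y ∈ Q, α y = y) → ∃ z ∈ R, α = MulAut.conj z) :
    ∃ z ∈ R, x = (e z : G) ∨ t * x = (e z : G) := by
  have hxn : x ∈ normalizer (K : Set G) := Claim.mem_norm hx
  let α' : MulAut K := K.normalizerMonoidHom ⟨x, hxn⟩
  have hα' : ∀ k : K, (α' k : G) = x * k * x⁻¹ := fun k => rfl
  let α : MulAut Y := (e.trans α').trans e.symm
  have hα : ∀ y : Y, (e (α y) : G) = x * (e y : G) * x⁻¹ := by
    intro y
    have : e (α y) = α' (e y) := by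
      show e (e.symm (α' (e y))) = _
      rw [e.apply_symm_apply]
    rw [this, hα']
  obtain ⟨z, hz, hαz⟩ := hR α (by
    intro y hy
    apply e.injective
    apply Subtype.ext
    rw [hα, hQ y hy, mul_inv_cancel_right])
  have h1 : ∀ k ∈ K, ((e z : G)⁻¹ * x) * k = k * ((e z : G)⁻¹ * x) := by
    intro k hk
    obtain ⟨y, hy⟩ := e.surjective ⟨k, hk⟩
    have hy' : (e y : G) = k := congrArg Subtype.val hy
    have h2 := hα y
    rw [hαz, MulAut.conj_apply, map_mul, map_mul, map_inv, hy'] at h2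
    have h3 : (e z : G) * k * (e z : G)⁻¹ = x * k * x⁻¹ := by
      rw [← h2, ← hy']; rfl
    calc ((e z : G)⁻¹ * x) * k = (e z : G)⁻¹ * (x * k * x⁻¹) * x := by group
      _ = (e z : G)⁻¹ * ((e z : G) * k * (e z : G)⁻¹) * x := by rw [h3]
      _ = k * ((e z : G)⁻¹ * x) := by group
  have hzt : (e z : G) * t = t * (e z : G) := K_t _ (e z).2
  have h2 : ((e z : G)⁻¹ * x) * t = t * ((e z : G)⁻¹ * x) := by
    have c1 : Commute (e z : G) t := hzt
    have c2 : Commute x t := hxt
    exact (c1.inv_left.mul_left c2).eq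
  refine ⟨z, hz, ?_⟩
  rcases hC _ h2 h1 with h | h
  · left
    exact (inv_mul_eq_one.1 h).symm
  · right
    have h3 : x = (e z : G) * t := inv_mul_eq_iff_eq_mul.1 h
    rw [h3, hzt, ← mul_assoc, tt, one_mul]

/-! ### The unitary groups -/

section U

open Cfsg.Agent.LieClassical.HermBasic Cfsg.Agent.LieClassical.HermSiegel
  Cfsg.Agent.ClassicalGeometry.PSUAutBasic Cfsg.Agent.ClassicalGeometry.PSUAutSylow
  Cfsg.Agent.ClassicalGeometry.PSUAutUnip Cfsg.Agent.KFacts.Unit

variable {F : Type*} [Field F] [Fintype F] {q n : ℕ}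

/-- An element centralising `P0` centralises `QQ u`. -/
theorem comm_QQ [CharP F 2] (hF : Fintype.card F = q ^ 2) (hn : 6 ≤ n) {u : Fin n → F} (hu0 : u ≠ 0)
    (hu : hermForm n F q u u = 0) {x : G} {K U : Subgroup G} (e : PSU n F q ≃* K)
    (hQU : ∀ y ∈ QQ hF u hu, (e y : G) ∈ U) (h : ∀ p ∈ P0 OddGen K U, x * p = p * x) :
    ∀ y ∈ QQ hF u hu, x * (e y : G) = (e y : G) * x := by
  let j : PSU n F q →* G := K.subtype.comp e.toMonoidHom
  have hj : ∀ y, j y = (e y : G) := fun y => rfl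
  have hjK : ∀ y, j y ∈ K := fun y => (e y).2
  have h1 : QQ hF u hu ≤ (centralizer ({x} : Set G)).comap j := by
    apply PZero.QQ_le hF hn hu0 hu
    intro p hp hpp P hP _ hpP hPc
    rw [mem_comap, mem_centralizer_singleton_iff]
    refine (h (j p) ⟨hQU p hp, by rw [← map_mul, hpp, map_one], P.map j, hP.map j, ?_, ⟨p, hpP, rfl⟩, ?_⟩).symm
    · rintro _ ⟨y, -, rfl⟩
      exact hjK y
    · rintro _ ⟨y, hy, rfl⟩
      rw [← map_mul, ← map_mul, hPc y hy]
  intro y hy
  exact (mem_centralizer_singleton_iff.1 (h1 hy)).symm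

/-- **The field `f3` for `PSU n F q`.** -/
theorem f3_U [Finite G] [CharP F 2] (hF : Fintype.card F = q ^ 2) (hn : 6 ≤ n) {u : Fin n → F} (hu0 : u ≠ 0)
    (hu : hermForm n F q u u = 0) {t : G} {K U T X : Subgroup G} (e : PSU n F q ≃* K) (tt : t * t = 1)
    (K_t : ∀ k ∈ K, k * t = t * k) (hKn : ∀ c, c * t = t * c → ∀ k ∈ K, c * k * c⁻¹ ∈ K)
    (hC : ∀ z : G, z * t = t * z → (∀ k ∈ K, z * k = k * z) → z = 1 ∨ z = t)
    (T_t : ∀ x ∈ T, x * t = t * x)
    (hQU : ∀ y ∈ QQ hF u hu, (e y : G) ∈ U) (hRX : ∀ y ∈ RR hF u hu, (e y : G) ∈ X) :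
    ∀ x ∈ T, (∀ p ∈ P0 OddGen K U, x * p = p * x) → x ∈ X ∨ t * x ∈ X := by
  intro x hx h
  obtain ⟨z, hz, h1⟩ := mem_of_aut e (Q := QQ hF u hu) (R := RR hF u hu) (hKn x (T_t x hx)) (T_t x hx) K_t tt hC
    (comm_QQ hF hn hu0 hu e hQU h) (fun α hα => autCent_point hF (by omega) hu0 hu α hα)
  rcases h1 with h1 | h1
  · left; rw [h1]; exact hRX z hz
  · right; rw [h1]; exact hRX z hz

end U

end Cfsg.Agent.OddHalf.D7Out.PZeroU

end
end

private theorem dce_0bca41e6520f : _root_.True := by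
  try have : _root_.True := by simp only [_root_.Cfsg.Agent.OddHalf.D7Out.TwFrame.frY.eq_1]
  try have : _root_.True := by simp only [_root_.Cfsg.Agent.KFacts.Unit.PZero.PO.eq_1]
  try have : _root_.True := by simp only [_root_.Cfsg.Agent.KFacts.Unit.rho.congr_simp]
  exact _root_.True.intro
end

-- part: OddHalf/D9/J2/Row
section
prune_inst 0x400010000000018000000001c02ca000100002f000081000a0006840f0020000720c4e002000002aa440030006811000040400000000000000041180080000a42020240a10021000000b006000000000000000000000000000000000000000000000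
set_option linter.all false
open scoped Cfsg.Agent.FastGrp

-- merged: Cfsg.Agent.OddHalf.D9.J2.Cover
section

/-!
# The double cover of the Hall–Janko group (helper341)

`π : L → X` a perfect double cover with kernel `{1, c}`, `X` with the data `Dat t u Q v ρ`.

* `sq_t`, `sq_u`: the lifts of the conjugates of `t` are involutions, those of the conjugates of `u` have square `c`.
* `Lift`, `exists_lift`: the normal subgroup `⟨Z, e V i⟩ ≅ 2^{1+4}_-` of the preimage of `C(t)`, and `Lift.act`: the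
  action of the automorphisms on it.
-/

set_option autoImplicit false
set_option linter.style.haveILetI false

namespace Cfsg.Agent.OddHalf.D9.J2.Cover

open Subgroup Cfsg.Agent.KFacts.MulTwo Cfsg.Agent.KFacts.MulDef Cfsg.Agent.KFacts.MulSpor.Class
open Cfsg.Agent.J2Type.Model Cfsg.Agent.J2Type.SPFacts Cfsg.Agent.J2Type.CStruct
open Cfsg.Agent.J3Type.OneClass Cfsg.Agent.J2Type.Base Cfsg.Agent.KFacts.J2.Basic
open Cfsg.Agent.KFacts.MulSpor.J3 (map_zp nf_all sp_aux perm_two)
open scoped commutatorElement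

variable {L X : Type*} [Group L] [Group X] {π : L →* X} {c : L} {t u : X}
  {Q : Subgroup (centralizer ({t} : Set X))} {v : Fin 5 → centralizer ({t} : Set X)}
  {ρ : centralizer ({t} : Set X) →* SP}

theorem comm_of (hd : Dbl π c) (D : Dat t u Q v ρ) {Z : L} (hZ : π Z = t) {g : L} (hg : π g * t = t * π g) :
    g * Z = Z * g := comm_of_perfect hd D.perfect hZ hg

/-- commutators of lifts of `v i`, `v j` are involutions -/
theorem comm_sq (hd : Dbl π c) (D : Dat t u Q v ρ) {a b : L} (ha : π a = v 0) (hb : π b = v 1) :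
    π (a * b * a⁻¹ * b⁻¹) = t ∧ (a * b * a⁻¹ * b⁻¹) * (a * b * a⁻¹ * b⁻¹) = 1 := by
  have h1 : π (a * b * a⁻¹ * b⁻¹) = t := by
    rw [map_mul, map_mul, map_mul, map_inv, map_inv, ha, hb, D.v_anti (show (0 : Fin 5) ≠ 1 by decide)]
    group
  refine ⟨h1, ?_⟩
  have hga : π a * t = t * π a := by rw [ha]; exact D.vt 0
  have h2 := comm_of hd D h1 hga
  have h3 : a * a * b = b * (a * a) := by
    have h4 : π (a * a) = 1 := by rw [map_mul, ha, D.vv]
    rcases (hd.ker _).1 h4 with h | h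
    · rw [h, one_mul, mul_one]
    · rw [h, hd.cen]
  set Z := a * b * a⁻¹ * b⁻¹ with hZ
  have h4 : a * b = Z * (b * a) := by rw [hZ]; group
  have h5 : a * (a * b) = Z * Z * (b * (a * a)) := by
    calc a * (a * b) = a * (Z * (b * a)) := by rw [← h4]
      _ = (a * Z) * (b * a) := by group
      _ = Z * (a * b) * a := by rw [h2]; group
      _ = Z * (Z * (b * a)) * a := by rw [← h4]
      _ = _ := by group
  rw [← mul_assoc, h3] at h5
  exact (mul_eq_right.1 h5.symm)

/-- the lifts of the conjugates of `t` are involutions -/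
theorem sq_t (hd : Dbl π c) (D : Dat t u Q v ρ) {x : L} (hx : IsConj t (π x)) : x * x = 1 := by
  obtain ⟨a, ha⟩ := hd.surj (v 0 : X)
  obtain ⟨b, hb⟩ := hd.surj (v 1 : X)
  obtain ⟨h1, h2⟩ := comm_sq hd D ha hb
  obtain ⟨g, hg⟩ := isConj_iff.1 hx
  rw [sq_conj hd (x := a * b * a⁻¹ * b⁻¹) g (by rw [h1, hg]) (by rw [h1, D.tt]), h2]

theorem exists_cls (hd : Dbl π c) {Z : L} (hZ : π Z = t) {a : X} (ha : IsConj t a) : ∃ x ∈ Cls Z, π x = a := by
  obtain ⟨g, hg⟩ := isConj_iff.1 ha
  obtain ⟨g, rfl⟩ := hd.surj g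
  exact ⟨g * Z * g⁻¹, ⟨g, rfl⟩, by rw [map_mul, map_mul, map_inv, hZ, hg]⟩

/-- the lifted extraspecial group -/
structure Lift (π : L →* X) (c : L) (t : X) (v : Fin 5 → centralizer ({t} : Set X)) (Z e : L) (V : Fin 5 → L) :
    Prop where
  πZ : π Z = t
  ZZ : Z * Z = 1
  ec : e = 1 ∨ e = c
  Vcls : ∀ i, V i ∈ Cls Z
  πV : ∀ i, π (V i) = v i
  VV : ∀ i, V i * V i = 1
  Vac : ∀ i j, i ≠ j → V i * V j = Z * (V j * V i)
  prod : V 0 * V 1 * V 2 * V 3 * V 4 = e

theorem exists_lift (hd : Dbl π c) (D : Dat t u Q v ρ) : ∃ (Z e : L) (V : Fin 5 → L), Lift π c t v Z e V := by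
  obtain ⟨a, ha⟩ := hd.surj (v 0 : X)
  obtain ⟨b, hb⟩ := hd.surj (v 1 : X)
  obtain ⟨hZπ, hZZ⟩ := comm_sq hd D ha hb
  set Z := a * b * a⁻¹ * b⁻¹ with hZdef
  have hC := D.perfect
  have hV : ∀ i, ∃ x ∈ Cls Z, π x = v i := fun i => exists_cls hd hZπ (D.isConj_v i)
  choose V hVc hVπ using hV
  have hV2 : ∀ i, V i * V i = 1 := fun i => sq_t hd D (by rw [hVπ]; exact D.isConj_v i)
  -- `Z = [V 0, V 1]`
  have hZ01 : V 0 * V 1 = Z * (V 1 * V 0) := by
    have h1 : a * b = Z * (b * a) := by rw [hZdef]; group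
    have ce : ∀ e : L, (e = 1 ∨ e = c) → ∀ x, e * x = x * e := by
      rintro e (rfl | rfl) x
      · rw [one_mul, mul_one]
      · exact hd.cen x
    have h0 : ∃ e, (e = 1 ∨ e = c) ∧ V 0 = e * a := by
      rcases eq_or hd (x := V 0) (y := a) (by rw [hVπ, ha]) with h | h
      · exact ⟨1, Or.inl rfl, by rw [h, one_mul]⟩
      · exact ⟨c, Or.inr rfl, h⟩
    have h1' : ∃ e, (e = 1 ∨ e = c) ∧ V 1 = e * b := by
      rcases eq_or hd (x := V 1) (y := b) (by rw [hVπ, hb]) with h | h
      · exact ⟨1, Or.inl rfl, by rw [h, one_mul]⟩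
      · exact ⟨c, Or.inr rfl, h⟩
    obtain ⟨e, he, h2⟩ := h0
    obtain ⟨f, hf, h3⟩ := h1'
    have ce1 := ce e he
    have cf1 := ce f hf
    rw [h2, h3]
    calc e * a * (f * b) = e * (a * f) * b := by group
      _ = e * (f * a) * b := by rw [cf1]
      _ = (e * f) * (a * b) := by group
      _ = (e * f) * (Z * (b * a)) := by rw [h1]
      _ = e * (f * Z) * (b * a) := by group
      _ = e * (Z * f) * (b * a) := by rw [cf1]
      _ = (e * Z) * (f * b) * a := by group
      _ = (Z * e) * (f * b) * a := by rw [ce1]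
      _ = Z * (e * (f * b)) * a := by group
      _ = Z * ((f * b) * e) * a := by rw [ce1]
      _ = Z * (f * b * (e * a)) := by group
  have hVac : ∀ i j, i ≠ j → V i * V j = Z * (V j * V i) := by
    intro i j hij
    obtain ⟨σ, hσ, hi, hj⟩ := Cfsg.Agent.KFacts.QMinus.perm_aux 0 1 i j (by decide) hij
    obtain ⟨k, hk⟩ := Cfsg.Agent.KFacts.QMinus.exists_c D.M σ hσ
    obtain ⟨g, hg⟩ := hd.surj (k : X)
    have hgt : π g * t = t * π g := by rw [hg]; exact mem_cent.1 k.2
    have h0 : g * V 0 * g⁻¹ = V i := by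
      apply uniq hd hC hZπ (conj_mem g (hVc 0)) (hVc i)
      rw [map_mul, map_mul, map_inv, hg, hVπ, hVπ, ← hi]
      exact congrArg Subtype.val (hk 0)
    have h1 : g * V 1 * g⁻¹ = V j := by
      apply uniq hd hC hZπ (conj_mem g (hVc 1)) (hVc j)
      rw [map_mul, map_mul, map_inv, hg, hVπ, hVπ, ← hj]
      exact congrArg Subtype.val (hk 1)
    rw [← h0, ← h1]
    calc g * V 0 * g⁻¹ * (g * V 1 * g⁻¹) = g * (V 0 * V 1) * g⁻¹ := by group
      _ = (g * Z) * (V 1 * V 0) * g⁻¹ := by rw [hZ01]; group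
      _ = (Z * g) * (V 1 * V 0) * g⁻¹ := by rw [comm_of hd D hZπ hgt]
      _ = _ := by group
  refine ⟨Z, _, V, ⟨hZπ, hZZ, (hd.ker _).1 ?_, hVc, hVπ, hV2, hVac, rfl⟩⟩
  rw [map_mul, map_mul, map_mul, map_mul, hVπ, hVπ, hVπ, hVπ, hVπ]
  exact congrArg Subtype.val D.M.v_prod

variable {Z e : L} {V : Fin 5 → L}

theorem Lift.e_comm (Λ : Lift π c t v Z e V) (hd : Dbl π c) (x : L) : e * x = x * e := by
  rcases Λ.ec with h | h
  · rw [h, one_mul, mul_one]
  · rw [h]; exact hd.cen x

theorem Lift.ee (Λ : Lift π c t v Z e V) (hd : Dbl π c) : e * e = 1 := by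
  rcases Λ.ec with h | h
  · rw [h, one_mul]
  · rw [h]; exact hd.sq

theorem Lift.πe (Λ : Lift π c t v Z e V) (hd : Dbl π c) : π e = 1 := (hd.ker e).2 Λ.ec

theorem Lift.Z_comm_V (Λ : Lift π c t v Z e V) (hd : Dbl π c) (D : Dat t u Q v ρ) (i : Fin 5) :
    V i * Z = Z * V i := comm_of hd D Λ.πZ (by rw [Λ.πV]; exact D.vt i)

theorem Lift.Z_ne (Λ : Lift π c t v Z e V) (D : Dat t u Q v ρ) : Z ≠ 1 := by
  intro h
  have := Λ.πZ
  rw [h, map_one] at this
  exact D.t_ne this.symm

theorem Lift.π_zp (Λ : Lift π c t v Z e V) (a : ZMod 2) :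
    π (zp Z a) = ((zp (zc t) a : centralizer ({t} : Set X)) : X) := by
  rcases zmod2_cases a with rfl | rfl
  · rw [zp_zero, zp_zero, map_one]; rfl
  · rw [zp_one, zp_one, Λ.πZ]

/-- the elements `Z^a V i` are in the class of `Z` -/
theorem Lift.cls_zp (Λ : Lift π c t v Z e V) (a : ZMod 2) (i : Fin 5) : zp Z a * V i ∈ Cls Z := by
  rcases zmod2_cases a with rfl | rfl
  · rw [zp_zero, one_mul]; exact Λ.Vcls i
  · rw [zp_one]
    obtain ⟨j, hj⟩ : ∃ j : Fin 5, j ≠ i := by
      rcases eq_or_ne i 0 with h | h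
      · exact ⟨1, by rw [h]; decide⟩
      · exact ⟨0, h.symm⟩
    have h4 : V j * V i * (V j)⁻¹ = Z * V i := by
      rw [Λ.Vac j i hj]; group
    rw [← h4]
    exact conj_mem _ (Λ.Vcls i)

/-- the generators of the lifted group -/
def W (e : L) (V : Fin 5 → L) (i : Fin 5) : L := e * V i

theorem Lift.πW (Λ : Lift π c t v Z e V) (hd : Dbl π c) (i : Fin 5) : π (W e V i) = v i := by
  rw [W, map_mul, Λ.πe hd, one_mul, Λ.πV]

theorem Lift.WW (Λ : Lift π c t v Z e V) (hd : Dbl π c) (i : Fin 5) : W e V i * W e V i = 1 := by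
  calc e * V i * (e * V i) = e * (V i * e) * V i := by group
    _ = e * (e * V i) * V i := by rw [← Λ.e_comm hd (V i)]
    _ = (e * e) * (V i * V i) := by group
    _ = 1 := by rw [Λ.ee hd, Λ.VV, one_mul]

theorem Lift.Wac (Λ : Lift π c t v Z e V) (hd : Dbl π c) {i j : Fin 5} (hij : i ≠ j) :
    W e V i * W e V j = Z * (W e V j * W e V i) := by
  have h1 : ∀ a b : L, e * a * (e * b) = a * b := by
    intro a b
    calc e * a * (e * b) = e * (a * e) * b := by group
      _ = e * (e * a) * b := by rw [Λ.e_comm hd a]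
      _ = (e * e) * (a * b) := by group
      _ = a * b := by rw [Λ.ee hd, one_mul]
  rw [W, W, h1, h1, Λ.Vac i j hij]

theorem Lift.WZ (Λ : Lift π c t v Z e V) (hd : Dbl π c) (D : Dat t u Q v ρ) (i : Fin 5) :
    W e V i * Z = Z * W e V i := comm_of hd D Λ.πZ (by rw [Λ.πW hd]; exact D.vt i)

theorem Lift.Wprod (Λ : Lift π c t v Z e V) (hd : Dbl π c) :
    W e V 0 * W e V 1 * W e V 2 * W e V 3 * W e V 4 = 1 := by
  have h2 : ∀ a b : L, e * a * (e * b) = a * b := by
    intro a b
    calc e * a * (e * b) = e * (a * e) * b := by group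
      _ = e * (e * a) * b := by rw [Λ.e_comm hd a]
      _ = (e * e) * (a * b) := by group
      _ = a * b := by rw [Λ.ee hd, one_mul]
  have h1 : W e V 0 * W e V 1 * W e V 2 * W e V 3 * W e V 4 = e * (V 0 * V 1 * V 2 * V 3 * V 4) := by
    simp only [W]
    rw [h2, ← mul_assoc (V 0 * V 1) e, ← Λ.e_comm hd (V 0 * V 1), mul_assoc e, h2,
      ← mul_assoc (V 0 * V 1 * V 2 * V 3) e, ← Λ.e_comm hd (V 0 * V 1 * V 2 * V 3), mul_assoc e]
  rw [h1, Λ.prod, Λ.ee hd]

/-- the lifted group does not contain `c` -/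
theorem Lift.c_notMem (Λ : Lift π c t v Z e V) (hd : Dbl π c) (D : Dat t u Q v ρ) :
    c ∉ closure (Set.range (W e V)) := by
  intro hc
  obtain ⟨a, b0, b1, b2, b3, h⟩ := nf_all Λ.ZZ (Λ.WZ hd D) (Λ.WW hd) (fun i j => Λ.Wac hd) (Λ.Wprod hd) hc
  have h1 := congrArg π h
  rw [(hd.ker c).2 (Or.inr rfl), map_mul, map_mul, map_mul, map_mul, map_zp, map_zp, map_zp, map_zp, map_zp, Λ.πZ,
    Λ.πW hd, Λ.πW hd, Λ.πW hd, Λ.πW hd] at h1
  have h2 : (1 : centralizer ({t} : Set X)) = zp (zc t) a * (zp (v 0) b0 * (zp (v 1) b1 * (zp (v 2) b2 *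
      zp (v 3) b3))) := by
    apply Subtype.ext
    show (1 : X) = (centralizer ({t} : Set X)).subtype (zp (zc t) a * (zp (v 0) b0 * (zp (v 1) b1 * (zp (v 2) b2 *
      zp (v 3) b3))))
    rw [map_mul, map_mul, map_mul, map_mul, map_zp, map_zp, map_zp, map_zp, map_zp]
    exact h1
  have h3 := congrArg ρ h2
  rw [map_one, map_mul, map_mul, map_mul, map_mul, map_zp, map_zp, map_zp, map_zp, map_zp,
    rho_v D.M, rho_v D.M, rho_v D.M, rho_v D.M, rho_z D.M] at h3
  have h4 : zp (1 : SP) a = 1 := by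
    rcases zmod2_cases a with rfl | rfl
    · exact zp_zero _
    · exact zp_one _
  rw [h4, one_mul] at h3
  obtain ⟨rfl, rfl, rfl, rfl⟩ := sp_aux b0 b1 b2 b3 h3.symm
  rw [zp_zero, zp_zero, zp_zero, zp_zero, mul_one, mul_one, mul_one, mul_one] at h
  rcases zmod2_cases a with rfl | rfl
  · rw [zp_zero] at h
    exact hd.ne h
  · rw [zp_one] at h
    have := Λ.πZ
    rw [← h, (hd.ker c).2 (Or.inr rfl)] at this
    exact D.t_ne this.symm

/-- **The action of an automorphism on the lifted group.** -/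
theorem Lift.act (Λ : Lift π c t v Z e V) (hd : Dbl π c) (D : Dat t u Q v ρ) (γ : MulAut L) (hγc : γ c = c)
    (σ : Equiv.Perm (Fin 5)) (s : Fin 5 → ZMod 2)
    (h : ∀ i, π (γ (V i)) = ((zp (zc t) (s i) * v (σ i) : centralizer ({t} : Set X)) : X)) :
    γ Z = Z ∧ ∀ i, γ (W e V i) = zp Z (s i) * W e V (σ i) := by
  have hγe : γ e = e := by
    rcases Λ.ec with h | h
    · rw [h, map_one]
    · rw [h, hγc]
  -- `γ (V i)` up to a central factor
  have h1 : ∀ i, ∃ f : L, (∀ x, f * x = x * f) ∧ γ (V i) = f * (zp Z (s i) * V (σ i)) := by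
    intro i
    have h2 : π (γ (V i)) = π (zp Z (s i) * V (σ i)) := by
      rw [h i, map_mul, Λ.π_zp, Λ.πV]; rfl
    rcases eq_or hd h2 with h3 | h3
    · exact ⟨1, fun x => by rw [one_mul, mul_one], by rw [h3, one_mul]⟩
    · exact ⟨c, hd.cen, h3⟩
  have hzc : ∀ (a : ZMod 2) (i : Fin 5), V i * zp Z a = zp Z a * V i := by
    intro a i
    rcases zmod2_cases a with rfl | rfl
    · rw [zp_zero, one_mul, mul_one]
    · rw [zp_one]; exact Λ.Z_comm_V hd D i
  have hzz : ∀ (a b : ZMod 2), zp Z a * zp Z b = zp Z b * zp Z a := by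
    intro a b
    rw [← zp_add Z Λ.ZZ, ← zp_add Z Λ.ZZ, add_comm]
  have hzZ : ∀ a : ZMod 2, zp Z a * Z = Z * zp Z a := by
    intro a
    rcases zmod2_cases a with rfl | rfl
    · rw [zp_zero, one_mul, mul_one]
    · rw [zp_one]
  have hγZ : γ Z = Z := by
    obtain ⟨f, hf, hf'⟩ := h1 0
    obtain ⟨g, hg, hg'⟩ := h1 1
    have h2 : Z = V 0 * V 1 * (V 0)⁻¹ * (V 1)⁻¹ := by
      rw [Λ.Vac 0 1 (by decide)]; group
    have h3 := congrArg γ (Λ.Vac 0 1 (by decide))
    rw [map_mul, map_mul, map_mul, hf', hg'] at h3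
    -- both sides are `f g z^(s0+s1) V V`
    have e1 : f * (zp Z (s 0) * V (σ 0)) * (g * (zp Z (s 1) * V (σ 1))) =
        f * g * (zp Z (s 0) * zp Z (s 1)) * (V (σ 0) * V (σ 1)) := by
      calc f * (zp Z (s 0) * V (σ 0)) * (g * (zp Z (s 1) * V (σ 1)))
          = f * ((zp Z (s 0) * V (σ 0)) * g) * (zp Z (s 1) * V (σ 1)) := by group
        _ = f * (g * (zp Z (s 0) * V (σ 0))) * (zp Z (s 1) * V (σ 1)) := by rw [hg]
        _ = f * g * zp Z (s 0) * (V (σ 0) * zp Z (s 1)) * V (σ 1) := by group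
        _ = f * g * zp Z (s 0) * (zp Z (s 1) * V (σ 0)) * V (σ 1) := by rw [hzc]
        _ = _ := by group
    have e2 : g * (zp Z (s 1) * V (σ 1)) * (f * (zp Z (s 0) * V (σ 0))) =
        f * g * (zp Z (s 0) * zp Z (s 1)) * (V (σ 1) * V (σ 0)) := by
      calc g * (zp Z (s 1) * V (σ 1)) * (f * (zp Z (s 0) * V (σ 0)))
          = g * ((zp Z (s 1) * V (σ 1)) * f) * (zp Z (s 0) * V (σ 0)) := by group
        _ = g * (f * (zp Z (s 1) * V (σ 1))) * (zp Z (s 0) * V (σ 0)) := by rw [hf]
        _ = (g * f) * zp Z (s 1) * (V (σ 1) * zp Z (s 0)) * V (σ 0) := by group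
        _ = (f * g) * zp Z (s 1) * (zp Z (s 0) * V (σ 1)) * V (σ 0) := by rw [hzc, hf g]
        _ = (f * g) * (zp Z (s 1) * zp Z (s 0)) * (V (σ 1) * V (σ 0)) := by group
        _ = _ := by rw [hzz]
    rw [e1, e2] at h3
    have h4 : σ 0 ≠ σ 1 := fun h => absurd (σ.injective h) (by decide)
    rw [Λ.Vac _ _ h4] at h3
    have h5 : f * g * (zp Z (s 0) * zp Z (s 1)) * (Z * (V (σ 1) * V (σ 0))) =
        Z * (f * g * (zp Z (s 0) * zp Z (s 1)) * (V (σ 1) * V (σ 0))) := by
      calc f * g * (zp Z (s 0) * zp Z (s 1)) * (Z * (V (σ 1) * V (σ 0)))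
          = f * g * (zp Z (s 0) * (zp Z (s 1) * Z)) * (V (σ 1) * V (σ 0)) := by group
        _ = f * g * (zp Z (s 0) * (Z * zp Z (s 1))) * (V (σ 1) * V (σ 0)) := by rw [hzZ]
        _ = f * g * ((zp Z (s 0) * Z) * zp Z (s 1)) * (V (σ 1) * V (σ 0)) := by group
        _ = f * g * ((Z * zp Z (s 0)) * zp Z (s 1)) * (V (σ 1) * V (σ 0)) := by rw [hzZ]
        _ = f * (g * Z) * (zp Z (s 0) * zp Z (s 1)) * (V (σ 1) * V (σ 0)) := by group
        _ = f * (Z * g) * (zp Z (s 0) * zp Z (s 1)) * (V (σ 1) * V (σ 0)) := by rw [hg]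
        _ = (f * Z) * g * (zp Z (s 0) * zp Z (s 1)) * (V (σ 1) * V (σ 0)) := by group
        _ = (Z * f) * g * (zp Z (s 0) * zp Z (s 1)) * (V (σ 1) * V (σ 0)) := by rw [hf]
        _ = _ := by group
    rw [h5] at h3
    exact (mul_right_cancel h3).symm
  refine ⟨hγZ, fun i => ?_⟩
  have h2 : γ (V i) = zp Z (s i) * V (σ i) := by
    apply uniq hd D.perfect Λ.πZ
    · obtain ⟨g, hg⟩ := Λ.Vcls i
      exact ⟨γ g, by rw [← hg, map_mul, map_mul, map_inv, hγZ]⟩
    · exact Λ.cls_zp _ _
    · rw [h i, map_mul, Λ.π_zp, Λ.πV]; rfl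
  rw [W, W, map_mul, hγe, h2]
  calc e * (zp Z (s i) * V (σ i)) = (e * zp Z (s i)) * V (σ i) := by group
    _ = (zp Z (s i) * e) * V (σ i) := by rw [Λ.e_comm hd]
    _ = _ := by group


/-! ### The lifts of the conjugates of `u` -/

/-- the preimage of `C(t)` -/
def Pre (π : L →* X) (t : X) : Subgroup L := (centralizer ({t} : Set X)).comap π

theorem mem_Pre {g : L} : g ∈ Pre π t ↔ π g * t = t * π g := mem_cent

theorem c_mem_Pre (hd : Dbl π c) : c ∈ Pre π t := by
  rw [mem_Pre, (hd.ker c).2 (Or.inr rfl), one_mul, mul_one]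

theorem index_Pre [Finite X] (hd : Dbl π c) (D : Dat t u Q v ρ) : (Pre π t).index = 315 := by
  rw [Pre, index_comap_of_surjective _ hd.surj, D.index]

/-- the action of the preimage of `C(t)` -/
theorem Lift.act_conj (Λ : Lift π c t v Z e V) (hd : Dbl π c) (D : Dat t u Q v ρ) {g : L}
    (hg : π g * t = t * π g) (i : Fin 5) :
    g * W e V i * g⁻¹ = zp Z ((ρ ⟨π g, mem_cent.2 hg⟩).s i) * W e V ((ρ ⟨π g, mem_cent.2 hg⟩).σ i) := by
  refine (Λ.act hd D (MulAut.conj g) ?_ (ρ ⟨π g, mem_cent.2 hg⟩).σ (ρ ⟨π g, mem_cent.2 hg⟩).s ?_).2 i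
  · show g * c * g⁻¹ = c
    rw [← hd.cen g, mul_inv_cancel_right]
  · intro i
    rw [← D.M.conj]
    show π (g * V i * g⁻¹) = _
    rw [map_mul, map_mul, map_inv, Λ.πV]
    rfl

theorem Lift.Z_mem (Λ : Lift π c t v Z e V) (hd : Dbl π c) : Z ∈ closure (Set.range (W e V)) := by
  have h1 : Z = W e V 0 * W e V 1 * (W e V 0)⁻¹ * (W e V 1)⁻¹ := by
    rw [Λ.Wac hd (show (0 : Fin 5) ≠ 1 by decide)]; group
  have hW : ∀ i, W e V i ∈ closure (Set.range (W e V)) := fun i => subset_closure ⟨i, rfl⟩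
  rw [h1]
  exact mul_mem (mul_mem (mul_mem (hW 0) (hW 1)) (inv_mem (hW 0))) (inv_mem (hW 1))

theorem Lift.norm (Λ : Lift π c t v Z e V) (hd : Dbl π c) (D : Dat t u Q v ρ) {g : L}
    (hg : π g * t = t * π g) : ∀ x ∈ closure (Set.range (W e V)), g * x * g⁻¹ ∈ closure (Set.range (W e V)) := by
  intro x hx
  induction hx using closure_induction with
  | mem x hx =>
    obtain ⟨i, rfl⟩ := hx
    rw [Λ.act_conj hd D hg i]
    exact mul_mem (zp_mem _ Z (Λ.Z_mem hd) _) (subset_closure ⟨_, rfl⟩)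
  | one => rw [mul_one, mul_inv_cancel]; exact one_mem _
  | mul x y _ _ ihx ihy =>
    have : g * (x * y) * g⁻¹ = (g * x * g⁻¹) * (g * y * g⁻¹) := by group
    rw [this]; exact mul_mem ihx ihy
  | inv x _ ih =>
    have : g * x⁻¹ * g⁻¹ = (g * x * g⁻¹)⁻¹ := by group
    rw [this]; exact inv_mem ih

theorem Lift.lift_mem (Λ : Lift π c t v Z e V) (hd : Dbl π c) (D : Dat t u Q v ρ) {q : centralizer ({t} : Set X)}
    (hq : q ∈ Q) : ∃ y ∈ closure (Set.range (W e V)), π y = (q : X) := by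
  have h1 : Q ≤ ((closure (Set.range (W e V))).map π).comap (centralizer ({t} : Set X)).subtype := by
    apply Cfsg.Agent.KFacts.QMinus.Q_le D.M
    intro i
    exact ⟨W e V i, subset_closure ⟨i, rfl⟩, Λ.πW hd i⟩
  obtain ⟨y, hy, hy'⟩ := h1 hq
  exact ⟨y, hy, hy'⟩

/-- a Sylow 2-subgroup of the preimage of `C(t)` -/
theorem exists_T [Finite L] [Finite X] (hd : Dbl π c) (D : Dat t u Q v ρ) : ∃ T : Subgroup L, c ∈ T ∧ T ≤ Pre π t ∧
    IsPGroup 2 T ∧ ¬ 2 ∣ T.index := by
  have hp : Fact (Nat.Prime 2) := ⟨Nat.prime_two⟩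
  have h1 : IsPGroup 2 (zpowers (⟨c, c_mem_Pre hd⟩ : Pre π t)) := by
    rw [IsPGroup.iff_card]
    refine ⟨1, ?_⟩
    rw [Nat.card_zpowers, pow_one]
    exact orderOf_eq_prime (by rw [pow_two]; exact Subtype.ext hd.sq) (fun h => hd.ne (congrArg Subtype.val h))
  obtain ⟨S, hS⟩ := h1.exists_le_sylow
  refine ⟨(S : Subgroup (Pre π t)).map (Pre π t).subtype, ⟨⟨c, c_mem_Pre hd⟩, hS (mem_zpowers _), rfl⟩,
    map_subtype_le _, S.isPGroup'.map _, ?_⟩
  rw [index_map_subtype]
  intro h
  rcases (Nat.Prime.dvd_mul Nat.prime_two).1 h with h | h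
  · exact S.not_dvd_index h
  · rw [index_Pre hd D] at h
    omega

/-- the lifts of the conjugates of `u` have square `c` -/
theorem sq_u [Finite L] [Finite X] (hd : Dbl π c) (D : Dat t u Q v ρ) {x : L} (hx : IsConj u (π x)) :
    x * x = c := by
  by_contra hne
  obtain ⟨g, hg⟩ := isConj_iff.1 hx
  have hxx : x * x = 1 := by
    refine (sq_or hd ?_).resolve_right hne
    rw [← hg]
    calc g * u * g⁻¹ * (g * u * g⁻¹) = g * (u * u) * g⁻¹ := by group
      _ = 1 := by rw [D.uu]; group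
  -- all lifts of conjugates of `u` are involutions
  have hall : ∀ y : L, IsConj u (π y) → y * y = 1 := by
    intro y hy
    obtain ⟨k, hk⟩ := isConj_iff.1 (hx.symm.trans hy)
    rw [sq_conj hd k hk ?_, hxx]
    rw [← map_mul, hxx, map_one]
  obtain ⟨Z, e, V, Λ⟩ := exists_lift hd D
  obtain ⟨T, hcT, hTP, hTp, hTi⟩ := exists_T hd D
  refine false_of_squares hd.toCtr hcT hTi (Q₁ := closure (Set.range (W e V)) ⊓ T) inf_le_right ?_
    (fun h => Λ.c_notMem hd D h.1)
  intro x hx
  refine ⟨?_, mul_mem hx hx⟩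
  have hxt := mem_Pre.1 (hTP hx)
  set k : centralizer ({t} : Set X) := ⟨π x, mem_cent.2 hxt⟩ with hk
  have hs : Equiv.Perm.sign (ρ k).σ = 1 := ((D.M.range (ρ k)).1 ⟨k, rfl⟩).1
  have hσ : (ρ k).σ * (ρ k).σ = 1 := by
    obtain ⟨n, hn⟩ := hTp ⟨x, hx⟩
    have hn' : x ^ (2 ^ n) = 1 := congrArg Subtype.val hn
    have hk1 : k ^ (2 ^ n) = 1 := by
      apply Subtype.ext
      rw [SubmonoidClass.coe_pow]
      show π x ^ (2 ^ n) = 1
      rw [← map_pow, hn', map_one]
    apply perm_two hs (n := n)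
    have h1 : ∀ m : ℕ, (ρ k ^ m).σ = (ρ k).σ ^ m := by
      intro m
      induction m with
      | zero => rw [pow_zero, pow_zero]; rfl
      | succ m ih => rw [pow_succ, pow_succ, mul_σ, ih]
    rw [← h1, ← map_pow, hk1, map_one]; rfl
  obtain ⟨w, hw2, hwσ, hw3⟩ : ∃ w : centralizer ({t} : Set X), w * w = 1 ∧ (ρ w).σ = (ρ k).σ ∧
      (w = 1 ∨ w ∉ Q) := by
    by_cases h1 : (ρ k).σ = 1
    · exact ⟨1, one_mul _, by rw [h1, map_one]; rfl, Or.inl rfl⟩
    · obtain ⟨w, hw⟩ := (D.M.range ⟨(ρ k).σ, fun _ => 0⟩).2 ⟨hs, by simp⟩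
      refine ⟨w, sq_of_rho_sq D.M (u := ⟨u, D.u_mem⟩) (Subtype.ext D.uu) D.u_notMem ?_ ?_, by rw [hw], Or.inr ?_⟩
      · rw [hw]
        apply SP.ext
        · rw [mul_σ, hσ]; rfl
        · funext i
          rw [mul_s]
          show (0 : ZMod 2) + 0 = 0
          rw [add_zero]
      · rw [hw]; exact h1
      · rw [D.M.mem_Q, hw]; exact h1
  obtain ⟨U, hU⟩ : ∃ U : L, π U = (w : X) ∧ U * U = 1 := by
    rcases hw3 with h | h
    · exact ⟨1, by rw [h, map_one]; rfl, one_mul _⟩
    · obtain ⟨U, hU⟩ := hd.surj (w : X)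
      exact ⟨U, hU, hall U (by rw [hU]; exact D.isConj_outer hw2 h)⟩
  obtain ⟨hU, hU2⟩ := hU
  have hUt : π U * t = t * π U := by rw [hU]; exact mem_cent.1 w.2
  have hkw : k * w⁻¹ ∈ Q := by
    rw [D.M.mem_Q, map_mul, map_inv, mul_σ, inv_σ, hwσ, mul_inv_cancel]
  obtain ⟨y', hy', hπy⟩ := Λ.lift_mem hd D hkw
  have hxy : π (x * U⁻¹) = π y' := by
    rw [hπy, map_mul, map_inv, hU]; rfl
  have hUi : U⁻¹ = U := inv_eq_of_mul_eq_one_left hU2
  have e1 : ∀ f : L, (∀ y, y * f = f * y) → f * f = 1 → x * U⁻¹ = f * y' →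
      x * x ∈ closure (Set.range (W e V)) := by
    intro f hf hff h
    have h1 : x = f * y' * U := by rw [← h]; group
    have h2 : x * x = y' * (U * y' * U⁻¹) := by
      rw [h1]
      calc f * y' * U * (f * y' * U) = f * y' * (U * f) * y' * U := by group
        _ = f * y' * (f * U) * y' * U := by rw [hf]
        _ = f * (y' * f) * U * y' * U := by group
        _ = f * (f * y') * U * y' * U := by rw [hf]
        _ = (f * f) * (y' * (U * y' * U)) := by group
        _ = _ := by rw [hff, one_mul, hUi]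
    rw [h2]
    exact mul_mem hy' (Λ.norm hd D hUt y' hy')
  rcases eq_or hd hxy with h | h
  · exact e1 1 (fun y => by rw [one_mul, mul_one]) (one_mul _) (by rw [one_mul]; exact h)
  · exact e1 c (fun y => (hd.cen y).symm) hd.sq h

end Cfsg.Agent.OddHalf.D9.J2.Cover

end

-- merged: Cfsg.Agent.OddHalf.D9.J2.Facts
section

/-!
# Facts on the double cover of the Hall–Janko group (helper341)

`KF c N`: the list of facts on `K` and its central involution `c` used in `Kill.lean`.
`kf`: they hold for the double cover of a group of Hall–Janko type, with `N = 64`.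
-/

set_option autoImplicit false
set_option linter.style.haveILetI false

namespace Cfsg.Agent.OddHalf.D9.J2.Facts

open Subgroup Cfsg.Agent.KFacts.MulTwo Cfsg.Agent.KFacts.MulDef Cfsg.Agent.KFacts.MulSpor.Class
open Cfsg.Agent.J2Type.Model Cfsg.Agent.J2Type.SPFacts Cfsg.Agent.J2Type.CStruct
open Cfsg.Agent.J3Type.OneClass Cfsg.Agent.J2Type.Base Cfsg.Agent.KFacts.J2.Basic
open Cfsg.Agent.OddHalf.D9.J2.Cover
open scoped commutatorElement

/-- The facts on `K` and its central involution `c`. -/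
structure KF {L : Type*} [Group L] (c : L) (N : ℕ) : Prop where
  ne : c ≠ 1
  sq : c * c = 1
  cen : ∀ x, c * x = x * c
  perf : commutator L = ⊤
  /-- noncentral involutions: `c` lies in a perfect subgroup `Y` of the centraliser and has many square roots in `Y` -/
  inv1 : ∀ e : L, e * e = 1 → e ≠ 1 → e ≠ c → ∃ Y : Subgroup L, ⁅Y, Y⁆ = Y ∧ (∀ y ∈ Y, y * e = e * y) ∧ c ∈ Y ∧
    N < Nat.card {x : L // x ∈ Y ∧ x * x = c}
  /-- noncentral involutions have few square roots -/
  inv2 : ∀ e : L, e * e = 1 → e ≠ 1 → e ≠ c → Nat.card {x : L // x * x = e} ≤ N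
  /-- square roots of `c` -/
  four : ∀ w : L, w * w = c → ∃ Y : Subgroup L, ⁅Y, Y⁆ = Y ∧ (∀ y ∈ Y, y * w = w * y) ∧
    ∃ x ∈ Y, x ≠ 1 ∧ ∃ k, k * w * k⁻¹ = w * x
  /-- `Out` has exponent 2 -/
  aut_sq : ∀ α : MulAut L, α c = c → ∃ k, α * α = MulAut.conj k
  /-- outer automorphisms of order 2 -/
  aut_out : ∀ α : MulAut L, α c = c → α * α = 1 → (∀ k, α ≠ MulAut.conj k) →
    ∃ y w, α y = y ∧ y * y ≠ 1 ∧ α w = y * y * w

variable {L X : Type*} [Group L] [Group X] {π : L →* X} {c : L} {t u : X}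
  {Q : Subgroup (centralizer ({t} : Set X))} {v : Fin 5 → centralizer ({t} : Set X)}
  {ρ : centralizer ({t} : Set X) →* SP}

/-! ### Induced automorphisms -/

theorem exists_bar (hd : Dbl π c) (α : MulAut L) (hα : α c = c) : ∃ β : MulAut X, ∀ x, β (π x) = π (α x) := by
  let f : L →* X := π.comp α.toMonoidHom
  have hf : Function.Surjective f := hd.surj.comp α.surjective
  have hk : π.ker = f.ker := by
    ext x
    rw [MonoidHom.mem_ker, MonoidHom.mem_ker]
    show π x = 1 ↔ π (α x) = 1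
    rw [hd.ker, hd.ker]
    constructor
    · rintro (h | h)
      · left; rw [h, map_one]
      · right; rw [h, hα]
    · rintro (h | h)
      · left; exact (map_eq_one_iff α α.injective).1 h
      · right
        apply α.injective
        rw [h, hα]
  refine ⟨(QuotientGroup.quotientKerEquivOfSurjective π hd.surj).symm.trans
    ((QuotientGroup.quotientMulEquivOfEq hk).trans (QuotientGroup.quotientKerEquivOfSurjective f hf)), ?_⟩
  intro x
  have h1 : (QuotientGroup.quotientKerEquivOfSurjective π hd.surj).symm (π x) = QuotientGroup.mk x := by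
    rw [MulEquiv.symm_apply_eq]; rfl
  show (QuotientGroup.quotientKerEquivOfSurjective f hf) ((QuotientGroup.quotientMulEquivOfEq hk)
    ((QuotientGroup.quotientKerEquivOfSurjective π hd.surj).symm (π x))) = _
  rw [h1]
  rfl

theorem eq_one_of_bar (hd : Dbl π c) (γ : MulAut L) (h : ∀ x, π (γ x) = π x) : γ = 1 := by
  let N : Subgroup L :=
    { carrier := {x | γ x = x}
      one_mem' := map_one γ
      mul_mem' := fun {a b} ha hb => by
        show γ (a * b) = a * b
        rw [map_mul, show γ a = a from ha, show γ b = b from hb]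
      inv_mem' := fun {a} ha => by
        show γ a⁻¹ = a⁻¹
        rw [map_inv, show γ a = a from ha] }
  have hN : N = ⊤ := by
    rw [eq_top_iff, ← hd.perf, _root_.commutator_def, Subgroup.commutator_le]
    intro a _ b _
    have key : ∀ x, ∃ f : L, (∀ y, f * y = y * f) ∧ γ x = f * x := by
      intro x
      rcases eq_or hd (h x) with h1 | h1
      · exact ⟨1, fun y => by rw [one_mul, mul_one], by rw [h1, one_mul]⟩
      · exact ⟨c, hd.cen, h1⟩
    obtain ⟨f, hf, hf'⟩ := key a
    obtain ⟨g, hg, hg'⟩ := key b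
    show γ ⁅a, b⁆ = ⁅a, b⁆
    rw [map_commutatorElement, hf', hg', commutatorElement_def, commutatorElement_def]
    calc f * a * (g * b) * (f * a)⁻¹ * (g * b)⁻¹ = f * (a * g) * b * a⁻¹ * f⁻¹ * b⁻¹ * g⁻¹ := by group
      _ = f * (g * a) * b * a⁻¹ * f⁻¹ * b⁻¹ * g⁻¹ := by rw [hg a]
      _ = (f * (g * a * b * a⁻¹)) * f⁻¹ * b⁻¹ * g⁻¹ := by group
      _ = ((g * a * b * a⁻¹) * f) * f⁻¹ * b⁻¹ * g⁻¹ := by rw [hf]
      _ = (g * (a * b * a⁻¹ * b⁻¹)) * g⁻¹ := by group
      _ = ((a * b * a⁻¹ * b⁻¹) * g) * g⁻¹ := by rw [hg]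
      _ = _ := by group
  ext x
  have : x ∈ N := by rw [hN]; trivial
  exact this

/-- an automorphism inducing an inner automorphism is inner -/
theorem inner_of_bar (hd : Dbl π c) (α : MulAut L) (k : L) (h : ∀ x, π (α x) = π k * π x * (π k)⁻¹) :
    α = MulAut.conj k := by
  have h1 : (MulAut.conj k)⁻¹ * α = 1 := by
    apply eq_one_of_bar hd
    intro x
    rw [Cfsg.Agent.KFacts.OutQ.conj_inv_mul_apply, map_mul, map_mul, map_inv, h]
    group
  exact (inv_mul_eq_one.1 h1).symm

/-! ### Perfect subgroups -/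

theorem perfect_commutator (hd : Dbl π c) {M : Subgroup L} (hM : ⁅M.map π, M.map π⁆ = M.map π) :
    ⁅⁅M, M⁆, ⁅M, M⁆⁆ = ⁅M, M⁆ ∧ (⁅M, M⁆ : Subgroup L).map π = M.map π := by
  have h1 : (⁅M, M⁆ : Subgroup L).map π = M.map π := by rw [map_commutator, hM]
  refine ⟨le_antisymm (commutator_le_self _) ?_, h1⟩
  rw [commutator_le (H₁ := M)]
  intro a ha b hb
  have key : ∀ x ∈ M, ∃ f y : L, (∀ w, f * w = w * f) ∧ y ∈ (⁅M, M⁆ : Subgroup L) ∧ x = f * y := by
    intro x hx
    have h2 : π x ∈ (⁅M, M⁆ : Subgroup L).map π := by rw [h1]; exact mem_map_of_mem π hx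
    obtain ⟨y, hy, hyx⟩ := h2
    rcases eq_or hd hyx.symm with h | h
    · exact ⟨1, y, fun w => by rw [one_mul, mul_one], hy, by rw [h, one_mul]⟩
    · exact ⟨c, y, hd.cen, hy, h⟩
  obtain ⟨f, a', hf, ha', rfl⟩ := key a ha
  obtain ⟨g, b', hg, hb', rfl⟩ := key b hb
  have h2 : ⁅f * a', g * b'⁆ = ⁅a', b'⁆ := by
    rw [commutatorElement_def, commutatorElement_def]
    calc f * a' * (g * b') * (f * a')⁻¹ * (g * b')⁻¹ = f * (a' * g) * b' * a'⁻¹ * f⁻¹ * b'⁻¹ * g⁻¹ := by group
      _ = f * (g * a') * b' * a'⁻¹ * f⁻¹ * b'⁻¹ * g⁻¹ := by rw [hg a']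
      _ = (f * (g * a' * b' * a'⁻¹)) * f⁻¹ * b'⁻¹ * g⁻¹ := by group
      _ = ((g * a' * b' * a'⁻¹) * f) * f⁻¹ * b'⁻¹ * g⁻¹ := by rw [hf]
      _ = (g * (a' * b' * a'⁻¹ * b'⁻¹)) * g⁻¹ := by group
      _ = ((a' * b' * a'⁻¹ * b'⁻¹) * g) * g⁻¹ := by rw [hg]
      _ = _ := by group
  rw [h2]
  exact commutator_mem_commutator ha' hb'

theorem map_Pre (hd : Dbl π c) : (Pre π t).map π = centralizer ({t} : Set X) :=
  map_comap_eq_self_of_surjective hd.surj _

theorem perf_C (D : Dat t u Q v ρ) [Finite X] :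
    ⁅centralizer ({t} : Set X), centralizer ({t} : Set X)⁆ = centralizer ({t} : Set X) :=
  (Cfsg.Agent.KFacts.QMinus.sheet D.cardC D.M).perf

theorem perf_Pre [Finite L] [Finite X] (hd : Dbl π c) (D : Dat t u Q v ρ) : ⁅Pre π t, Pre π t⁆ = Pre π t := by
  have hM : ⁅(Pre π t).map π, (Pre π t).map π⁆ = (Pre π t).map π := by rw [map_Pre hd, perf_C D]
  obtain ⟨-, h1⟩ := perfect_commutator hd hM
  have hc : c ∈ ⁅Pre π t, Pre π t⁆ := by
    have h2 := hd.toCtr.hom_eq_one (c_mem_Pre hd) (by rw [index_Pre hd D]; omega)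
      (Abelianization.of : Pre π t →* Abelianization (Pre π t))
    have h3 : (⟨c, c_mem_Pre hd⟩ : Pre π t) ∈ commutator (Pre π t) := by
      rw [← Abelianization.ker_of, MonoidHom.mem_ker]
      exact h2
    have h4 : c ∈ (commutator (Pre π t)).map (Pre π t).subtype := ⟨_, h3, rfl⟩
    rwa [_root_.commutator_def, map_commutator, ← MonoidHom.range_eq_map, range_subtype] at h4
  refine le_antisymm (commutator_le_self _) ?_
  intro x hx
  have h2 : π x ∈ (⁅Pre π t, Pre π t⁆ : Subgroup L).map π := by rw [h1]; exact mem_map_of_mem π hx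
  obtain ⟨y, hy, hyx⟩ := h2
  rcases eq_or hd hyx.symm with h | h
  · rw [h]; exact hy
  · rw [h]; exact mul_mem hc hy

theorem perf_map {Y : Subgroup L} (h : ⁅Y, Y⁆ = Y) (g : L) :
    ⁅Y.map (MulAut.conj g).toMonoidHom, Y.map (MulAut.conj g).toMonoidHom⁆ = Y.map (MulAut.conj g).toMonoidHom := by
  rw [← map_commutator, h]

/-! ### Involutions -/

theorem not_one_or_c (hd : Dbl π c) {e : L} (he1 : e ≠ 1) (hec : e ≠ c) : π e ≠ 1 := fun h =>
  ((hd.ker e).1 h).elim he1 hec

/-- a noncentral involution is a lift of a conjugate of `t` -/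
theorem isConj_of_inv [Finite L] [Finite X] (hd : Dbl π c) (D : Dat t u Q v ρ) {e : L} (he : e * e = 1)
    (he1 : e ≠ 1) (hec : e ≠ c) : IsConj t (π e) := by
  have h1 : orderOf (π e) = 2 := orderOf_two (by rw [← map_mul, he, map_one]) (not_one_or_c hd he1 hec)
  rcases D.F.cover _ h1 with h | h
  · exact h
  · exfalso
    have := sq_u hd D h
    rw [he] at this
    exact hd.ne this.symm

theorem card_ker (hd : Dbl π c) : Nat.card π.ker = 2 := by
  have h1 : (π.ker : Set L) = {1, c} := by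
    ext x
    exact hd.ker x
  have h2 : Nat.card π.ker = (π.ker : Set L).ncard := rfl
  rw [h2, h1, Set.ncard_pair hd.ne.symm]

theorem card_L [Finite L] [Finite X] (hd : Dbl π c) (D : Dat t u Q v ρ) : Nat.card L = 604800 * 2 := by
  rw [card_eq_card_quotient_mul_card_subgroup π.ker, card_ker hd,
    Nat.card_congr (QuotientGroup.quotientKerEquivOfSurjective π hd.surj).toEquiv, D.card]

theorem card_preQ [Finite L] [Finite X] (hd : Dbl π c) (D : Dat t u Q v ρ) :
    Nat.card ((Q.map (centralizer ({t} : Set X)).subtype).comap π) = 64 := by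
  have h1 := ((Q.map (centralizer ({t} : Set X)).subtype).comap π).card_mul_index
  have h2 := (Q.map (centralizer ({t} : Set X)).subtype).card_mul_index
  have h3 : Nat.card (Q.map (centralizer ({t} : Set X)).subtype) = 32 := by
    rw [card_map_of_injective (centralizer ({t} : Set X)).subtype_injective, D.cardQ]
  rw [index_comap_of_surjective _ hd.surj, card_L hd D] at h1
  rw [h3, D.card] at h2
  have h4 : (Q.map (centralizer ({t} : Set X)).subtype).index = 18900 := by omega
  rw [h4] at h1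
  omega

/-- square roots of `t` lie in `Q` -/
theorem mem_Q_of_sq (D : Dat t u Q v ρ) {y : X} (hy : y * y = t) :
    y ∈ Q.map (centralizer ({t} : Set X)).subtype := by
  have hyc : y * t = t * y := by rw [← hy]; group
  set w : centralizer ({t} : Set X) := ⟨y, mem_cent.2 hyc⟩ with hw
  have h1 : w * w = zc t := Subtype.ext hy
  have h2 : ρ w * ρ w = 1 := by rw [← map_mul, h1, rho_z D.M]
  refine ⟨w, ?_, rfl⟩
  show w ∈ Q
  rw [D.M.mem_Q]
  by_contra hσ
  have h3 := sq_of_rho_sq D.M (u := ⟨u, D.u_mem⟩) (Subtype.ext D.uu) D.u_notMem h2 hσ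
  rw [h1] at h3
  exact D.t_ne (congrArg Subtype.val h3)

theorem inv2 [Finite L] [Finite X] (hd : Dbl π c) (D : Dat t u Q v ρ) {e : L} (he : e * e = 1)
    (he1 : e ≠ 1) (hec : e ≠ c) : Nat.card {x : L // x * x = e} ≤ 64 := by
  obtain ⟨g, hg⟩ := isConj_iff.1 (isConj_of_inv hd D he he1 hec)
  obtain ⟨g, rfl⟩ := hd.surj g
  rw [← card_preQ hd D]
  refine Nat.card_le_card_of_injective (fun x => ⟨g⁻¹ * x.1 * g, ?_⟩) ?_
  · apply mem_Q_of_sq D
    show π (g⁻¹ * x.1 * g) * π (g⁻¹ * x.1 * g) = t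
    have h1 : g⁻¹ * x.1 * g * (g⁻¹ * x.1 * g) = g⁻¹ * e * g := by
      calc g⁻¹ * x.1 * g * (g⁻¹ * x.1 * g) = g⁻¹ * (x.1 * x.1) * g := by group
        _ = _ := by rw [x.2]
    rw [← map_mul, h1, map_mul, map_mul, map_inv, ← hg]
    group
  · intro x y h
    have h1 : g⁻¹ * x.1 * g = g⁻¹ * y.1 * g := congrArg Subtype.val h
    exact Subtype.ext (mul_left_cancel (mul_right_cancel h1))

theorem inv1 [Finite L] [Finite X] (hd : Dbl π c) (D : Dat t u Q v ρ) {e : L} (he : e * e = 1)
    (he1 : e ≠ 1) (hec : e ≠ c) : ∃ Y : Subgroup L, ⁅Y, Y⁆ = Y ∧ (∀ y ∈ Y, y * e = e * y) ∧ c ∈ Y ∧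
    64 < Nat.card {x : L // x ∈ Y ∧ x * x = c} := by
  obtain ⟨g, hg⟩ := isConj_iff.1 (isConj_of_inv hd D he he1 hec)
  obtain ⟨g, rfl⟩ := hd.surj g
  have hgc : g * c * g⁻¹ = c := by rw [← hd.cen g, mul_inv_cancel_right]
  refine ⟨(Pre π t).map (MulAut.conj g).toMonoidHom, perf_map (perf_Pre hd D) g, ?_, ⟨c, c_mem_Pre hd, hgc⟩, ?_⟩
  · rintro _ ⟨y, hy, rfl⟩
    show g * y * g⁻¹ * e = e * (g * y * g⁻¹)
    have h1 : π (g⁻¹ * e * g) = t := by rw [map_mul, map_mul, map_inv, ← hg]; group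
    have h2 := comm_of hd D h1 (mem_Pre.1 hy)
    calc g * y * g⁻¹ * e = g * (y * (g⁻¹ * e * g)) * g⁻¹ := by group
      _ = g * (g⁻¹ * e * g * y) * g⁻¹ := by rw [h2]
      _ = e * (g * y * g⁻¹) := by group
  · have h3 : 120 ≤ Nat.card {x : L // x ∈ (Pre π t).map (MulAut.conj g).toMonoidHom ∧ x * x = c} := by
      rw [← D.F.card120]
      have key : ∀ y : {y : X // IsConj u y ∧ y * t = t * y}, ∃ x : L, π x = y.1 := fun y => hd.surj _
      choose f hf using key
      refine Nat.card_le_card_of_injective (fun y => ⟨g * f y * g⁻¹, ⟨f y, ?_, rfl⟩, ?_⟩) ?_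
      · show f y ∈ Pre π t
        rw [mem_Pre, hf]
        exact y.2.2
      · calc g * f y * g⁻¹ * (g * f y * g⁻¹) = g * (f y * f y) * g⁻¹ := by group
          _ = c := by rw [sq_u hd D (x := f y) (by rw [hf]; exact y.2.1), hgc]
      · intro y y' h
        have h1 : g * f y * g⁻¹ = g * f y' * g⁻¹ := congrArg Subtype.val h
        have h2 : f y = f y' := mul_left_cancel (mul_right_cancel h1)
        apply Subtype.ext
        rw [← hf y, ← hf y', h2]
    omega


/-! ### Square roots of `c` -/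

theorem perf_A5 {H0 : Subgroup X} (h : Nonempty (H0 ≃* alternatingGroup (Fin 5))) : ⁅H0, H0⁆ = H0 := by
  obtain ⟨e⟩ := h
  have h1 : commutator (alternatingGroup (Fin 5)) = ⊤ := by
    have h2 := commutator_alternatingGroup_eq_self (α := Fin 5) (by simp)
    rw [eq_top_iff]
    intro x _
    have h3 : (x : Equiv.Perm (Fin 5)) ∈ (commutator (alternatingGroup (Fin 5))).map
        (alternatingGroup (Fin 5)).subtype := by
      rw [_root_.commutator_def, map_commutator, ← MonoidHom.range_eq_map, range_subtype, h2]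
      exact x.2
    obtain ⟨y, hy, hyx⟩ := h3
    have : y = x := Subtype.ext hyx
    rw [← this]; exact hy
  have h2 : commutator H0 = ⊤ :=
    commutator_top_of_surj e.symm.toMonoidHom e.symm.surjective h1
  have h3 := congrArg (Subgroup.map H0.subtype) h2
  rw [_root_.commutator_def, map_commutator, ← MonoidHom.range_eq_map, range_subtype] at h3
  exact h3

/-- an element of `K` commuting up to `c` with the elements of `M` commutes with `M'` -/
theorem comm_commutator (hd : Dbl π c) {M : Subgroup L} {w : L} (h : ∀ y ∈ M, y * w = w * y ∨ y * w = c * (w * y)) :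
    ∀ y ∈ (⁅M, M⁆ : Subgroup L), y * w = w * y := by
  have h1 : (⁅M, M⁆ : Subgroup L) ≤ centralizer ({w} : Set L) := by
    rw [commutator_le]
    intro a ha b hb
    rw [mem_centralizer_singleton_iff]
    have h' : ∀ y ∈ M, ∃ e : L, (∀ x, e * x = x * e) ∧ y * w * y⁻¹ = e * w := by
      intro y hy
      rcases h y hy with h2 | h2
      · exact ⟨1, fun x => by rw [one_mul, mul_one], by rw [h2]; group⟩
      · exact ⟨c, hd.cen, by rw [h2]; group⟩
    obtain ⟨e, he, he'⟩ := h' a ha
    obtain ⟨f, hf, hf'⟩ := h' b hb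
    have ha' : a⁻¹ * w * a = e⁻¹ * w := by
      calc a⁻¹ * w * a = a⁻¹ * (e⁻¹ * (e * w)) * a := by group
        _ = a⁻¹ * (e⁻¹ * (a * w * a⁻¹)) * a := by rw [he']
        _ = (e * a)⁻¹ * (a * w) := by group
        _ = (a * e)⁻¹ * (a * w) := by rw [he]
        _ = e⁻¹ * w := by group
    have hb' : b⁻¹ * w * b = f⁻¹ * w := by
      calc b⁻¹ * w * b = b⁻¹ * (f⁻¹ * (f * w)) * b := by group
        _ = b⁻¹ * (f⁻¹ * (b * w * b⁻¹)) * b := by rw [hf']
        _ = (f * b)⁻¹ * (b * w) := by group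
        _ = (b * f)⁻¹ * (b * w) := by rw [hf]
        _ = f⁻¹ * w := by group
    have ci : ∀ x, e⁻¹ * x = x * e⁻¹ := fun x => by
      rw [inv_mul_eq_iff_eq_mul, ← mul_assoc, he, mul_inv_cancel_right]
    have fi : ∀ x, f⁻¹ * x = x * f⁻¹ := fun x => by
      rw [inv_mul_eq_iff_eq_mul, ← mul_assoc, hf, mul_inv_cancel_right]
    have h3 : ⁅a, b⁆ * w * ⁅a, b⁆⁻¹ = w := by
      rw [commutatorElement_def]
      calc a * b * a⁻¹ * b⁻¹ * w * (a * b * a⁻¹ * b⁻¹)⁻¹ = a * b * (a⁻¹ * (b⁻¹ * w * b) * a) * b⁻¹ * a⁻¹ := by group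
        _ = a * b * (a⁻¹ * (f⁻¹ * w) * a) * b⁻¹ * a⁻¹ := by rw [hb']
        _ = a * b * ((a⁻¹ * f⁻¹) * w * a) * b⁻¹ * a⁻¹ := by group
        _ = a * b * ((f⁻¹ * a⁻¹) * w * a) * b⁻¹ * a⁻¹ := by rw [fi]
        _ = a * b * (f⁻¹ * (a⁻¹ * w * a)) * b⁻¹ * a⁻¹ := by group
        _ = a * b * (f⁻¹ * (e⁻¹ * w)) * b⁻¹ * a⁻¹ := by rw [ha']
        _ = a * (b * f⁻¹ * e⁻¹) * w * b⁻¹ * a⁻¹ := by group
        _ = a * (f⁻¹ * b * e⁻¹) * w * b⁻¹ * a⁻¹ := by rw [fi b]
        _ = a * (f⁻¹ * (b * e⁻¹)) * w * b⁻¹ * a⁻¹ := by group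
        _ = a * (f⁻¹ * (e⁻¹ * b)) * w * b⁻¹ * a⁻¹ := by rw [ci b]
        _ = a * (f⁻¹ * e⁻¹) * (b * w * b⁻¹) * a⁻¹ := by group
        _ = a * (f⁻¹ * e⁻¹) * (f * w) * a⁻¹ := by rw [hf']
        _ = a * f⁻¹ * (e⁻¹ * f) * w * a⁻¹ := by group
        _ = a * f⁻¹ * (f * e⁻¹) * w * a⁻¹ := by rw [ci f]
        _ = (a * e⁻¹) * w * a⁻¹ := by group
        _ = (e⁻¹ * a) * w * a⁻¹ := by rw [ci a]
        _ = e⁻¹ * (a * w * a⁻¹) := by group
        _ = e⁻¹ * (e * w) := by rw [he']
        _ = w := by group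
    exact mul_inv_eq_iff_eq_mul.1 h3
  intro y hy
  exact mem_centralizer_singleton_iff.1 (h1 hy)

/-- square roots of `c` -/
theorem four' [Finite L] [Finite X] (hd : Dbl π c) (D : Dat t u Q v ρ) {w : L} (hw : w * w = c) :
    ∃ Y : Subgroup L, ⁅Y, Y⁆ = Y ∧ (∀ y ∈ Y, y * w = w * y) ∧ ∃ x ∈ Y, IsConj t (π x) ∧
      ∃ k, k * w * k⁻¹ = w * x := by
  obtain ⟨f, U, V, H0, FF⟩ := Cfsg.Agent.J2Type.CentU.main D.F
  obtain ⟨-, -, h60, hA5⟩ := Cfsg.Agent.J2Type.Order.order_of_fus D.F FF.str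
  obtain ⟨û, hû⟩ := hd.surj u
  have hûc : û * û = c := sq_u hd D (by rw [hû])
  -- a second involution of `V`
  obtain ⟨b, hbV, hb1, hbu⟩ : ∃ b ∈ V, b ≠ 1 ∧ b ≠ u := by
    by_contra hcon
    push Not at hcon
    have h1 : (V : Set X) ⊆ {1, u} := by
      intro x hx
      by_cases h : x = 1
      · exact Or.inl h
      · exact Or.inr (hcon x hx h)
    have h2 : Nat.card V = (V : Set X).ncard := rfl
    have h3 := Set.ncard_le_ncard h1 (Set.toFinite _)
    have h4 := Set.ncard_insert_le (1 : X) {u}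
    rw [Set.ncard_singleton] at h4
    have h5 := FF.cardV
    omega
  obtain ⟨b', hb'⟩ := hd.surj b
  have hb'c : b' * b' = c := sq_u hd D (by rw [hb']; exact Cfsg.Agent.J2Type.Cent5.isConj_of_mem_V D.F FF hbV hb1)
  have hub : (û * b') * (û * b') = c := by
    apply sq_u hd D
    rw [map_mul, hû, hb']
    apply Cfsg.Agent.J2Type.Cent5.isConj_of_mem_V D.F FF (mul_mem FF.uV hbV)
    intro h
    apply hbu
    calc b = u * u * b := by rw [D.uu, one_mul]
      _ = u * (u * b) := by group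
      _ = u := by rw [h, mul_one]
  -- `b' û b'⁻¹ = c û`
  have hswap : b' * û * b'⁻¹ = c * û := by
    have h1 : û * (b' * û * b'⁻¹) = 1 := by
      calc û * (b' * û * b'⁻¹) = (û * b') * (û * b') * (b' * b')⁻¹ := by group
        _ = 1 := by rw [hub, hb'c, mul_inv_cancel]
    have h2 : û * (c * û) = 1 := by
      calc û * (c * û) = (û * c) * û := by group
        _ = (c * û) * û := by rw [hd.cen]
        _ = c * (û * û) := by group
        _ = 1 := by rw [hûc, hd.sq]
    exact mul_left_cancel (h1.trans h2.symm)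
  -- all square roots of `c` are conjugate to `û`
  have hconj : ∀ w : L, w * w = c → ∃ g, g * û * g⁻¹ = w := by
    intro w hw
    have h1 : orderOf (π w) = 2 := by
      refine orderOf_two (by rw [← map_mul, hw]; exact (hd.ker c).2 (Or.inr rfl)) ?_
      intro h
      rcases (hd.ker w).1 h with h | h
      · rw [h, one_mul] at hw; exact hd.ne hw.symm
      · rw [h, hd.sq] at hw; exact hd.ne hw.symm
    rcases D.F.cover _ h1 with h | h
    · exfalso
      have := sq_t hd D h
      rw [hw] at this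
      exact hd.ne this
    · obtain ⟨g, hg⟩ := isConj_iff.1 h
      obtain ⟨g, rfl⟩ := hd.surj g
      rcases eq_or hd (x := g * û * g⁻¹) (y := w) (by rw [map_mul, map_mul, map_inv, hû, hg]) with h2 | h2
      · exact ⟨g, h2⟩
      · refine ⟨g * b', ?_⟩
        calc g * b' * û * (g * b')⁻¹ = g * (b' * û * b'⁻¹) * g⁻¹ := by group
          _ = (g * c) * û * g⁻¹ := by rw [hswap]; group
          _ = (c * g) * û * g⁻¹ := by rw [hd.cen]
          _ = c * (g * û * g⁻¹) := by group
          _ = (c * c) * w := by rw [h2]; group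
          _ = w := by rw [hd.sq, one_mul]
  -- the perfect subgroup
  set M : Subgroup L := H0.comap π with hM
  have hMπ : M.map π = H0 := map_comap_eq_self_of_surjective hd.surj _
  obtain ⟨hp1, hp2⟩ := perfect_commutator hd (M := M) (by rw [hMπ]; exact perf_A5 hA5)
  have hcomm : ∀ y ∈ (⁅M, M⁆ : Subgroup L), y * û = û * y := by
    apply comm_commutator hd
    intro y hy
    apply comm_or hd
    rw [hû]
    exact mem_cent.1 (FF.str.le hy)
  -- a lift of `t`
  obtain ⟨x, hxM, hxt⟩ : ∃ x ∈ (⁅M, M⁆ : Subgroup L), π x = t := by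
    have h1 : t ∈ (⁅M, M⁆ : Subgroup L).map π := by
      rw [hp2, hMπ]
      exact FF.U_le FF.zU
    exact h1
  have hxx : x * x = 1 := sq_t hd D (by rw [hxt])
  obtain ⟨k, hk⟩ := hconj (û * x) (by
    calc û * x * (û * x) = û * (x * û) * x := by group
      _ = û * (û * x) * x := by rw [hcomm x hxM]
      _ = (û * û) * (x * x) := by group
      _ = c := by rw [hûc, hxx, mul_one])
  -- the general case
  obtain ⟨g, rfl⟩ := hconj w hw
  refine ⟨(⁅M, M⁆ : Subgroup L).map (MulAut.conj g).toMonoidHom, perf_map hp1 g, ?_, g * x * g⁻¹, ⟨x, hxM, rfl⟩, ?_,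
    g * k * g⁻¹, ?_⟩
  · rintro _ ⟨y, hy, rfl⟩
    show g * y * g⁻¹ * (g * û * g⁻¹) = g * û * g⁻¹ * (g * y * g⁻¹)
    calc g * y * g⁻¹ * (g * û * g⁻¹) = g * (y * û) * g⁻¹ := by group
      _ = g * (û * y) * g⁻¹ := by rw [hcomm y hy]
      _ = _ := by group
  · exact isConj_iff.2 ⟨π g, by rw [map_mul, map_mul, map_inv, hxt]⟩
  · calc g * k * g⁻¹ * (g * û * g⁻¹) * (g * k * g⁻¹)⁻¹ = g * (k * û * k⁻¹) * g⁻¹ := by group
      _ = g * (û * x) * g⁻¹ := by rw [hk]
      _ = _ := by group

theorem four [Finite L] [Finite X] (hd : Dbl π c) (D : Dat t u Q v ρ) {w : L} (hw : w * w = c) :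
    ∃ Y : Subgroup L, ⁅Y, Y⁆ = Y ∧ (∀ y ∈ Y, y * w = w * y) ∧ ∃ x ∈ Y, x ≠ 1 ∧ ∃ k, k * w * k⁻¹ = w * x := by
  obtain ⟨Y, h1, h2, x, hx, hxt, k, hk⟩ := four' hd D hw
  refine ⟨Y, h1, h2, x, hx, ?_, k, hk⟩
  rintro rfl
  rw [map_one] at hxt
  exact D.t_ne (isConj_one_left.1 hxt)

/-! ### Automorphisms -/

theorem aut_sq [Finite X] (hd : Dbl π c) (D : Dat t u Q v ρ) {α : MulAut L} (hα : α c = c) :
    ∃ k, α * α = MulAut.conj k := by
  obtain ⟨β, hβ⟩ := exists_bar hd α hα
  obtain ⟨k, hk⟩ := D.sq_inner β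
  obtain ⟨k, rfl⟩ := hd.surj k
  refine ⟨k, inner_of_bar hd _ k ?_⟩
  intro x
  show π (α (α x)) = _
  rw [← hβ, ← hβ]
  have := congrArg (fun γ : MulAut X => γ (π x)) hk
  exact this

theorem perm_aux : ∀ σ : Equiv.Perm (Fin 5), Equiv.Perm.sign σ = -1 → σ * σ = 1 →
    ∃ i j a b d : Fin 5, i ≠ j ∧ σ i = j ∧ σ j = i ∧ a ≠ b ∧ b ≠ d ∧ a ≠ d ∧ σ a = a ∧ σ b = b ∧ σ d = d := by
  (set_option synthInstance.maxSize 9000 in open scoped Cfsg.Agent.Lib.FastPerm in decide +kernel)

theorem three_aux : ∀ x y z : ZMod 2, x = y ∨ y = z ∨ x = z := by decide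

/-- outer automorphisms of order 2 -/
theorem aut_out' [Finite L] [Finite X] (hd : Dbl π c) (D : Dat t u Q v ρ) {α : MulAut L} (hα : α c = c)
    (hαα : α * α = 1) (hout : ∀ k, α ≠ MulAut.conj k) :
    ∃ y w, α y = y ∧ IsConj t (π (y * y)) ∧ α w = y * y * w := by
  obtain ⟨β, hβ⟩ := exists_bar hd α hα
  have hααx : ∀ x, α (α x) = x := fun x => by
    have := congrArg (fun γ : MulAut L => γ x) hαα
    exact this
  have hββ : ∀ x, β (β x) = x := by
    intro x
    obtain ⟨x, rfl⟩ := hd.surj x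
    rw [hβ, hβ, hααx]
  -- a fixed conjugate of `t`
  obtain ⟨s, hs, hβs⟩ : ∃ s, IsConj t s ∧ β s = s := by
    classical
    haveI : Fintype {y : X // ∃ k : X, k * t * k⁻¹ = y} := Fintype.ofFinite _
    have hcard : Nat.card {y : X // ∃ k : X, k * t * k⁻¹ = y} = 315 := by
      have h1 := card_conj t
      have h2 : Nat.card {k : X // k * t = t * k} = 1920 := by
        rw [← D.cardC]
        exact Nat.card_congr (Equiv.subtypeEquivRight fun k => mem_cent.symm)
      rw [h2, D.card] at h1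
      omega
    have hcl : ∀ y : X, (∃ k : X, k * t * k⁻¹ = y) ↔ IsConj t y := fun y => isConj_iff.symm
    have hmap : ∀ y : X, (∃ k : X, k * t * k⁻¹ = y) → ∃ k : X, k * t * k⁻¹ = β y := by
      intro y hy
      rw [hcl] at hy ⊢
      exact (D.isConj_aut β).trans (isConj_map β hy)
    let σ : Equiv.Perm {y : X // ∃ k : X, k * t * k⁻¹ = y} :=
      { toFun := fun y => ⟨β y.1, hmap y.1 y.2⟩
        invFun := fun y => ⟨β y.1, hmap y.1 y.2⟩
        left_inv := fun y => Subtype.ext (hββ y.1)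
        right_inv := fun y => Subtype.ext (hββ y.1) }
    haveI : Fact (Nat.Prime 2) := ⟨Nat.prime_two⟩
    obtain ⟨a, ha⟩ := Equiv.Perm.exists_fixed_point_of_prime (p := 2) (n := 1)
      (by rw [← Nat.card_eq_fintype_card, hcard]; omega) (σ := σ) (by
        rw [pow_one, pow_two]
        ext y
        exact hββ y.1)
    exact ⟨a.1, (hcl _).1 a.2, congrArg Subtype.val ha⟩
  obtain ⟨g, hg⟩ := isConj_iff.1 hs
  obtain ⟨g, rfl⟩ := hd.surj g
  -- `γ = conj g⁻¹ α conj g` fixes `t`
  set γ : MulAut L := (MulAut.conj g)⁻¹ * α * MulAut.conj g with hγ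
  have hγx : ∀ x, γ x = g⁻¹ * α (g * x * g⁻¹) * g := by
    intro x
    show (MulAut.conj g)⁻¹ (α (g * x * g⁻¹)) = _
    rw [← map_inv, MulAut.conj_apply, inv_inv]
  have hγc : γ c = c := by
    rw [hγx, ← hd.cen g, mul_inv_cancel_right, hα, mul_assoc, hd.cen g, inv_mul_cancel_left]
  have hγγ : ∀ x, γ (γ x) = x := by
    intro x
    rw [hγx, hγx]
    have h1 : g * (g⁻¹ * α (g * x * g⁻¹) * g) * g⁻¹ = α (g * x * g⁻¹) := by group
    rw [h1, hααx]; group
  obtain ⟨δ, hδ⟩ := exists_bar hd γ hγc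
  have hδt : δ t = t := by
    obtain ⟨τ, hτ⟩ := hd.surj t
    have h1 := hδ τ
    rw [hτ] at h1
    have h2 : π (g * τ * g⁻¹) = s := by rw [map_mul, map_mul, map_inv, hτ, hg]
    rw [h1, hγx, map_mul, map_mul, map_inv, ← hβ, h2, hβs, ← hg]
    group
  have hδδ : ∀ x, δ (δ x) = x := by
    intro x
    obtain ⟨x, rfl⟩ := hd.surj x
    rw [hδ, hδ, hγγ]
  obtain ⟨σ, s', hσ⟩ := D.exists_act δ hδt
  -- `σ` is odd
  have hodd : Equiv.Perm.sign σ = -1 := by
    rcases Int.units_eq_one_or (Equiv.Perm.sign σ) with h | h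
    · exfalso
      obtain ⟨k, hk⟩ := D.inner_of_even δ hδt σ s' hσ h
      obtain ⟨k, rfl⟩ := hd.surj k
      have h1 : γ = MulAut.conj k := by
        apply inner_of_bar hd
        intro x
        rw [← hδ, hk]; rfl
      apply hout (g * k * g⁻¹)
      rw [map_mul, map_mul, ← h1, hγ, map_inv]
      group
    · exact h
  have hinvol : ∀ i, σ (σ i) = i ∧ s' i + s' (σ i) = 0 := by
    intro i
    have h1 := hδδ (v i)
    rw [hσ i] at h1
    have h2 : δ ((zp (zc t) (s' i) : centralizer ({t} : Set X)) : X) =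
        ((zp (zc t) (s' i) : centralizer ({t} : Set X)) : X) := by
      rcases zmod2_cases (s' i) with h | h
      · rw [h, zp_zero]; exact map_one δ
      · rw [h, zp_one]; exact hδt
    have h3 : ((zp (zc t) (s' i) * (zp (zc t) (s' (σ i)) * v (σ (σ i))) : centralizer ({t} : Set X)) : X) = v i := by
      rw [← h1]
      show ((zp (zc t) (s' i) : centralizer ({t} : Set X)) : X) *
        ((zp (zc t) (s' (σ i)) * v (σ (σ i)) : centralizer ({t} : Set X)) : X) =
        δ (((zp (zc t) (s' i) : centralizer ({t} : Set X)) : X) * v (σ i))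
      rw [map_mul, h2, hσ (σ i)]
    have h4 : zp (zc t) (s' i + s' (σ i)) * v (σ (σ i)) = zp (zc t) 0 * v i := by
      rw [zp_zero, one_mul, zp_add (zc t) D.M.z_sq, mul_assoc]
      exact Subtype.ext h3
    have h5 := D.M.v_inj _ _ _ _ h4
    exact ⟨h5.2, h5.1⟩
  have hσσ : σ * σ = 1 := by
    ext i
    show ((σ (σ i) : Fin 5) : ℕ) = i
    rw [(hinvol i).1]
  obtain ⟨Z, e, V, Λ⟩ := exists_lift hd D
  obtain ⟨hγZ, hact⟩ := Λ.act hd D γ hγc σ s' (by
    intro i
    rw [← hδ, Λ.πV, hσ i])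
  have hzc : ∀ (a : ZMod 2) (i : Fin 5), W e V i * zp Z a = zp Z a * W e V i := by
    intro a i
    rcases zmod2_cases a with rfl | rfl
    · rw [zp_zero, one_mul, mul_one]
    · rw [zp_one]; exact Λ.WZ hd D i
  have hpair : ∀ i j, γ (W e V i * W e V j) = zp Z (s' i + s' j) * (W e V (σ i) * W e V (σ j)) := by
    intro i j
    rw [map_mul, hact i, hact j]
    calc zp Z (s' i) * W e V (σ i) * (zp Z (s' j) * W e V (σ j))
        = zp Z (s' i) * (W e V (σ i) * zp Z (s' j)) * W e V (σ j) := by group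
      _ = zp Z (s' i) * (zp Z (s' j) * W e V (σ i)) * W e V (σ j) := by rw [hzc]
      _ = _ := by rw [zp_add Z Λ.ZZ]; group
  obtain ⟨i, j, a, b, d, hij, hi, hj, hab, hbd, had, ha, hb, hd'⟩ := perm_aux σ hodd hσσ
  -- two fixed indices with the same sign
  obtain ⟨k, l, hkl, hk, hl, hskl⟩ : ∃ k l, k ≠ l ∧ σ k = k ∧ σ l = l ∧ s' k = s' l := by
    rcases three_aux (s' a) (s' b) (s' d) with h | h | h
    · exact ⟨a, b, hab, ha, hb, h⟩
    · exact ⟨b, d, hbd, hb, hd', h⟩
    · exact ⟨a, d, had, ha, hd', h⟩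
  have hsij : s' i + s' j = 0 := by rw [← hi]; exact (hinvol i).2
  have hskl' : s' k + s' l = 0 := by rw [hskl]; exact CharTwo.add_self_eq_zero _
  have hsq : ∀ i j, i ≠ j → W e V i * W e V j * (W e V i * W e V j) = Z := by
    intro i j hij
    calc W e V i * W e V j * (W e V i * W e V j) = Z * (W e V j * W e V i) * (W e V i * W e V j) := by
          rw [← Λ.Wac hd hij]
      _ = Z * (W e V j * (W e V i * W e V i) * W e V j) := by group
      _ = Z := by rw [Λ.WW hd, mul_one, Λ.WW hd, mul_one]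
  -- the elements for `γ`
  have hy : γ (W e V k * W e V l) = W e V k * W e V l := by
    rw [hpair, hskl', zp_zero, one_mul, hk, hl]
  have hw : γ (W e V i * W e V j) = Z * (W e V i * W e V j) := by
    rw [hpair, hsij, zp_zero, one_mul, hi, hj, Λ.Wac hd hij.symm]
  -- back to `α`
  have hback : ∀ x y, γ x = y → α (g * x * g⁻¹) = g * y * g⁻¹ := by
    intro x y h
    rw [← h, hγx]; group
  refine ⟨g * (W e V k * W e V l) * g⁻¹, g * (W e V i * W e V j) * g⁻¹, hback _ _ hy, ?_, ?_⟩
  · have h1 : g * (W e V k * W e V l) * g⁻¹ * (g * (W e V k * W e V l) * g⁻¹) =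
        g * (W e V k * W e V l * (W e V k * W e V l)) * g⁻¹ := by group
    rw [h1, hsq k l hkl, map_mul, map_mul, map_inv, Λ.πZ]
    exact isConj_iff.2 ⟨π g, rfl⟩
  · rw [hback _ _ hw, ← hsq k l hkl]
    group

theorem aut_out [Finite L] [Finite X] (hd : Dbl π c) (D : Dat t u Q v ρ) {α : MulAut L} (hα : α c = c)
    (hαα : α * α = 1) (hout : ∀ k, α ≠ MulAut.conj k) : ∃ y w, α y = y ∧ y * y ≠ 1 ∧ α w = y * y * w := by
  obtain ⟨y, w, h1, h2, h3⟩ := aut_out' hd D hα hαα hout
  refine ⟨y, w, h1, ?_, h3⟩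
  intro h
  rw [h, map_one] at h2
  exact D.t_ne (isConj_one_left.1 h2)

/-- **The facts.** -/
theorem kf [Finite L] [Finite X] (hd : Dbl π c) (D : Dat t u Q v ρ) : KF c 64 where
  ne := hd.ne
  sq := hd.sq
  cen := hd.cen
  perf := hd.perf
  inv1 := fun _ he he1 hec => inv1 hd D he he1 hec
  inv2 := fun _ he he1 hec => inv2 hd D he he1 hec
  four := fun _ hw => four hd D hw
  aut_sq := fun _ hα => aut_sq hd D hα
  aut_out := fun _ h1 h2 h3 => aut_out hd D h1 h2 h3

end Cfsg.Agent.OddHalf.D9.J2.Facts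

end

-- merged: Cfsg.Agent.OddHalf.D9.J2.Kill
section

/-!
# D9, `K = 2.J₂`: the end (helper341)

`false_of_kf`: `G` simple, `z` an involution of `K ≤ G`, `K` normal in `C(z)`, all perfect subgroups of `C(z)` in `K`,
`z` the only involution of `C(K)`, `Z(K) = {1, z}`, and `K` has the properties `KF z N`: impossible.
-/

set_option autoImplicit false

namespace Cfsg.Agent.OddHalf.D9.J2.Kill

open Subgroup Cfsg.Agent.OddHalf.D9.J2.Facts

variable {G : Type*} [Group G]

/-- Conjugation by an element normalising `K`. -/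
def conjAut {K : Subgroup G} (h : G) (h1 : ∀ k ∈ K, h * k * h⁻¹ ∈ K) (h2 : ∀ k ∈ K, h⁻¹ * k * h ∈ K) :
    MulAut ↥K where
  toFun x := ⟨h * x * h⁻¹, h1 x x.2⟩
  invFun x := ⟨h⁻¹ * x * h, h2 x x.2⟩
  left_inv x := Subtype.ext (by
    show h⁻¹ * (h * x * h⁻¹) * h = x
    group)
  right_inv x := Subtype.ext (by
    show h * (h⁻¹ * x * h) * h⁻¹ = x
    group)
  map_mul' x y := Subtype.ext (by
    show h * (x * y) * h⁻¹ = h * x * h⁻¹ * (h * y * h⁻¹)
    group)

/-- `x ∈ K C(K)` -/
def InKR (K : Subgroup G) (x : G) : Prop := ∃ k ∈ K, ∃ r : G, (∀ y ∈ K, r * y = y * r) ∧ x = k * r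

/-- the setting -/
structure Setup (z : G) (K : Subgroup G) (hzK : z ∈ K) (N : ℕ) : Prop where
  kf : KF (⟨z, hzK⟩ : K) N
  norm : ∀ h, h * z = z * h → ∀ k ∈ K, h * k * h⁻¹ ∈ K
  perf : ∀ Y : Subgroup G, ⁅Y, Y⁆ = Y → (∀ y ∈ Y, y * z = z * y) → Y ≤ K
  inv : ∀ r, (∀ k ∈ K, r * k = k * r) → r * r = 1 → r = 1 ∨ r = z
  cen : ∀ k ∈ K, (∀ x ∈ K, k * x = x * k) → k = 1 ∨ k = z

section

variable {z : G} {K : Subgroup G} {hzK : z ∈ K} {N : ℕ}

theorem Setup.z_ne (S : Setup z K hzK N) : z ≠ 1 := fun h => S.kf.ne (Subtype.ext h)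

theorem Setup.zz (S : Setup z K hzK N) : z * z = 1 := congrArg Subtype.val S.kf.sq

theorem Setup.norm' (S : Setup z K hzK N) {h : G} (hh : h * z = z * h) : ∀ k ∈ K, h⁻¹ * k * h ∈ K := by
  intro k hk
  have h1 : h⁻¹ * z = z * h⁻¹ := by
    rw [inv_mul_eq_iff_eq_mul, ← mul_assoc, hh, mul_inv_cancel_right]
  have := S.norm h⁻¹ h1 k hk
  rwa [inv_inv] at this

theorem sq_conj {x y : G} (hx : x * x = 1) (h : IsConj x y) : y * y = 1 := by
  obtain ⟨g, hg⟩ := isConj_iff.1 h
  rw [← hg]
  calc g * x * g⁻¹ * (g * x * g⁻¹) = g * (x * x) * g⁻¹ := by group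
    _ = 1 := by rw [hx]; group

theorem ne_conj {x y : G} (hx : x ≠ 1) (h : IsConj x y) : y ≠ 1 := by
  obtain ⟨g, hg⟩ := isConj_iff.1 h
  rw [← hg]
  exact fun h => hx (conj_eq_one_iff.1 h)

/-- (I1) -/
theorem Setup.inK [Finite G] (S : Setup z K hzK N) : ∀ k ∈ K, IsConj z k → k = z := by
  intro e heK he
  by_contra hne
  obtain ⟨g, hg⟩ := isConj_iff.1 he
  have hee := sq_conj S.zz he
  have he1 := ne_conj S.z_ne he
  obtain ⟨Y, hY, hYe, hcY, hN⟩ := S.kf.inv1 ⟨e, heK⟩ (Subtype.ext hee) (fun h => he1 (congrArg Subtype.val h))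
    (fun h => hne (congrArg Subtype.val h))
  -- `g⁻¹ Y g ≤ K`
  have hYK : (Y.map K.subtype).map (MulAut.conj g⁻¹).toMonoidHom ≤ K := by
    apply S.perf
    · rw [← map_commutator, ← map_commutator, hY]
    · rintro _ ⟨_, ⟨y, hy, rfl⟩, rfl⟩
      show g⁻¹ * (y : G) * g⁻¹⁻¹ * z = z * (g⁻¹ * (y : G) * g⁻¹⁻¹)
      have h1 : (y : G) * e = e * y := congrArg Subtype.val (hYe y hy)
      rw [← hg] at h1
      calc g⁻¹ * (y : G) * g⁻¹⁻¹ * z = g⁻¹ * (y * (g * z * g⁻¹)) * g := by group
        _ = g⁻¹ * (g * z * g⁻¹ * y) * g := by rw [h1]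
        _ = _ := by group
  have hmem : ∀ y ∈ Y, g⁻¹ * (y : G) * g ∈ K := by
    intro y hy
    have h1 : g⁻¹ * (y : G) * g = (MulAut.conj g⁻¹).toMonoidHom (y : G) := by
      show g⁻¹ * (y : G) * g = g⁻¹ * (y : G) * g⁻¹⁻¹
      rw [inv_inv]
    rw [h1]
    exact hYK ⟨_, ⟨y, hy, rfl⟩, rfl⟩
  have hz' : g⁻¹ * z * g ∈ K := hmem _ hcY
  have hz'1 : g⁻¹ * z * g ≠ 1 := by
    intro h
    apply S.z_ne
    calc z = g * (g⁻¹ * z * g) * g⁻¹ := by group
      _ = 1 := by rw [h]; group
  have hz'z : g⁻¹ * z * g ≠ z := by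
    intro h
    apply hne
    rw [← hg]
    calc g * z * g⁻¹ = g * (g⁻¹ * z * g) * g⁻¹ := by rw [h]
      _ = z := by group
  have hz'2 : g⁻¹ * z * g * (g⁻¹ * z * g) = 1 := by
    calc g⁻¹ * z * g * (g⁻¹ * z * g) = g⁻¹ * (z * z) * g := by group
      _ = 1 := by rw [S.zz]; group
  have h2 := S.kf.inv2 ⟨g⁻¹ * z * g, hz'⟩ (Subtype.ext hz'2) (fun h => hz'1 (congrArg Subtype.val h))
    (fun h => hz'z (congrArg Subtype.val h))
  have h3 : Nat.card {x : K // x ∈ Y ∧ x * x = ⟨z, hzK⟩} ≤
      Nat.card {x : K // x * x = ⟨g⁻¹ * z * g, hz'⟩} := by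
    refine Nat.card_le_card_of_injective (fun x => ⟨⟨g⁻¹ * x.1 * g, hmem x.1 x.2.1⟩, ?_⟩) ?_
    · apply Subtype.ext
      show g⁻¹ * (x.1 : G) * g * (g⁻¹ * (x.1 : G) * g) = g⁻¹ * z * g
      have h4 : (x.1 : G) * x.1 = z := congrArg Subtype.val x.2.2
      calc g⁻¹ * (x.1 : G) * g * (g⁻¹ * (x.1 : G) * g) = g⁻¹ * ((x.1 : G) * x.1) * g := by group
        _ = _ := by rw [h4]
    · intro x y h
      have h4 : g⁻¹ * (x.1 : G) * g = g⁻¹ * (y.1 : G) * g := congrArg (fun w => ((w.1 : K) : G)) h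
      exact Subtype.ext (Subtype.ext (mul_left_cancel (mul_right_cancel h4)))
  omega

/-- (I2) -/
theorem Setup.inKR [Finite G] (S : Setup z K hzK N) {e : G} (he : IsConj z e) (hKR : InKR K e) : e = z := by
  by_contra hne
  obtain ⟨v, hv, r, hr, rfl⟩ := hKR
  have hee := sq_conj S.zz he
  have hvr : r * v = v * r := hr v hv
  have h1 : v * v * (r * r) = 1 := by
    calc v * v * (r * r) = v * (v * r) * r := by group
      _ = v * (r * v) * r := by rw [hvr]
      _ = 1 := by rw [← hee]; group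
  have hvc : v * v = 1 ∨ v * v = z := by
    apply S.cen _ (mul_mem hv hv)
    intro x hx
    have h2 : v * v = (r * r)⁻¹ := eq_inv_of_mul_eq_one_left h1
    have h3 : r * r * x = x * (r * r) := by
      calc r * r * x = r * (r * x) := by group
        _ = r * (x * r) := by rw [hr x hx]
        _ = (r * x) * r := by group
        _ = (x * r) * r := by rw [hr x hx]
        _ = _ := by group
    rw [h2, inv_mul_eq_iff_eq_mul, ← mul_assoc, h3, mul_inv_cancel_right]
  rcases hvc with hvc | hvc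
  · -- `e ∈ K`
    rw [hvc, one_mul] at h1
    apply hne
    apply S.inK _ _ he
    rcases S.inv r hr h1 with h | h
    · rw [h, mul_one]; exact hv
    · rw [h]; exact mul_mem hv hzK
  · obtain ⟨Y, hY, hYv, x, hx, hx1, k, hk⟩ := S.kf.four ⟨v, hv⟩ (Subtype.ext hvc)
    obtain ⟨g, hg⟩ := isConj_iff.1 he.symm
    -- `g (v r) g⁻¹ = z`
    have hge : v * r = g⁻¹ * z * g := by rw [← hg]; group
    have hk' : (k : G) * v * (k : G)⁻¹ = v * x := congrArg Subtype.val hk
    have hkr : r * k = k * r := hr k k.2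
    have hxr : r * (x : G) = x * r := hr x x.2
    refine Cfsg.Agent.OddHalf.D9.ExTrick.false_of_pair (z := z) (g := g) (K := K) hzK S.perf S.inK ?_
      (Y := Y.map K.subtype) (by
        show ⁅Y.map K.subtype, Y.map K.subtype⁆ = Y.map K.subtype
        rw [← map_commutator, hY]) ?_ (x := x) ⟨x, hx, rfl⟩ (fun h => hx1 (Subtype.ext h)) (Or.inr ?_)
    · intro h
      have h2 := S.inK _ h (isConj_iff.2 ⟨g, rfl⟩)
      apply hne
      rw [hge]
      calc g⁻¹ * z * g = g⁻¹ * (g * z * g⁻¹) * g := by rw [h2]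
        _ = z := by group
    · rintro _ ⟨y, hy, rfl⟩
      show (y : G) * (g⁻¹ * z * g) = g⁻¹ * z * g * y
      rw [← hge]
      have h2 : (y : G) * v = v * y := congrArg Subtype.val (hYv y hy)
      calc (y : G) * (v * r) = (y * v) * r := by group
        _ = v * (y * r) := by rw [h2]; group
        _ = v * (r * y) := by rw [hr y y.2]
        _ = _ := by group
    · rw [← hge]
      refine he.trans (isConj_iff.2 ⟨k, ?_⟩)
      calc (k : G) * (v * r) * (k : G)⁻¹ = k * v * (r * (k : G)⁻¹) := by group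
        _ = k * v * ((k : G)⁻¹ * r) := by
            rw [hr _ (inv_mem k.2)]
        _ = (k * v * (k : G)⁻¹) * r := by group
        _ = v * (x * r) := by rw [hk']; group
        _ = v * (r * x) := by rw [hxr]
        _ = _ := by group

/-- an automorphism of `K` induced by `h` that is inner -/
theorem inKR_of_inner {K : Subgroup G} {h : G} (k : G) (hk : k ∈ K)
    (hc : ∀ x ∈ K, h * x * h⁻¹ = k * x * k⁻¹) : InKR K h := by
  refine ⟨k, hk, k⁻¹ * h, ?_, by group⟩
  intro y hy
  have h1 := hc y hy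
  calc k⁻¹ * h * y = k⁻¹ * (h * y * h⁻¹) * h := by group
    _ = k⁻¹ * (k * y * k⁻¹) * h := by rw [h1]
    _ = _ := by group

/-- (O) -/
theorem Setup.outer [Finite G] (S : Setup z K hzK N) {e : G} (he : IsConj z e) (hez : e * z = z * e)
    (hKR : ¬ InKR K e) : False := by
  have hee := sq_conj S.zz he
  set α : MulAut K := conjAut e (S.norm e hez) (S.norm' hez) with hα
  have hαx : ∀ x : K, ((α x : K) : G) = e * x * e⁻¹ := fun _ => rfl
  obtain ⟨y, w, hy, hyy, hw⟩ := S.kf.aut_out α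
    (Subtype.ext (by
      show e * z * e⁻¹ = z
      rw [hez]; group))
    (by
      ext x
      show e * (e * (x : G) * e⁻¹) * e⁻¹ = x
      calc e * (e * (x : G) * e⁻¹) * e⁻¹ = (e * e) * x * (e * e)⁻¹ := by group
        _ = x := by rw [hee]; group)
    (by
      intro k hk
      apply hKR
      refine inKR_of_inner (k : G) k.2 fun x hx => ?_
      have h1 := congrArg (fun β : MulAut K => ((β ⟨x, hx⟩ : K) : G)) hk
      exact h1)
  have hy' : e * (y : G) * e⁻¹ = y := congrArg Subtype.val hy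
  have hye : (y : G) * e = e * y := (mul_inv_eq_iff_eq_mul.1 hy').symm
  have hw' : e * (w : G) * e⁻¹ = y * y * w := congrArg Subtype.val hw
  obtain ⟨g, hg⟩ := isConj_iff.1 he
  -- `e y⁻²` is conjugate to `z`
  have h1 : IsConj z (e * ((y : G) * y)⁻¹) := by
    refine he.trans (isConj_iff.2 ⟨w, ?_⟩)
    have h2 : e * (w : G)⁻¹ = (w : G)⁻¹ * ((y : G) * y)⁻¹ * e := by
      have h3 : (e * (w : G) * e⁻¹)⁻¹ = ((y : G) * y * w)⁻¹ := by rw [hw']
      calc e * (w : G)⁻¹ = (e * (w : G) * e⁻¹)⁻¹ * e := by group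
        _ = _ := by rw [h3]; group
    have h4 : ((y : G) * y)⁻¹ * e = e * ((y : G) * y)⁻¹ := by
      rw [inv_mul_eq_iff_eq_mul, ← mul_assoc]
      have h5 : (y : G) * y * e = e * (y * y) := by
        calc (y : G) * y * e = y * (y * e) := by group
          _ = y * (e * y) := by rw [hye]
          _ = (y * e) * y := by group
          _ = (e * y) * y := by rw [hye]
          _ = _ := by group
      rw [h5, mul_inv_cancel_right]
    calc (w : G) * e * (w : G)⁻¹ = w * (e * (w : G)⁻¹) := by group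
      _ = ((y : G) * y)⁻¹ * e := by rw [h2]; group
      _ = _ := h4
  -- transport by `g⁻¹`
  set y' : G := g⁻¹ * y * g with hy'def
  have hy'z : y' * z = z * y' := by
    have hz : z = g⁻¹ * e * g := by rw [← hg]; group
    calc y' * z = g⁻¹ * y * g * (g⁻¹ * e * g) := by rw [← hz]
      _ = g⁻¹ * (y * e) * g := by group
      _ = g⁻¹ * (e * y) * g := by rw [hye]
      _ = (g⁻¹ * e * g) * (g⁻¹ * y * g) := by group
      _ = z * y' := by rw [← hz]
  obtain ⟨k, hk⟩ := S.kf.aut_sq (conjAut y' (S.norm y' hy'z) (S.norm' hy'z))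
    (Subtype.ext (by
      show y' * z * y'⁻¹ = z
      rw [hy'z]; group))
  obtain ⟨k', hk', r, hr, hyr⟩ : InKR K (y' * y') := by
    refine inKR_of_inner (k : G) k.2 fun x hx => ?_
    have h2 : y' * (y' * x * y'⁻¹) * y'⁻¹ = k * x * (k : G)⁻¹ :=
      congrArg (fun β : MulAut K => ((β ⟨x, hx⟩ : K) : G)) hk
    rw [← h2]; group
  have h2 : IsConj z (z * (y' * y')⁻¹) := by
    refine h1.trans (isConj_iff.2 ⟨g⁻¹, ?_⟩)
    rw [hy'def, ← hg]; group
  have h3 : InKR K (z * (y' * y')⁻¹) := by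
    refine ⟨z * k'⁻¹, mul_mem hzK (inv_mem hk'), r⁻¹, ?_, ?_⟩
    · intro x hx
      rw [inv_mul_eq_iff_eq_mul, ← mul_assoc, hr x hx, mul_inv_cancel_right]
    · rw [hyr, mul_inv_rev]
      have h4 : r⁻¹ * k'⁻¹ = k'⁻¹ * r⁻¹ := by
        have h5 := hr k' hk'
        calc r⁻¹ * k'⁻¹ = (k' * r)⁻¹ := by group
          _ = (r * k')⁻¹ := by rw [h5]
          _ = _ := by group
      rw [h4]; group
  have h4 := S.inKR h2 h3
  have h5 : y' * y' = 1 := by
    have h6 : (y' * y')⁻¹ = 1 := mul_eq_left.1 h4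
    rwa [inv_eq_one] at h6
  apply hyy
  apply Subtype.ext
  show (y : G) * y = 1
  calc (y : G) * y = g * (y' * y') * g⁻¹ := by rw [hy'def]; group
    _ = 1 := by rw [h5]; group

/-- **The kill.** -/
theorem Setup.false [Finite G] [IsSimpleGroup G] (S : Setup z K hzK N) (hna : ¬ IsMulCommutative G) : False := by
  have hz : orderOf z = 2 := orderOf_eq_prime (by rw [pow_two, S.zz]) S.z_ne
  obtain ⟨g, h1, h2⟩ := StandardComponent.AltFinal.exists_conj hna hz
  have he : IsConj z (g * z * g⁻¹) := isConj_iff.2 ⟨g, rfl⟩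
  by_cases hKR : InKR K (g * z * g⁻¹)
  · exact h1 (S.inKR he hKR)
  · exact S.outer he h2 hKR

end

end Cfsg.Agent.OddHalf.D9.J2.Kill

end

-- merged: Cfsg.Agent.OddHalf.D9.Basic
section

/-!
# D9: a standard subgroup `K` with an involution `z` in its centre, `C(K)` cyclic

`Conf G K z`: `G` simple, `K` perfect, `z ∈ Z(K)` an involution, `C_G(K)` a cyclic `2`-group, `C_G(z) = N_G(K)`.
`of_std` derives it from the hypotheses of the node `Iface.D9`.

* [a] `z` is the only conjugate of `z` in `C_G(K)`; some conjugate `e ≠ z` commutes with `z` (`Z*`);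
* [b] SWAP: for such an `e` there is `h` with `h e h⁻¹ = z`, and `e' := h z h⁻¹` is again such a conjugate;
  `h` maps `D(e) = C(z) ∩ C(e)` onto `D(e')`.
-/

set_option autoImplicit false

namespace Cfsg.Agent.OddHalf.D9.Basic

open Subgroup Cfsg.Agent.OddHalf.Iface
open scoped commutatorElement

/-- The configuration of D9. -/
structure Conf (G : Type*) [Group G] (K : Subgroup G) (z : G) : Prop where
  fin : Finite G
  simple : IsSimpleGroup G
  na : ¬ IsMulCommutative G
  perf : ⁅K, K⁆ = K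
  z1 : z ≠ 1
  zz : z * z = 1
  zK : z ∈ K
  zR : z ∈ centralizer (K : Set G)
  Rcyc : IsCyclic ↥(centralizer (K : Set G))
  R2 : IsPGroup 2 ↥(centralizer (K : Set G))
  uniq : ∀ y ∈ centralizer (K : Set G), y * y = 1 → y = 1 ∨ y = z
  H : centralizer ({z} : Set G) = normalizer (K : Set G)

section Core

variable {G : Type*} [Group G]

/-- A subgroup of `C(z)` of odd order normalized by `C(z)` is trivial if `O(C(z)) = 1`. -/
theorem eq_bot_of_odd {z : G} (hb : centralizerPPrimeCore 2 z = ⊥) {N : Subgroup G}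
    (hN : N ≤ centralizer ({z} : Set G))
    (hn : ∀ g ∈ centralizer ({z} : Set G), ∀ x ∈ N, g * x * g⁻¹ ∈ N) (ho : Odd (Nat.card N)) : N = ⊥ := by
  have hnorm : (N.subgroupOf (centralizer ({z} : Set G))).Normal := by
    refine ⟨fun n hn' g => ?_⟩
    rw [mem_subgroupOf] at hn' ⊢
    exact hn g g.2 n hn'
  have hcop : (Nat.card (N.subgroupOf (centralizer ({z} : Set G)))).Coprime 2 := by
    rw [Nat.card_congr (subgroupOfEquivOfLe hN).toEquiv]
    exact Nat.coprime_two_right.2 ho
  have hle : N.subgroupOf (centralizer ({z} : Set G)) ≤ pPrimeCore 2 (centralizer ({z} : Set G)) :=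
    le_sSup ⟨hnorm, hcop⟩
  rw [eq_bot_iff, ← hb]
  intro n hn'
  exact ⟨⟨n, hN hn'⟩, hle hn', rfl⟩

/-- A finite group with cyclic Sylow `2`-subgroups has a normal subgroup of odd order whose index is a power
of `2`, namely the elements of odd order. -/
theorem exists_complement {C : Type*} [Group C] [Finite C] (hC : ∀ R : Sylow 2 C, IsCyclic R) :
    ∃ N : Subgroup C, N.Characteristic ∧ Odd (Nat.card N) ∧ (N = ⊥ → IsPGroup 2 C ∧ IsCyclic C) := by
  have : Fact (Nat.Prime 2) := ⟨Nat.prime_two⟩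
  obtain ⟨P⟩ : Nonempty (Sylow 2 C) := inferInstance
  have hP := hC P
  by_cases h2 : 2 ∣ Nat.card C
  · have hmin : (Nat.card C).minFac = 2 := (Nat.minFac_eq_two_iff _).2 h2
    have hcomp := hP.isComplement' hmin
    set N := (MonoidHom.transferSylow P (hP.normalizer_le_centralizer hmin)).ker with hN
    have hodd : ¬ 2 ∣ Nat.card N := MonoidHom.not_dvd_card_ker_transferSylow P _
    have hmem : ∀ x : C, x ∈ N ↔ ¬ 2 ∣ orderOf x := by
      intro x
      constructor
      · intro hx h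
        apply hodd
        have : orderOf (⟨x, hx⟩ : N) ∣ Nat.card N := orderOf_dvd_natCard _
        rw [orderOf_mk] at this
        exact h.trans this
      · intro hx
        -- the image of `x` in the `2`-group `C / N` is trivial
        have h1 : IsPGroup 2 (C ⧸ N) := by
          have hidx : N.index = Nat.card P := hcomp.symm.index_eq_card
          obtain ⟨n, hn⟩ := P.2.exists_card_eq
          apply IsPGroup.of_card (n := n)
          rw [← hn, ← hidx]; rfl
        obtain ⟨k, hk⟩ := IsPGroup.iff_orderOf.1 h1 (x : C ⧸ N)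
        have h2 : orderOf (x : C ⧸ N) ∣ orderOf x := orderOf_map_dvd (QuotientGroup.mk' N) x
        rw [hk] at h2
        rcases Nat.eq_zero_or_pos k with rfl | hk0
        · rw [pow_zero, orderOf_eq_one_iff, QuotientGroup.eq_one_iff] at hk
          exact hk
        · exact absurd ((dvd_pow_self 2 (by omega)).trans h2) hx
    refine ⟨N, ?_, ?_, ?_⟩
    · rw [characteristic_iff_comap_le]
      intro φ x hx
      rw [mem_comap, MulEquiv.coe_toMonoidHom, hmem, MulEquiv.orderOf_eq] at hx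
      rwa [hmem]
    · exact Nat.odd_iff.2 (by omega)
    · intro hb
      have htop : (P : Subgroup C) = ⊤ := by
        rw [hb] at hcomp
        exact isComplement'_bot_left.1 hcomp
      refine ⟨?_, ?_⟩
      · have := P.2
        rw [htop] at this
        exact this.of_equiv Subgroup.topEquiv
      · have h3 : IsCyclic (⊤ : Subgroup C) := by rw [← htop]; exact hP
        exact isCyclic_of_surjective (Subgroup.topEquiv : (⊤ : Subgroup C) ≃* C)
          (Subgroup.topEquiv : (⊤ : Subgroup C) ≃* C).surjective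
  · refine ⟨⊤, inferInstance, ?_, ?_⟩
    · rw [card_top, Nat.odd_iff]; omega
    · intro h
      have hs : Subsingleton C := by
        refine ⟨fun a b => ?_⟩
        have ha : a ∈ (⊤ : Subgroup C) := mem_top a
        have hb' : b ∈ (⊤ : Subgroup C) := mem_top b
        rw [h, mem_bot] at ha hb'
        rw [ha, hb']
      exact ⟨IsPGroup.of_card (n := 0) (by rw [pow_zero]; exact Nat.card_unique), inferInstance⟩

/-- An element normalizing `C` normalizes the characteristic subgroups of `C`. -/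
theorem aux_char {C : Subgroup G} (N : Subgroup C) [hN : N.Characteristic] {g : G}
    (hg : g ∈ normalizer (C : Set G)) (y : C) (hy : y ∈ N) : g * y * g⁻¹ ∈ N.map C.subtype := by
  have hmem : ∀ x : G, x ∈ C ↔ g * x * g⁻¹ ∈ C := fun x => mem_normalizer_iff.1 hg x
  let φ : C ≃* C :=
    { toFun := fun x => ⟨g * x * g⁻¹, (hmem x).1 x.2⟩
      invFun := fun x => ⟨g⁻¹ * x * g, by
        rw [hmem]
        have : g * (g⁻¹ * (x : G) * g) * g⁻¹ = x := by group
        rw [this]; exact x.2⟩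
      left_inv := fun x => Subtype.ext (by simp only; group)
      right_inv := fun x => Subtype.ext (by simp only; group)
      map_mul' := fun x y => Subtype.ext (by simp only [coe_mul]; group) }
  have h1 : φ y ∈ N := by
    have := hN.fixed φ
    rw [← this] at hy
    exact hy
  exact ⟨φ y, h1, rfl⟩

end Core

/-- the involution of a cyclic group is unique -/
theorem cyclic_unique {R : Type*} [Group R] [IsCyclic R] [Finite R] {a b : R} (ha : orderOf a = 2)
    (hb : orderOf b = 2) : a = b := by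
  classical
  have : Fintype R := Fintype.ofFinite R
  by_contra hab
  have h1 := IsCyclic.card_pow_eq_one_le (α := R) (n := 2) (by decide)
  have hne : ∀ x : R, orderOf x = 2 → x ≠ 1 := by
    rintro x hx rfl
    rw [orderOf_one] at hx
    exact absurd hx (by decide)
  have h2 : ({1, a, b} : Finset R) ⊆ Finset.univ.filter (fun x : R => x ^ 2 = 1) := by
    intro x hx
    rw [Finset.mem_filter]
    refine ⟨Finset.mem_univ _, ?_⟩
    simp only [Finset.mem_insert, Finset.mem_singleton] at hx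
    rcases hx with rfl | rfl | rfl
    · exact one_pow 2
    · rw [← ha]; exact pow_orderOf_eq_one _
    · rw [← hb]; exact pow_orderOf_eq_one _
  have h3 := Finset.card_le_card h2
  rw [Finset.card_insert_of_notMem, Finset.card_pair hab] at h3
  · omega
  · simp only [Finset.mem_insert, Finset.mem_singleton, not_or]
    exact ⟨(hne a ha).symm, (hne b hb).symm⟩

universe u

/-- **D9, reduction**: the configuration `Conf`. -/
theorem of_std {G : Type u} [Group G] (hG : Ctx G) {K : Subgroup G} (hK : Std0 G K) (hc : Cyc K)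
    (hZ : center ↥K ≠ ⊥) : ∃ z : G, Conf G K z := by
  have hfin := hG.fin
  have : Fact (Nat.Prime 2) := ⟨Nat.prime_two⟩
  -- an involution in `Z(K)`
  have h2 : 2 ∣ Nat.card (center ↥K) := by
    obtain ⟨n, hn⟩ := hK.z2.exists_card_eq
    rcases Nat.eq_zero_or_pos n with rfl | h
    · rw [pow_zero, Subgroup.card_eq_one] at hn
      exact absurd hn hZ
    · rw [hn]; exact dvd_pow_self 2 (by omega)
  obtain ⟨⟨⟨z, hzK⟩, hzc⟩, hz⟩ := exists_prime_orderOf_dvd_card' 2 h2
  rw [orderOf_mk, orderOf_mk] at hz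
  have hz1 : z ≠ 1 := by
    rintro rfl
    rw [orderOf_one] at hz
    exact absurd hz (by decide)
  have hzz : z * z = 1 := by
    rw [← pow_two, ← hz]; exact pow_orderOf_eq_one z
  have hzR : z ∈ centralizer (K : Set G) := by
    rw [mem_centralizer_iff]
    intro l hl
    exact congrArg Subtype.val (mem_center_iff.1 hzc ⟨l, hl⟩)
  -- `C(z) ≤ N(K)`
  have hle := (Cfsg.Agent.S1754.result K hK.std z hz hzR).1
  have hRle : centralizer (K : Set G) ≤ centralizer ({z} : Set G) := by
    intro x hx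
    rw [mem_centralizer_singleton_iff]
    exact (mem_centralizer_iff.1 hx z hzK).symm
  -- `C(K)` is a cyclic 2-group
  obtain ⟨N, hNc, hNo, hNb⟩ := exists_complement (C := ↥(centralizer (K : Set G))) hc
  have hN0 : N.map (centralizer (K : Set G)).subtype = ⊥ := by
    apply eq_bot_of_odd (hG.bal z hz)
    · rintro x ⟨y, -, rfl⟩
      exact hRle y.2
    · rintro g hg x ⟨y, hy, rfl⟩
      have hg' : g ∈ normalizer (centralizer (K : Set G) : Set G) := by
        rw [← hK.std.2.2.2]; exact hle hg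
      exact aux_char N hg' y hy
    · rw [Nat.card_congr (N.equivMapOfInjective _ (centralizer (K : Set G)).subtype_injective).symm.toEquiv]
      exact hNo
  have hN1 : N = ⊥ := by
    rw [← Subgroup.map_eq_bot_iff_of_injective N (centralizer (K : Set G)).subtype_injective]
    exact hN0
  obtain ⟨hR2, hRc⟩ := hNb hN1
  have huniq : ∀ y ∈ centralizer (K : Set G), y * y = 1 → y = 1 ∨ y = z := by
    intro y hy hyy
    by_contra hcon
    push Not at hcon
    have hy2 : orderOf (⟨y, hy⟩ : ↥(centralizer (K : Set G))) = 2 := by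
      rw [orderOf_mk]
      exact orderOf_eq_prime (by rw [pow_two]; exact hyy) hcon.1
    have hz2 : orderOf (⟨z, hzR⟩ : ↥(centralizer (K : Set G))) = 2 := by
      rw [orderOf_mk]; exact hz
    exact hcon.2 (congrArg Subtype.val (cyclic_unique hy2 hz2))
  refine ⟨z, hfin, hG.simple, hG.na, ?_, hz1, hzz, hzK, hzR, hRc, hR2, huniq, le_antisymm hle ?_⟩
  · have h1 : Group.IsPerfect ↥K := hK.std.1.1
    have h2 : ⁅(⊤ : Subgroup ↥K), ⊤⁆ = ⊤ := h1.commutator_eq_top
    have h3 := congrArg (Subgroup.map K.subtype) h2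
    rw [Subgroup.map_commutator, ← MonoidHom.range_eq_map, K.range_subtype] at h3
    exact h3
  · intro x hx
    rw [mem_centralizer_singleton_iff]
    have h1 : x * z * x⁻¹ ∈ centralizer (K : Set G) := by
      have hx' : x ∈ normalizer (centralizer (K : Set G) : Set G) := by
        rw [← hK.std.2.2.2]; exact hx
      exact (mem_normalizer_iff.1 hx' z).1 hzR
    have h2 : x * z * x⁻¹ * (x * z * x⁻¹) = 1 := by
      calc x * z * x⁻¹ * (x * z * x⁻¹) = x * (z * z) * x⁻¹ := by group
        _ = 1 := by rw [hzz]; group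
    rcases huniq _ h1 h2 with h3 | h3
    · exfalso
      apply hz1
      rw [mul_inv_eq_one] at h3
      exact mul_eq_left.1 h3
    · exact mul_inv_eq_iff_eq_mul.1 h3

/-! ### [a] the conjugates of `z` in `C(z)` -/

/-- `e` is a conjugate of `z`, different from `z` and commuting with `z`. -/
structure Adj {G : Type*} [Group G] (z e : G) : Prop where
  conj : IsConj z e
  ne : e ≠ z
  comm : e * z = z * e

section A

variable {G : Type*} [Group G] {K : Subgroup G} {z : G}

theorem Adj.ee (h : z * z = 1) {e : G} (he : Adj z e) : e * e = 1 := by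
  obtain ⟨g, hg⟩ := isConj_iff.1 he.conj
  rw [← hg]
  calc g * z * g⁻¹ * (g * z * g⁻¹) = g * (z * z) * g⁻¹ := by group
    _ = 1 := by rw [h]; group

theorem Adj.ne_one (h : z ≠ 1) {e : G} (he : Adj z e) : e ≠ 1 := by
  rintro rfl
  obtain ⟨g, hg⟩ := isConj_iff.1 he.conj
  apply h
  rw [mul_inv_eq_one] at hg
  exact mul_eq_left.1 hg

theorem Conf.orderOf_z (c : Conf G K z) : orderOf z = 2 :=
  orderOf_eq_prime (by rw [pow_two]; exact c.zz) c.z1

theorem Conf.exists_adj (c : Conf G K z) : ∃ e, Adj z e := by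
  have := c.fin
  have := c.simple
  obtain ⟨h, h1, h2⟩ := Cfsg.Agent.StandardComponent.StdCtx.fusion c.na c.orderOf_z
  exact ⟨h * z * h⁻¹, isConj_iff.2 ⟨h, rfl⟩, h2, h1⟩

/-- A conjugate of `z` in `C(K)` is `z`. -/
theorem Conf.eq_z (c : Conf G K z) {e : G} (he : IsConj z e) (hC : e ∈ centralizer (K : Set G)) : e = z := by
  obtain ⟨g, hg⟩ := isConj_iff.1 he
  have h2 : e * e = 1 := by
    rw [← hg]
    calc g * z * g⁻¹ * (g * z * g⁻¹) = g * (z * z) * g⁻¹ := by group
      _ = 1 := by rw [c.zz]; group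
  rcases c.uniq e hC h2 with h3 | h3
  · exfalso
    apply c.z1
    rw [h3, mul_inv_eq_one] at hg
    exact mul_eq_left.1 hg
  · exact h3

/-! ### [b] SWAP -/

/-- **SWAP**: for an adjacent `e` there is `h` with `h e h⁻¹ = z`, and `h z h⁻¹` is adjacent. -/
theorem swap {e : G} (he : Adj z e) : ∃ h e' : G, h * e * h⁻¹ = z ∧ h * z * h⁻¹ = e' ∧ Adj z e' := by
  obtain ⟨g, hg⟩ := isConj_iff.1 he.conj
  have h1 : g⁻¹ * e * g⁻¹⁻¹ = z := by rw [← hg]; group
  refine ⟨g⁻¹, g⁻¹ * z * g⁻¹⁻¹, h1, rfl, isConj_iff.2 ⟨g⁻¹, rfl⟩, ?_, ?_⟩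
  · intro h
    apply he.ne
    have h2 : g⁻¹ * e * g⁻¹⁻¹ = g⁻¹ * z * g⁻¹⁻¹ := h1.trans h.symm
    exact mul_left_cancel (mul_right_cancel h2)
  · calc g⁻¹ * z * g⁻¹⁻¹ * z = g⁻¹ * z * g⁻¹⁻¹ * (g⁻¹ * e * g⁻¹⁻¹) := by rw [h1]
      _ = g⁻¹ * (z * e) * g⁻¹⁻¹ := by group
      _ = g⁻¹ * (e * z) * g⁻¹⁻¹ := by rw [he.comm]
      _ = g⁻¹ * e * g⁻¹⁻¹ * (g⁻¹ * z * g⁻¹⁻¹) := by group
      _ = z * (g⁻¹ * z * g⁻¹⁻¹) := by rw [h1]

/-- `C(z) ∩ C(e)`. -/
def D (z e : G) : Subgroup G := centralizer ({z} : Set G) ⊓ centralizer ({e} : Set G)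

/-! ### [c] perfect residues -/

/-- The largest perfect subgroup of `D`. -/
def Res (D : Subgroup G) : Subgroup G := sSup {P | P ≤ D ∧ ⁅P, P⁆ = P}

/-- A perfect subgroup of `N(K)` lies in `K` if `K / Z(K)` has the Schreier property. -/
theorem Conf.perfect_le (c : Conf G K z) (hS : Cfsg.Agent.Schreier.Basic.Sch (↥K ⧸ center ↥K))
    {P : Subgroup G} (hP : P ≤ normalizer (K : Set G)) (hPp : ⁅P, P⁆ = P) : P ≤ K := by
  have hnorm : ∀ p ∈ P, ∀ k : ↥K, p * (k : G) * p⁻¹ ∈ K := fun p hp k =>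
    (mem_normalizer_iff.1 (hP hp) k).1 k.2
  have hnorm' : ∀ p ∈ P, ∀ k : ↥K, p⁻¹ * (k : G) * p ∈ K := fun p hp k => by
    have := hnorm p⁻¹ (P.inv_mem hp) k
    rwa [inv_inv] at this
  -- the action on `K`
  let act : ↥P →* MulAut ↥K :=
    { toFun := fun p =>
        { toFun := fun k => ⟨p * k * (p : G)⁻¹, hnorm p p.2 k⟩
          invFun := fun k => ⟨(p : G)⁻¹ * k * p, hnorm' p p.2 k⟩
          left_inv := fun k => Subtype.ext (by
            change (p : G)⁻¹ * (p * k * (p : G)⁻¹) * p = k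
            group)
          right_inv := fun k => Subtype.ext (by
            change (p : G) * ((p : G)⁻¹ * k * p) * (p : G)⁻¹ = k
            group)
          map_mul' := fun a b => Subtype.ext (by
            change (p : G) * (a * b) * (p : G)⁻¹ = p * a * (p : G)⁻¹ * (p * b * (p : G)⁻¹)
            group) }
      map_one' := by
        ext k
        change (1 : G) * k * (1 : G)⁻¹ = k
        group
      map_mul' := fun p q => by
        ext k
        change (p * q : G) * k * (p * q : G)⁻¹ = p * (q * k * (q : G)⁻¹) * (p : G)⁻¹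
        group }
  have hact : ∀ (p : ↥P) (k : ↥K), ((act p k : ↥K) : G) = p * k * (p : G)⁻¹ := fun _ _ => rfl
  -- the action on `K / Z(K)`
  have hcz : ∀ φ : MulAut ↥K, (center ↥K).map φ.toMonoidHom = center ↥K := fun φ =>
    characteristic_iff_map_eq.1 inferInstance φ
  let quo : MulAut ↥K →* MulAut (↥K ⧸ center ↥K) :=
    { toFun := fun φ => QuotientGroup.congr (center ↥K) (center ↥K) φ (hcz φ)
      map_one' := by
        ext x
        induction x using QuotientGroup.induction_on with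
        | H c => rfl
      map_mul' := fun φ ψ => by
        ext x
        induction x using QuotientGroup.induction_on with
        | H c => rfl }
  have hquo : ∀ (φ : MulAut ↥K) (k : ↥K), quo φ (k : ↥K ⧸ center ↥K) = (φ k : ↥K) := fun _ _ => rfl
  -- the image is perfect, hence inner
  have htop : ⁅(⊤ : Subgroup ↥P), (⊤ : Subgroup ↥P)⁆ = ⊤ := by
    apply Subgroup.map_injective P.subtype_injective
    rw [Subgroup.map_commutator, ← MonoidHom.range_eq_map, P.range_subtype]
    exact hPp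
  have himg := hS _ (Cfsg.Agent.Schreier.Basic.map_perfect (quo.comp act) htop)
  have hperf : commutator ↥K = ⊤ := by
    apply Subgroup.map_injective K.subtype_injective
    rw [commutator_def, Subgroup.map_commutator, ← MonoidHom.range_eq_map, K.range_subtype]
    exact c.perf
  -- `P ≤ K C(K)`
  have hmul : ∀ p ∈ P, ∃ k ∈ K, k⁻¹ * p ∈ centralizer (K : Set G) := by
    intro p hp
    obtain ⟨y, hy⟩ := himg ⟨(⟨p, hp⟩ : ↥P), mem_top _, rfl⟩
    obtain ⟨k, rfl⟩ := QuotientGroup.mk_surjective y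
    have h2 : ∀ x : ↥K, (k * x * k⁻¹)⁻¹ * act ⟨p, hp⟩ x ∈ center ↥K := by
      intro x
      have h3 := DFunLike.congr_fun hy (QuotientGroup.mk x)
      rw [MulAut.conj_apply] at h3
      rw [← QuotientGroup.eq]
      exact h3
    let δ : ↥K →* center ↥K :=
      { toFun := fun x => ⟨(k * x * k⁻¹)⁻¹ * act ⟨p, hp⟩ x, h2 x⟩
        map_one' := by
          apply Subtype.ext
          simp
        map_mul' := fun x y => by
          apply Subtype.ext
          show (k * (x * y) * k⁻¹)⁻¹ * act ⟨p, hp⟩ (x * y) =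
            (k * x * k⁻¹)⁻¹ * act ⟨p, hp⟩ x * ((k * y * k⁻¹)⁻¹ * act ⟨p, hp⟩ y)
          have h3 := mem_center_iff.1 (h2 x) (k * y * k⁻¹)⁻¹
          calc (k * (x * y) * k⁻¹)⁻¹ * act ⟨p, hp⟩ (x * y)
              = (k * y * k⁻¹)⁻¹ * ((k * x * k⁻¹)⁻¹ * act ⟨p, hp⟩ x) * act ⟨p, hp⟩ y := by
                rw [map_mul]; group
            _ = _ := by rw [h3]; group }
    have h4 : ∀ x, δ x = 1 := by
      intro x
      have h5 : commutator ↥K ≤ δ.ker := by
        rw [commutator_def, commutator_le]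
        intro a _ b _
        rw [MonoidHom.mem_ker, map_commutatorElement]
        exact commutatorElement_eq_one_iff_mul_comm.2 (Subtype.ext (mem_center_iff.1 (δ b).2 (δ a)))
      rw [hperf] at h5
      exact h5 (mem_top x)
    refine ⟨k, k.2, ?_⟩
    rw [mem_centralizer_iff]
    intro x hx
    have h5 : (k * ⟨x, hx⟩ * k⁻¹)⁻¹ * act ⟨p, hp⟩ ⟨x, hx⟩ = 1 := congrArg Subtype.val (h4 ⟨x, hx⟩)
    have h6 : (k : G) * x * (k : G)⁻¹ = p * x * p⁻¹ := by
      rw [inv_mul_eq_one] at h5
      exact congrArg Subtype.val h5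
    calc x * ((k : G)⁻¹ * p) = (k : G)⁻¹ * (k * x * (k : G)⁻¹) * p := by group
      _ = (k : G)⁻¹ * (p * x * p⁻¹) * p := by rw [h6]
      _ = (k : G)⁻¹ * p * x := by group
  -- commutators
  rw [← hPp, commutator_le]
  intro a ha b hb
  obtain ⟨k, hk, hkr⟩ := hmul a ha
  obtain ⟨l, hl, hlr⟩ := hmul b hb
  have hrs : (k⁻¹ * a) * (l⁻¹ * b) = (l⁻¹ * b) * (k⁻¹ * a) := by
    have := c.Rcyc
    have h1 : (⟨k⁻¹ * a, hkr⟩ : ↥(centralizer (K : Set G))) * ⟨l⁻¹ * b, hlr⟩ =
        ⟨l⁻¹ * b, hlr⟩ * ⟨k⁻¹ * a, hkr⟩ :=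
      (IsCyclic.isMulCommutative (α := ↥(centralizer (K : Set G)))).is_comm.comm _ _
    exact congrArg Subtype.val h1
  have e1 : ⁅a, b⁆ = ⁅k, l⁆ := by
    set r := k⁻¹ * a with hr
    set s := l⁻¹ * b with hs
    have ea : a = k * r := by rw [hr]; group
    have eb : b = l * s := by rw [hs]; group
    have c1 : r * l = l * r := (mem_centralizer_iff.1 hkr l hl).symm
    have c2 : s * k = k * s := (mem_centralizer_iff.1 hlr k hk).symm
    have c2' : s * k⁻¹ = k⁻¹ * s := by
      have := mem_centralizer_iff.1 hlr k⁻¹ (K.inv_mem hk)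
      exact this.symm
    rw [ea, eb, commutatorElement_def, commutatorElement_def]
    calc k * r * (l * s) * (k * r)⁻¹ * (l * s)⁻¹ = k * (r * l) * s * r⁻¹ * k⁻¹ * s⁻¹ * l⁻¹ := by group
      _ = k * l * (r * s) * r⁻¹ * k⁻¹ * s⁻¹ * l⁻¹ := by rw [c1]; group
      _ = k * l * (s * k⁻¹) * s⁻¹ * l⁻¹ := by rw [hrs]; group
      _ = k * l * k⁻¹ * l⁻¹ := by rw [c2']; group
  rw [e1, ← c.perf]
  exact commutator_mem_commutator hk hl

end A

end Cfsg.Agent.OddHalf.D9.Basic

end

-- merged: Cfsg.Agent.OddHalf.D9.J2.Row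
section

/-!
# D9, row `2.J₂` (helper341)

`kf_of_card`: the facts `KF` for a finite perfect group `L` with centre of order 2 and `L / Z(L) ≃* J₂`.
`false_of_conf`: no configuration `Basic.Conf` with `K = 2.J₂`.
-/

set_option autoImplicit false
set_option linter.style.haveILetI false

namespace Cfsg.Agent.OddHalf.D9.J2.Row

open Subgroup Cfsg Cfsg.Agent.OddHalf.D9.J2.Facts Cfsg.Agent.OddHalf.D9.J2.Kill
open Cfsg.Agent.KFacts.MulTwo Cfsg.Agent.KFacts.MulDef Cfsg.Agent.OddHalf.Iface
open scoped commutatorElement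

universe u

/-! ### The facts -/

theorem mem_center_iff_of_card {L : Type*} [Group L] (h2 : Nat.card ↥(center L) = 2) {c : L}
    (hc : c ∈ center L) (hc1 : c ≠ 1) (x : L) : x ∈ center L ↔ x = 1 ∨ x = c := by
  constructor
  · intro hx
    by_cases hx1 : x = 1
    · exact Or.inl hx1
    · right
      obtain ⟨z, hz1, hz2⟩ := (Nat.card_eq_two_iff' (1 : center L)).1 h2
      have e1 := hz2 ⟨x, hx⟩ (fun h => hx1 (congrArg Subtype.val h))
      have e2 := hz2 ⟨c, hc⟩ (fun h => hc1 (congrArg Subtype.val h))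
      exact congrArg Subtype.val (e1.trans e2.symm)
  · rintro (rfl | rfl)
    · exact one_mem _
    · exact hc

/-- the double cover -/
theorem exists_dbl {L : Type*} [Group L] (hp : commutator L = ⊤) (h2 : Nat.card ↥(center L) = 2)
    (hJ : Spor.IsoJ2 (L ⧸ center L)) {c : L} (hc : c ∈ center L) (hc1 : c ≠ 1) :
    ∃ π : L →* Spor.J2, Dbl π c := by
  obtain ⟨e⟩ := hJ
  have hm := mem_center_iff_of_card h2 hc hc1
  refine ⟨e.toMonoidHom.comp (QuotientGroup.mk' (center L)), ⟨⟨hc1, ?_, ?_, hp⟩,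
    e.surjective.comp (QuotientGroup.mk'_surjective _), ?_⟩⟩
  · rcases (hm (c * c)).1 (mul_mem hc hc) with h | h
    · exact h
    · exact absurd (mul_eq_left.1 h) hc1
  · intro x
    exact (mem_center_iff.1 hc x).symm
  · intro x
    show e (x : L ⧸ center L) = 1 ↔ _
    rw [e.map_eq_one_iff, QuotientGroup.eq_one_iff, hm]

/-- **The facts for `2.J₂`.** -/
theorem kf_of_card {L : Type*} [Group L] [Finite L] (hp : commutator L = ⊤) (h2 : Nat.card ↥(center L) = 2)
    (hJ : Spor.IsoJ2 (L ⧸ center L)) {c : L} (hc : c ∈ center L) (hc1 : c ≠ 1) : KF c 64 := by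
  obtain ⟨π, hd⟩ := exists_dbl hp h2 hJ hc hc1
  obtain ⟨t, u, Q, v, ρ, D⟩ := Cfsg.Agent.KFacts.J2.Basic.exists_dat
  have hfin : Finite Cfsg.Spor.J2 :=
    Nat.finite_of_card_ne_zero (by rw [Cfsg.Agent.S1619.result.2.2.2]; norm_num)
  exact kf hd D

/-! ### Perfect subgroups of `C(z)` -/

variable {G : Type*} [Group G]

/-- `K C(K)` -/
def KR (K : Subgroup G) : Subgroup G where
  carrier := {x | InKR K x}
  one_mem' := ⟨1, one_mem _, 1, fun y _ => by rw [one_mul, mul_one], by rw [one_mul]⟩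
  mul_mem' := by
    rintro a b ⟨k, hk, r, hr, rfl⟩ ⟨k', hk', r', hr', rfl⟩
    refine ⟨k * k', mul_mem hk hk', r * r', ?_, ?_⟩
    · intro y hy
      calc r * r' * y = r * (r' * y) := by group
        _ = (r * y) * r' := by rw [hr' y hy]; group
        _ = y * (r * r') := by rw [hr y hy]; group
    · calc k * r * (k' * r') = k * (r * k') * r' := by group
        _ = k * (k' * r) * r' := by rw [hr k' hk']
        _ = _ := by group
  inv_mem' := by
    rintro a ⟨k, hk, r, hr, rfl⟩
    refine ⟨k⁻¹, inv_mem hk, r⁻¹, ?_, ?_⟩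
    · intro y hy
      rw [inv_mul_eq_iff_eq_mul, ← mul_assoc, hr y hy, mul_inv_cancel_right]
    · calc (k * r)⁻¹ = (r * k)⁻¹ := by rw [hr k hk]
        _ = k⁻¹ * r⁻¹ := by group

/-- If all squares of elements of `C(z)` are in `K C(K)` and `C(K)` is commutative, the perfect subgroups of `C(z)`
lie in `K`. -/
theorem perf_le {z : G} {K : Subgroup G} (hnorm : ∀ h, h * z = z * h → ∀ k ∈ K, h * k * h⁻¹ ∈ K)
    (hsq : ∀ h, h * z = z * h → InKR K (h * h))
    (hcomm : ∀ r s : G, (∀ k ∈ K, r * k = k * r) → (∀ k ∈ K, s * k = k * s) → r * s = s * r)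
    {Y : Subgroup G} (hY : ⁅Y, Y⁆ = Y) (hYz : ∀ y ∈ Y, y * z = z * y) : Y ≤ K := by
  have hinv : ∀ h, h * z = z * h → h⁻¹ * z = z * h⁻¹ := by
    intro h hh
    rw [inv_mul_eq_iff_eq_mul, ← mul_assoc, hh, mul_inv_cancel_right]
  have hconj : ∀ h, h * z = z * h → ∀ x ∈ KR K, h * x * h⁻¹ ∈ KR K := by
    rintro h hh _ ⟨k, hk, r, hr, rfl⟩
    refine ⟨h * k * h⁻¹, hnorm h hh k hk, h * r * h⁻¹, ?_, by group⟩
    intro y hy
    have h1 : h⁻¹ * y * h ∈ K := by
      have := hnorm h⁻¹ (hinv h hh) y hy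
      rwa [inv_inv] at this
    calc h * r * h⁻¹ * y = h * (r * (h⁻¹ * y * h)) * h⁻¹ := by group
      _ = h * (h⁻¹ * y * h * r) * h⁻¹ := by rw [hr _ h1]
      _ = y * (h * r * h⁻¹) := by group
  have h1 : Y ≤ KR K := by
    rw [← hY, commutator_le]
    intro a ha b hb
    have e : ⁅a, b⁆ = (a * b) * (a * b) * (b⁻¹ * (a⁻¹ * a⁻¹) * b⁻¹⁻¹) * (b⁻¹ * b⁻¹) := by
      rw [commutatorElement_def]; group
    rw [e]
    refine mul_mem (mul_mem (hsq _ (hYz _ (mul_mem ha hb))) (hconj _ (hinv _ (hYz b hb)) _ ?_)) ?_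
    · exact hsq _ (hinv _ (hYz a ha))
    · exact hsq _ (hinv _ (hYz b hb))
  rw [← hY, commutator_le]
  intro a ha b hb
  obtain ⟨k, hk, r, hr, rfl⟩ := h1 ha
  obtain ⟨k', hk', r', hr', rfl⟩ := h1 hb
  have hr1 : ∀ k ∈ K, r⁻¹ * k = k * r⁻¹ := fun y hy => by
    rw [inv_mul_eq_iff_eq_mul, ← mul_assoc, hr y hy, mul_inv_cancel_right]
  have hr1' : ∀ k ∈ K, r'⁻¹ * k = k * r'⁻¹ := fun y hy => by
    rw [inv_mul_eq_iff_eq_mul, ← mul_assoc, hr' y hy, mul_inv_cancel_right]
  have e : ⁅k * r, k' * r'⁆ = ⁅k, k'⁆ := by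
    rw [commutatorElement_def, commutatorElement_def]
    calc k * r * (k' * r') * (k * r)⁻¹ * (k' * r')⁻¹ = k * (r * k') * r' * (r⁻¹ * k⁻¹) * r'⁻¹ * k'⁻¹ := by group
      _ = k * (k' * r) * r' * (k⁻¹ * r⁻¹) * r'⁻¹ * k'⁻¹ := by rw [hr k' hk', hr1 _ (inv_mem hk)]
      _ = k * k' * (r * r') * k⁻¹ * r⁻¹ * r'⁻¹ * k'⁻¹ := by group
      _ = k * k' * (r' * r) * k⁻¹ * r⁻¹ * r'⁻¹ * k'⁻¹ := by rw [hcomm r r' hr hr']
      _ = k * k' * r' * (r * k⁻¹) * r⁻¹ * r'⁻¹ * k'⁻¹ := by group
      _ = k * k' * r' * (k⁻¹ * r) * r⁻¹ * r'⁻¹ * k'⁻¹ := by rw [hr _ (inv_mem hk)]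
      _ = k * k' * (r' * k⁻¹) * r'⁻¹ * k'⁻¹ := by group
      _ = k * k' * (k⁻¹ * r') * r'⁻¹ * k'⁻¹ := by rw [hr' _ (inv_mem hk)]
      _ = _ := by group
  rw [e, commutatorElement_def]
  exact mul_mem (mul_mem (mul_mem hk hk') (inv_mem hk)) (inv_mem hk')

/-- **No configuration with `K = 2.J₂`.** -/
theorem false_of_conf {z : G} {K : Subgroup G} (c : Basic.Conf G K z) (h2 : Nat.card ↥(center ↥K) = 2)
    (hJ : Spor.IsoJ2 (↥K ⧸ center ↥K)) : False := by
  haveI := c.fin
  haveI := c.simple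
  have hp : commutator ↥K = ⊤ := by
    have h1 : (commutator ↥K).map K.subtype = (⊤ : Subgroup ↥K).map K.subtype := by
      rw [_root_.commutator_def, map_commutator, ← MonoidHom.range_eq_map, range_subtype, c.perf]
    exact map_injective K.subtype_injective h1
  have hzc : (⟨z, c.zK⟩ : ↥K) ∈ center ↥K := by
    rw [mem_center_iff]
    intro x
    apply Subtype.ext
    exact mem_centralizer_iff.1 c.zR (x : G) x.2
  have hz1 : (⟨z, c.zK⟩ : ↥K) ≠ 1 := fun h => c.z1 (congrArg Subtype.val h)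
  have hkf := kf_of_card hp h2 hJ hzc hz1
  have hnorm : ∀ h, h * z = z * h → ∀ k ∈ K, h * k * h⁻¹ ∈ K := by
    intro h hh k hk
    have h1 : h ∈ normalizer (K : Set G) := by
      rw [← c.H]
      exact mem_centralizer_singleton_iff.2 hh
    exact (mem_normalizer_iff.1 h1 k).1 hk
  have hcomm : ∀ r s : G, (∀ k ∈ K, r * k = k * r) → (∀ k ∈ K, s * k = k * s) → r * s = s * r := by
    intro r s hr hs
    have hr' : r ∈ centralizer (K : Set G) := mem_centralizer_iff.2 fun k hk => (hr k hk).symm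
    have hs' : s ∈ centralizer (K : Set G) := mem_centralizer_iff.2 fun k hk => (hs k hk).symm
    haveI := c.Rcyc
    have h1 := (IsCyclic.commGroup (α := ↥(centralizer (K : Set G)))).mul_comm ⟨r, hr'⟩ ⟨s, hs'⟩
    exact congrArg Subtype.val h1
  have hnorm' : ∀ h, h * z = z * h → ∀ k ∈ K, h⁻¹ * k * h ∈ K := by
    intro h hh k hk
    have h1 : h⁻¹ * z = z * h⁻¹ := by
      rw [inv_mul_eq_iff_eq_mul, ← mul_assoc, hh, mul_inv_cancel_right]
    have := hnorm h⁻¹ h1 k hk
    rwa [inv_inv] at this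
  have hsq : ∀ h, h * z = z * h → InKR K (h * h) := by
    intro h hh
    obtain ⟨k, hk⟩ := hkf.aut_sq (conjAut h (hnorm h hh) (hnorm' h hh)) (Subtype.ext (by
      show h * z * h⁻¹ = z
      rw [hh]; group))
    refine inKR_of_inner (k : G) k.2 fun x hx => ?_
    have h3 : h * (h * x * h⁻¹) * h⁻¹ = k * x * (k : G)⁻¹ :=
      congrArg (fun β : MulAut K => ((β ⟨x, hx⟩ : K) : G)) hk
    rw [← h3]; group
  refine Setup.false (z := z) (K := K) (hzK := c.zK) (N := 64) ⟨hkf, hnorm, ?_, ?_, ?_⟩ c.na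
  · intro Y hY hYz
    exact perf_le hnorm hsq hcomm hY hYz
  · intro r hr hrr
    exact c.uniq r (mem_centralizer_iff.2 fun k hk => (hr k hk).symm) hrr
  · intro k hk hkc
    have h1 : (⟨k, hk⟩ : ↥K) ∈ center ↥K := by
      rw [mem_center_iff]
      intro x
      apply Subtype.ext
      exact (hkc x x.2).symm
    rcases (mem_center_iff_of_card h2 hzc hz1 _).1 h1 with h | h
    · exact Or.inl (congrArg Subtype.val h)
    · exact Or.inr (congrArg Subtype.val h)

/-- **D9, row `2.J₂`**, from the configuration theorem (`Basic.of_std` for `Std0`). -/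
theorem row_of (hof : ∀ (G : Type u) [Group G], Ctx G → ∀ K : Subgroup G, Std0 G K → Cyc K → center ↥K ≠ ⊥ →
    ∃ z : G, Basic.Conf G K z) : Cut.Row.{u} (fun K _ => Cut.Two (fun X _ => Spor.IsoJ2 X) K) := by
  intro G _ C K S hc h
  haveI := C.fin
  obtain ⟨z, c⟩ := hof G C K S hc (fun hb => by
    have h1 := h.1
    rw [hb, Subgroup.card_bot] at h1
    omega)
  exact false_of_conf c h.1 h.2

end Cfsg.Agent.OddHalf.D9.J2.Row

end

private theorem dce_690cc23e35e7 : _root_.True := by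
  try have : _root_.True := by simp only [_root_.Cfsg.Agent.OddHalf.D9.J2.Cover.W.eq_1]
  try have : _root_.True := by simp only [_root_.Cfsg.Agent.OddHalf.D9.J2.Cover.Pre.eq_1]
  try have : _root_.True := by simp only [_root_.Cfsg.Agent.OddHalf.D9.Basic.D.eq_1]
  exact _root_.True.intro
end

-- part: OddHalf/D8/RuFam/Tw
section
set_option linter.all false
open scoped Cfsg.Agent.FastGrp

section
set_option autoImplicit false
set_option maxRecDepth 100000
set_option exponentiation.threshold 5000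

namespace Cfsg.Agent.RuFast

open Cfsg.Agent.RuD.Letters Cfsg.Agent.SporRec.R3.Kernel

section fast
open Cfsg.Agent.Lib.BitNet

private def trs (x : ℕ) (l : List (ℕ × ℕ)) : ℕ :=
  l.foldr (fun p y => dsw (Nat.pow 2 p.2 - Nat.pow 2 p.1) (trMask 16 p.1 p.2) y) x

private theorem testBit_trs (x : ℕ) : ∀ l : List (ℕ × ℕ), (∀ p ∈ l, p.1 < p.2 ∧ p.2 < 16) → ∀ I < 2 ^ 16, ∃ J < 2 ^ 16,
    (trs x l).testBit I = x.testBit J ∧ ∀ j, J.testBit j = I.testBit (l.foldr (fun p i => swapIdx p.1 p.2 i) j)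
  | [], _, I, hI => ⟨I, hI, rfl, fun _ => rfl⟩
  | p :: l, h, I, hI => by
    obtain ⟨h1, h2⟩ := h p List.mem_cons_self
    obtain ⟨h3, h4⟩ := sw_trMask h1 h2 hI
    obtain ⟨J, h5, h6, h7⟩ := testBit_trs x l (fun q hq => h q (List.mem_cons_of_mem _ hq)) _ h4
    exact ⟨J, h5, (testBit_dsw (trMask_valid h1 h2) _ I).trans h6, fun j => (h7 j).trans (h3 _)⟩

private def swL : List (ℕ × ℕ) :=
  [(0, 12), (1, 13), (2, 14), (3, 15), (0, 8), (1, 9), (2, 10), (3, 11), (0, 4), (1, 5), (2, 6), (3, 7)]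

/-- the table of a network -/
private def tabN (l : List (ℕ × ℕ)) : ℕ := trs (appMr 4096 4 l.reverse (pack (fun r => idxMask 16 r) 4096 4 0)) swL

private theorem tabN_eq {l : List (ℕ × ℕ)} (h : In 4096 l) {c : ℕ} (hc : c < 4096) :
    Nat.mod (Nat.shiftRight (tabN l) (Nat.mul 16 c)) 4096 = app l c := by
  have h0 := h.app_lt hc
  refine Nat.eq_of_testBit_eq fun r => ?_
  show (tabN l >>> (16 * c) % 2 ^ 12).testBit r = _
  rw [Nat.testBit_mod_two_pow, Nat.testBit_shiftRight]
  rcases Nat.lt_or_ge r 12 with hr | hr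
  · obtain ⟨J, h1, h2, h3⟩ := testBit_trs (appMr 4096 4 l.reverse (pack (fun r => idxMask 16 r) 4096 4 0)) swL
      (by decide) (16 * c + r) (by omega)
    have h4 : J = 2 ^ 12 * r + c := Nat.eq_of_testBit_eq fun j => by
      rcases Nat.lt_or_ge j 16 with hj | hj
      · have h5 : ∀ j < 16, swL.foldr (fun p i => swapIdx p.1 p.2 i) j = if j < 12 then j + 4 else j - 12 := by decide
        rw [h3, h5 j hj, Nat.testBit_two_pow_mul_add r (show c < 2 ^ 12 from hc),
          show 16 * c + r = 2 ^ 4 * c + r from rfl, Nat.testBit_two_pow_mul_add c (show r < 2 ^ 4 by omega)]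
        by_cases h6 : j < 12
        · rw [if_pos h6, if_pos h6, if_neg (by omega), Nat.add_sub_cancel]
        · rw [if_neg h6, if_neg h6, if_pos (by omega)]
      · have h6 : 2 ^ 16 ≤ 2 ^ j := Nat.pow_le_pow_right (by decide) hj
        rw [Nat.testBit_lt_two_pow (h1.trans_le h6), Nat.testBit_lt_two_pow (lt_of_lt_of_le (by omega) h6)]
    have h7 := testBit_appMr (k := 4) (l := l.reverse) (fun p hp => h p (List.mem_reverse.1 hp))
      (pack (fun r => idxMask 16 r) 4096 4 0) (r := r) (by omega) h0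
    rw [Cfsg.Agent.Lib.BitNetSimple.app_reverse, appInv_app h.valid, testBit_pack _ 4 0 (by omega) h0, Nat.zero_add,
      testBit_idxMask (by omega), decide_eq_true (show app l c < 2 ^ 16 by omega), Bool.true_and] at h7
    rw [decide_eq_true hr, Bool.true_and, ← h7]
    exact h2.trans (congrArg _ h4)
  · rw [decide_eq_false (by omega), Bool.false_and,
      Nat.testBit_lt_two_pow (h0.trans_le (Nat.pow_le_pow_right (by decide) hr : 2 ^ 12 ≤ 2 ^ r))]

private noncomputable def nthT (l : List ℕ) : ℕ → ℕ :=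
  List.rec (motive := fun _ => ℕ → ℕ) (fun _ => tabN [])
    (fun x _ ih a => Nat.rec (motive := fun _ => ℕ) x (fun b _ => ih b) a) l

private theorem nthT_map : ∀ (l : List (List (ℕ × ℕ))) (a : ℕ), nthT (l.map tabN) a = tabN (nthL l a)
  | [], _ => rfl
  | _ :: _, 0 => rfl
  | _ :: l, a + 1 => nthT_map l a

private theorem in_nthL : ∀ (l : List (List (ℕ × ℕ))), allL (inn 4096) l = true → ∀ a, In 4096 (nthL l a)
  | [], _, _ => fun _ hp => absurd hp List.not_mem_nil
  | x :: _, h, 0 => inn_sound ((allL_iff _ _).1 h x List.mem_cons_self)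
  | _ :: l, h, a + 1 => in_nthL l ((allL_iff _ _).2 fun y hy => (allL_iff _ _).1 h y (List.mem_cons_of_mem _ hy)) a

private theorem in_NL : allL (inn 4096) NL = true := by decide +kernel

private def TL : List ℕ := [
  0xfff0ffe0ffd0ffc0ffb0ffa0ff90ff80ff70ff60ff50ff40ff30ff20ff10ff00fef0fee0fed0fec0feb0fea0fe90fe80fe70fe60fe50fe40fe30fe20fe10fe00fdf0fde0fdd0fdc06860c90053a08b0046805170809080a019f0a670d3005ec09750b0505160f5d0112040a0b3d0106045c010e0e3f00bc097e09f603200f5105970f3e06c60f9d04160a8e028f0aab0f220e2405ed0d6300bf0802068d044b01a207f90fac0fad02ad05650a4a050c02b605a10cb10aba022303110ae500bb034e04af0fbc08e80f250f4701e90eac0e400d730a80008103ea06ef0b1b0ba60df00d97076105f20c29046107630aee045f00fb0cea09d405a6052701550305051808db09f209870c3f00160d5e06fc040105b20ab50a4d0b2104c908770dff0904096e0cd80f0d0d7608010b550be200a406b50aa80b6b0d540e5406e40d59029102eb0fcc060a0ea00e7a090201af0c30053c07030b3204c409be0fc00ea90b19042c0b480e360a8403100c5d01bb0f9a0a3808fc024300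4f0b0c0ba0028406f20fbe0c4401d9056201be0f0f087c07950d1408d30ccc0621043d011709bb03630486032402330d6405d709520d4409f80d0b0f9b017b05fd0fb704600ee8072d06d30b08093401bd02bb02a303930242099a089f0cc103070a1a0cf705700f3905c60f6c043f056908e00c5a039e06a704a1085b0af4070a070b03440b9e02c40698003f00f407110cf90d9b05f4013004c805860715029c0e5b07810972028008c903810939090101f803300f200d0901770df70d8101c4008406a00c010df5019d00a208c30581038d076505cf03f40ad9009409eb0d8702e507b80a9d01080399080308200bf0008d0c180a170a6402e20b0704080c2409360aa50e4c0c7e0bef077f02be058001940a830bcb07ac041b07fa05a50b2a0b740c7706420c7101ce01460f9805c1026e0f500d0c04220afc007c03fe059b09aa01c70f5b02c80328055908a505470431005f0e8f0d740645062d01d00b35057305000a160e9809f404d205b90914021002280966066a02f60526010903f90d4e0b9a03180d9004340b4c000a09150f5a032708500054077c006a0d120d7a054d0a0502120ae102ef08a80d61027e00fa04050ce4095e05140cdd054f0bdd07f707f602bc0cca001e03a9089d0ef2055f0172044e011104bd0d940f620a3a00100411064d06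bf029e05310ec0078a0b340c48001c07fd0d3a02e7060506650ab80ba90f970fc50c45083d0b8206150ca30dec0473020c0f4c0bd105dc041803970a6a010a02ba087e01e40a3e0bf80d1c0b670cf80cab00b307b20fb607a3078b07a9063004940d6507d1066d06380e1700b200b80e1a09ff0ac108ce0d6e0640017f0d3100ee0d1d0a25079306c8075d0a1501b206dd01f409ea08c70599002b0c59029d0f7002700ca90b8f0b270625007b09540ee500d40edf018a04d7014707340f8f08680b2e09580e390c32099e043603df0bbd025508210c2a03690ce901d405de0070088d0da40d1608e50af6052f011c044802e40cb60d180c27095301050d49026c005d0d6d07aa0003087d0b0e06a90be40924014b02a602bd0d8305030d3b096b0c6d08060ab30c0a085503e401db045801ec07a007a20a52098c0d070433046e0071099409ed081004fa02d50c22084c02a5022b0ddd00db01280533017907b000af0af704aa0ef90729026208610f8e003c06590e5504b80b8809700e7f099c0d7007ff02aa0c3a0ab9002107ef0ed30a90033303060dc2067b0ee40cb30676006c063f09fe06840e730bb00ca00a2b0f6b04ef0e970f9600650c810d8e02510e130dcd0ba70aa60463089a011407bb0c0e0e1e0f2b0fb40afb0e6c059d01580f7906e50c5205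ca09730f60063a061e02cd04300f630480042008ef046200c50e82051e0316093a04700dd00b3e05bd08e3092a0f280524042608f0073204b70c89033a0c1c0dc00e46056c07b3007d094606ae0c0d0be105570e100fd10542050803a104be032b06fd0a46034705ee013401f00175058f030b09a5068f049e0c2e0e0e0e2a049703cd0c930dd401ef0ddc088f0f36019e0e74022d01dd01a70ac606340ea80f260ab70ee703780db1098a04d509980a9c08ee00f804e703b0042f0b99019a01a906950efa0e280f11073c068806ac02f5097400d30c9c03d20a5c0ccd023c05c80f850de202db0b63067c0a4b0e68079f07e40651072b0657036c0e65096007350af008170f6d09a602ff019908b505c5032a030e01cc060805eb0ced0f3401780e5f00ec0744071d0a810c6301d30173004a0f14058402dc08f705e7008f009a055403150c99052d0dd5078d08a20d80083b0fa50838024b054c052c002e0e270a360dfd0beb02220837082a04e20e3a020706910d780543003809e70cf00abf0ab20cb808a00c410bac027d06070d19058d05d80fda0be800430c1e047a01cb08de0d3e020202390b6e01950168065205e00d7102a905e30ebf0bb708bd0890013e04bc027f0eb1025b049a025002b701b80eaf0544008e07f80dbe085f0737027a0353099504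ca09c60bfa01860cc5044504510a7c00b504fb0f490baf06fb0f090e010b180b20031903010b8c02e10d5c08490459064c0883061404b0071f00450c130e4901d1049c0e3e0f3d067408dc0c9701ed0f7b05e2033b026d09b70d8b064b0c00074f055c01a406e90c030deb02ce0f57001f0d1e0989003b00ca0de40f8b0a880dd30b09018c0ec3018b0da80197085e03870c8d0a920d3c062301a606530ec903ed00df09ba084d0c490a8a099603f5056e0d660d34093e057a0dbb03b7007907c90332040705090c33065f0ee00c38067f031b06a80558012d0c65080e0e2b0bd90a19047107c70167095d00080ecb0ebe026603ac0b940ca802d706f10c8f0a3d069706270dc703bc0f680d3308a406d207200e63084f090a01fe0bf708ae02d306ce04910a7a035807d40e35013b078f029000070a090eb8001305a800ba06800818053805a70a9604e400ea0882053d0a760de70a1e03c102c508af04bf0c7d048701d8028709470a3903f60d790c5c056005740c96032c074b0e41094f0d6c0f900121037f09680b5604f00f4108810f0008a605c700c20e810cfd04e3039a0a7507fe0bec06bd018d082502fe0dfc0400011d0c54006306da00ab0d92000e057c01260ad302820e3c0967099f02810886087108aa07ca04da082603e10843099702f10eb206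f609dc0ae7026009190c8609a409170f640135099203aa0e290753060f06890ce702ed09d10ac30b5a076406f7000f08230b5f021e0a4f07ab0ba20f6901ee08b6035e06d5023804f7042e05360e7d09a00862013f0f4d04a609820b4104400ae606600b45057805cd0d480fc90a0106f000b1063303dc014d040c0e930e4a05b70f5404a5001803d60dee047d043e07680eb306c70a020dfb00000a5b0b11003707740f730c57012c0215024e09ad0f91076e0f4f0c58042b066202850b1202130b140b2404ec08be0dc906470f42009c061f0c260f1d0ec500cf0fce059c017403b204d40074073601e303260ea60d620039005302690d9d0dda07880f040513007809fa0cda0aaa0f880965009d04560481098001100b710b430fa1045a083f06700e6f086e03c3060e03c70550016b02050ed603ff03d5044a090e073e0b840499016f015c063b004e069303d70a2803d906b00a3303db0d0e052504a40b6000ad0e1501de0c9b08d401c007480a9f0fa40d8a0e420d0a08880f75021d0dbc0c9a08b8098e03e5076b07ae04ab0fb80aef09050f6509c90d6b0ec10959027109ae05fc08110abb05750ed00d03042d0a71067307df0a620bc309f107ec04c70c1d04dc0d86032f0fba07800062050f0c1203610c2804db014a04f80f4b0eb903700cc60f9502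b8053402ac0c6002fa0bd405c400f300200bbe0b9607060371027c0a9a05fb08e709d5061308f600880e3101ff020e0fd2013206cc0ec7068c0a97036a008b055d04d304cf0cee0b2507050382023b07be065c057d02c706770db3006408870b5806ff0f7404820ce50fa9026f00d000ce0d290898078602de07ce059a091a007e0e2c0be705ad00850e530bb20f4606af0caa040601760ac808cc041e06d0014f06e102b502a70d7703c806f30acb0429082b0e0d00350297073008bb03de03fb0bbc089e095008f80f120bf609570ec80e900e0907cc008006ea012e0441074d05920738013c084406440bcc0339084008480e7109b306480b280b3c05df0e160d7c04f6086709310af100020f27041c0fc206c00e8e07270f7d0a95063e007f09b20dac04fd0ed40e05023d05880c9d038a055b027406b304bb0650079600d807a807a60b7200b4038506be06b10707028a0a6e0f840783049f0b6107af00b9087907da025f052901870aa7087b01610c66025208b9064100830051028802310f5204e5073b0f300c1501f906dc0c3b024f071a044f0a0409ee065a060301b10aa20b1c072406090ea20912099002990cd70d210b6d02a1029f050e0b4b0b800dea00950d8f01510f16086a0d040b760c110c680dad031f0b69002609a805550ab008930db206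850d060c2d02fb0f7c072105ff065803e20b46075f0ae903e60fc3077d05bb0643031307bf022c080409100fcf0cf20d5a0ef000ff0d91023a0f6e01f603640dbf069f05d90ba30b810e880aed0267008c005900c60cdc045d0e670bf2029401df05530aa40ded0a1802b3000d0df80dd20f2909080a1c0ba80196081c0119035401b9041f01e20bb30d36091b03da0666028b07c2084707750c0c06c4004802650d4b0eec061902370ec2015a0f1c01cd05ef09fb0373045e0309085d010b00190d4503cf07a40709074005fa0dc6012f060d02cc0229064e06db08da02d109450a400b6f05f90b6c07790e7b0e8b052209a900c8097601220ad50760022504130bdb05be0951046408e40aa90f6f03e70f590eeb070d03d006cf07ba0f45086006ec00910a1b0cbe0a6c03b503600664040207390d410d510d020549086c0626085304570f9c0a6f05010ddb09060d4602c902b10f0a031c0c8a03a50c420f7e091d02a2050403b300bd06b40abe0f3507850546075503920e14020a0a32022a01250eee048a0e04050a01ab02c20edc047c086f034f02780b0f0c7c049d0a21078909c40ab102e90b530cd4005a04c30234053e0fd80bb90bd8006d028607b60b7c08350e6d046f0b9d0e9c0be0059f0cb401bf0c980f150a1d0e5c05a301ba0d6908950a4506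8704c60899058e098d04e104eb0c7b0d1506bc0dde010206a502f9076a0ab60a500b7e048b01fd0c4e0bc00b9f05d3017c0e2e0dca0f3809c8038f09ce03950f71043c025e04f40203082f0b7d074c08c10ae0007a08ec00170999076d0def09fc04cc0583051f02950b4a0d9808fb0c6c0c20092d032e0f0506df04b603ae066307de0dba02bf08ea0246064a0e780bdc06750c140da7024c04850c510a060940034c07990a0b0b7704e605850a070ae3073a0e3d02540cb204b906b80cb00ca6038b08a904e807bc0506059e04e9087206f9001500c00a260ca5075e057703a60b790b9103ab0b5b07710de50ecc047907a7004d094d0050014200a70bc60cd9051d03b604880567055a0aa00dab05c00bf904d604b407570fd40fd5022e060b0dbd00de09770ecd0fb20f6a06220d8d0b950e47029a02ca0eb50fae0c6e0e620e6104240014040404ac037403450d88007307500a94015e048407e106b901a505e900a10ce20410008907e9024d0a980856037a01b503ad09cd016d02980489043500d60bd20624072f0e1d0366018e0a4206e30a14072a0b7b0c0702140bf40004046700d705480941040b05d509790a57018008330d6708fd034b0ed1008708ab010f068e0d380e25038e0d9f09d00aad07460eb70b570dcc0e2109de081e09dd05e509280e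230db4037e0db50ce3071206e6026404490368084506e8078209e00f3704c10e0c0139025603080bcf01650cb503430e220e4b08ba0af503140a4408d2035709d307970ef10a8d0ebd046c097d0e76026802ab091602cb06aa019c093f0b2205bc03770822070803b10b1a086901150aae088907470b2b03c601200ed90b5e0f8901c30f8d090d098108290e0a04de040f047703400276080b02b408d003750b660656054507ed0c3706a10a0f08700baa05d106720abc076907ad003e0cc8069e013102fc092605980ad4031a0cf609bc083e08f10a0d0c6b0aff0cdb0df104f30d4004dd0a2207d200a90f1f03ec0ce007cb0d9a015009f30148047e09ac035004ba09860bde0c4b065e0cc70384044709b504a206e0024901810ef4066703f2079e0efb01c9014305b6090005b30f020f030927077009d70a740a5a066e0f55023f04df06d10a4e05ac0d2a0f780c5b0057082e06eb0b5d0b7301b300560a290f3f0be90b3b0f920100003008fa06f80a120c340798057f079d0d5d0f6107cd00cd0a2e0718085a00f70e0709b8091e0b8a05fe025304c004720b5103fc0f1e0bdf07000a3008fe0bd601e50a650321049601ea0e0b0b290fbd0671093d067d01e605da09f50e4f09d90b93088e00c4061807e80839005c00e70f6608d509e3061c09d80ac90a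370d35025c0cf4011e07770dc80bfd0f070699088b034106120587074e0ee1096a0743058c0182020d005806a60efe0be602480cfa068b0acd050b0ca104a90d2007b40fb10a63069405f10b640cf508970fdb098b0d7b025a00b603c50bc70bff05c906c30ce60d820541017102240a530d7f084e0c430a99074906c50ae2032307040e1c059400060e8705790219071409430e4308f308570b1601c80b420c02071e02d90a56050209b10d9509840cdf0752024702d40c190c830ce109e1048e091f0e500c4f0c39085100ef0a030b0d05630e960a0a097b0eb009c30e120d7d09f003e905c30acf0d58045b0e1b02ae04f200600d0d0b39017a035c0e2002a404760e9503b80184016c04f102d00be508eb0dfa07d30c1b08000f33054b0b0a0d57044406b2046500aa093806ba0033042a0e3b0c4d0a6d06a3050503360b650ade0922002408070f5c09ab0ccf0c94048d0e4402cf09b0004b01e8015d098506d90f230aa10a7009250918002f0164020103a20ef803ca0f8c068a01ca09320d270fb50fd00cce00f207e605190cbd055207a505b40c7f0c3e01a00c820a000de001230e34053f06c109690c910f2a00c307c001f1088001fc074a04a80ed802720b3f009300820d5b067e0ceb0b9c0f0e0cd30a79063c02060eab080f00e309090d47077309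7c02200e8c00be0b33070e036505e4070c0f76055e02b2039805390a3c06fe013601bc00520bc90bc40f830eb4030c089c041d0fa6001b08a308310d600b040ea30a410e03073f0fbf02320116066c058b0a0e0226011b0d2308940c92069d0593016e047409e806a20ef508410cc0086502e30edb0ebb06e7009f0a550b8602630c0b06690b400828021a0a9e0bad0e9200e2054e0f1002730c0f00d20d39023501370f0b00f50813012b0faa000106460f3b00a30bae0e5a05b10a5f0c3609e508120e9d0bfc0d3201e7098f0cba095a05e604550adc0e6405710e720cae0620052b08ed07c30e9b08d107510c700c9f0d2f067a041705db08b10bbf0f5603030fd905ae0bc504b50b4d044d0a7e0da103a30e4d01fa0dd904b10cb70cad054a008a09cb04b20f820e850ac50d4302dd091300e802e808640d4d0816047b002802af05e80f7f0fd60fcd03960e660af304fe042103a70a8b09a100eb0fa8069208c60c040d2e02d20832061108d80dc1065b08e60e9101f3051209ec01890c5e0daa01f20a850b4f09fd04cb08740733063606290ba10d7500fe03560b1008910041083008340d00084209bd0bc20b980ca4089201560701075c07310a910a870b7a040e034d0df3080d0d050b010a5e0e8d0124046a0a5d03420346086604f50c670f720ef60a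930896032d0f5308b3009e079406d70bb80d2c0e560c7909e20722083a0d930d3f08590537080c01930528052e0c4c0f9e02f4007707f20aac0d9c069005d003f10b470b310ac402f707190f0603ba09d20d1f08bc0c4600f60c750ad200f10d1b06ca021b0e1f047501180bd502f30442064f06060098088508c807d708140bb60f2e084a07ea03380a4c0aea0d5303cc07250b2d08c2051c0c8c081f0230075a062e049305890e3806d60bf50d4a08a70daf03eb077e013a04d001910fd707c50044061b09070d6a0d500f8a0f210f87092f095f0fc706390ae40c500db708e90aeb055100e40427041a0c6101fb09b40e58053503590fb00ad6079b0dd7071b030a0c62061d0236048f0a100b440f0c0b2c0f32087603a8012a002701da004c0de907d60e7e0db001ad0e9a0d550cfe0b4e0a9b0f4e0b1706160a2700fc04530d4203e807f502b00ea705110d5209490a3105a209f70eb60452010d0e3305400fbb039100d1090b023e0e5107e3075b04d900e10b3607c10fca01c50ec40c050a350e6907f3020008f20f770b8e0ad80ea403a006d40a1f00d90e83001103b40bb10c100ed70211071304a7030f03a402920c17072c046d0f93063d04250903097f0aaf0db9031209830b7800610de80a20026a0b380ac709440aca003a0acc0b2f0ad703bd03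be0cef035d08ff092902750d1a047f02fd05f302ee0a2a0add0767068103bb0adf02450bbb029b013d03d303d40be303c404a00138062c0c09081508f503f708d70b02076f0cff0042085807db0bed08240b680e5d043b0510082708dd03ef053205f50d2d03fd03830f0801cf01c1006e0b970ece05af0e3205150878037c0f1808cf04150283087a07b10eda0049083609e6034802770c1f014409da071c039f0a590eed02170ba407a100cc0394001d07dd00460d08077201e0075407f10930005e0a730a8201d2036b01600cde036e0a610de3079a033e07d005b5096c0f2f017e0a8908f401b70b5203d1063103350104044c0bd3078404ed0133094b0c6901ac0090072308c00f9f04d8084607b90198015f03890d2804cd07f00f01078c04ce06a4075902e60367010c02960c3d0d3d0a08048302e00610035b01dc0d850c06021f0ee90a8f085c04c50bab0d2b0cd201660e9e0e790afd003d0f2d066f031d06cb0fc109930258032208df0bfe073d0c560e80021c0d4c0cb90787097a03e30fa20f4a03f00cd1030405a40d220446092e07900f130d840f80030d053b00e90c5501d50cd60b9003cb074109880a7b088a000904a30e860cf304ae049002ea0b7501620e6e03c90b6200f90f5e02f208b705200e45033f0ed20dd605820ec60c53033701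d60a4305230cbf0ce80216065d00b00bea009b0da906540bd70507091c062806040c310d560921077807fb08e20e9f0a5401570bba0eff015408c4011f01e108540ebc0dc30e600f1a0e2f02930a7f0c730fa70a2d0756095605b008e10423051a06370fab0a7d077a0d8c0c80025d0a2c0dc40da6062f0f1908d909a3015309a20e4e0e000ef303c007fc09a707d80a23033c0863095c02b903ee0f5f0bce0fb9016a005b006f094209d6008609c00bb408ac0b150f4003900b830b7f0eef0c780e6b0c950a72019b0c6a00ed08bf0388075803ce09e4056f05ce0aa30dfe0a490eaa0c3c0dcf025703dd0af8077b09640bee093b079c057b0d9900970b7009cc087502a806ad0c7606830107031e026b07910de6083c06d809c50d6f0c7409b60b1d07e0084b0caf0103071706960655085203c200b70f440f1701d701400702041209e90cec0a58096f0c870b5009370443056b08b20f2c059609bf0478006b08080d1109780da508cb09200e8902080591090c06780fa30ca701a105ba03310b590ab4031704950576066800d5038002da0b1e07c80b130e7003f30e8a01270a68069b0e37002c08cd00a502270ca205c20ada018508730c8805f604030a690bda088405d20450053009b90eea01eb096d00750e0604ff04f905d40d250d170b540c400db601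f706c90f990601055606c206cd0e2d0afe094802c00376095b0ac00d1003340db804380f3c0bb5024102df03000de10cc4036f0c470e94039d0eae09330cd00c8b05f0071006610ea1019204090ee3076200e5039c0abd08a10f3a0f1b05aa0f48089b094a0c72035f00da07dc00dd06f50e0809af00290f5801a80432035208c500a60cfb01ae0d0f0c1a07e70c3500550faf022105e10fd30d130ede0776027b0cfc0cd5034a0c21094e0c850eba04b301c60469014c007207cf0b920c250c230df404fc003209ca0c640204062b0068069c071607bd0e1103620092087f0f2406320da00ccb0ee60a340d240b030cc30e59067900dc0ad1058a07d9062a0adb028e00e00c840bf30329078e05f7010102f009c7036d034907eb06000ad000fd093501450d5f02c604e00f8102c302a000ac099b07280a2f00a00b3701900dc50a86000507260df20ead01590386070f081a011302400b490c7a03bf0a0c0bd0046b079203b9056a05ab0b6a0d2603550a6607420ef709230a110bfb0b1f0566043a00230da2020f0b8508ca04d105dd090f0ba5076602c106ab0b8d0dd805900031094c04920f310595076c0d6801410fcb0e570ae807b50fc60419033d092c0e300e840ecf02590fc80dd1035a024a088c016306ee097104ee015b04280f860e6a02ec0d0106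de049b05680efc0a7805ea0498000b06490e0f02790cc9050d0bc10302052106b6003601c2045405bf0572040d01690c16080501b401700da301b603fa09df07c407d502180df60cf1056d04140a480b060a4706e2037d00ae0c2b00c7091100c909610d4f06bb05d60b9b0067082c0fb305b808d60fc40fa00bc809cf0e18024406820c5f09db0e260e190b3a02d80d9e00cb0ac201520b89061a072e000c081901aa02090f6705610edd07e5014e057e04c20aec0b0b02d60cbb0047048c0261001a099d0ed505cc017d08f903510cbc0c6f0eca09630a60052a07e20a6b07b702890a3b0ee209c205cb0f940a1309ef0a3f0d370ea50df9086d0c080af204ad006601f50b0007ee018f0dae0ddf028c039b08ad0d7e022f0e750012018300c100760d720a510b8b0a8c03e006350e9903720dce06b7028d08b40962069a06fa06f401a30e770af905a909c1081b0f430ace081d043706020cc2038c093c009903790c4a04660c8e03af04ea00340efd074503250d960c2c03d80afa0c9e0b2300e60a24004006170188011a06ed05f80cac0025020b0e02002201b0051b04390991002d060c0129002a0d890a770c2f0e5e037b0e4805a00096092b0b30086b0f7a082d07f40bca006903f80e520b5c0b87095500a800f00e7c02f80bf10bcd066b014907c60dcb09f905640b26,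
  0xfff0ffe0ffd0ffc0ffb0ffa0ff90ff80ff70ff60ff50ff40ff30ff20ff10ff00fef0fee0fed0fec0feb0fea0fe90fe80fe70fe60fe50fe40fe30fe20fe10fe00fdf0fde0fdd0fdc088b0c220c0c0807082e0996056b07bd0203095c097d09e805e2043405380f5703f101e502050b2208920da10d1305ad0e1e0da60d3f0d000e6409e5037400e60c6504b90788099d09de0727048b0d4f0a170e470680021908760a610cba05540844093f0d8b0bb20a410751013605c8029200ff04980a6e001108780036030b085a0ac0023e03db064f01080bd0073700850899011c065d03d0022905040ef90dc9069d076e0710037a05a60a4d0d930f8b0e760771041002b30ecd0bf703f50c3f078500ce007001d30bec0bf40e59097206470423036600960f2500c804bd02dd01440f18082c06f2019f0b7f0b4700730adc049e00d50bbe06670c3009ed00a107440bcb01e7006f05de01bd0de60d4a024b04e70f2f0f4f0bd409bb04000d180679030803a101de065b043306cc0e6907dc0b5308a407f0055b03cc022d03570987072203c70671006a08d90a710740076707a10f80035c0d570b390e910de102720c14046d0a8503fc06df02ab063407a808130f39085c0ee50c9b0ba10ed20e9e0a84033502d50ccb004e04d704320b1e00720ba804ba0a800e56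04f40eb20fac072b08e209ac0f89062b0d850e5306b301e10a01005908880a60012305e50b8b0d30068809660607094b0146097e0e3e0e2608190d0903e5036708bf05b80d5809390f0f04d2058606050f610e7200b60dc203c00afd07d30d5b0a4603b50c1600e4041c09140eac02d607b703fa05c405c203ce009d00f003cd06ec0efe0424013f05a906c60c640b4b08e3015b0acd090c08e0041f0a420ea1024c08180e8a04eb0af00e5207a002aa08360a4c0ed402e40cd3059b0254025c0ac705cb0b7a03630b77066d0e1101220edc0475037807ad07e50a9002860382089703ac0d5a05da044709aa074d0dcf0c6306a60d490a550754071b0ee0079100ef0bf50f810f130cd604360d250eee026006a90f580ad00cff0056006709c50fc104830cc80c7f096e0a1e04920d38045308600520078c0a100e7409ef0f6c044e0aa4077f096d0f6b010b0c5703bc0be20820083105070ef70cb90ad9075e0f010c45021a00b008ad08560cad0c43055005ee0c2e0dc40ece01cd083809f90f0a0848078d083b07070fb203d4028f06dc0fc00ded0b89048e019e0f7f0149057504810f1c093c0dca04310b8e058e0ac5078001d704220e7909be030007ab022004e6032c023d0e860e38089e079509f30081049c063509280f1908c509f209b50f9909d00a7c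016507af05ac0019011b022f0c6c005b07020de800e3063b04b5034e0b9f0aee04200d5c068a02830bb70d0f02980e000cd507d0009f01470f5d00970d4500690e390e4402d00326016d0c6a0f9a016208ff04140aa105e60048035103dd06780c0f0dff0bb307f206b5023606fb0d07059f007c07bb0239010903a30e140e2f038f09d30a5b005d0e1f0b41080d08140e8f0ea0044b06ea054a071c0c0500fb09a3093b0fb1021e0f7101cb06850f970e230df90a3301ce019a023701d904cc031807c10464097502e20191073a09db0b430df5043b08790f230d420f7509310b0c05ae0d2e0da50c87029906cb065a0b4c03120e0f090306ab0fd103ed0c390dee09200487079f06740e3d0f620aa806f40cf605d30d0601380fa102490aa9080400d9016302440a23098b002e06e40edd06c90ca40e5c01f80ebe08fb004c0c7e0b2f05230eb70ea20ecf08060e3208800089006b0a12056f043f04e0051e049f011f02db01ab01d400c5033b0e5802f5024e0a470e0a01a205c3096302180c7908470b540dad07ee0160088a0e2e01f2018701af0dc50133034a07320e9801390b510c9e0bd303eb015200d7048c0415041d0e3a02a4094a07a303bd07f901dc012b0ae90ebb001700830750023f077d06e703bb07f606f801e80e8308340b2308c808f2090a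00a007fa0ba7084e039a04b604ef05bf0bab0d1b0356041804940e0d0e840ec40e7507d20427028b080901b60c930f5c084306d40ee60e8d004a00b40d8d08ab0f960bf004a800620cd107e90e6c067d0fa40a620be1006302f6018f07ec06d103b40c4c072001880e66092405a509cf094e0dbc0f740c5b0e060ade0b2c0faa0d76031d06f60f6009f10d360b950be308c20c8e0b400a87091101a502bc0c8f060309f802b40e4305910ccf00d000b90a9a0524031503f4023b0a24010e072c02e30d3d0d740df300b20d8a0d9f040f06d70c1e0ec00760029a03480dce04580fb700a2080005ab04fc0dd9067008a806bf047303140df2000c045f074b02fc0d9a093405b40e810ebf0cdb088f09df05140cf406ae07fc0e8e0f8e06210bc400e80e330ba20a190da80e010b79032f05f3014206d80ca30c330fa60b55079b034905a30cf903970d0b07db09490b2b00e50dd7031b09fe07180dd607e6082105d106e803960ea30ad806720fd80ac802160dc00bc10b2106f104a90eb105e80a0903ec01e20b420abc0b360ad307900fab03cf0ce0029d02c30a110ce1024601950bfd0faf00aa0bad0b9d089f0b8302c70c5a0cf109c10cb207ef09e70518047f01030f1a0d9708d00f7b041b06b006b60b860ae50fb6089305530d6f08ae08fc0d4c00900451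028c05290d75051c03010c620f660b0e092f0b45035a0ce500fd0aae0f420d920aa204f60a8f046e01b90f4104d30b760b49006c0c0a055d0955005107df0fca039d0d9e0ce8086b08d30b0b09370bc80ca801680e4e0e2707c90316050e029b098d09ff02a80c5305680091051906530842094107040cc90ba30f3108450f04069807ce0eab0dfb0b8500a801670b0a0c5908d5021701ae02650da200c009c2091307c5098e0ecc09830cf80cbe07c20f070bc00247012f0d530a5009ee08940af10b4e07be07c60db40cda0f54038e01fa0cef0c9a01920a8e093801580cc101ac02f207f30f700d200fa50e700e3506560768017407720b110bca0e990287043702ad0b140c180f3300db074300ab0df1027302d90f0602c60daa0cb80d3e08b600c90b3c08a90dc3098f015c06c3088e0e77047709bd0126034d03fd01a10b900fcc0e36001b0c8509dd07260c720e5404400071077e0b0f072d0a9e009e02fa028a08860ede02f702ac04030c9f0a15025f0092009a09eb0953079e0c280a9f09890f690b310fbc04a605720ec7053d09e90bac0a8a07a9060e0b5f0cae07b900c40ab4010f0bba064806bb0d690cbf0cf70c990393008f08cc0de707330c5f07b202cb059402520bd20ef40c500f30013c03850029063d0c34067e01b00f59018507920ada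0b1c05eb0cd9028501b20243059206990cb50a2102550c7c0e6305a805fc0ef6087208b404820143087102610ce90c6600400e5d00760ef0012e0f56041904d909810dd801210b19015408cb04090945074f01aa0c370034062600250f860f2101b500d2084a01040abf09a003a70e7e0bbb003e04ae0bcf02070b980b8d0c1d017f0c3d05640e4b050503e708ce03ab033307d70ccc05c605780e1a01c90e120d040d980921065e0e890a8806e900f104a40b0900200d120541072a042b0a960c210aa5002f0f980023015d068300780a1308be069a01d8065c02c203e60e2b071d0cc306da0794099f001e0d1907f70df0034b0846092b0ca906ac058b03410cc00d160ceb0717095801770d0307c70d5e0cfc0d35040d01bc03040ccd01da099c00950e170ac1028103d10f0c02250d26018a0c200aeb0a310ddc002b02750ecb0045090e05af00f204460619071f0aac064c0daf0828010102f1083a0ac6081f0dc70a980d94045e01ca03b206420dd408910c410fc6013b0f320773019b07480c6d04800f5508a70b610404075a0f5a07d506970ad509300830044a0296091206390ea706f30f4002940a6607790fbd089b030a059804f208f60e710a5d0eb409c605b90e480a7404bf069103650d6006c8046900e00dfa02dc0c5c01720ed305650c3a0a6b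080b0b5e04e8059908ed055f05fe0d8e05df0cd705ba06b40468048d0d27005f0502050a07870a630ce60b80062305ed051f026704440ee3004403d60ee80a30017301000e3f0acf0a0a02df0762007509780a7f068f090604c5024d0215066e0288005203750f8805cd070e038a0cf00b5c0a18023801ec018306ff03d707a206590afe062a034302950ed90b7d09ad0c0d06fe0eea06860472076c0f0e00fc04f803a502a50bd50c0102620bd90c4b0dab08a50ec505fd0b13008703900808022300d8012a07470da7049006e6022204af0e22006105e007120d640827004f09190e9d0d910ad604b803f0095b054c0495018b03af01c009b40a1b00cc035d0f7a086a0c7706640c3601dd08840af30e9608fd0caf058a03d903050a5f026e0f1e057c01b40e310d0c08630b070cc600f70deb085e075f01a408250d0809ba0fcd0d1c07e7067504a506fd053b07c807d40a7b026a0f49073c038101780f5e0d73017d040a0be909ce03590a6408b10516049605aa01d2083e06a107ff047b02910c10047a0c4809320efc09da0b9e071e08830d6505f207cd09760afa0c7a0140090009180c3e0bde008c00a70b160f650e680f9b06be093d007b0dcc0b1b04fa04c202ff06400f2a020c01270c71047c0ba4092c0799027f03d30bae0134055209c00e5b00eb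0dec04d6084d0e46032d073409ea00cb09270ab7095e020b060c00130980032404be062e085507d100c30c250f350e20017a030c019802780f380eda069308e504f0067b0aad01150aa706c2070806090d3c0d8903580000096c0868075300bf068d006e073d049b0a820c3c00150c2702a00f2d0a000c2d03f20f9d014d03380471020e0c150abe05f906fc0af20102021f02740e2809e00d3a07a707810e15001a06760eb800be0c47045a054e09600db0042a0b30012d07e007b009a9001d0a5a0da00e6b04d10098087e05d00dea01a30a6f005c07eb0d2204e903b605320ef10038000708c10fad0fbe0253062902bb08030dd3053a0761002a05db04dc059302a205950f820ac20ea605900c8a0c1b0b630d710aaf070a0c7d02a7029c0d170d2902310b920dc107fb002d01c2066a01f508ea055c00e10c700a3209b008c7086c0b1801cc060b0bd106a7042f08dc0ad204a304c70f0d0ed50835068705220b1f0f2204fd09f40ace08e40344026801f10d4d06040e0302ef07ca02cf064a036f0c6f082a0448040802010d670e5f0c1f0b38013d0a9c06250b7e0aa00cfa0f15035200c702b608d601d504070add001605d9004205be02b006dd083f08410c2a0a34019d0986018d067a0ad40055091a02eb010600d106d6008d06ce0a69090107150b2e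061602da09ae09ab061401840e780ee402bf03100e570f3c055706b704b10bb90f6e03e20209000d05390e2c0995061a016c05d60c4002500a4e09cc09360d6b01e30c260a7e0005006506220c9503da01890baa04ee0a9303fe02c80bfc05dc04ec01760fc40fd405970fc5074103470a3d02e60543022102e70a03019404ac08fa01c807380e7300ae0b870b9c0c690ab204db058100d40a7304c901d0041e04260bff0c190ce20c670b3b01800235008a04ad0eae09af070d0d1a07fd03860985098a04e50802058d03300d8c036a08b0059e02d203e40d8402fb00dc0b6906370977092203ae04ab00030f5001db017502930a510e950b730f4d08b90db80c2f05ea011106500fda0e300abd01130b820c4909cd0dd109b20a02082b0f7d0b520a4906d90c730b3f05610a7d0c8405350968039e02d4063e070b0e1d0e4a047e013e0bb806db0e9f02c10cdc04a202060f0b04990701068e03340f370d7703e3021b043800fa00100f11052b006003e00a0d0c82031f03640f940ec602d70fcf0322076a02690b62004101310c7405bb0b000f9e06c50d6205370d2b0eef0aab042e02700db701a60c460a06085308240692054901160112030f007400b30d0e01c70f760f8c0118020d06ba0b3704d40ab80a43018c0066098c033d0eba01f702480ba50fc8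0f170ced03bf031c005a0a1f00300454021d0b1a061c08d8088c0f000d28088103c50ec30d4404250c0806f00d9000ad029f0c9602900da40858095a0ee109570721069e0bf2045c058408df0e6a003c0a58069c08670a830b660d3900800d540a940aca053401240db60d3b04e3004302f001c10391036201c30a26048f032e08120a9500a30c17064e0d9909bc05d50c35026603c80c8c0ab00f0906570035045705730a6a04500a670a4f04c30ead09c70643088907a50b7801e0086d01d10e6f09e30a3a0def01eb05590e7a0e8c01930f1b0340013a01370baf080f03f90ddf092902a900bc083907b50dd206f5032a06d00345061f0cce0895090406cf001806b809e60f45097c0b060af8075d0d1f02b7057a061d0fd2085005b10c5206d3082d01480684000602cd036804f300570df70467056a0864057106550fd609160cdd00330af70f9f070f07f104f7063003b10b71050c049109330f4304d805f6026402ee0d24094405f701500fd30a9102f300470b6f04c108c605800b4a03f70d9c0e4202a102e10724007d038707d60e1b004b06a00d8307aa018206e1083706520d050d370ab603800b990d3306d20bf805cc0b9a03790b9707b40bc701ba0bdf0c0e0e2107000e6e06a5074e0bef00bb02d1019003d20e1602ce076f043e0cac0a9d039f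08bc0e0b01ea00a5024a03980fc70b4f0a77066f04b3071a0b7c020a0de90b930cb6016104760f5101790f4a01c50d0105c909a10cdf085b0ca10c510a810ce305ef09460bce027706940997089c0d590ca708c0026d039908a60e2408af08f40765046003ea0a0f0acc091005c50d10085f089d081000500cb308c404bc07cf01e900a402110257060a0b150954048407a40a2804dd026c06c70ba600530ed8050101a808e7092a0b280ba005ff09260f92048509400f8a009909080a38087c03c90b9b081d0aea0282033c063804bb0b330c120b17031a00ca00770dac0b9106080521056309b8062006de06730d4803d50e490d7b0d0d045603730fb3071303cb078907360fbb0cf5074c0d9b0d6600b107ae048a088505880a48060f006405f5075b06aa0993079703ad0eb60a200efa0d3408a3084f052504390fa80f910bf605ce0f2e072504060fa708b2095d008609f70a2f02040a360350063c0c310ab302bd0f950f2707030d80081c0082067f0b81079606d50db206e30ebc06490a0408bb007a023307820ae10b940cd4096a06a204130fd705c0059c0974092507b10fba0c29038b050f077b000a05450840012c0e340cf303c104930d7001a7056c054f0627087b08aa0f6d0b500026016a0eb508510b560a2e0cd80cde0e7b0fa3060203540aa6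0e190bd600ed08f50bc600cf00b805b50dae03aa009c06bd09020be707760e020ec90dd00e130120094f0f9c00af06e20fae09c305f40b7405110f720e93077502e00f93078403420b12057608b50a6c025107690e940a5900f507ed039406ca0e4c056007770d0201970f68076602e80ae206ef05b0099e0f020bed05270ddd03ff0735057f0ed0053100270cd002ea0de00a16093e090b01c60463066c065f05bc09b102ec000204b202ba003b03890e6d02b20e2908f80c09077c08c90e6200ac023a0a680b2d0a2d01ff014b0edb09d806b908d703a209560c110bc50ba90b2004890d21083205420be4021409520a3900930a2c0c0703c40f48055809e20f8d0e4008490815057d064d09a5021303320b840ab50ab10eb00e250fdb045d0585039c03f305cf0c8907ac0a5c0f7e08eb0ca50c540b100ea4030e0ec2016e0d5f06bc0729008e0e0c046b0681017e057705f002000bc20329027a07e407b6078f0a050256072e0cfb04cf0adf02af0eca095f06900b0d0c940c4f0b7b08f0047008ec0e0e0afb0d56075206eb052c0d7c079d0a2a027d083d05a20d810d6a04ca0c9103b70c2c0a540395036b0c6e01700d8f011e0046028905620a0c08bd0f8f0b4d01fb07630a1a01df08590e870c9d06150de500580fa9049706170aef02a300c608d10923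07c308f1034f0646095008110f030c1303710b03061e0c680ea903720d8702cc036d061307c004c809bf06b103ca066109170f28073109610915087d079a00ec0d4000940edf0b9605b20b5d01a90a5206f9065406af0951081e015604f9058c056707dd01e6037f04e1018e0ac40574040b015e086108ee0b5b070c02d306600ac30ea8006d0c0207110668025a04ea07830e92046a0948046103690739000f03e90874082f03c60e0709b70d6d087f06580d4b022407da00c10ae60ae8097309940d6107780c4a0a7a022a004d06ee054005b307c40d310db90e510e1c050602f9002c0fb50e7c08dd0db50bd703ba0a8d0e4d0bfa04c4011909e4061202a60b480c2404e404620a0e0b3406cd03110d460cab068c01f6098801f9027e0cc40f4c012908c308e106fa02b80eb30dc806770b080bb401cf0e8b0efd097b0f3b0c7b0c000fd00d7e055a0a750a3b081b0e100d7f0c4e030d086601fe00f40e0908a2056e022c0a440e080e5e0d2c0b8a0dbf0cc70bc90600046501140dc60a700ae40b260ae004ed0a6d0fc908700f240f200bc303fb014c09f607cb027c0cb10c980b720d68061b01280fc20f12058f0b2900ba0df6037b0f1d002202f4069607e104300854010a0b270e450bbf08290c3b0d2f033f04f10c3800f904160e6102b1066302c90f3a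05bd09f50054000b058702410e4109090d4e035b0afc0f530cec09690a2b00df023200fe043a052d058309fd080103a608e90857001c033e024501570bea0fb40e82051d09e104b40cc2010c03b809a2099209c9058900d60c9703a40a86042c07fe014a073f044307420145035e0f2c06c4063106660e55070502c40bbd05fb07ea0c8608750efb08870fcb08db02020d0a0f73045208050bee050303f8016601ed07190bb00c040cb70037051a02ae02c00c1a03c3043503e80b460159016f0c440ac9062f0d95005e031305b70b6e0f3600b7029e0adb0eec0b750c4d0d410da306010756057908ac05e30a9207cc0633032303390e6504b7044c0dde0a080f3e025d0f63065103b00d510355090d050b00390bda09710171089006650e850a8b0d6c04d007700fb801ad029707e305260e900b05085203170e6002fe0b3d0eb90f5f0dbe03dc092e053601f004b0036e0548057b0cbb0570007f017b0b5a093507140263054402b50fb909820a790b250279018606a8097a07f40e5a096f0ab901f409650f050f850bf30a7809fb068b088201bb015308e6054b0c6101ee00f60b010ee90bcd0d86059d04cb0212096201fc01ef031e063f0d32084b0c8b013003280f520a3f043d0798059a01c40e7f0ef2069f086f041103b30f670a0b027b061803b90f26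07bf0466087705080acb0f4b0fd90d2a0ee203030cb001990fc308a00c920e2a0e3c01d60f3d0eeb0c78007e05ec0a760a570af50dda03920dfc0dba0970055106450b240c42091b0be0023c0f1f09d60ee706e0095905a70be604c600ea040102ca08650079086e084c08e8014f0df4057e008804da00e70f5b0b6407860611069b05d705c105a402ed0b68064b0e9b0abb044f0ae30979086205e90fa00107088d0689028009470d72066b08f307e2074a00dd040e001f0a3e052f0a890b580cfd0388052e0a720bf10a650da9012501a0075906a3022e019607060ce405a100b5038d0de306410c5805000be507ba0b6c0b6a052a09420240022b0ce703700307022709910331049d03ee0f87085d02be016b089a0f7908ef0aaa019c0dd5031903c20aed010d044d00a60441003f015501b702840c830e9a0d7808de0512020805e4094d05f8003d0de40c030aff09b90a2908f7069502340b6005280eaa063a000909d9033605f10e5008b80a350bdb0a250cbc0755090702f80d9d04120b3e037c0ae705170b57011d00240d7d062c03be0dfd0fd50d140e8009840d11037708ca0014021c0db1058203ef0d880cc501be083c0d820226081a0b3a03e100f8074609a80fa2054d06b209a40d4706a409ec0f7c02e50cf20d2d05d40e6705150eff08980c90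09b601b30d520c3208da0556038c0110041a0ef301bf0a97004900da0a5e02b90bd80716043c092d03de0873072f062402de08960aba0be80d790b880e050449021005d809900db3003101e4026f03a00a4b076b07d90c06042d037d0bcc03250f900b6b0ca608b3091e028d09430bf900bd077a0df80e7d0d430ef5067c014e0745033a02d803830c750bb5036c01410af90ec10af6025b015f011706690dfe08ba08330f1009990f4e05090dcb0ad70a5605e70ddb099b0b1d04f50793082205d20084099a0eed091f096400280f44011a0b590b020f84073b0f4706ad01510f6a037605c7027105e104590bfe09dc006809fa06f7032b0d230ef80b0400e204020c88013209fc0e88039b0c9c08f9053c0b350dcd02e90321035f046c0c8100a90bdc0f7804a106ed025804aa05a0087a028e075c07090546037e09c8024209d20aa304a707de022804df053304a00ad10c1c03270b700aec025907740488025e03610cca07bc0f6f06620cee0cbd04170f830ebd015a0a8c055e0e3b042105dd046f0b650a4a01f3036003df0f770ed70f290f140fce047d072802300b6d082309670d6e0d500c760dbb01b1024f049a09a70a450b2a078b09f001050c560628003200cd094c0757051007640c0b0d6307b804450d5d08d406e50eaf09ca079c0486055500e9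0fbf0ec809b3053f0a3c09d505300c23078e0008091c040c0f2b0a1d0c6008170cea00ee0ed1034c0f1601b80f4604420276035308a104fe0f3f04ce05ca062d051b0e180d1d0998056d00f30c8d0a220a1c05470a270c5d009b0caa080e0bfb00de04c0074907f50e3706360b6709c4045b056904550606068201fd07230c6b05b60e9c09a60566090f0012073e0beb0f3407f8076d06100ca2060d0e2d03a80ea50b8f06c00cfe04e2013507b303d80f64030208690dbd016907a604790cb4026b06c104740fb0016408cf0e04020f04d50c800cd201810bbc078a05fa0513000e0405097f0d7a093a0a990e97059606320730080c00d30a3708260d550b8c0bb1008b0d960a140bb60c55096b00010d1503a90478064403f600c20a9b04de08fe02fd0e4f0c5e0ca007d80346091d07e8017c053e04fb0c2b08b704cd090509d109cb0ed6081609d70a07042900210bdd0a4008d2080a03060b32003a0a530d1e02c50b44050d075804ff032003090af4000408cd09d40f080384042803370de2,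
  0xfff0ffe0ffd0ffc0ffb0ffa0ff90ff80ff70ff60ff50ff40ff30ff20ff10ff00fef0fee0fed0fec0feb0fea0fe90fe80fe70fe60fe50fe40fe30fe20fe10fe00fdf0fde0fdd0fdc0cd107140180091d081d0d3a0da609b704f60f7e094f031a00ce043a044e077603a2061d05860fc800fb088d051f016005ba0a980a4d02030c92074f0ea307510b830b48014b0954057802ec07bc09230d400d7d0ce70a0b0921020e0478023008cd0eb609a4086b0cb80f0a0cd307fc0bee0455055d0b5a026d0a5b054508230c2e00ea0850005d097c071606f40f6900f70869018509f50b6e0bdf0b22018f018c0a3000e40c2409a8045c0267087a0c3e0bba08b4025700860fd20c5f03de03cc08d20ce5016a03e6074705b303200dd6063a090205900d61019806430961040d02cb0f9405c80e960049032104d402d60e72049e02870cf6045a019c0ed806a80510087706cf0e710ec80ad707960b0a0d2c0873017d046402470a8e03020cf8077b01e308970bc10bbe0a8d0c1b0dd704a40e2b0a2300fe0c370f3d0a960579045901bf0228030b0575057c098e080603bf011400e003dc02ae0a8302c80d0805a20db80f1f018e09450d1e0685009c0b4004f903d60f28054a035f0c8508f4089d09bf07dc0387043c003f001102cd0bd105700cf708a10aaa00c6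065d08ad0fa60d150414022606710bcc03f5034b014208dc086308bc00c8089f0a3405f00b3b070d0b5301bc085f0b3d009902f50db909cc090907600e2001ee05540ee5046202390b2f0a9b09650eeb04cf066c0cc60757005903f4060501720a8b007d0a5103090f5c0df50ac100820bc5020806490b5702480b590ece00da01f6023f01c501890f5608a804f402dc086f0aee06cc09a100a50ebf07290ebd017e0abb0c4b032400270bb00faa0c58074d03fa0ca702550041075e0be406c20dce0d820813009200cd0b4b0275036601d50fbd076203480bfd02330e9e092c08a4026406330c070bca08620f6709fc062a02690353005102e8001303f70549015d0e8b0d46087c0ce808a00dab019106d9017103cd03c20b2900c709e60e18040e040703a700e301e90dcb0bbc016706740a570f620f57039a07a501d60a64090408e7080d01ba0b0d0aa4047e04d306bc0c7b01b905220ad409890253007502bb03e4012800a205160acb0b230daa054d0467063809de002c029205e101680209093c091e084a0d2608ac05170dbe019d01ae0b880b8905bb08640463078209d20bd704f8081209e20c8000e90a1a04ec0c83080700fd09b60929025407ef0df90f410e2a0cc40a84012b063401eb00f90161062c0c760eee0870062e05420710001007560584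0e7d02b4000f0ad902c20601002f08d703d90d9e0c7f014e086601de09d00bd20887073a0078098402b1029407a105d5012e011b0da7015003bc06950b760e2c0aab090107ea0ed7021b0ba4045d05c20c860792055702b5055a077a051c0abf0de806b90c77009a0da90dc10cc70b710cb2051b010e04fe04e206d50d2403d705e40f430f7308de00d70125052d09e90c660dcf0eac0dcd0b7d0e7708f50b5e0db001ce01d8028f04a9082f07a60de308ff07310e4506210a410c9501100ef20f290c0c0db608920d4f096c0481061c0dc80d9c047902f109b40e860e550de40c6b0dfe0fd50bab05120299055f0bb902740cbe0e0f07410daf09000bef0d960ca806d20d9906df04fa0c550ab8006f00c9046a04e30cec00a606b409b5000601e402270489033203a109dd0eab0a5d0a2f06fa0c910fb204da019307be07ac04ff05d200e1031d0b4a01810d290ae20b9808f101e80d6d076e01870c450ac80117058e086d04760378012f00330f6f066605ce0a4b0af1041a024e06c90bb404c9095703070cd4009b0616080e0bac01f80db40d1a04c302fe0a08062209c606730c390e8a0631072d049b047c05b50fb305c30bbb0373083003d00fd6007f01df0581056b07ce0c0409d50b2e0aca0ba807d1065e03060f5200070ac60d720b6902930e4808fd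0dda07b1079508bf0bff06e40f2505e30d1c01fe0d4e085707c4035e0ca40f090a9e0c110c43099b076b054e06fd00b306e2091b0b2d042d0f2b06b2043809910af5097604e008d901150979037a028d020104040b2706f00f4b0f100f5f02ac0263029c05f1088c0cf00c70053003c40d8d0be20964071d0e880fb10c9f0f79064706120746025203fd0c2307870a5e072106b303790968097b06540a710b200d550fa502710fdb06970c0f01b103bb0ab005bc0c2d0afd0bf70de20ee200950e2909c9045e03f800b20b070d9f09b20add0821093907860fa709530c8a0661053f014f0de005c501cf03c3097a0b330a78056607c807280d980eb2032303fc0d160a85024608b101f30ce60c7d09550c9c0436070402b6066a007e08ef0dbb025e06630fbf0d7e06670c8f012309b0063e0bdc0cb603c1013303300df00f1c05310e33061806700e370e0e0c7e0c9e036e0e6300d802dd00300de60e210a3b021f02360c7208290cef0ab4002002e704c80da806b60573012c017c0dd00a75039b099d094104c10c600f7d060e0afe0ac704ce088f07c00eb50199090b0d93059c0131045207ec01be01070808034d024c0eba026a032d048502f007e90d6a0c440d1203440a3f07d6047f0f830341034e080a08d50d470b620f3e02760380039f0c3302ab01c0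0a0501c10f9b0cca0a140b5002d50c25073008ca02da0c290f880cdf07370b7c0949024206030c1d04e90f4402de062804fc0bc6041001c201e004c509800d130af40ccf007a05090db70629027d034500a90e99033309150d340c030845096202ed0d20070f0ea000020a7f0b9604200ba00cc80b70011e0359006a05cc0b4907020d9a0fa3036f0b5d0861063d09250be803b201cc09310eae0b8f0ceb0a6e08a50f8e008008900c8b05f304970744065c0e3b08600585029005010e090f1207d901830a7a032b0f0504390e980b13084708be0c170ed4006001d900b00f47053406780f4607e80e760d3e0f820da10277003804f309240d5900a700f505390eb703db046b02400d510da5074300ab0d300b1a06c007700df3081707360a490bf8011302950835082607da0245005b0d7002120bfa0adb06f7075a07710a6303160be30a1208480b0403510ab60e410e42029808d306b70ad10fbb049f0b8101a3034309c80dcc0c21077909fe05c70b58041c0dfa099402220b730b720de10bf607910f8f0a4a07fb0b0107c60d28029b01d3083400b90237068d0c380b4107e700bb0dc90bec09ff08e80fa00ecf0b780ed10aff008103810ef801ef08e50c2b0a030b4e030300b80ea70d740bf10fba0b4704ab09d103be05a3098f0b610f2201490a990ef5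09b80efa045304310363056a07060af806db0cad09e0057705d40ee80d320d0a054809f100d90e8000be0cfa083904af057e0e560f8d02e40cd50995031e05ca096a02040ba7090707fa0772095603e7077e0bc9046c009f05dc068007640e680ac405fd0f53021601b70cbf01e2012a0b8c08f80a3d0b6b003d0b560c5d0cc903ce0617024107900b3502fc01750d040c10041e01f40d5d004605c60ec3017702fa08b9098c0a8a085501d4089c0a5f02eb0ada0d7105e504cd024b04fb0cbc09a20b950ae30e15033d0f55089305b60e60016f09ac0b8408ab090f0814019b052f0e570d310ac20d690c5c0d2a09d70b0c01a50ac90ed606c80de909bc02ce01320ebb029a071a0d92047d0b8a070c0c6f059a066e04030ccc06c401dd0aad09820df80f0e0a4e06cb017309ca050e0e67032a000b04420a1c05800d14069609100ee702ff0b3e0fc203850f3c076808490a930a92091207d7048d0f4d0f4500150edc0ae9031f0a22024a08f60ca30e280f2d0450008400560bfb088206880a7c009d0bce0a790cac07f80a380c65040c058200580cd607de027e0be1033c014a0136015b06cd07f908db074809360e6d0b9109da001407d50ae50cdd0d8101fa0f9e0a5a0626060c0e7308ae088503d804f503640eda01b203e10aa90fc10a4c0d5e0b6d0ba1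02ee0975006501e7031501a606ae0dbc08320c41007b0b0208650c7507c505680a760466021407830efc089a04c605130f8a0d800908095807b401fc013804650111065003bd00a007cb0f400a8807f109870a1f077c08dd0aa001740e350260061e053c052007d40c2c07200b8e029d08e905a5057f07a701440fb00944085b0d4b017a011d0c3005b00b4f05b806dc04170b5c0b7a019f0e95062706e5055807cf084307df0f9003b409cb00b50b2b047a056c05e7044f02c3053806580dd108a7000d0e7e0853017907350e3804290b32013e0e510d8309dc06ad0a6201a100320ac505760d33038f04060e3c0b450e0a060f00dc00c20ef109f30aa60cc30b7e07a30d490651045600f203ef050005280f1904be044d0abe016900e5023a0b3c0fd40e300d8a0dac02b20cbd04190c8d05eb00f0069f0ad208fa01c304dc0f8700db02d402780fa9020d0adc0ec104220055047b0c6304d00d110876035b07880625019e0b1f0b75036103470d05045f0b420f34044a0aea017b01da0e5f02e60a20096000520e0502f30aac07d30c120401022000cb0f970cd80cae0cff00b7094d0d030a47068a01ea05be04b5028c01f9034a08200db304dd0b1c04b10cd9096702db0ee60cea04eb0c010f6c0986014709590093059907b305f7095e0a2d0d570b160c9d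0fb80cb701db06e108110fd105ef09770398010407f70c2000cf081902350f260a0a059d06d70c6200ba0749045803e50e4b021c03390cba033e06890a6507e00195007301960be5033a004a0765030f0e9d0668035c0e2f09280572030c0be90bb50fb403500faf048a02c60e4a0fd803ba0d0b0506025603e802ca07ca0c05091407f60a9106980a9c0acf070e0280050b0c5603ca0ef00a2e0b1900d206ff0e6c02850f710df70d9b0dc001af0d25078006ce09ab07120b0307b00a860dca0f1b004008310d6f03650c96015604d203ab0382055b0a100b5b0e6b03580b51056d0210004b08c705a104df0dd50a1d0f010a6708b00d0106200e1102b00c3a073b0b860f7a038406ca011a08c40fab089608b70c270630022908e108c6001208ce050f0426040808c00d210bc7036b0eff037407b50aeb020008cb05f404300f81051e04ba0ca108da05330a560f0b0e470ad0019708a60ec709e808a90be00e9c039105db0f0f0e870efd03a50f1a0ae604050a33006605560f4808cc007607bb0ad60db5008c0bdd0c5a054f0fc60cf10232081503c606da0e08087b0a5506bb022e0a7e0141082c04ca083c03b50e8908860f84017004470f59099a060702e20f5102bd07aa0e1f0ec403460d6608240fa803350f920139062d0e0c0a3c0e3f0f000e970beb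0bd60ef6041f03f003f10a090659085900a80d1905fb0ae807e209e5020701530f9901cb00e60376027004b00e490a940b8d0bc805c90c02044b09f706d104910632020506dd0797087e05de05e90b26039d066f05d60b9d0b6605ed0a4008f20d3c0dc307520062088003d406d40c7104a5061a0b9c068c086c0f9c018d0cbb096d007107380fd708040334070b094703ed0ba306e6088a0ace0eaa0e39095002f607eb0d520e6a006106a00c3b02a50c4e0e320f3306a1081c01b6063f07780470023c016b02860fa40b6c0b180a680a77094a091304a8036a01a9055e0a2103b70e2d01cd01240c51080f0df60c460bbd0b6004b9047207ad00df0854049c093509f60a70042f0f1807db0b9b0bd0000e0a900c400a600a150981069d0d2f007c09f80d3507cd003b0a240916005f0caa044c0b6a0a3a0d18043e044503a80c5903b00d7a053a0fb5089401f0070a07ab0100015c08ba0a2c095b01f70d2308f7075d07ae07e40d7907b80871025b04110a0d0dc20e6f07a409c700c50e0204e106a30091051d05470639079a065f048e083d0f540d22045104cc0def0b6f0af9006800d501c8028103b80048010f09980cde0cb9001603eb0a350e3d025f08fc077f0b1400ae0a1e0f4a0deb0b7b080103750fcc0672076101780b170b920ba500220d6c06ef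04e70d10076705b20a95076a0356092e0b0e04540ea207740eef06240eaf07af067a07170b930593055c0ee10e1a049606aa04e8082e0fbc04d10fbe00de0eb40494069e058a093f0a660f760ce203a30bd90baa02e10d9d05a4050702bc05ec029108d40e070251081e0c220ba209e30206048700bf0dbf0c28058c00790d44001b03a000350ebe0ca9052903f205140499060d02340cdc0a13019405080ce9054603950ab906940394075b0f9600470fda014808f901ca0e1c0bfe090e0ef90ab5081a07b900e2012105250b3607050c9a03d50bf0031c04e6090504920d0e028e03420d7f065600a30b9406f605150f95061b04ee05fa0cf9076d0087027f0609056104000383064f0592081609fa0d1f06e30d0c0951037c0d9503ea083e0a010b3408880e84001e094200a10ddb082a052b0d97084204610f5808fb0a690ec20aa808d00d5a0ac00318059b04a10aaf03c50ead04280ba603ee022104770e64088405e00de700000b850c6a038c0d8b0cdb0d07018800ad00440a4209db057b0471075404330f5b059104830596033b079f006b0805080b09ad074b07d2069c02a1027c033809110cd00a9d0dfb0719027b0225053e02a6067f02a70b63082504a2097409370a7d01bb030e0f2404b30097011f067d0b0f068f034c0681054305c1075c03f9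0bbf04cb005700360e740d4807750f060c8108370ab201c90ee300210c980562092b0c900d6001a800340c9302b30cb5055507990d2e0f0c0bd80446010d085a09ea018b06f9042c0cd702d0041809c50a2706e80157020b025905bd02a00ed204f70ce4004200a403da0f6d04ea05ea05f808020c8c0bea04b701220f72079b0e520486052a05a70e260e9a08400d4508c9062f0e1e08670e22037d0e940c0b0c1909fb0a590997075f02430d4a0dbd08d804c40a180fca0db106f3082703670c820afb0d5302d304d802960ce30589049309cf0c5e07230a58039705cf06ec056e0875032f0ede06040c1e02c90e1305b905a901090b0b048f085606f104250640095a019a011208b60bdb00720cf20efb094e02b90833073d09af0641083a016609ee04a30ae10dd80d1d05a60e4e06ba0540083b00430b1008a200fc052e006c041d08360e010b3000c00d77016e0424060a0d5f00050bf200940b1d08460f680b790aef0cb105c40d3f0df1067b015e03270972064b0ccb0e400fc306000a02052c0ad50d41011c0f75076904ac0a04011903f6058301180088013005ff0213063505e20a0f07400b430f2a08e003ec0415040209430c5406c60ab3095c02d2058d06a5059501c4075906e706a70f70038e0d670597072f0340074a0611046f022f0fc90bd5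0e1905ad0a730d370a9f0a0e0b24048b0f3506ac04f10f3b0fb70b3109d60f3601400c69092701a70f110009060808e409ef0d360b37006d0a39026e0cab041b01b003af066906eb013a0da207f20fa1075808ea0dec010b09f90dee089806600eec016402f70311029f088e0d0f0e54031305040f1e0e8d0b2c079c071c0f9d03d2067c0e1d04de05df0cb4069102240a17053607bd0bb109eb00ff053b04e50bc008af003e0c840cee0acc05d90dd205b706d30636072709c002c50469070700f604bc0e6103cb0a160fc508b3079d0dea0ddf014c032902890e460e5806f507250a310da403490f5a08c30aa5025d0017090c050a0c0d071e073f091a0474054b0369030a0bd309c10d780ddd01540c180ade0d940f210e3a06480fd30a530ec60bb6008a057a026f032206f201200e34096306420c1c0753076c0700053502d80d8e0ddc07a00d0208df0541096b09a901030d7c000a0614037f00fa00260f640e6508ed0750099c0ee40c5b0ae007930677087f0d580c6c04c70a320c13061f0d4d01b40c61028b038809be00370523047308b207e60301063c04b6097103e0068402880969084b0b250498033705b10b46046e0dc407f5032e04a608280f4205e6068b06c502d10b820f6102c407e10d430085072404ae0bda0755018a074c061006fe0841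03e205fc07980a8f0101057d09200d86004e073306370c4800d406a604820db2042a0c3f0e660ab70d42099e09f00dae0fad06bd0d650336050504bb07e506ab0800058804aa03570b120bae0d8f0526004d0e530a370a290f4f0e3e0eea06d001f209900cc20df20f8604490f5e0f3a093e044109c40fa207630b3a0c5207940a8209ed0fcd09bd07c70844098d045b004f0878065b07c2040a02b70aa1045703d302d907c3013d0f16040b0fce0bcb0d0604120c9b01ed038a06a901450b3908b507dd042e0d0906550377048009e106c100b108c205f905d000bd09a0015f0bf9085e0af305d70b7705650d5c09b106520a000282059f0f080319043707a80c1602490e7c0f6b0a74043b0444008d08c10e7b09d3089b0cfb0ab1059e097f06ea010c03000ce00ca503fb0eb306790cc10e8e05ae0f040edf00ed0726085c085d09c206bf081805a0078406de02d709180b150f77093d0e5b03e304900a4f04b403df0f7c00450f2f0baf06440e100a540dd90f200703082b0440054403d10d3b02ba0afc0e820f7b0521090a00d003b9008f088906c30ced0caf0e810c8903aa0f320b440a260dfc0ccd091c03c8078b07f002f9087d09f4017f0be7002a07bf0563000c03ad01d208ec03c001f507c10e7a00aa089e008307450fcb0d84072b0c3400d10838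001f0c640e700399094c060b01b3071b071801b5003108a3039009d4058f006406b500c3043401c704bf0f17013c0a9708d106e908eb0b540c3504d7002b062b06e003720cfe0cda0d64042b084d077708bb0d3d037b02e301fb0bed0c7c00bc031408bd07f40503036806190ea508f00a520b3802be099301bd0f1d0d17035d092a099903540bf408e6046d07660202035a0e9201520b8b0922034f0c3c0c4d067e0f03096e05110ea10992086e0c090c420b7f06fb0c3d058b02fb09380ad80a6d06a40930093a069904ad0475086a081b0c060d8502500c87060604a70c49022b0bcd0aa30519032805bf00ec00740eb90ca604ef0f650f740a890b1e0d75070101430fd0041306c702650b900a44036c054c031205510268092d0686030d09260f3705020ed900530d560d2d026b03040b4d0f4c04b803fe0a9a0d4c00e80af7033f0aec03b60273055208100ef300f10983020f0dad0c4702df0a480c000fb60ae40127022a0e900c6d098800ef0b21037108740742007702ef0c1a0c790ec509660c26043f04e403e90f630c2a09a60615059804a0065302cf0abd0f1301a20f6a091706020f2c003a091f0527049d09ec0e1400b602c0008903620872073e0e5c03cf05ee012d04430c990ded0e17066209b30e0408d601900f2e020a0cf50c3201aa020c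00eb068e0690080902a4023100f8069b064a055001a00a110cf30b680aba0da30b87028406130b9e0e030d270e4f073c0bd40dc506fc0cfd097004c0021a051804b20f6007fd0903029702830416078c090d06ed0a6f0c0a069a069300e7021109a50bb80c360ea60da002f801580cd2084c04f005670f9f026c03050c4a0e9303100f85022303170e9b0cf4003c025a0a1907810c94050d00b407a90261064c02150f8009190eb10e2e0e5e0ce107390331010a0d5b015a0c4c0adf0a87040f0ed00f4e0ca20b9a022c06230c1f0afa0bad0ecb004c010507ff002409b90ee900ca0b640c73094607220e9f088b02a30fac0587088301510244032c02e908c80f380d870f070692053d02660b7406be097e0c740108008e093b0df4028a0019016501a40b0902580a3605a80b97027908e302f20fae09a302a9064d02ad0e4c0ed308520734083f0b1b0fc003550cfc08b801e50d1b00c40a2b03700a5c096f0d5007b20ecc03a90af20ca00460001807ba0b520eed043501ec0e2509730e780d6e0a45014601ff0d880f490b0601e10c140d380e0b0aae00500952098a0bc30dc600390e6e0ea40ae70b6703ac0162016c0cb00dc707ee0be6084f0711066d078d0389001a0eca059409aa0c150c2f0c310f390c5003600ef706870e690e6201b80b0808030393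04c203960a500cce056408fe0e43015900ac006902aa07f3066505710a430ac302170b8002cc09d9029e09fd09960e440f5d0acd05f60c570f6e08aa09320934071f0d7b00960e8502af0f8c0f2708220f8b065704950ec906b10d6b006e0f9100cc0bcf01820d730fd903b30ebc0f500c67098b0a0709e407730aed00f40af60a1b0aa70edd0e8308790ad305d1013b01d007fe0f7809bb0e4d0e7505e802180553009801d10e230fc4042105c00e8c07b60a6a024d01ad0272064e08ee005a04fd08510352022d0dfd0cb30e0d0137051a0fb90a6c0b3f0713095f01e604320a0c031b0f0208810574000809df043d0386016d056008680a2a014d0a6b0004001c0c880abc0c5305aa0d630e0002b80c680e270b0500250e5a02ea005c0dd307ed0c8e063b070804ed06820bf50a0605b40dff08cf05af05ac0d6801160d000f310b9f05f50a280dba07890dde065a03ff0559024f05fe021e0c4f0106023d094b04db00d3048c07b705370f3f0e3105da0fc704d60e2402a20f9305240bb20176002e09c302f409ae02e500af03f3032602a80f9a0e3602fd027a084e09ba0f890e7907090d760f3007e3074e009e09ce09a70ecd0b2a0c7a0dd4008b078e048401020906039e03c909480fcf0ea80184097d02380d900efe0e7f0f0d07a201fd038b09cd00c1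05d307320b280423036d0b5f09400b650b4c097802c109f2025c0d0d0cc004270bc200ee077d06b001ac0ba903a60c0808580bb30d8c0ec0064506f80e5906d60a250b1100dd0a7b0f230d540de50ef40163068301920cc505cb095d0ea9079e006303c7021d0409089100d604f202bf05ab06ee0f7f049a0a8103a40ed50b550bde0d390c970edb07d00a3e0c0e072e0e0602e008950e5d0325093305f2081f00280d910186056905d806a20bf301ab078f006708990a46038d0090082d080c0bc407c9001d0f9801260b9901550ee00a7206760a80099f0003030809850e9101dc044804880468023e08e2092f0f66078a07150af003dd06af05dd06460eb008f30f1505320b00026207cc02c701d70bb704bd0675072a06640d6209d803920c780e1200f300230e50037e03b1000100700eb804d50129023b002d076f066b0c6e039c06d8005e0134072c01c6021901f1050c07850a8c0a610e8f08c50f140e1b0e1607d809e703ae0aa204d9056f013f0d2b0d8905cd013500540bfc002906b8,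
  0xfff0ffe0ffd0ffc0ffb0ffa0ff90ff80ff70ff60ff50ff40ff30ff20ff10ff00fef0fee0fed0fec0feb0fea0fe90fe80fe70fe60fe50fe40fe30fe20fe10fe00fdf0fde0fdd0fdc0ad404920a130d1d0bbc09430cf6076c0b0806f807240780079b0eef0ca00d7a0417055e04bf00e70e5f04040efd099205ba0adf004402330da4001b09e104c90bcd0d3e0f1b0bed065902ec078c09c901d209a50ba00215061e00de0c5a0f0902d700670d8504f90e5107f6049e000208ab0bb609880a4503d80f120f7206ad0ec406a009260a050072085b03ca018500d305ab0f690e2700e50cb003e005bb0a95030c00990e3e017402bb02ed07f10b2f06af03280b8c0c56033708b9000f046907d7077a065c0fcf09b80f2d01c904b206210b4e0425030a0959058907170cd5040501000b2b07eb0b260cd7064e018a0d910cd303040da600b80e730275040c00910a230d4a0dce0b700b9b003c0b650dc30f2c07d802fc0f9e052a067506b206c904a00bbb0ee1084f073d0c1b02ca01e00d9d087709e505a002e80b890cc10e9b08590ac6008202620de0036304ea089a061a02b604df073705030a710b5302f70c5c0677015501730408029c03610d95086b05e2015f04750efc080b0d1103570691090b0d2e0d47086406a300cf00c40f4f021404b601210249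0cac043607b10c07041409240671055505e6048c059f082508e50d97043d02c9090401ec0801092f0d080e3d005c0fb000e40fad0eb101eb057e05190b7c086104e301ac02f10f010c3e0f4007730e030d6503c00a3d01950e6503d20a5507e00a8b033d06df0870067900ee0440030b0be30c4004070d180bd806c2048b07bf0bab06e5083f09fb0242011c0a280c0c070708480b170b7208ac080f045704dd07860c550c4b070c0775024c09e90ab303a802a107c10e5d0dbd0b6105a80b590e710ae000660298058b0c390ed80c800e8a0d660eed0d6d0b360203005a092c08ef03b2039f0d150bca0a92081208c2033400940c9b0c150f3d00130cad08c307b80aec0cf009f2076b08510c61047f01df060a04b30d0c0c710ad80d130ae4032d064908f900430ab106fb081d0d27096805770394080907200b430fbc05e10a34045b0efa0a750306034a03510e5b0aba0c290a000f770cd10c820b0906f2045c0c770cff07040e8008740288062b0970050a0dc40514003e060e0a640a2a02860e7d0fb3084a0b6b00a501ab036704d006100c2f0a96018f003f0cc70e770d0f02ea0deb0f670d4d0366084e0b2507530ae8080708f80bda080a02790ccf054f0b63082c01e80f190a030ad009cc00f901610d5f04ef0332030904230ab60fc103d4097d00df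093c077d03de07e108fd01d306530a7f081e014507d4099f0e3c0672066305e30e230bfe012c00a70f92049006570fce014703e805ce0150053809ff0d1401e50a6d059901170cef07d6018804650e9701c20fcb0cdc09f300a40ce5009a0c6903f2022303e4051c09470eb9046304de0fd3005803d00c5909df056905c608af0f980ee40e1c00970f26081f0e7e0faa0f91075805b40389021a078203c505da06d10f1c094800b30c7900f60a6903680fc6077f062f063a0c6a0ca306520a5e0d3602dc01ca0d8e076f032308d50e2804c107e508ca0462006e07da09220b0c06370ec50c3001f60e010dea0ae50acc0df60fda0edf09070841045e0a1409e00f7008380a9e0a5101840abb02520d9303ff0ede05540c200e040aea03e3000e088101ed07850eee095e01ff08cb0e1e07cb00d2065a0dbf0c7d0d1a082807ac04c408a501990e4c0c1d0f050fa80e5e0cba0fb10cc40348068001870ec303c707ea0622086d02b008b60aa7048e01760e460da702ab0af101e70b1c077b030d075108840e250eb80df4015a0be10e6204d70bf401930d7f03ea0ecc058e0b1b0d7c0b4b01d502630a530872086702f9091e098c089700f30951010e08c5007f06d90fd108ba037508800c8b0b9907a709ac028d0a010b0d054c028202280d72036d0534048d02c2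0a790fa608ce08bf01d706b10c0a0bd200c0024f0d4e07af0d0b0d0500d802300d9908fa0ba30bbd0ce80c410cf5028f05930cc30192028409100cf809ae06da03380d64095505610c3b01b603e907d10917088d09720f6a02a30b190e4e01080631068505180db50d460bdb06f10d49010a03170b620d6a02d008f106410ac50d8403f803f00ab80ce409280aa10ef20d1709a2037906740474044702c807830da507c607ed02fd020d002a00fc0dd00f2f0aed05e0081606ab0e7506ae05d70f24092309000612015702700fc206070a330eaa0a39017e016904210261022c0477072a057c0d1f0e8407df010105a9093006480f1107280b540019096c06bf0f5e0c32008306a60f530b1204da04e008e308ad00a200e0066a0e4308a40f9b028a09d005e903250118083107b30ce20ac20a76084d0687026f080c07b501ce0200090f0e36001e00ec08da05c00563064d0f800ca403f10d1003a9085d008b0e6f062d0a1d09d10ed7017c05e702a404c80b490106035800780ab403bb01ba044f0f2a0d310dc805a60f38029203ba0e91077e07c90b050eb500e107dc006f02650bf205560f500c09087b04e80cfc0bb007d50060040e04850db10ed6071d0520017f0c870665021b01910a7c08c00bfa09290481043c09640529026c0ef4063302d20a4b0225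005d06680dbb0f860bef0f780bb309f103a5047905d00c7b0a06037e02ae0e2007b40f5607e40b4a090809380839096609310574094c0c8604a404d9089309e6041907ef007a05d3081504320e3a06aa03590d6e0b6d00cb0e9d050707030cdd02670ec90224043f07fc08d7089b02c10ce70cde0ec80bd900a90ce901cd0da80d5d08e907e80732073301ee07dd08f6059e02640ef904fc0934082d076801cb05d2049d07bd0f8b09d500560526036c016a0149033c046e0356095a031e0a5b0fd00e6e0f1802aa0181093f0aa90a480bd608be0b680a10026a0ad2009606a2029301430d280fa30cf40b480e560c9a08b0064606f7022602a009840d4c05320eb70500000a0c380be00d5501790bc30edb0bc70cab07700eea0ac9073603550af700790ddb045000080e860ea80e1d04e10b32034e091604f305db0eb0040a05680bc50cb40aee093b047e05420d9009c50092065b0c6c031f081401a70d0201a30833025908bb08df016b0a990bbf00f10535053a0b6a040b0f2109a10de1091208b2010f0f340448091f0fa50f4605940601022e0b4104610739024000b9084909990e3f0a0406950759086a0a7d002906000aff06ee01c308e4098608630660012b090201a2045a062702060b79008a049a0311082900e8048f0a09075e054b0e3b09fe0bb8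0747080d0bd50e40098e0ed90cd20ed500bf03f70d960a5702c30af00960093d01820c2509a305160ada0e1602de065509090f8207f20528040d0b600e09044a08780b550a7b074107fa0d5405ef0d4204ce0dc7034205be0709076e06c103a0037605fd01f304a800f4093e0bb50280025700fd0cc60d26006c022105ac020c05cf064f067f092007fe04640f0e0c47055204b50021070200460d240c450e4b0d6c0c5f05c30aa80cd801d4044202fb0ddc00be0f510ae602b702d10afb0b4f06b30e9304090b44007d07990980098309da09930ba807050bee0e330fbb06e906320f8c0941063e013d0db8068808c10de40c51081707e9093a006d0a8801b302be0b1609f90312001f01c60026032409bb027a0edd0e4d0fa90ab706ed04290b9d03ac0175043e09a6094509ca09dc0d2d0a740b7e089c010406620b7608ae0f2b0ee70424072f0d9f02bc04990ceb07e70f6608620bf608d20e480c8900b10dfc08ed098d0ad108dd03ab09250c95061c05b308350d3505f3060c0b8d0d2a0f83091404ed0dda065d0f8403470f9f06a802cf051b07f50c3d058f080e086004ad076d0a1b0a3e0da306eb0506014c0dd80c420e600cce0eba055f0962004f0be902470ad30f0f0bfb019c06960399026d09ab066f00690e9001b00e98071003ae052503330722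022f097f0065041a056201a60ee20b180abc054e0e64079c033f04a608c603160bdc0f740cf70b20035f03bf04c60e1209370b2404e9056409490e9c0b64045d05f2059b0e520b800a2f0a9b09bc087a0a24094d06ac0a2209f409a806bb0a1709210f170c440c7f0218039a0b8e02020d9a065107810aca0dc20b3d0bae07160e0b0dd90bc00fd503700cbc0205076903a20a200bb7083b04430ea7023f0a0c0f81000c03c30698052c0fbe09c405c80a580a590020039b05d403bc0819039e0b9a0156052d0ee0074309850d030aad02120ccb0cb80386050e0823049c0ba2037f0f7908710bf903740c4e086609cf0505061f040203d506e702b50a70091b000b0a5003c405a50146013007db03db02e40a8402bd09f70abe0fa70b6e0045071e03cf07ff0d7b09aa0a820a770af40e4707f40886039501d90c11038105b2068b0fae071b02780ccc069703540bf00be500550cbb0b00019d08f405bd0c2704830fd9038a0af20d50009c0a38035e069400ca0a4a05ca06b40b670aa200fb05830b5c0d3205b70683095c0fa20c520f650913022009150e9a085509be012800b70a1f0e3804490f7f0268009f041e04b801bb0aa403390c4f0ebd024e052406b008ee0aae078a0546039608ea00eb01ef012e01980933090101230f0003a1072702cc0ebb0c48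061304340baf069d0e8e058109560a25032f0a1c0c960cec02cd0658078900d70d6708d80f4a0ed20b340ac003b60d0001770f6808200b980c6d03b9042b0172075703d106e0042204d103c6013707ad0d3401c1057b0bc20c230d760a3001fa01e2058a0692053b0ced0e190bc803880afe07c407480234011b0dd701f000ef009d0f0a0f760f9004730c9303e2012a0723008606f40dfb058c0f1006fa0b2c044608b7029703520cd007190c490b7b031a094004f5082a099009f6007707cd014b0a3c0c8f0caa088a07f7000d0a73024a0d3904ee0ed4025c0d2305730f0b005703000a6101aa038e03dc0c140c72023902e002770a5c0fb70e74047602830c2805de090e01c4014809db07ba023208960285035b08aa030806ef07c5038d0795050f09030d1e0341063f0b1a0e500327038f0df00ead05310eab0906022b07cf04bb04f002310e0e0ab2028e0b510c8d0634031c0b4601a008cf01fb0d5101fc0b31075a06260e87051f07300fc705e502cb0add0813045209b908d0056706440d5b088c037d030504780df908ff06de0fab0db7004a09910a16010706050e35083402b90c080e2a0b8b00ed06810d0e00f007f808f20654042e0afa09b20acd0d7104be0a2103f90c2e0c730fbd01030d290dd302b1011202360f1e00400dc905f705c20dff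08470ef6068e074602dd098f057801bf0b77063b0d6b0c83086c00fe0fb60f6008b80a6e046d0ac40b07073f09e70ea908820e4a0df104e60fc9044d0db00427052f05b804860054032e0b860fbf004901090364012009820b100827079f017003af0d2c011601650c0400100e4f0b2904150114053d0fca07e203400bcf047b032c075f0e1a02a80e0d062a01d00da903aa0c430c3503650a6b08210e39035a09cd0e96011f0a54077400ea0115073c04060e020d58089503fb09790d210e6908fe085e07790209088e05f60dbc08050cbd05df0401021606020a6a061d07aa0f3a0b9f05cc0d3d01a50ebf02740a97099b09950166013b030f058409730a62042a07b00aa60eca0a7a03ef0ad706d6000600ac0208008502580dae06e108880f89023e00840dca00d509870adb0e130d6f072e0994078d0b570a4e02e5074d04fe0da207760dfa03a6080007ca09690dd40f940d0d056b0c3f05fe025f0e6b0c9006110a270603084b015d05760d750c990e170144021f018b09c703b10e320d700011051003260c500a6f03690842003305aa0e7005cb08100b820d7706f3008702ef003b0978074b01580b4c0f8f01d10cc80f3b0ad50036088301bc01f70b3a0731067c0e7b004d06d704f80d250b3b07ce081b01de04ac0c7a06cc078f0aef056e02fa08e1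0aaf00300cc204dc018c00250290074c0fc5004709ed0061043a0d5c06c708570711096101e106e200700bc107380726034508080b8501d6033a09cb020e0ce10e830da00fb404390ebc0a9109b005ae011e0b7f02e10e2b06d00c030385016d029e08d40f2e0a3603d9013f01a1029f0d74055106db0fb2073b0a2e01130349074f0e680f7c07cc0ea40f3e0de809de0f3c0d9402560557018000d60c1f006a0cea069f0684045f0f620d450a9d04540cbe06ca03a70db60f73073a0f7a01cc0ab508a300980f6b0aaa0d5e0bfd0b840da100c20ec101970c020e8f07140e890a56046c04c3059502a209b3046008910c0b095f055b0a6c04d601360af9097104cb08d904000b3906170f070afd09fa05c5087d03c208300e540b4002fe031b065e00ba0d2f01cf0670000904aa02950712049308bc065f02370c13029607a601900a8a08cc02bf07490fcd0650067d04e708f50aeb09af0efe0ade0b56053f007b09570c2d0151038c082e0a410000039005ff01620ba409f00a4d0754011a035c02500a4207000f0c0dc6078802ad08560a4003c90a680c850b1d02810d4807c303fa027c0af50f320d9b0f960ef00dc00c3401c006990e1b02410f7b0f4108dc0d3b08360f8a0ecf01f9073e0e2903cd08de0d5204a10b0f0c18034c03b509c3022a0ae70e1f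05c70609056d03eb0e1107d2002706c30fc000dd05330320071c01f4064a03150b7408f70504033605ad0acf09320e530bcc0f5503870f5b02480e6c0f040064025a07a401260b4d03210e8801220e4207ae0f5a00b2074509c808760d590c62008f03fd0c1c055a05600dba08060ef70c19096b023b020a04b70418054500ce03bd06dd0a8e04f20fb90f970d53075b0c060e450a5d047c08f0008c0f020f9505f80189056c0f360071061906cf0041059d04ff01fd068c02f00b6f05ed0dbe098904fb084002f2019a08fb091a0643052b0b450d62050b047a002b03ce0996002209d60398046a02e307fd089f005f074a0b33039d0a8905a3033b053005900af3050104d8013903780c70097c038b054107180a7e03430a8d04280c9f032904b90c94041d03310e6d091d0c600f5f0f4c05f5019f00e30b6606ea01b10d43003d04a3097405120ce00d1c0def0d6302ff0171062c06150131026909ad0846021c0bf10ba500040af60d3f05c9086e06450eff0b2709a0013e043108790ed106a503b40016078b08a80f7506dc07610bec07e3020f02e60667004e00f20cdb00d003dd03d6043b0e7807a5099d0e6104ae04a500dc0d3a026b0c0e0c5802f30c330ddd0a020656038408e80ef10a0e0ca805a10a0a07e60b3e0f9c05b9075d0e8102ee044b0453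02c6003404d2010c030106a70d800ece0502077c01ad0cb906200391087509970c000abf0e34049f07c809420d880ef809ef0f29001d0de909390de506c000c103e10d3c0f1408db0e7c03b00f8d0e5a0dcf0c010dec010b029a0cfd0b5f0c2b0bb20b9e05a204ab09e30fa409d2037c01630d600e0c037106ff0b020ee302df03f40b14005b0b71094a0a1209bf070f02600f4e0080012704410c780faf04e5011d03d7002c03c800f80bb90f030511005207930bc40a2d00370a3703cc086f082f069008e006860e080b0e067601a402990c360936083a031906660d780c31009005370c920d4406e805490ecb046801f20abd046705590b3c04b00ce3097b0f22079a0d610e9209ba0e58058d01f1068f03ee060d0b73027d05660cb2072d069304550fba0a8001330ec0007505d6092700cc0822004204ec09b70433041c001a089202eb01020b810c210efb08020a1908240673046b00bd003202c70b8a013400590edc0aa3099c0f4300030d8206d30f1f021d0f3306b706b507550f58060f09e20ca60dab02f80fd80cae09c004a70a9c079105970a9f0db208a1027f0b220ab90b23070a0d790a1a0a4f0fd2044408a6058506380cd6087e0c7507be0c2a03f50f8706c5024b04cc09d80e790ad9052e0a60094f03ec09b60a3202d6092e01ae0f490daf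070e03140e7a05af097a0e440790015200880b5d0c6b0c9d09e408b10858063c09350a2c07a806c403e709a700ad098102f502c004cf01a80e0a051e0d9c0bf70894039200a1089d0ce609440d8f04970a1e0cb502c5091905700c240df305a400170b0307670a110cca0a470d1603b70cbf09eb00b50aac0ea508fc07d306a902b20ea2031809bd07a20b1e0ae908e70d81096a08d30e100a6304cd078707290521002e069c0d690039022205d508b504c20f2703530227019e07940d9e03830bcb063d0f590d0904af0f630a070ea307640f4509fc018602da0614064b0f280d33023c0640009500a8023d062405d8011001b9000701420105028904370e660cc000c6013a00e2032a0a0f05b10cfe09d700ae0c570b960e3101e90be8097508a20d3702100b30079e081c00230f5c0579081103a3010d0e0f083c04960e2e0e21085203fc0bad0c370e5c0cf108cd0c6402e905220d0a04d309b5029404980ee907130035023a0ab001db07bb07c20e6a017a0cda084503f30ac1090a007304a204e403720e8202a703d305440213068904f7002d0f06048a091c046f0f4d03ed09110e150211001508c80caf0c840d41077705b506e30aa00d120a810c0f00da0c9e084303a40d400089066c0f3f0ca707980d6801b80246020b079206470018027b00d106d2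0d9209180f5408850410060b02ce02d4094e041300b4081a0d8b0c6e027e085a04c707660cb706be0586053c0bfc0c460f85019b0f390d9806e601f803970daa01960afc008d0f2009760a650cb607f00dcc0124014d060408a9095405cd068205fc0b3f05eb0a830de3024307630e22064c07010132016f0dc509fd072107ee040f00bb0adc0db4055300e600c3029d09500bd30d8604ca0e5506a4003a08d6073405d904fd0dd209d90160067b01be0b910baa0dcb07de00cd0a5f0f4400c70aab034f0a7806c8053e014a054a0fa00fcc08c909a404710344001c052301af04300b830750076008b40c8e0e370cc50dc101b40c760c1204660b0b0844025b0b38067807d901b50eaf059c0f93036207440f52071a048701ea07a903cb0bb408500e140f35056a07b70b060e670c540287042c06ba028c0dfd0e9f00f503be0bf808650e8b045804db0c100451098b0b5805b603f601350d040f9d0b13014002070e180bb105c101b2033e055d0c05066d0e8d0acb095d0a8600680c1a04a90dfe062806d80ea002ba037a03770f4206cb00050c4c01e3002f0582090c07b2030306f00201036a08730c3c0b0104bd0f8e0f6e0f370fc406bd08ec0a44049b030e07840fd40bf300240e95041100010a0d05800b9400a60c4d0ec20e070bea06fd0a8508c70cc9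0f6c041f04bc0f5702e70ca10cee0be60c98094b0ec70df20fac0c1706bc07f9066b042d0fb801640eeb016706d402a5039301bd02380dee054d03100b7d05f10dd601530c1e04260f710c3a048807bc05e801dd06390f2500280ec60fc80a260d7d0ef50ddf005e069e028b03b80706027204ba00760c6502760bdd096f0b9504c008d106b90be204590e76079609ea09a9057f09ee0f0d0031092d0c8a0a520a0b0e630a290db9085c0ae20eb4068d0ae10d8d0ad6061605980a98056f092a0d7305360e2408a7066106230508099a08180aa5004c0f080e30012d0f4804b40b420138034609520ba10a9a0b280f4b0cf30f9a0a350de70244096d0b150ccd0f7d051a059203500b9c07b6092b01c709ce0bf502ac0f300b04009b025e0eb20062079d02530a1502510be40bde02540c9c02d300db00d907d0036e0596031d02af09c2067e01c509c60c810a49034d0f990e2c0e850bd1086805b00d010c4a0b750f130a080de60b1f044e06f6072b08c404d50762049505f00307085407400e990b5a045609dd060806fe0d560b930dd505dd0d4b02db0f5d0946009e00ab05910f1601830ca9075c017b0df80d0701dc0bdf0bc9035d069b0bbe067a0b210a3a0dcd02d8042f029b0dac00510b8806f508eb0547022d05ea03c107780bac089e04f606640bd4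0d0604eb07a3001409580470007e00af0a900eda032b0dde0a3f0c9706b80c68071500a00d570ea102910f1d06ec057d005002e20b6c09d309ec063002b30eae071f0d8a00b00d1b0ed30e5704120642089007a104350d2006e405fb09b40c660963018d05480ed0062502b80a6607ec00630ef3048000d4096505bc01b705c4015b012f066e04940fc30a5a0e8c0472070b0b350b500c6f04030de2090d0c2c08e607b90998088700b609530c7e05d1026601a90e5904f1084c04d409670e9e096e08a00df7036003fe0b11080407650d870e2605fa08bd03df061b021e06290558083e0e9401e40bc6082604e200c80d8305ec03da0a2b0168037b0ace0cb106060e0008320c53083d016e0c8803b30ac309f507c0076a0fa10bd7085f0335027105bf0d1907080bce00bc0c740f880eac0beb09e80a8f0c5d00aa075203e504840e2d054004f40f6d023507f30c9100c90c0d01fe095b01e60db306b605650550027300f7034b00530a3101f50cfb0b5e0f1a0cf90ca200a30b9004b10eec0f6f02d90543072c043804450159082b051d0fd7058706180fdb059a00e909c1007c02c405dc0572008e01190899098a097e099e08f30129017807ab0a3b0a8c0f3107a005f40dd1006b01d803e6024504fa075606fc0e410ba60ba9050d07c70a180cf202f6041b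0509036f088b062e0b69089806ce0b0a004801c80420087c0b5b015c0c1604910e2f0df502b40cd90ee50e7f0fb50141048202d50d2b0322015e0f7e024d0bd009770cb308370ba70f230772026e038003130e050b2d00740d2207420a940ca50c670ac8087f0ae30515019405a70d5a08690081068a0b470be703ad0af802040b97038205710d3002a906cd06c6044c0d890a6706a102550d7e009301110125069a0e7205f906d509b10f4705ee05170b920eb6074e050c001207250b8f03300636088f0b3705e406f90b2e018e08530a7208b3057a014e0c5b022907350ac7016c07fb0416025d09f80f15070d0a930ee602170ee806350bba0d38003807710ecd08e205390c6305750ebe00fa0bff0b7a05270302014f08030c5e0f61058800ff051303730eb3036b0cdf00c50ded055c0cd40b520b2a0c8c08890d4f0b8709d402190c260ea60f6402f4047d039c01540a460489078e004b09050fd6066902a60cfa017d0e490a4c01da04c50a870c220d8c0e060c7c0dad0797013c0b780a43,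
  0xfff0ffe0ffd0ffc0ffb0ffa0ff90ff80ff70ff60ff50ff40ff30ff20ff10ff00fef0fee0fed0fec0feb0fea0fe90fe80fe70fe60fe50fe40fe30fe20fe10fe00fdf0fde0fdd0fdc08360833059f0de40c4600e00c190bb6074d00f406b1089b011a080d07010a100b3008fc025a0c1d051103bc067900d8087700d406d20d570a540ec8085f0b8302a900cf0ea505ae0c9909e102d1073d0e5802e103ea06e00b4907220ed504a7025506c30b34023e0e2c05f507240c610c800bd70458052c07ab05c70266072b07640c4709c406ed089d0211091f036504950c5705ce02820c1301e004aa0cd207c90d0e08220ddc08ba086e0c410f850c04095b051b00ca05240176072109d50aa20e0e005b07950f9c0be906a40388012301510ab30b5b07c108610ef103cb00410f8d08f0098f0e320e44010102e501f604b20e41083901dd0e1609c105250953040a031f070b0b5c08f605140f020b6d09da052b030802fe031b06a0023604180f2409e4025f05630da60e7a055c00cc0d860c080b0b0e8e01c10399013508200e5b0a880d0507680fcc001f037008e10f92078c060c0fb80ae20d6b0b8205f90bd40080085d039e0da40b2e082b08620e6f07cf0ae703f007f80387053e00ec0e7e0bc4009808630ada092605700a990da8088c0881038208be0c10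0f2808d3011200ed01f206a6015505cb089300740bef06d60f1d0f6206340309026008d000d702b40d98048003ef066201d6016b0f1606b20aee026d06130def066908da0fa5031a0e9d0b840b2708b003960a180999095109a20b010397048a02fa0bc30bd9086f070703c603950bdd0fd909070ed7013b07ca0d170304067c0cba0f230d5c008d0a860a20035700060efd0eac07390dbc0a7807a401af01e10bcb0dd60d2408bf0d7005a603c50b4a03370a0d02a20b4b07b603330c7d0888090904310ba1033f0e670fab0f9b04f70b800ef60be00d7d02b70a1a00670726090603a900e60e1b0b2c023f080705bb0218028b0a340a9e0ede0ab9037507280e0104a600a0004b02930f6609bb047f00a70f7d07c304bb0bc20ad8097c02d0069401ad07c409840f79053303d30ae4001201db028809ff0334007b01aa05f8076908a40aa70d63079b0e610a7f09500d600a090d840ea80a7a0a530571018908670cad05b505830c3b0bfd039d0c310eeb0ca20c290fa40aaf091b09710f2507840d10061f08d507f906a805a3023d0e870f2e0b9e06e4037306890ccb01720576047d0026018b045b0ba6052d021a06980757038c0ebe01da0aab09f10cb9065f00a90de8083c0f4d00880047078806b4015e0e06040c02960c9502b006d005fe008901470299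06530cef00b604ed03170b350463085a08b20e190196070807f100f70bc10cb60dec0b0908c80785080807d40a43077804d40bac017d00850c49088201a9079909cf049d01e308890b630994090006e5021206470afc0b3c0bb4098603d20a2d0a7c0b6606b30f9509c00802093c07130eb20d720df003ee0c78049803000790096601840c8e095c083a05500a280f0602dc06e30ef008c0067008af018e0c8400900d040646088305c80ad90e46063f0457095d0105028f097e09af0f07043c0bde0c680c330a40009b0f7b0c6c01bb0063071205bd0032025c016901c0052805460f5006280b900c650d9e005401280adf074305840db408f9047b07960f8703920d9309a8048f0e1e0a4d05300f820ba40c2302be07b40e340cb501930dd0021b0bab01df036f09ed0e860b390ee405ee0f0a0878074208550d4e0a1400a803e5095e0cbc0f86028408c408b401ae01ed0bb204bc077f071f01cd0ec70bbd0fda0f5d06f9090c07f60329074a03a8036c0ac304280c6a01040f0302300887013600200ca100d3074109790cf60ce00a960d5409b5097f0abc07a00b310ce605050cfe0a250a97063303f5025b0da10516046705910e95097b0e910f3008dd04a40cb10dfa0c770a3207730168057a0e7f04940501038e0a620d7607d10f810e4e09df0a680305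03fe07f7086c075a03e9049e0d3206580c030d1b0d8a06e70a8d092e097203f303d0039f079401a40cc709b20cce05dc0f2b049103ac00e704250643068e037b06360d23059b09f308470158055b014d02ce00d509920fca065201410aae0b5e06860690004d0f140a1f070d0b0806fb0a2c0ef30247073c0d2706de066e0b9901ee0749033a06f8011b0a5008170d2001710d350711059d021305d9007e078f0102049908b705d60eaa0a660f8a088a06ce002f022a0183063e0e4b035b0980087e07e5020e0430081e07040baa0c170d2b091902d606c80df90e470b2100f90b560fc40ca70b6a00970c5d04a30f3a0609099b04e30977003100f80bda033005be060205c3061106300ab20acf0c0e0b4709fd01b606b00a16070f0d4d05eb05d000d003d804470118042e0ebb032a06a90ca402e4058700b205e80b97069102ac0ee10c11030306c00932030d090f04df085b014f0b040f880cdb0a7404d2029a028604b60b2d0ef90bfc020300280156071c09ce03e10100054f0ec50f260fcb03190bdb0e510db60cdc0ed107df0b320a940e14079e0d740f320d2c0fc1060103690c1803bb0b5f041f0a03096303790dda00ea088d0650026a05ca08a80c7e04510b050f8402140c200d340cb407f20fb30b85037a09210c2f0fa80d580c820c60051f0225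0af305690b0e02e90a1301f00df70a9d073b093106bb069604e201b202c800ba01910a5c0c2d0b4e0f480758048b0bbe079c054e07c2053a05b601dc09be0c34051807480a3a0d79012c0d260e1d0c27019000100311026f04c6048205e50627047502d70cd60443084208d8068c078a08920c8c08db0a0c07d60e7105b30c3807fa0f540e3702d30b0a0a00086a00f10b720853040703450c9e039a02f50a6402c30c1404a20fad0d16069b08370a690e930ab70b290bfa025d04460c8a0c6b0c3c076d04b108160094044c05480db10b4508040d0f01800a480ad2086003af0177066c0fd50454044006a707b30e5a0301008a08bd01620e0802f306a303cf05e20f5808a300c403fd0316074b0ba900c700550bee02100b7509cd0dbf0cd00db50cc10564002c0e5e0c670e6801e90435010e082504db05320eb90de704fe02270e70038902a50a5609f00a2a0d1f02950da20a17084a0170020c073707ae037107bc01b40c8109400f8b0d3e08180b70010b07f30d9005530328010601480a67015704c50b5d0c4d08950d3705e106650f370b920363077a01e40faf08aa03b0087605310f53006a051e05b7035e0bf6016d0c3d0e770e810ca807400e6c07ba0e040fc80dcc072a08cd02970b6209480a790b6501150f1807a60dc4019707a504e4023a02b3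02e00dd402c7043f04ab0a4b08c2059c03a304590a6a010f0c64092c0e4d01d204b306fc09a700b00c010347099c09ee0ce90838046e0e0900680a5f0b0c081d097a0ef7099f060804020cf70b2302090b1f061c07e0042002ef0c7502750639052708f20a4a04cc0ab80c9a0f4b06e808ae05380dae007605f1034109f60bcf0688006106aa06410c5405540ba7052a0289011f086506b608800dfd0dce0537008b028d02440d4506a20598023b077e05130db90e430ac9019b061a05b1000703b701030ef201200d3007250d430f8e0bce05c20edb0879079d0be400e4012409880ea004f1084507e809e00d2f0ab602c501850c02071b07ef095808a100bd04640f7301ab0aa90cee0fa2013804dd0002067e09c604f808fb08350d5205950bb1060f0bc70e8f0e76043a04770361052206770db3017f0bea02940d3b0e520dac0ad1065509b904840ae9000401d300400ece09dc0d010215051c080b03a708000aec06310fc3056c0cf30fbe02c90a8e018701490e65002d062001a005570e2a014e09690c9c06ec059400b809450996076e0f210c970a12058b0e6d04ff0f3503800c5c0eda0c0b0b78022b077506400ddd0c5603c807700b140bff04cf00010b790a920d390fd6095202dd002b016e007201070744046a092b00130d9701ec06c10bec0697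0f1905400dbe07350fb107eb055602200ba0087a0b400479079708ed0c9d0a650b4c05e30bf405450a1904880c3e016706fd02b90fba0a0f010a0d6409d709a300e9078d0257050f084805fd09ef05740d6a060409b10626063d0c15028a0e92067808ad00a40a9f072007be01c707670f360de9072f00ee054b037c016c03f104e103c40e18041e0b4102b101250c9b01980bf30bbb0a010e4000be0ad306df00580b7103c3041605960a910864028e006401bf06d80e62076205600a37067101f1063c0f9705a907ea02ad0449005c015b0ce807fc0dab0a5a0d2d090b027803ff0b8a08d101780a9a0f9009d60d000f4709290d5d07870d07091206bd047204c208850c9f08e605da00920fbd0d670fd80060009505f00f0f0d830bae0f13007704f3098a0d7b00b401270bc603930aa3087004690cf4007d04f40759095a07b5020202a8093306db00de07f00a4106ae01750df204130287021701be067f063b062a0c760ae500c9084609650372001504a901fb0961022c0d25088604f502700c45023707dd00160e8405390afa04be0c960ec10b6f0f1a05a805e6027204e0054907b105df07b90f050bdc0d280a900c8500ce00c503cc08a20cae0e6009430283036d0cfa0f4e0b6c09fb05210b64032f09180ba205dd0d9105de03e805a50c6e0e56007a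03f608ac000a0c830a81018800440e8d0c0501c509760e850908066d0944051201d0087f0d6e05f302f203b1024d0a6d076b0f9600790f63069a09f2067206ee067301a108d20c09038a0aca0ecf067503f205730c630df80f3d0e27021e02f401d105ec08910bf10e3d0de504c40da906670841093a01290d77072307e204f003fb01fc08d900a609b40eae02770ade019a0f5207e30ec30b48056e08e703cd05b202e2059a02c4099e044100fd026b0cf905cd0ec6060009eb08f7074f0f27032604ce0f4000f5000e04c3048106800cc40abe0c39057508b30e9c05a0090401c30a6008b807d008a700bf05990a5900a10b580e5409cb047e065904fa06b7089e053c0c7f09d2044d096e02730eb1000c018f0be508a60e22007c0b81041102f80e8a03830b5202c00b93081c0fd40e720c260d990cfd087c0f8c097501130ddf059001340589054d00810c790b860f5b051d05b00ca00987001801f309ec00d209ba070c08eb00490ed9073009e600240239004e0a1109a0078103ae03f40dc0049b0832037d047802c207da0dfc001104ee07ec0649060a055a09b6037e03740621029e07720755096808ec033e08e20e3002670a9b02bd0a890c5002ed002e06d30c91029b0dbb089f0d750656016a004c0aa001990e3807ad0a21083d0937035f0ecb0417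0e8009c20a520f0c0c7b085c021d0c72050905920c53006b0ed005ff086d02de0456005d0d440320052f05350c3a08f3080909d1050e0ae109470de10c6f0e4f06640b5a02400af203ab04dc0b3b04d00b160ca603130e5007710d680bf80a230cd80e1509e7003c04960f4a0fb40d0a00620274025305850f7803a00814025607a20985013307e90f0e0be303db01c90a5b00c206420c510f890a49065700840ae607a10f5f017305970a840d400a240b4f06b508c703ca0aaa0cbf0400015d045f0b7e0be20f4c04c1034d059e062901c40d030a2b06100f5c056b0bd001400ee007860a830ae00ccd0e020f490b1d076307bf0f5a079802bb06a10248097400870caf0b8e081f01630aad017c034e0f9402580a360ba5058002410663074c0f330a720de60e9e040e0b8d08540b7b0d8e017e058109550f4506ff06f306f1009101300c2c017404a008ff031007e10eef0c0c040d0d96024f006f0bb7094a07b0092408c60e5c085807600b6806ba0e7400af05170a3e04c70a550f3b01a6014c08f10774008f0c520b9a034f0cb80cc301f4014208240250073a0ce4064e05ea03600644048506fe00a2009f062201220ba30ac000e303e70f9d0edd04e906f003d109950056041906850960018c0e8c00fe08e90a390c5903de0f1006b908e306cc01940afd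09b30de200660b510b670899040f0b590ea60ac808a507c00f9f03b40c060bb50bb00ed60324056d068106e1095f0af007d3089a000d0fbb015f0f56046504ad0d2a0cbe0427002a032c0925093009a406cd069e0ea10d4f08c1041c02d4082a0b2403a5021600220c880f2c0731020a042d044e0c7c009308d4063505060e9a071e0f770a3808fe094d02220ee803860eea0448045e0e830d7a058206eb02910bd107170a4e07cc07100ac102790efe05ed084305b9024c01090a710bb80e17096b0baf049c0f72009d036a04260c8f080304710b1804870aa10e820f3101b10254017a0fa60207030a003e062f06f502c60c1601d70f6f061d0cc9046c01cb0ec0072c0dc107060c4202a304ea016f0f6102a40d080e3303e205fc03150bad0436074505cf0bb30b2501e800fa04ae092302240c550ab40c0a081a00050a5102510bbc09bd0fac0e2d0f34097802e70b9d041206da0b370fa30b9109ca06be066608bb047c083408120e4900dc0e96066107ce0f6d037f0fb705bf089803060552012d09810bf70cb709fe0dba075f05cc0d6f04da090a0e2802630d9f0c9301820c6203b503c10d8c081306380a7e003b0fc70daa096f0a870cc600dd0d880bd50f29070a00b50dee0b1309ad03d40bca01520a050c1b0a3b0ee20f710f440021092d0eb702ab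0ee309b00186067b08c504740568005a0b4d03230d490844061e00da052002fc0c6905ac031407aa03b603c901ac0e240adb0fa70bd30f1f02690d2e0321008e046606b8085209d4052e0a0601e2035801c8034400cb0e2000f00a3d0e230df5014b0eed03dd066a040409cc0bcd03d70be106ea04330335082e01eb022d02450c2503c00dc70a0e0715084e0034038508a900c108d607e40078035001650e480f460b28007f0e9409f4041b05770dc50e6600960bbf0780068704100da00f080d13080c0cff0d850dd7020b093f0d56013f0e2f0b57004f0d3a02e80ead00a502080c000e1a060b0cf00cca005e0af80d9c0be70394083109f901310d610d0c0a6e083b047606fa0a4702a10989046806ca06af05b4011706d40e1f0dd90efa03fc001e0b1c0ac202db09ea075c04b50d4208b609a90dd502df0ab50f9905d703560cd7054c0801039b084b09590c9202cc06c201a50ab00f7509730fd70aa50b4203ed015007c609140e5309fa030f02a005ef0c8b0b020e120d3d0f590daf0dd3083f0bdf0bb90d80033b08e5090d0b61026e0f2f078b091c05720b6003b20d3c057f067a0abf04080dc2029009e809c50ed40bf004ca0e1300b7034c00430f200617062407db054a08e402310b7a08e806ad019c0afb05a704fd00b103070057033802610b96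0da303b80d6c05c50e03058c071d0851039c02f7004a096d02b607890384077608660a4f012b0b9c0cf10f090ed309aa0f390b760d5e0c37093601450d11050c0e4209d00af7001b08f8000307d9093e067d0d470d59073f0d9503ce04220b9505620529038b0eaf05b80b9b0cbd0ee50cd10bf50a770ca9068404520f1202230a8f066b0461089605f40aff01f90f510f0b06370a1b02ba013a0534048605d30aed0b55001a0cf501b702e6041d01110205053d01ce0b74091d0b1e064c07f402fd06d700cd098d064503f90f7003c705440d290a0801ba0f0d0b43080a0515013c0e750a75069304440d46099305a2024305f603ad07ac05610b7703390195011e05fb0252065b058e093d06bf0a6f054704ac062e09f804d50fb90eb405f2046d036b01f7092f039807500039082f091107fb032b08970a3302b2044200c0045003620030051a06c6073208cc05db05f705550ae80e730f43094f08dc0ab100ef08110b0f04210f6001b308490acd0e070c8d0cd90a6b08ee0ebf0f83005001920401023c09de065c084d0cc50fc909420b54001c0510090e075208590b690b3a0e980eff0ad404e505e7043b0fd3028000b90f6a0f68049306c902cf082d0489096a0db80c6d0b7f0c220b890c2a068a0f0405c60462040b066f004601de0ac6000801140292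0a0b055809c90dea065a015307820d3804e80fcd03aa0a2703a601100d1c04c80b1b09490bfb045507a9045d038d064b00820221050b060709340381048e02b80990067602cb09ab093503910cdf02590b0002460d1d020d0d4c05bc0cd3027d03670a8c0fae0d9b03460868000f03e4015a089400fc0e3b0d69003a04fc03310b3f01b9031c0efb0ebc08190f6c013909170872065e061b04b90e5703b307bb06cb0d8209050f1b0ae306d50e6a07c702a70eb6019f00270ce20cc805af02d90b9f00710705027a038f0cd402040126056a0d6206e906e201a20cfc0a420322004803640682065405590017094b01b50b060f6e04060bc50460035c0faa06740445006c07190eb0019e0ddb07e60e5d01ef015909f50ee9078e0e3a070208ef0de302f10eba0dff0c8705c407a70c3208b5077703dc0ad60b6b00090b2f0e63065d0ea30a630f9e06510b150a440cdd05d20e4c0823033c0b3303e30fb0066804530a4c0d330dc6095406cf0cfb04ba05d10af901d406ab077b0aa8048d0d6d00510aac0a7d043e000b044a00df07d201e608ab0ed2043703420afe0473022f053b086907dc0f80032d08150c9001460e5900590840093806a504e609e5061205aa0e0a0541039008290e290536035405fa0d180a980c280aea0fa905d4044f03e6061808f50956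014a03a2081b092809150e900d81075b0e1c0a1e0ef800e5050a02ff09db03510f6706ac074607de03760f000ad70a8a0e3c0b3609bc03c204c90fd109c7092204900f3808ea01ca09130d550f740f3f02da09fc02280ea406c7061508df0dd80e6409b70ed808560ebd0414064807d80c4f0b460caa05c90cd50f170765079a099d068f02640c4003ec08fa024900d90e9b0efc0cb0047a008c035d055e04eb090203250fcf027b0fb20ee6031d08ca012a0fb50a07053f015400f2027c0ba80d780bf20434072e0c8904f608750a1c0b8f05510bed0c43016607560d5a0fc60c0f06e604cb0e69026c094e013d024e0d21049704d1048c04bf05ba0ac4045c073309640405092a098e0c5a0d870ce706bc0fdb069c075e0b500036069f0c4401080a950ce10ec40da708b1058f098b0a930b7d0c73070e0c4b042c01320f7f0eec09c300d606320d7300c3089c07fe074706d90b7c09d80c4a00b309bf033604290a3104e70c1e06050070084c012e0bd201d500f303480ded0d0d057d0b8c0d8900bc08840eab0a820a5e0ecc090100eb033203d60343011d0e8b04230b3e0c940b22060d001d049f04b4009a031e02d50ea20265045a0dcd0c0707c80d7e09a6062d0982011c07030acb00ad09b80c7000ac02ea0c4e0d940e2b0d7101e70dc90fc50ef40751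02bc009e024a07cb0dcf0d190de0094101610a020dfb076a02a601a800690e0f055f0eb5064d01b00a15013e0d0b057e050d022e0e2e013707d70bd80e9f00c608bc0b26030208740c58011609d3049204fb084f03400542087d00fb0734021c007304b8086b0c2e024b01810d5308cb0acc094c043207b80b73017b0f9a04c00c2b0a3f0783088f01f5030e0828003703530c1c04240f2a0a9c05e004bd09ae028c023800250ea70b2b01a700a3076f0d120d8d034b055d0cda0827029c05d8091601430d3f0b0d03a4056501fa075401fd009c0c36006509c8081002cd0fd00a260deb07fd0a0a0cc20e3506f20857032e06990dbd00e200830ccf0603062c09910da504830e5508730a3501640aa609a10aba0f150e110716068d02330fd206250cab07930970035908300dde093b07d50c210234074e0fbc0eee0a4503eb0b190d660d090fa001bc09570b2a0abd0e890dc801fe083e0378031800290f1c0f3c00380939035a0a3c08c9061905a1026805a407920eb803df09980bcc0ce5052309e30a610db00df401790cf803680ad50f420f93080e0f8f04d9087b09ac0042023202aa01a302d2030b0c7107af094606830af50f2d0e7b0f980c4c044b0c480a7006f7041a0f1e059307bd006d06920a2200bb0b20042a0bc9012f03a101b80d920b07077c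07ff0a5d0d8f0a300b880e3102ae01cc0ef5021f00990d3608710826080f0f91056602e3025e09a5069506dc0e2108a0050007ed0d6503bf0beb0a040f7a0d480a730d1a091e0c3f0f41027100d10ace005f00000e0b040904d707ee046f0d5f061406ef031208ce0415070004390053088e08fd0ced0df60f7c00ff00190b1a01c20fce09200c5f0ee70df10fbf060e02350ceb0d2209dd0d1e02eb0ca50997072703be075d05c00c7a04ef064a05d50f6b0ac70fa10be60616097d0db20dd1027e0c1a01cf0709049a0160012108b90d4b0366057c02d809f706060014011905040cea0d9a0b170e0c07f50e8808f40f550c5e0b0309e20ac50aeb0c3501f80e100cc00f4f050307e705190f6403d507b705ab064f0cbb0d41076c02ec029f04cd0abb0e250a7b0dc30c3001440e7d0a2f0d51034a056703ba071409670bc8028103f80d7f0e3602260d4a0c860f650dad05070cec0718003f085e0be80a460eca0660042b010d0db70bc003f70729085003490f010d8b0cb2018a00e8079f021909030ea90f7605260e000eb3056f043d073e02f00dd200860206072d046b018d0e05063a0add0a5808050a290d060af10355054300db0cb305e90edc03da00aa03770e6b0dca069d0a2e08cf0aa404d8079103bd0df30e26033d0af4057906dd057b0cde06f6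04b0036e0962020105e4099a020f0b3800350d020f5e0e3f09100b10073800330bd603fa0a8005780b3d00ab0fc202af0c0d098304ec0cac0c98050205ad04d608c30bf904380e0d0e970d9d06f40e6e0b4403520e4a0c1201ea073602fb076101ff0ad008d70075062b0a8b07b20e9909270b1200f60aef04d3098c08900dcb068b0a1d0bfe01d908060f2207c5091a022902b50edf0ec90d5b09d90e5f005206c50bba05880f3e07660d7c0f570c7401bd07cd029d0e450b8b01e50262058d02ee07790ca3027f0fb60e7809e90adc04f9006e00230af60b870dfe042f0d140b6e02ca0753003d027602000d31019d0b1100c8082c01d8032708de0045015c0c5b030c01c60cf204a50e7c03e0088b04f2058605c10a7602f9058a010c0b530c240e3e028500ae06c407a30ce3024204a10b980403082102f6077d0ec20ecd0fc00a6c04af0a8503d905080b940f7e08e006230e79047003b9071a07a80f1102bf02c10f6904b704de096c0a570d1504a800e10c660ccc0d50029806d10c1f0e39,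
  0xfff0ffe0ffd0ffc0ffb0ffa0ff90ff80ff70ff60ff50ff40ff30ff20ff10ff00fef0fee0fed0fec0feb0fea0fe90fe80fe70fe60fe50fe40fe30fe20fe10fe00fdf0fde0fdd0fdc0c9509850c1309dd09cf032509260efc05e90a81040909e200ad098409c40f41076208ce0efe026c015b095c07e8076b083b093b0a0e038d015e0f220d0c098c03a40920020d08bc096e015f043e0a3b086a011e092203210512058505c5088204c604350ca40b03000f06150534027504fb07b603ed0ead06c6015a059c07f809de0cad07010e5a006600aa0e6b061f0d8406e80a6907f6059f06a506a80ad2066d0d170c8109cd02bf0b42054204610ea70541086d0e5302450084064404eb0c2009300c3d0e4601c404b40b70056101740d030eb701ff002b0f3e0ee60f23047d0cb704c40346047c04a20a0b05bf0dca03dc013307ba0dc50df902530f470b2204e4095a0a1a0b530a3e02a70e240943070607e70ee301b308090242047e08f30c6d0de909b00f5c010808270be3058f0cb20fcc049a06510f6e0c7e0d3c0099026a09ab0e7f08da0c080c9f0a01036d0c420dee0f030e7209860045078d09c20a0a08a00ae70cba0bf1055b04a10f6c0fbe0b3d085d01d4072b062c01a20649076704ee047008c80a490c190a21001c016b0e0c0226004b0b540ca9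05980e7502d309b800a60cf70125060303fc0f30066103f4007809540fc905e60fd40bc604ad069a0e7103fd042504f905790da8069703470a3900b7093d059e015207680aed045b06a20d0b0f6d0a950d4c0f50095d0e25055a08dc01940948065e08b701a50cae0bc1013d0842058101dc083708f4065c0e760d0e0ebf0682039e03cb00260188007b06c809ef09750b1c0672055f0b1e0a850ece010304a608a30c150a1301be04370f7101ed0e690dd407430d380d340bd7064e0a3c0fa00936042b0ae30401034e0f8307fc04650ae906e203a20a0c0503070b0a1f0ae8009a073002400d9605bd098d0d42048e03c0060e04f30db70a73053103ec0af40a2c01e1070e038202b20db80528096c04a5040404a0081c0c5d0f380a11038b040c0bb5024b080d0cb406bc0ed00f0b03b20c120f2f0ef806810a8607a20dac05fc0f9500e30eb500e807d9030202190dcb0b130495055e0b9205e1019c037f0cc90c470f9803420bea08560df205fe0b670f8004230c2e0ca00ad109890d4704520c7a0365029c0d5d04aa0f780d8f0bde023704f2081e07e5052e03800a2e012400410d5c09e7031a090d098a06cf0367099806ba06600dd20b1d004d0d6a045a07760d1c0b3801fa060d00370ee10f540a54035f069403e50836062202670c3107b505dc0202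00c3033e0cb80c1a05cd07830d58058d023a0b2a0746069d0f11044f070705650adc0d3e0863043a0a04021404420cec094e0b1b061e05fd08de04a704880f5e0c4609740958043d0d1108dd0e5608b102be07fa0f3103f300590ae207410f490482096909f308a4016907610cb3088404a4020707c801950ba308780a14015807d0038e0a1b03bc0eb406710e30029f0540034f0a650be8018d0e640f63071a051e03bb07ee0f5f0d75057d0795077404b00999046a0aae05270cd101410cd00e870e910c7209ee0a8f01910b04085c08b302b80b2c08740e6d09c0010909bb0ef30a18030c022b092100db06cc027f0d180a0d00d9051c012d0b160d8b0c070bf305a70e9905b20577058c02f9089606260e45021205d504140d9a079405f402170c0f00f806fa0f93091d03770abc0445033204980bf503f20c430300055302960d6e03400dc40519078006f9077a03c501c60d770283060b00420e2d03f907dd01a708b401b5028202970249037e008107440a4f0e480e3a060c01a007f00e12047a09fa043f03d20641022e042a0cd8048d033102fb0ee40af0062e039c0a630e4d090e037100c403300e96084f033502380e0709c90f3c0c68007409940eb2008204e809120eb10c4d037a06070d05072a0a8b01840b3601540a76065604f5076c0af10c09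0c2c070907a608760cfd00b208ea00680e2a06f5025005020da00f8a09a40b3c07b7017501930df40160044d0ecf01470fbd0ee70593000803ef0cfa07250d300c510f7207b806b300df07900b2e0d200a9d01710d07027300400f07028f0aa9070f084a09f105740067087d066405ad0e01054607cb0c6209b30350057c034107020c670c7f023101bc0a460030014d00d508d90b140a4a0d500937069f09ea02d90bc00bc30dbb0db90227092e01ce088f0a6b09730e5c052f014f00930952036303730bfa041c06e40ac907a706ca027e01860f270a200e160f6a024301420e780de20f4204780af70bc20ed90f9a005e068d010e0f0d006a01df056e03f50fa900a503bd05c20e500f350af2096207ae06c705e508cf0c63068609c30fdb096f009d05c004ae01ab0390053a089702700b3406230675049e049b036202cc001307880ba70f8902800ce20f3d01f40ab50bc90e4b0c6c078709cb07190923091c06200db6056d03b5075b0b8b0f4a0c7902f5062906c10d3b0ce305df0c3808a50c980ce90b0e04b603da02690e80027b01e20ab006ea01ba0b0508c2072f0545044302090d040324052608aa0d3309950720045900430c220e5b0df807ef03990d7b0f32027d07d40aa20b4b0f7900cd0aa00a8701680c650198053804630055085904540e1c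066b0a000e5101ea0d240b2607b902ce0264098b01480abd00c200650c4804200f7b0a8e0bcc03280aa30b8f0e150f150b1505f002b90ebb09f40fd90e730af605490d8700be0529005106b60a3f0d250f360d990b6f007302550a7c01b60955004a028d02630369039507fd0cc20b7c001e0acc05b30d7d0a9f0d9808db0f26064706b40ade011204ca05690e5802c70dcd067401d1026b08650f44071c00b4039b05960e4407c606db0b24090705ce0b570eb009f6020e023500d6041b07fe0aa407e4083400180c1e0bae064b0c7b090a04730efb0050088b0cd20caf0ed80cd30053021e051f0248073a04de06ed08c3029503530e7b03b70262003e02f60902028a0bcb06330480032c03fa08f709910c8205b102410a1d0ddc067f043c06d80559003808c90500074900860aff06c304e3045e08fe079f00bb0e6006730a660c1b07ff014304810c6e026e0738008a02510a310690029200830a270b470a9706ff07de08220bf908440b09093e06a403f8004e007f00a80b4e02c006bb0f750c0604150968077300fa08900a5302a80e540a7a087e01ae05660a750a030873075a0ab9087f0031009006c206fd033b0bd8005b06660f0e0f57038f09f908390b410b730ace04940c3e03290945048a0b8108ec06a10990086c0f860b4f074f040a08b20f21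0d15033700f100d30e2906680d2c02660c8b00ea034904fa09ec006b0cfe07590dae05f10e0f0afe007a06b20c2b0a400bdb045d0f5b050c0658024c0ec10e2f0ec40dff06180497079206a60d9b0c180cda0e63093a00ba075605ec0c6102fd097e0150059d0b7a08400ac204ce0c570db20fa804b304d606fc0b990b2902bb06fe021d0770097902230cb00c1107ec0e8d05430c9e0d260d4b083107750eea065b02d707510ea40e9d0f28098201ca053c0eaa0deb070408d103a70bee0a6f0e0801af081302de037b068e0166075f077106110f8c0e4f00ae083d0b4d05760bf705fb08750cbf067906930a38014502200a510b0706d108a801e308b80c250d8101c201180b5e03b6040d05670c7c0717067a0a6c094b0c5a08a90dbd00c1089c07e903810cf507ca07850a6105560bd00c1c0c3f07a10c3b0bf401000cfc05f8091b040804ba021c0b8008300ee5065207a403fb07ce09e30db40c1f061a01630d2e01d504dc046d0c3a0e6f0ec00a5c03dd04b90fd2008f0286023002810c0306630b6608c6001d08230d2a0b62040e0e9002b309ad09c80add025c020b0ab20ccb00fb0f9100dc05cc0b900dce09b40d4803830aa606aa0711013701320a84024d05c400c9024e098008ee07c10e230b6902590ac301050d5e02ac057f069c03e10cd90f16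003902dc0cdf0258089104e6036102c50b250c0a0f5606840eae0fb409fb0ef00ac603600294060109b701a908cd0b86035e07c20e3d07ea0e8c09d305af0366087b0b82024604b80964008503570f140cb90e9e05f60ba4080a0dd60f58036b0da702eb092a07d60dda0eba023c0e7e019009e40fc10d9f0ea10f650f2a0687004603b8057b00210e040b6101550f340c2f03920216037007980a3a0d560b5101ac08bb0bd609130c140de605d70cf209570ec60db501de0b3002760cd5055006e60e39029d07a80a0f0a900fd00750051101270f9b0fd80914061406e9094c09030432019b034d01ef0a2b07ed080505250fd707f90f8809920c7700140d3d0a7005fa001f00fe0fcd0c960f2b08260dab06f204d9054e02000da9044c03d90f090a34052d04510a640ce808d0050b0f48054c085e0a71018f0f3901d2031f00890299066504f00d16014b0887031e0846039f039d066a0268021b08bf0dbf0e33053607cc0c4c0d3906ae09cc0ba80b44045c06dc0e970fbc0c270e360e4e06a907860f2e0fda0fce082d0ae608e30a5700920b0c0311089901f803090af907600518063a0ec50df70cca074505f202ad0c940fb702aa0e8500bf086f0de70b6d077f08e106430a2403de0c9d009c02ae00b309420ee20fc603ae0f5906d70df609f009000c01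0eff02cb0cc5012200f4008d0e00028909d90ab1022d03cc0edd07c902900b4905a20f53095e071d009f07da0b790eee00d80fc20b12018e02b40cd70eac050604fe0915043403050f7a02ed0cce05870855056a0a1605ca030d004f0fd5003a04070c750fb10da40fba00d208f00d830c740a9b07e0067604bc05ab06cb093309dc09f50d3501f2064007970d460e37041904260bc8056807820bda02c60343048f09d80bb0068a0956084b0b9503450181031701bf06ab086b0ba907a502d60ed20f4b05c6001a091e00f20a56082a0b46087c0d1e02af006306f4077705580829098108a10966064208a20dfc0df30edf0bf20f370cdb02360597010f024a03540513033a0ae009b20c990fca0a32006f007d017b0b9d0f1702db0a7905ff061d0bb80c5602ff0106099a04bb02600fb809f7001003e90abe0edb000605070d660db00b3e0df1030b036c01560167046e077d0c4e0aaf0ac0081606c40c640de50ebc08df08e20f2904a303a9076a0aac013907f3097c050e0c8d0d9106d604e505e805e70a440b6a0ccc03b1059901400bc4052a00ec020509a2011103a80de1080e0fac0110014c0b5d0b650cef08eb0a2806d008410ddb05f70d210aca0dad0b60043b073e05d6096a05c80f810b4308f80fb3064f040506ef05700be405d90e06044a006d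07df05f909ae0f200db101bb00610c330222030a0e57092c03d30411051b0120031c0d4106dd072c063e08ff0cf30418031b03ca09a008030b7b03740ed608790b0806da00e60acf00b90fc304f60b50047b0ed30e1f06300bce081f04af0aef0a96048b018b0983051a002808ed08e406d90f4509c1072205a30a770b7d006e01aa08330e41060f0e81055c0233005f055d04e208a7063603030ada000d01760539017f08830e79065900010a1c0f4e019705e000bc09d103c208450091024f07dc0b8e0bd10bfb0ea601780def09ce0f9c01510f9007340563089a052200110d590c450dc609d20af503b30a2d0aab0fc50f5104500e400bcf01150440049d091a08600b7e0d68080006f6093f0e67009607350a1507540c400210014e00350dd800ac0a91060409960cea0aa809470dde00e50bdd0627027407bc0a2f0a550400053d03fe012307c305350f600c2a0d020d140fa20e1b015d000c01b000e200ab01590c9c0183016404e002bc038c09e50cbe0d2208f60a9306f10e6e0aa107550b94063f002d03eb00f606e300b609fc090f00f90dc20d8a06a70b1803330cff05e307210f2c0688017a02f202b00c830c7809870aa705470e13090804cb0d730967037908ab019a02e70d71044b010a08e60e2b0aee0dc10b6c04830ad40afa00540397062d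0d270fc4089d06df0eeb0f1a058a01b104c102ab0fcb0de309780ad5015701ad059a0c6f0b5f0b2d033401eb0b1007a007d5056b06570aea09e10b4004f700d700b800af03560b9b031603e00e0e09720d5f0eb3054b0dea042c043008710680069b035a0bbb02980b890485068f07d707f500fc04dd035b0e9b0c5506ee01fd084d0f1e0d2f04db00c6050904da0d060537012b0825078e0c4b060504bf09410be200020dc90c7606920ab403a6025a005202da04710a5f01c00cf40e8a027c036e0e9f02d50d2300d00e0a0f52050a0ae105b90ce40f9901a60b7f0afc0b590b0000a20d850d72059206a307db0d1b08e7011c09bf07a302f80867072e0bb902c903200c5909da0f9200a309e803070cc0079a0ea3063b065a0769062b084e098e0bdc083f08280ba009590895044704d205aa06350ac1087a0e35026501850da209160cbd029e0ec70c9b0f9f068508a60b980b5a0c6904ac047403b901460e770b710e3204b104b702a60c0b025b0bef0d010b27018900ce02e5099304d8011d08f90a6009880f8d07930b170f8e0b7806f70ee80b4500290cd600ee0e0d0a4c073c0ef905c104600ef20201032e0e210ac7071805d00b8507360ad70cab0234004909010654078c0a090c9706c50a3d06690ecd0e70073d0ba205a6039a041e03380ab30ac8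0308025f09190c890be70b910ec30dd300e40208014a0f8b017d0c30099d06830b3700690b5509a60cee0a7b00580f020e3102c10edc02d20ed10aec06e0080c0b2007520d2905a4068902f70a940f3f049f08690eaf033c03640bca016e0f1b00de0bf0018704130f7d096508e00d530910079e084c0516000006e10976052400bd0218081506d204bd0bad01b702e3083505950d4a076d0f1d06de03aa0c6a003f07c50d90053b05b60c8a0e1e01dd0c730f940dfe08c403f105b40a8d04ec0b1a008e05ea0fa609db04ff017c0ad3027a081d0e930e270d5b0d6c052c060203230d3102df071f07cd0f0506090a3503d508c50e550dfd0e6c0acb09c7085f0a9c08770a1e036f0d89057e09710b2b0c17012e041000710b0f031306160fd3089308920efd0c9a007c078f034c0e5f08070c6605ba032d0e1a04df04870864042709f208700d8d02c3044101e802a0069105b70bd90e140a67022a09290422086e045808f20fad0a5a00ca0ca106990c920f6403a30e980136047205de0703005a05cf062401cb061b0bf60d950ba602b10a2a02880ced029a091706d3001201350d97067e017906550824094404ea03f70f8f0eed0b0a0f9d026d075c088d0f0c08d70bdf062f03e60d0a06f804cc01e50f4305710e110d9300e10766016f0025092d00c80fae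035503c402e80ed503590a4d05f30dc30ce60a0604750ef4034a0d940acd00a90cf104280448058e086600770ca60c7104f40753092b0beb09090ab60b630e0901f707f400970f74004c0ec20e610818081b0f250ee00b9f08e501140aa500fd03520d7902d000cb09e9002a09bd01d309af074203a00c10047907840ceb0c54009b0af30f850f820dd001e9042407bf0ae406250c8e08100c360724099707bb0fa5031400f50e8f00340cc80e3f09b6060a0130088a0c0d0e860dbc0c4f09d0063903e807f2023f035c0bbd0dc800230d9d0852082c0d740977016a063d01fe043808d30faf09e002d80277089801d00b2109b107050727038808b5093503ee02e10ea00d19008b0b9c06130934000703e70fa30b310ef5041a074e083a0d28056c0e920e42033609a5005c0f19015306190f7c05a1032a0d3602930a4308940f5a0b970817049607ab05db0bba07320a890729072609be06ad00750b0101c50327001906d40429031002fe0b060384059107810bec002f02dd03040fab01800f69033f01c70764013b071e000a0634091808be0a990a820a2506b80c6000720f760b0203f606b90dc008320c910efa06c003ab0e47031d02060dfb0ebd0e840de0089f0f660f240e8206500c8807e102c40c870f4000ff0d7e0b1904e10e620b4c00e703ce0170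010109040e950d4f03e2082f0b4802a20dfa05da01650737027907720de80b8c0bac000b0f4c0f6b0f6708380d5705480cb101e60393057a06bf0bc705bb07120f18012908ac0a88033904390dbe01070254025701bd0ea503960c3501770f84069803be0b960b23098f0ee90e2c0c4a05c700c0044e015c0c3202f40e4c09b507e60e0b04560d0f09ba077908620239057206d502fa0d8001490c530e0205d307e20d550fb50df50ba108720e05046b05140eb803180faa093202e609d70102073f011703ad013f07400eab0d5104d1057305d8090b0ef6053e0e5205c902ec0c2100f0067c00b50cc10bd204f8090c084901c103780b6e0d8c06450027085305ee00330a740ab70e7c02bd0b3f0fd10a9a092401fc08680e83010401ee0ea907c000f307be0ef70f040a920baa0d690b7705a004b20ca50f010ded0d7c061c03d60d0805050fa10e8e079c037d08b9052304fc05940e2002f001b8048c0a4b0747018209630a830f62021a0c5f09b90161027203f00600007008540d540116012c0024049202d109490ecb084701210221005603260d70058300b0080400360e940344045f0ca20dd50dc7021f06be0a070bb40ab80c7001e007eb0e74088e0224036a095b042e01c304ab062a089e08850adf071601f50fbb05be0ea200f7054a099f0ecc099e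0d490be0067d0c4401a1076e04640bfc0225047609ff017e0c8f0b520dd70fc007a90e7d019601b40508022900dd01a304cd0a620e890aaa0e3e0e5d0d6103ea010d0ad80d32077e04160d82001b035808430cc3033d0d4509fd05f5070c0f3308af0a1903af0bfd02cf0e340a290e4a064c0cc40c860a420a370e220a3002a405200731073b058003750a22074a058408d40bb6055400200ce70dcf0ea809d505e200e005780b3201440ef10f6808fd03bf09050e590ce50d7604c30e170372064d0b5808d2046c067b0b3b04f10d40075807910d7f0d4e0d4302ef069505dd0bab01f104e90b4a0c1d04d403c60fd60c50060801260fb006eb09a909a104a9085008480e3800a4043608fb0748008c053305eb01ec097d04d0022f007e09280da608b00857097a067806e500cc093104c708140e6600a00d7a08c104cf0b0d01cf0d4d04460d9206f006530bb10c6b04530062078a02e203e4032f01d7092f04210a17013e00940582077b043306af0017063102f10504000906060ad904c80a4708c707130cd405100aeb08f5070a01a80f0a065d03cd055203680c2901340c850953008806ec01c80be909060a41049c05d40005065f0b720f870df0040b07aa0afd023b0c160daf0131011a00ed09380a720e8805b0078908e9096009700a4e0763096d0244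0b680f5506b70247035d02520489029105d10dd106c909e60e4900eb05ac09a707390d630d780bb70a3604e70b8402a109460cf6003d0bff020a016d0baf094d05ae01f00a7f0032012f0d6d0d640a7d0c800da10cbc0c41070d0c5c06100484026f050f09eb0fa407c40cf903d701d90c8c02780b8a059b0fc80be50f3a0c5e099c0e1d0b3506ce0c280bfe0bb3004708bd067701f9016c0a6e06b507150a520a45046700570c0404680f5d02a30b870d1a08010a580a5b0b1f0e7a08d50d620bbc02a50a260f7f02a90cb60f4d0ba50e9a0521013a01b20a1202ba0e1004490d3f0e4308d80bd4068c081a00600ce10a7e030f0d52094a020c0da505cb038700c70ccf0f10039403b00af8085803c80ac403ba0bbe0afb0a98099b03db0e6506370d8809fe01e70e0300040d8e00d407d300480bd50fb9022c0a6d028c0c52066f0ddf04a80888011b00640e19069609bc0f700515072d0406019f0e28025e097b056400d103a50c7d002c0911032b028709d404020eb6031207570c2d053f05d202150477059001a40abf0c5b0e8b03b40ca709ed06210ed4009500e9027101cd02ee00c50a8a0f1f054d09aa0be6050d02fc0ccd01d8016205b50ae5018c02c804c20d6f04d50f7703ac0abb0417071008fa0eb904660ce0085b0c58018a03e306320c020d65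03890f4f023d076507b20adb0b64075d09f80c9008200a3302d40d6707000eda01e403850f1c03980d5a01fb003b00800e5e09d6077c012a0c370808038a0ddd0ede0d12000e0db30a1009ac09390dcc01c9082e01b906b10ec906460cbb06cd0d2d07ad03df08fc04c5080f0391066c061208ca078b05a507fb046208110d130f73001600cf0cfb04910589064a028b025d0f1205170de40c3908ad0ad6048607ac0a8c01cc03d80d100fb60fbf07b404550fc70f9e07af0dd9075e08ae0a020d2b04ed0eec07f70b0b0cc707d20cdd088009a3066e04440c260d0d06bd0ac503480b8d0cb50dba088c042d02ea0ed7009e04c0023e089b01190a5e05bc05a802cd0f610a5d02b7052b028405ef0d9c03d007230199046f005d09df03220f060e3c07bd095103c9085100da0fb206ac06f3020402b601380aba042f03d107e30557010b0bed0886088108d60caa037c002e011307780daa0f46046908c00a5004030ebe043104900a9e049909c5055507330a6a0b6b07960d8603a1079b0532095003ff08ef0b3a041f0044069e02b50889029b0b3301da0e680493083e07c706700e6a07b1058b034b0d00064803860a680da3011f0d9e093c074d0bd30cdc02110b39091f01f60708017206b00c3c0306055105c30a5905860228072801d60d440e180c240aad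0457096b0c0e063808060b930b11083c074c0eef0799041d0be1095f0d1f006c03c3074b0ad00fcf07cf07b00f9605750b74003c0f080ca3031906e706fb007603010940013c0c93096105440e9c0f3b0015056207d801db02e90cc6097f08020b5b0a800617094f031505010b8809a802ca00790b9a0a230f7e0b830d370d60019d0b75030e08cb05e40ec80b2800870f00056f00a104d70d3a0c0504b505ed03d408cc0821086100b10b2f0ca806670d1d0cf00f970c23020308e802f3085a023208190cac012804ef0b5605b80dec0662025603c70c34076f0bbf07140c0c0bc509270b760e2e05600f0f0c00068b020f02610a080f2d00ef0c490d6b0e3b0cf806280bb2028e00a7019e09250a480b9e0e2603c107d10530040f02850b5c0cde04c9010c079d01f30f6f054f06a0082b04120eca058803cf051d00030a05035109c60bf80a780f13037608f104d30bcd02e40173009809ca0c8405a907f108ba0fa70192081207b3047f04be02e00d0904fd08b602c202130022071b080b063c,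
  0xfff0ffe0ffd0ffc0ffb0ffa0ff90ff80ff70ff60ff50ff40ff30ff20ff10ff00fef0fee0fed0fec0feb0fea0fe90fe80fe70fe60fe50fe40fe30fe20fe10fe00fdf0fde0fdd0fdc04f607dc02a20c6e05ad06cd01dd082d06b506e00d9b03ee07a000e909a80b8f03570c1103cb076d06720a81082b082e029c03bb0e7c0e4300c008df0a640b6c05f505a702e703080cb40c39041e037d05fa0e470dc6005d0c52056c08e00f0a0c5c0ce5049805da05d30c870bbb0cfc058801c50d8b025a06c807960917056f096e0df20e1b0ad90dc10d0405c607a30563062005d9018404a40c970504077d0f83061d0f060a1502220b0e02d8014900fb08d10e8a0f300e3e04ed07d101be0c3f09c8021d012200ed077e0daa0cea035305670dc40bbd0100085005930e6d0e6801440b6e054f02ae0c2a09700068031a0d920ee40ce102fb09990dfc0d0d026c0a740b400e820fcc0b1f0a790bca039102ba066507ea0f4f016007e3040002a30663099d0507014700aa06e9014d06be0c220c1b0a6800a4031c0296085503f1039d0f20093807b20334093e00780bac0a7f0bf30b480f5005d6091b036500b4096400eb047705c502a90f6e03c90dac08a20b0d03c8028209b803b40e3a07030c420e1f0f69076c00ac088300ea0e8903ba07ab01620ee809fa08a8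0aa607b70e4c071f00040bd80ba502d90bf1048a05480e5c075f01b70ecb03f30983035905e00f8c01370e600b2d01770b4a01ab02b308e40b2107910e8501510330029509fe02ca0a2a02800d0a0f1e08590a2d02a0074e0e8e046e0b7d0d800ea4051d09370a03062900ec001e08a70eb20a4c0f1b00ae05410d730e500f7e0bdd0a9c04cc057400bf0b6907a209ee0d15075b04e6016b0cba0ca00d7b00fa05ba0d35077102fc09020d7505e2058f0a5c03fa0f0b0c6604f800c6080607150ed60bee01f90484044f0a6a08cf007004e80c710d740ebd0dcf07bc0f1a09d7007f0261020c0bb20d49004a09c007e5055a056604470f2c03030dd00c980d09070503f40eba0ae80130049d0e28030d0d160d2a037c0ca101db02b40b050179041d058907060e30085a0b970f820d140e6f081d0ee30a5e0bba070c0687052c0cfe08f207460f43096f01b90cf003210fbf0b30052503a102ff088c03db0b230d7d095602de0f740d6108560f0d03610b880f030eb7042301f3002e0c06041705540af907c105ff0a590fb2095103ab0df70cd106aa039605030a260ef20d93029800f60d3e0df80e27008c0b8e0bb9059e0c930d7109b507db0dd90d510072084b0acd0299052a090a0c050ef104f7064b0dc009df0689093d0dd40fc307c2042206a30aef0584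009f0aaa067f09050dda05720aed0ea603e80d9e04c20d1704e006770d5d03e103dc043c0ce80196005a089805750c8f0e010de7016501de028c0bed0a500dbf017a06d303b60daf02710cc10ca90ba80ac407090d980e42095409af08ed066a0e0f0b520f54049a0203023600000f2b053c06fc031e05450a9f015a028e0caf0b1b0c7b0c7702190a8408da06f607d505730e950cb6012a096a015e0e380f8b03f90a8b03d20d4d0e510b9c0ee108c00c6b03d802fa00650ceb00df028b042407e1078d0738041b0bcc019105bc01d408fc0a92057c0d55060a09f00ba302420c9009e40fc20da50751032c0be30fc608f30cbe0c0f01ea06ab05f20ca407270aeb0c41003e03390a890f840c2109d6075604ab0a410d0607fa0fa90cbf092b01d1048202c80f0407f406a001cd04b605c303e703ed01e104bc05fe004d0198020b07b10ce40c2e0cc20998025408ca059a0c3600e2043a030b084104b50b5903be088d05f1097e09db00cc0794042f0a5404e40ab400c90e070edd0e9a06510eea0f2e04c00042073d0bd401b2031700e10fb40394089a0c3304370f530e92060101c104080dfa075a01780dab032d04700fc10ba10cc3092c07370908073f0e7506990cdf0ab205df069502bf04250ef903a70da601bb03da079202a108c3075e0a3a0aa40e86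06b9013808e805120bbc06e40010009e09a70d1b08030ac60f4b08c40abb003801dc0fc50ae101d906410e03078005fd09b40c8003540eef09aa0de10d8d069a0aec0ab6055106610fc00e80006d02480ab304d008840c820bdb0b570d8f05f40c9b059d01bc0c4a0a110bc700fe076b03900aba00b00b260c0e022a0a340c25023a0659080d0c560c5a065e058a06cb07ba0c9f0bcb0b3a058b0a3f0e880e0005b10eb000560d00053e0ccf06f00aae0af20f1601020bf50e7a03d709b101d004010acb03780bc10abc0b580bda00fd01ee02f10fad0e5f0ba2034806680b340061063c0c4803c1029e09be0b610e56067b040700930ac00c080650018204eb0d7e0c890074065c002c0b790d46049c012e0f1d0bc60b5603c003700753083a04c80d0e029a04b301b50cd50cdb009a072102bd08cd04f001330da4035b0b8c07c9020d07a6012500570e790d7808c70b3103f009790d58029409c600e00170079907cd0b89096108b7089204ad0a7b0e1200810df308190485080c0b250fbb0ec60e940c2b02ce00b20b50002d00950a4e0ce90c4b0be802340e6600d5003b04ea0bfd06dd065b0b4904c703e6032e0cf309f1042d07d709850900078b0e5b033c0e5502860a8208460f7b09750afb091f03a80a4a0d9903a40b1209c407240b430c8801b105c9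0f5d07e00e52091904b10024087305a60b71091d083f093f040f00b90fda0adc0aa2088b0cbb0afd010b08cc0343080e0bad07290eda09120f290489060f051709870de8068a0a000fd900cd0c1605280758050901890dca03490202044d09f403ef080f013e0c53083200910416017d06930f7d05d80e8b0f7502d7074a02440d030684035005470f760079037e099501990577027c0232050f0cdd0e640cfa0284068b09740018012301f0031209f201a4041a058309f50f4e0d450b4b08af0f950b01065602c901860f590bb303d60c09068d058005160c9503c704d90c6a0bd703aa0f5f035e00540b040b5c085107be0e04003c016f03f60de60fa80040034a06ff095a0c500b660d1c083705150f100d22062b076e095f0bf40c920f1c06230e0a09810c4f081a0617069106960aff068f046d0cde05b2066908c106090b90006f0e360afe00410efa03d90e410197081b0c3b0bec04fb0c4d07d805bf0a330f6508860a02066c04c60eaa0c8e07100ea80c19032f056907e403bf06c2010906b1033500e502300183022f07f10263008a074000f2026b08cb079c0a7701fb0b620a47046b0a10045402ed014b024901e4058d0c860d560f4107d00d47059206710bcf04a30da00ec506ad0c1804100f64033f0c27000e0db00c610dd30cda07cc01e802fd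0b9e080b01ca0f2d088a07790c5f012b040b061000130b6d08fa0d77086105210ce60c7d00d903b8062403ac03cf02e402870d280fc80c69051408a30f1201580b3c096907630b1908b2060e097106330bae09ec05600bb404e90b840c2904c90da80c0b0be90ae303f709b206e7030201360487014a02cb079702010a070edf039204c1097a016c06e606c9016a028f000809c1090e0bd00eb804950e09021601080aa106150d36043201e604330c3a03d0025e054c05b303ce04ce0ce7087c0f6203310b3d0e5e0c70015d09d50a71086d0c5e08ab010c0e810a25089f0ec2064402a4073b033b0c6d0eac0a8d0e34045a045008d00aa90f9a0b08091107da0c600260019a02dc0777094b069804fa0b5e05c8081804f9072008c90c2309320a940790021b0d890d91093005850adb0e6b01130c200dee08850b700b82067a088800320ccc004b0a8a01a90add072b073c0835032606b40e9f0c1e0bc4041800f8030c0b65024a0ae70cd9036e0f270f1907410920065a0f0e0a1f083e07ca0e19099f042c02e502d60670029103eb0a58081402450f3403d108eb0fa003cc055d0a49071a0864052207180a66024309920a350cfb0fae0efd09ba01a60a5d04ee0dd608f4055907440290015c0e9104b00011046907e60bd3071708440f850eb3018c00f107cf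05eb0d5e0edc00da03dd07760ebe0fa7001702b9024c082800bc03ea070a050c061a004405cc01f108720dbe08b60aa00a2905ce058c0520050a038e04ba01ff062f0096072f01ef0cc70d8400990b3305e107670e7700b3009809cb04a00c910a0f0fb3053b0b78003d0ad40d6d0c570e700645040c07a704a602ad0a240c64031d001b078a04d305b8082307d30f00091a0bff0c790387013102d5013b0e4d0cd305cf03c4039b08a00e240e1d0ce000d70e6e0bd20f5c01bf0b74094e0b670fd00c4606ea0fbe0413070b0505037a09090c9d0fb70b8b013d0db1098201f6051c001c028100bb00050dd7011400200e1a0ced099407d60843001f00c50373011607140a5b0e7d0089056b0be10c490957047c0e2f0b9507260f4d09a902000605043b01b40e1c09cc00be07d4053308b50805085e0a010f07085d0e9708f601c600db007e04fe01c20dc80375065f0b070ac805490fb80aac015901520161009d06530fd6084a043005e50374022601920b9b0bde0c0007730d8307ff0b6f04040f3a0870080001da0bdc02e60b1c0946004e0ef30fd106e803f202e0025d0a2007ef097b0db505aa04310f730311028a02dd0e780e690928003a05b0038f07c700e30ef702da014f0d5a02c4047508fd04cb094a05d10fd209d2074f027e0ab8074d05180c14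06320b73050d0465048c05700cec020600d10ef50d3c0c7e0445025506570b1506b8017e022d0bf7061e0faa053a096c0e390dc7004c0ee90bc30c0a084202ec0ca306bf09840da90a700c2802f801a1095e0ac1062506fb0e20094c062105a90cef049107ee0aea0d9701500180002900b60285086b09d80976047806cc04740ed70be00a6c0cd80643007c0a9a03150ec105390d250395061b01ec0a1d002106ee0d9d0578086309770df0003009bf0c340d7a0820012d052901fe0a5f0581064902520d26048f04c5021c04550a4404c304ec08ba03840273062602d00935089e0ec40f0803fd0ec00747020a041c08ac035601b00f350761051a087f0be700c80c0c001604920c40005b0af600060b530b1701d705260d2708b406af0e1e063b03fe0cdc08e1064f0eec0ad304a5067805b7016407e201f200230ba0055e0b2b018105d2099107f8064a0c350e5803280d0505940b9d0cad0a78064c09ef0f4005de03e000a6029b0c4e0e26063f06520a63021e0f9201b60e9c019b06ef0bd10c380fc70a83030f0c9e0b98025807600fdb0d5207120efe03580b7e05ed09c2097f02d3075d0d70043908ef047306190595011c0dad0f9e02a60faf035a043f019f0b2c0b2803ca02b10275070e08b30c0d09c700660927074203e4027706d009b3025c0456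0e73064009ae02210f1f065d0f9b049e075003830e57094203ae07890301058e06df05dd0d210952027402be0b0a05020e4b0d570ac20bf20fab0d0c0bf8087405a00875098c04b801ce0e490a8e06f80e4e069c0eb408a60d29016305110e620a6f043e0fd706db0f6807d2089103a90a9109da004309ab078800e401550c750e630a8c0464061605c203e901cb0ef00ebb00b1001d05010dd10f21072c048b063e06fe00920dd200460a4800150d1009e90fd80d7203510d8808db07fd03860cb2098a036c08020c9908bf0d230d3900770ac50d2d008d02df0bbe0de506c60f3f0c470d5405570cf608e9035c0cff002809a60c760ea004d60305025103b008f80c120111045f0f420c7f0435018a002b0af306a40a7309a00ede0d1309410dff06390bef097c032503c308960c0409a10ab50bcd0bdf042604900bd90db7047e02a80bce0fd401010dde02310b6000cb0ed404d506f7068e006a0b4f05a808f70e1705ef0ea104ef0e2d069f0b640f2209070063071106300d3b0a090f310eb60d950b7204bb00c40c850472095d02b705e405be0e250ac901560b3e0e8d0c5d04d400b80e4a0e7100d8005305f70fb90a36026a0f7a0562044805b409060e330e6a0b850d30052705a3017b0a65042e05520576056501060a7e0bb50f810309067d0f890076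09fb018b079e055b0bb70f32054e064800ce04a10a2208d80cb909ad0e5d06e5011a05e70a75023f000c00d0032a01ed0e90092604bf0fa60d320b1406850e9605f30ca60250008e0a7c09e501c701740f5a0baa0368082a0f33036a007a0922099c01480db20442081e0f9405f60543094f0b510d4a04760047019e04d10b830cc50f090adf04e200e70fb60b8a05d506a700820f39074c0cf20a9509800acc0dcb0e8f066d034b0c780ab901a3086202eb05f909dc044c0f8806c70a130804045307c308c80119092e0e48023b03600bf605c40e1007b506880a0b09ff09a3090f0de203fc04680d2c013a0ce206f50d900a690f670c680757054b042901200ecc04be0dcd0ae60c730d2f09e200c70d8105bb056d069d027f0f25060308760e4407bd0aca07ce0c8a0cbc086705bd0d0b06dc06940cf506f306ed0865040a0f440da205550d7f0a53062c0ec7079503640b99092f005f006e0cac096d057904e30b5a077a051b06eb08530c3c0de40a3d0f0201c3047b0c3d04660c9a01460abf0d9c05e60e8302e108ae0e93068601c0023e05af098b06a102b2074b0f8a074302680ad20b350bf00a7203b101fd0654093607870a5604ca0a1e07b40924040602d40e0602570ef808a509fd0dc206d90ad6008404de0fb105c00b420cfd01760933086e0f4a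0de903f8090309a50d9406020c6f0f370cae066f0a190ea70536025308bc0166044b0f5e0362030e09c5039f00ff0479045105350ae90f900ad00f460da10a080438071e0bb806ce04670bf9069b031907dd0f97072804ff0a930262089405b90b5b0f72048d0288003507130a850235096502c007c40b4405ca0e0d01f80a6b061207f0008b0e210f2303240048036306c4033a094300a101e00f050a0608dd00d405960b100887019d0a32083b0c96060406f1048606e1076203bd08490a9602ab04960860049b085c047f04120269007505ea0b630073094808b00634092d06080ef600850ee508990cd40587032b03d506220a4209ed0b2e035d00520910020506b706bc05e8056a0c8c097d01f404db06580e530a3102920b3b07df025b0c65015b0ded0efb020703270fcf014009dd0a400f5600f4083108d60e99087a019302670847072501ba0d8e01540c7408ee04f105d70a1406920eab00a206600fa401420af106420ed20d5b0ed1026605ac0d1d0878039c053407980a3e0a5a0eeb03360080057d0ca20427046c06de054a0a990da70fc40e160cb1098e0ec80b2f027d0f860cee02650c8304b70239011d0de007f702c705ab0eaf02b60a450a61082c004908d20b4d08d40b360cd008ce03b90e3507fc04610abe09bd037205ec03980ee604f4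0748038801d3081606ae05420270050009b702f206e203290af004dc055f0e3c0459071b0b6a06cf02f00d6c03df009c05980fd506d100870bfc0460007d0a4b0afa060604a707cb05530a4300f70c1508b90f3e03ec07070506085401af00c20fac0c37095802890e54059708fe01c409d102cf0dcc078602f30097011805a102e9082605100ae0042800bd00260b68012c09a208d9084c0fcd079302f707c8073a010e08e5054000ba024b0246038904bd07aa022e0c2f01fa0546030405dc0ccb0d7608a406070e720a300d69037b0c2d00a003460bfa0c4501e5099001b80c9c00510209056800cf05a40c02000d06c103140a37015f02a50e6104210af80f8d034f0a3806280233000b00a508a10cb000250968046209f806c50c1f01570f0c06d50a6003a509340d1e083603cd08300eb9044908e70a460f510e2b07fe040e0736006c045c0d6a010f0031062e08d50817026e0b1d06bd0f140953005807780c1a0ee708f1030a04cf00a300220db902c604b40813047d08a9027b0a1c04150716096706b0008f0a5709440f6c063a06110f0f0fba09d403200d1f0e0c0379066e0530085202f509e00b020807082107ec011e0c670d0201120b6b09a40ae408aa07b90121010d0d680f6102240e22092100dc07b60fa10497098f09d00d18059b0e7606c0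09e3072e0e400a3b0d410fb505ee051301050d9600c3061f06310e7b0b2a0e3b0a7a0c4407c000e8096009890986006200360b9606660ea3005e0cab09fc091404c400f30c1d0f28012604df04460a520a3c06d202a703d40db60537040d044406470ca70a8804f50749008808ff013f0cb5071c05fc008607650e7403520c310719025f0e6c0214031f0dce0a6e019508900e980a9700ca0a2e036900a902120b870d6b067c02b801a20dae038a05db07ae0bb00e8703410fce0f450f130e3703af08ad078f0188036d0ade08fb001a00020d12081007590eca0f710e3100f50e080ebf08110d3f0ed80c3e01ac0b1e0d1900fc03a20d400def05ae01e902b00f800cbd024e0ab100b5045809960b16088f087d05d4004f0a760b7a013402790f4c054408340b920f2603c60ed306fd034e06ac00340f7c0cc904f209180fcb09d301d202230d9a0c630d440646044003400af70ace0eee07f507b0084f01c907a800ee01a00dea02f90f98083909bc00690a0a0a2b06000e46095b06800aa70f8f0c5b0ed00ecd0f3d05f8047a061807220f38043d075c050803420217059c0ee0076a01df0d3a0e650d2e041902aa037604b208e60edb0cf402af0a8606c3031809ce07ed05e30e9b0af5057b003700710b06038509f7036f0ddb05190f48018d067907c60c10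04f3012f0d20064d06730c810c7204af05560b55028d073209ea0dd80bc9023701ae05a50a12052d024706a508010b46000301710e9d099b0697045d0117018701e703b50f8706900ea201d801430a160fbd05fb048304880229089302f40480016e04ae07f9044306d60eed0f700a5507a40ea90731010300ef0127036609c90f2f03930c260993092a0f3b0d1a0316058600a708820deb05cb048e0e0b0b9300ad0ac30d4b0c840cb70829002a06f2089d0a0505610abd070203a60381077206130d62017303220915000101f50f1807b30af404fc022507fb0c8d072d09500e2a013906f404d802bb010a0df5018509450323079f0128000a07a502c10ce307690c7a060d02180db803000c030cca0caa03370d9f04090857078304e703e5093b0f9c0a6200090f490228001409bb0aaf029f00670c2c0e2e096602fe002f0ca507f30b80042001eb0b7c0cf80d6003b206b30bbf0a8f0734089706ba02640532086a053d0129054d0824082701bd0eb10cc40db406a805640a23019c0f6b0a4f0d66085f0ba6017207a10ed50f1707c5045207f606820df60895067e06d704810b4e0278039e08330c4c0ba4000f035f0c580acf07bb03440858022005c70cd608dc052f01a503fb06e3088002e80cd20f7f052b03a0087704cd03450baf0b7b0f240eb506fa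0bfe08c6041109f60d3d049408d306a9091c075403320c5908c50c010cb80da30e0203060a6d0a040a6707e70fa3098807520e45011b017f0c300d110b7f04a80a180bb10e9e0b39020e0e0506140aa80256095c040204b903c202ac04d702e30939065500a80a9d090b0ba70f2a0141078e018e09b9064e062d0060099e079d089c0a2f07230be406bb02ea09f30b270e840b770104031b0ead0169044a0107011f063504d20b320eae08de0b4c055c084500dd0d5f0a1b0ebc0f5206740d8a076f0bd60c5503800d850b3701150397022c0d310f990e2902830cc805230ddd0a0e0dbb0de3080901fc05b5038c08c200e60e13023d0f3c03de022b042b0f8e0110022701cc0aa5043609e809e108250e2c090c0dc5076401d507af0e5a0fb00d590be60c6c0a1a050e04fd02c50636019400590913077b09630949066b084e02080b0007b80fc905cd0fd30355088e04da051f03e3008302c304a20bc804030d7c0770040508bb02db00f00d50089b02f602c202cd034c0a0d0708067606380d2b0f58045e0fca018f08400c620f01070f049f0f4709c30d3807e90aad0dba0ad10e320297087e0d640f77098d070d081203f50dbd0e4f08b10dc30a870aee081f077f0538066202b5073008bd073309cd01aa01cf0f550ab002d2068c0c1c00ab020f0d0f0b0c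09b601b30b3800de0b410d4e0be503070bc00d650b13046a06270599078c0cd709ac08ec0d5c0b9102400f660e3f0871021a0a7d0dbc029d093a0550023c0c54082207040bc50db306810cf7045b086f077509cf0aa308380cf10d4f02e20b3f085b0a0c069e0055080a0afc04dd0997002702ee093c0664099a0ab7082f07e80bb60a280a4d031004ac033d04e50df40848021f059000640c070bea034d0e18005c0d860df106670d53016804570ad70b9a0ec300f9033e0bc2037f046302100b1802d10d43014506b602720175091603c5051e036b0e3d06da0dfd0ef403670f6a0b290c8b016d09780ec907bf08890b470a8007010d480d8c07000fa5006b09590d4c0132079a02bc0bd50b2008f9059f0d3709e603ff03bc09620b94024107390efc0ea50b1a05710d6704aa01e30f910e14014c0414077c01670785093103d307d9078407de01ad0b5d0cc6021503770e6703ad0ddc0f960259086900d60b090c43090d0a900a270fa2038b0c2409f90dc907ad03a301c809b002cc055803e2009b0a980ae50ece0e8c00af058204710955027a00c10c94026d0fbc0c7c0ed90e0e013508b80a51038d0090024f07f20bab01a70d8709e70d4203710f60081500450b0b08680cce057f0f7900d209ca094d060c0b9f0f6d088104930d630b5f094000330434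0be209250901017c06f9068303b70ccd057e03330ee202380d0707810cc005f00e59056e081c075505240ba90c5101240beb0972021306750637072a0cb30f5b0d240dfe0b810ecf057a00940b75061c08f00dfb0f6f0aab046f050b0b760bfb0c320b5404e108660973003f08080d6f026f09eb05d00f9301530d3305c10e23073e02ef029306a60ddf096b05b602760ad5060b0b220a2107820f630f110b860f780f570923044e0c170d6e0f360df9013c0e7e0774083c05e90cf90d0109de07a90a3903380dd508ea0e1107680eff049906d40e7f086c039a062a0a170c13063d09d90f15042a0d7906a20d0801a80dec06b204a90a9b0a2c07350879079b0b2402110b0302040745052e0012031308e303470f9d071d0b1106ca00d3019007660ada0d8208be041f0a9e08d70b45014e053f05910b0f01e20ad803b300190ae2024d0ac708f503820b8d09040e1506ec0d34087b091e01d60947007b0f9f07ac04410050084d0ca8039905a201f700b708e206d8083d000707eb053100390929,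
  0xfff0ffe0ffd0ffc0ffb0ffa0ff90ff80ff70ff60ff50ff40ff30ff20ff10ff00fef0fee0fed0fec0feb0fea0fe90fe80fe70fe60fe50fe40fe30fe20fe10fe00fdf0fde0fdd0fdc00e80d9f099704bf00eb00120a0502ba0de004ad0d370bd00f770e0106c703340def08250844027a089d0dc0076402c101700cbe0e1c0670083a09f3086d0e6e0ace04f20634029608d8085200aa074a0e4a07310d6f0ef5053609a70ef3029c088b0dd10ab00d7209bb0d230b6a054f0bbd0982012803350a750f4e02ef058b0c95022f02000dd806330696062907b703160e040dd00911078902c4055e0acb0bdd068907d0011d04a20c2d03840a770a7c0b2309f80c7b097400a30228072a068e070e09d70c2b0e61091205b30a3707100f9d02840d9800f402c3011002a807090cf90f91093b0e390a930980001c042b07180032085105e10ca401dc03f9065d064f042e04c502a50c1f065f039a0ca003130ae20c510f11053b03c105e0023109420492023a006b0b690427033e04cf02d5068d0ee703a907270e900724078607f003820c5f02c20625030a0b6d04c9069800d4021d0ccc073a0f750f510a9c0c63056b042104370dd4027d0cc4009c05040b73037904cb0866019f0dc70fb900fb0e280bce0a1701d7004b056201f70f9e0caa09070a590af6025d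06a808e509130fac023d06e703c50d73065a052e062a0ee9095a05bf06c00fc50f1d04de0e6a0be6056d0641085f02770c35017b0cdd059206950fce0d850ea200f502940ba403e000460a9b004800ac0dd705460a420f4709e50d9e0d8f0ab204d20ba801ab0b370ea60c700c460b3508e90190094105b901810688057d00400d4b050e07dd0bff0bf6029e027b0da70f9b0d6a02af070204ef07eb003b096b074809560a600de30d550bb000670c580252002d02190ef20b920318019508b9011c08b70cbb08490b9a09fb001d045407280429044f01a102d902ff01550c040a2b0f3a097c01e80a4e0df1080f02b701420adb05010c5c0a5006ff095002e3016e02fa0ea406fd065308a00b9b01fe0cb0074c03cd05880e5800ab0dd20e4b0560077d048e049d05a40e3d02630cc708d70f5d006f0eac07960c740bcf05e4065b07b103d80801072b030604110ee00a3e02570d5105a10a620fc70d710eb103eb0e65055d015a04ff018f0bba035006e006610a260fa708bd082a0cf60ab10d750aed0847000d0a8f09b00d60062f048b0c97065100c90b390b5e0f880ef70e0c0b3f0c0a0812097603260c82088405720acf07a10404023c00b003f1011301ff0741088006850db10f90014b0d5602460e08036503f00c2106790d810b990dd60690081e091f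02eb07a70b2703be030b07c90a310674044503f408b0081c054a0a0804740b1e052002ae000600970d8c0ee508070da40133086102dc03000a8c090907bd088e01d201520da000af0d540462029d084608ba05d2028d0029055a0e3a0da305690726022d01f505670ac4036801670b710f35027601a905970ae40b9e0a790a070a640917028801e007b8086a034900d10ccd055c0f5701c70374034207cd08640c610b1306a703600e520f520a0c032406940d7d06190eb007fa0c2e064302550ac7088a07110cf10359010704b70c470842049107d3000401c304c1037d08190bf10d5f0f5f0cd40fbf0a6807bf0704074b0a9804320f41047206970a100d1403810eff0b320f2207230d91039c0f620b89046a0db5024f0007039001930078056e014c03520fa90ce4013c04cd0448057e0d4d007402780d4809b50fcc04b005160792092707a9073402480d29087307a007c80c070ea10aec08560ce9043d03a609440ea30ee40d0305d1060e0502054b0e2207070bf0075f08930089064a080601a201e20bab0b170632068208a5099400220d1a0e380bb201de0f580ced069d0f160cf00717051105d90b1503b803ac05c30fba07ed0563068b059d08eb004303ff0db80a81092c042009860c62007d06da0f170aa4082f00a60a7d086b0bbe0e750b010779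0aef08e70094080201890cb108c10fd805d301910d7b01220ed10cdc045a0e990dfa0e7e03b30f1b0c780e3c087c07b60e810d1803e5042d0ef801d101b40d1702f009e20b8101fa093d0e5a040905570c4d00fd000f00fa0d070a360fd50d0e0bbc023000c303ea0e8a0df502a2092009490a95071c0bf30d100bf8046c0deb0ce005060c8d074d05d4002b0bf70c010dee05a903d600ad0ae80f6504a80f6b00270f610b360e6009000e2d0a61022909a409df045c02a907870e3e0b0203250d6e0d0b076a0f3b04100458071407f80a03099e0d70057909de038a037604670b8e009f04f601350f8e03ba04be0e8e0f0c0ba608f101d5059003a804c200910c7a0dbb00f902a30fcd05ea03af048502100e920bb907a802a001a7094a0a8505e7090f0512010d07b008f2032708ac00240d33025a0a8e012e0c420c1506a003b908550e5f02030ea50a15015e0d7c00050c2507730dc405370e5b032204a6011e086e08dd0e8005f30169038f09380b8504860dbc0de901a500900185026d03e8003d06490e8605e20aeb003301180f2900540fad0ddd059a04060f7f0ebb0305013109810ac3079c096c09d302b002d20eba01f908fe09550af503850aee0a1608170a630d0f0ed307b40ee80a7002c70d0002830ea70bad03ec051b0816069305980ca30515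0da60e42086f06ba0165055504a40e6308d40999001e0b2b04630928000804df0d8d071e02860d7406460f4402de0640067f029b00b20e9108de06cf032109ab02f703b1059b010b0ec506f40d1e0c5008810f09063002e5082c073f0700055b057400390e07070603860a580c3c09d502fc04710a91021f0d4f02b90c5305c709a10c2c0ad00fb805b0011b02ad0a5c0402008402a109a002130ed402650d520bac01cf0212026b0a380cef0e300bf50ed001270bc80b3a01b503530d1d01fd00a1082201200fbb066004300e9801ce091e0ba701400b8f052a0ba9092907570a060b7901cb0d110fd70f480044052f0b3d09fe0fa20b06030d0c2a055402ea0c4c09520a0a03ed01b90ecc034300c70ad2009d00c805c606b10d1209d902340fb107ef05530aac02240f5509e80d32093900800405026902b201e10068034400f700620a120a7e0f80087f04d50f3c01c10021083b07520705032b079304e00a2507430aa2028a0eee08fd00380b49000108580a9e01f8066804f90ec105410f56061b09ba0c06019a0e480b7500bc0bc6098b05dc0f530a2a0e2b0cea0eaf0b1f055600fc0487098700b401e70ead02f407c406be0b1b0ca80f2b002608ad016a0add0f710655078a0d470c1d0c6b0bbb008508a9060f0ad90e6f02380b6506df036b058c0a0b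05080778078006e9031c005e0ea0016b094005ff0b9708a303fd0f83005b009609050f6800250829023205be0f660e350a2f04b204b401c90a3501f4044b069f0d5b0d4908be0cf70a410ec20abb022a054302ee0c9f014f08340680051f0d2d0da9031f00b90e5e0fd3084c03070c59021c045f054702c6099d0b56091c06e6037b0ade087606ee00820ba005c4069909b105f809950d5d0b2f07700b8d0ccb0e8b06c20d8b044a0e33067a0ae10da20e7d008d025302500eab0fc206bf089a035a07ca0b28049c0e7f07da024e07850fdb0a5a0bc30a890e260663013608740da102e20a0d0ba3008f00510f380ce5084d012c0c8c03d3093f057309bc050b0a400d930e6404b30ce10aaf0e1d070c0c670eb508af0e7803dc076c096609e10455033c07080bca0ae90d6307de023f096e04d1098a0cde03b404b80d96071604bb0a2302330b7a024b07e90e410f8b009200490e97074701ac0119063605ec00d50edc06cb05fd0abe000902e002ab09bf036909b303b204f10e1105ee0b590c3e0b1a07dc0d24033a09b20c8b0e690aa308ed00580f2c09ca079b084f0df806f1081407f30dc206a10077017e03770e4e044407e108e2049a033f0db9062e08d90bd1016f09ef09f00b3106fc0ede080d0d4402590d9509c704ae07c306af000c0c32098e0202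0bc9045b00170fa002be000006aa06b606a301a80a690ee208f300d601c80cba099205270739022e0e6c0cbc049600ff09260a24072f0529047f01390e4d02560ec607ae0279094d0a200f590a1d087109ff097704680c72094b0a6a04af04dc00c40a19088702150d9a0fd9053f045d0bc5040b059102b409f90258058e0b4201f6042a0c240f980b5d0e2705960d2e0e620dfb0b3e035f04260ec906e50aba004c09bd08f7012b0a1c0ded0e890c2906b0056c025e07620198045702610eb6011a084a0c110f3f0484055004c30fbd0d990ddc072501e50aa508cf0ad40348049e040806070bdc00200199054e0c710c9309d1022008100e25074f0aa60fb4064c07a302040b8809f2067c020700e504bd053e097a044d0a220ab4050008970f7604e7049703e3018606f70875006c074606c10d0605ca0d300a5309b402600a1b047b0aa80fb203320b2a0cdb0b7205bd0e0d00db05a204d007e802410b5f01620575060907e707c60ad30fc4088808f8085b0b380a8a0d3f02f500dd06180fa107cb0b5209e30bb30ad5083504790ad60a4700dc0e1a05f20505048c0803078d00a00378040105d607e20cfa06ed0e54026a0154022b0ca6063f044707b90e7401560c1901780c3801840a5e075b0b2e06f30d8402e1098301090bd30f6e01b006bb094e0d02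036f015f02350d3c0354049903940a1f0c16029f05400a2c0dc60de401db0aa7046b0fd6056f0aca08fb0bcb0b070b2d0e180b8c0ac005680c1b0a30051a04800be4095d06620c180cac0ef90494025b0e9d022202490c3b0cdf04ec0f990a860f070cc30daa0a180af90b6b0d4005e303c309c906120465039b0cfc0b95097d0a7b097f0b7003bf0d080c8308d2016602ce0f1803d20b240c1c0d9d08b600130efc08c20b4e095c0cc2088d08000e14045306130d130e7a0e3106670be906c3099b00da08790ce7062c0e9c09670a8b02bf01bf09620bef0593044901640f000b530c9c003f076d05220b7c06830a88068c05610c7f06eb09430bfb034d0db2073b04460a900267089608a70d2203e906ca0d820dae033303bb02aa0a3a0d3a01f00e8d0e950ac50c3d0d210bc7014906d20b7d0d360f7d085009030d640439032800570b6f04830bb80dd90a9d0c9b0ec00fa308c9037005b4024504ab0d770c96070b040004b60153060201b8046d0aa10bfa0f3200de00bb0d3e08cc080504700c1204e306f5018c005f07fc0cfb089200be08f0002307d1016109ae03990d57078308480d880d34008e04a706e300b50c4f0a2105ba0b1c0f40064b05760e5702c80d4309d60ed9052505c10d6608540f210b5a008801fc0d4209d202fb0f150b510a920eed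0a6d012607ff0c7602540f96038d0f390482075d06a4097b01ea005903ef0e87030c0f460e360c8a015807ac0e490b600ec3086005c903d5031e03ae07990d9c06160eca0143013003f309fd05190c1a0d97009e068a0a8208830b7f01320c8f06e1052406b70be30e2a00ed08f90b450d7a0833013f0f0104db09db04ea0813093a0dd30e100e7603fb0776039109ea02400ac20cc90c0c0b8308990e9603f707940ebf0a6e0b3b0c870f1c0e2f0e7107530e32064207f9014e003404dd0efa07bb09b60af806030bfc004f0b180299087a08ef0fa60a7109af010e0b220f8403750c0f035d0cd2017d0f670d680ac10bee0a94058d0daf0c1e05af08240e150edd0caf03410bea0c5609c20dab031a0f500f7a0df40c4b0e0e045206730cfd020c08b4077708f507290d8007ba0c5a057000c50cd308c6091b069c03d90eb2012a0ecd04a50bde028103da08ce01630e8c030802230c860c200c8e02cd0f0a07df0d190650092d0d7900d707f1030f047e0d3106cd05a3065701b2044c018b00d3083203fc02170a3d0fcf05030ad703a70003026208c40433052b03a204ba048a0771001507c50fb505b50965094606a604420ebc0d8602bb0cd50dcb0a0e0fd00dbf0c5b0e17057b0d5a0f7907fe01ba03b707be0eb8080c0ee6009b00410ba50db40b0f0a6b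0fd40e8801290a010be2045e038b014d0428036601ee05b10329081f0b41058901d4063108a20b5b0dcf093400cb04c606ae0e3401160d58032a072c006607c10765078c060006c8091a0b3c085d064d031409e400930b1901e9084b06860f4508090730070f0b6307560f2e0ba20052034c0bec0bed077f089e0a9907c704f500f101f10cb304410ca90958075500630fd1090c0a49035e0e70019409b80c45066c09a6031208ff05ef0f6c0a0901a406fe03df06d4075c0a4d053d0490004a0eb9016c04b10b1001210ec402710ad10e590c020af1036306a9054801e302ac00ca0e770906005c0fd20bb601f201c0090a07910e5d0cee02cb08c70b550aae019e0a6705db0acd051009cc03800ecb018803b5075907d209320eda088c063705b207320d050d3802da077b07d9006d029204cc039d0dc80740062200ba007b077202d407130f4a0339075e007a04a1047d06710ecf0b0e05660ca5038902c0029a0a1a0302026601a604c8010604c7098c0adc0f4b0d1f09680f820cc60f9c0a1e0cc80c0904510a74057f0ca105b8034f0f140bc100760f9a071b02740951043e01cc0070069109f509a30a560b5c099004f409220f19052304fc085e0251061d09a8008603c80ac60c8905210cf3071a0984036d087d0d6c0afa020606c5077e034601ca0ed8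031b0f28051e0f4c0cd904da0e0b0f0606d80a52017202e403aa02980c9800110c2f05ac05170c4101b60e0a0a9f02440b5006d106dc0a780f780b860d7e0fb709470e0205950b2508780e120dba0a0f06c60afb0f640c7c03640422066a0e7b0cab03a10bb705c008940611018d0ce6041e08bf0ac9042f048108570dbd027e04a90da80060004508ab0c340acc0cf401970dbe00bd0c7305ce0e55081b014502db0b4b08a10180041a02430d670f72057809cf0faf07f20a8401470f31062300e906e8024d05cd042309540cc107af0e4304c40e4f04fa0a7f03970e83067701e40cbd01340885037107ad07f40b670b5706b307b30b0b036c0187014a006e0628086307fb05df00d20a800a28028901ec0b16006a061a013b036a01bc0c9202800c6e0f04089c005d0e090f200e6d0cca07f708d301df00e20b930dc9034b04190cc504ed043a09ec0c0d0be0015d0c260afc0dfe036e07ee0795098d05c209f106780dda06e401750aea086202e90c7e01230b11099a01770f8c0fc3058a083f098502f303b60dce0a8309a9040a01fb048d074506640afe0f9207970cad0eae008a0c6009c5046105fc0552058f0f3e0f020be8062003170a2700e70df7024c04b9020a06f90b680d0c022601d805f90a6f0d4a04fe09080ea809230f6d003100ea038804aa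07e3098802cf094f02b3025f0ef0019d0cb2092a005603f8085a0e7307aa003c0c1708e600e1007e0464024a076f0676062607b503090ddb0b90089504f701050a2d0c7d0a440d0106440a5f0fca02e6002806f206450509014407210c520f050d8e03580af4073301040e2c0a3f028c0d2c0b400336050f018201be0964063a03ca00f20b8a05f0011206bd03380826038709210b76003e0dfc051302470b770d27066e0bb108b805fa0840049b09e609f406100f4d0c370b2100370bda0a4b0969032e03e604400c44089f047300ec0de50a7202270eef0cf200690b29008c0e51002f05d5052d079e08c309dc00c60065060d0e5300c002420c030a6609d006660f2d057c05f70baf061f07c0034a0be5061700cc0fa8077a03c701b708fa01110b940635015908b20e2108ea0a7a04e801b30f330a2e0c4e06c40845053503cf0eec013e0b980c9d0f2f0de10ebd076902f80c9e0c1305f60d5006f001ef015703e4058209300e4404760b140443049f06ec03510fbc0c6c038c0a32000a0d7806fa04380db002680fc9087202c502a608b3026f05e80970063c0f0f0af302390e820f7300f60507042c05a00a6c0774055106d602dd0b0904bc0a3b059f0c1405d703d006810f4905710fa50bdf09da02bd0b470a9603e1046903f201ed017106d30fda00b1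0e030b430d620d260f030ece03c4001602820311083e0c480114099800a80c3a017a0e850b8b001a062d0821060c0c27088f0cb408d60f1e0cd80910016d033101af03c20bd5084e06fb04d906050f7b050d050a03200df20af70de20dad0b6406f607190d9b0a290e5c0e6b0b4c026402f90ebe01e604f307150585089802f60b9d0c6401f30843007905860b1d09750b6c0cd7090400ef04ac09fc0ae605380ed60bfd0aa90efe0c3905a50760074900f004120f0b018a095304e60c0b05bb032c01c5087702970303093607e00aad05eb084102850f700a9a0e1e09310cb700b602a7097105e604e500c10a450c10063b0fcb004e08280f080393018e02b60398035c0c490b200f5b0b740b910ada0f250ed208080f6a0fc6016809ce07f606ea0d900150064703ee0804069b08700ce30b3302f204a3054403d40de80c790ce207db04fb03c0049806750d4c0cfe0dff047c00ce01150de60d8a090e05640f8d01480e1605a708df09c1013a07380f9f053305a609cd0e1b03cb0edf09330dde09b7060a06840526030e0f9506a205310d69092f0dca09c609f606e201bb0ee30a3302fd063809eb0c660c5d093702720459093e067d05b7012d0e9b07a2055f08300a4c00830aab0a8708180c770eb4071207bc0c2803ad03f60a0009590b0d0e9a09e905fe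001909ed0a130a550606037e096309ad0e720290046f057706b408bb08e008c506b805f109960dcd091d065e09dd073e05940431007f09aa009909d80c230891054d013702d70cda05f402d60b0c0d3509d4002e03ce05490a0400bf020b0d280bd9002c02c9079a0dc10e450e37081508370f3403150f2301510a34099101cd06ac08ca08110c080c690f1a0bd40ba109a2043609010e660225033b0b960201067e01010e67072d0d6d0a7602360754033005ed0b1208c008230a3c02e70edb0bd605fb0750096d0d040f7e066501250e940a4a0e2005e50061094c083c0e7c082001aa040c05e90f8108bc079d0c910ab50db300a50654066d0b840bd2020908aa06dd08fc0518044e0ceb0a390669048f00980ab90b46028b07e402bc0d590f8a0ed50f6f0e1f08c801eb0e6808900f6002cc0036058008e305d006de0cd10f4f0ae5076e0d4104c00f2a00c20478001b059906150eea061c078f05870f850fb604e20e3b03e70f3d02a405ad07c209c00604019b074208db05450b26085c0db701dd042400f301c60fab049500a70395020f0c330adf0ce80a73039609480957089b0f430efd0cd604d60584046600e30b300d250bf9047706c90abc09be0a970f8602d80882017f0ae00f3009cb00ae0196045008690d6502080c2206a5021e0d5e0bcd007c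081d03cc001002910c6d0cf806f80eb30bb40735073c03550f2401c40558051c0ea9090206ce06d503e20bc00c5e01a007660d0d08ae0d2f030102730c9404130e5603040e4c08cb0d0908d50d2b069e0b0504b5038e04f8069a039f0ab30e2e09a508da026c0f5c07ea0103027001240cbf0c88009a0a540c36059c0bc405cb09730c00015c0c540be70d450f360cb6053c07b2021a004d08e8031d06580b7e07d40b0407220075021102160d92021406ab0d1b096a00a20eb704a008ec0f0d065c0a5b03a400cd022c03670ec8068f0b6209fa07cf041b041f063e03dd08dc028e06d00867010f09190fc008cd08b10d150a480b6601bd0cb508b5067b00530d2a04350bb50c310bfe0de7043b0aff097e07a5014604ca05c80c400dcc001f0a14004707f50fb00f1003c909e003bd03fe05ae074e0cd00afd03a3063d07fd07d602ec0b4a0a0200810e9f0a1102ca0c840d83010a061e08a408a609250687037f07810da500fe066b0b0a050c04fd091609600beb0d870efb0ef1031004030e290d5c01080df9014102d10924075a0f420e840775027f01d003db000b09ac00cf0d2007510d460ae70e130fb30788081a06d90c850bf2070d0be10db60f7400b702210ab7020508d10b540df0092b069208590345028f0782096f0c65041703a501760cff0319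03230abd02e805da0a4f032d0493057a0eeb0e4608e1015b04750b820a4307ec051d0b800b4d073608a805de0434099c0a57038306140d76095e0701037c0ee1008b0d4e0d0a0c3f06cc0e40005a0183076807a40f6306270df30d6b04250f940d9401d60b2c0bcc07200c430cb9000e0c6f01d303d70baa00d8093c0d610aaa0f870f26093505cf08310361012f073d00500b7b0bd80cb80138029307e6082d0295054c06b20e2303470f1f00a407ab00b301740d5300ee078b0cc009e70f2700180287048906b90dfd0035005503720a6508f403370bd708d00e0009c40e0f07a60bbf041500a902ed073705bc0ac8000207e5040e05f50237092e06ef02f104d404f0036205cc09c30173095f023b0e060b4f090d00d909790539065600710373095b06520f0e0836080e074405340ec7091806ad00df0c900df6082e080a0827072e0868007204180b6e0d3b03f5058105590cec08380cf508860c6a04140aa0086c04e10cae0f69003008530b030cce0989003a0e24053001020dc302fe0b080d3d05aa0b78087b09150ed7087e0c800961080b00e60b440fc803570f8f0ef405dd040d0c570c990e190fae066f059e020e03b0020d0d160945071f07cc01790f930d7f039e05a80f130639034004eb0c05098f010c013d033d040f002a0f12035607030565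0d1c0b340ae304d8011f035b06db0b610f5e09780160045603920dc5064e0a8d019201ad0407047a07d701d901170bf4041c0e0502b10e470dec00f80c9a046e01a3097201da09140993021b0dea0f89070a0dd50bc2041d0e9300730b870f5a0514064800e0037a062b0c750b4803ab04880790090b07d507ce0ca20f370087053a0d3901ae0ad800e406bc0c0e0b9f0c6808f6026e04ee009503d10f97062407580c550dac0abf0b0000d0071d0a5102df0faa0eaa0a460659017c021807610c4a060102750c300ef605420e9e04d30ddf08e40bdb099f083d0100052c01c2019c0a5d05ab077c023e00140889083900b807630af009b90fc10e7904e9062108650e3f0e5005d80f54078e034e043c00420528078403de0583079804d7025c076b02d0043f03c60532060b0ccf0b58027c06720ab6076702b803fa06080af209ee0ab80c81056a032f0fbe04e40ca703a0046005b603bc01b10e8f0064079f082b0f7c0d8908ee09f709c80bae06d70b9c041607d802d305c504ce0fa402b506b5,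
  0xfff0ffe0ffd0ffc0ffb0ffa0ff90ff80ff70ff60ff50ff40ff30ff20ff10ff00fef0fee0fed0fec0feb0fea0fe90fe80fe70fe60fe50fe40fe30fe20fe10fe00fdf0fde0fdd0fdc03130d680ed409c005ca0a580bbe08bd04ad0219037f0239034a017304870f360c640cf904bd0b4e0693032d02ab0cb30a8900aa0c550020016e0a8609c2020c07510a2e04f70f2f06b0005c0343082a0c3b03480a4403e20b62045e0bdd06c90ea7041203a30c36065f06fa0eea0e5106c00ab7015a0205076003ed07830f770ea6026a05da01cb09e6093b0de507d801de0f3201a509d301dc0ad50f6a08b70b7b0cce08140c780d990d750f840c4104c60d910d2903bd02fd00190e8301780db301960e780824072b00f105cc03760abb0709067e051e06f1041706b2044a015c04aa000e04a9038c0e87010d012e09390eff06e404d0080e00b60d6707f408ac07e605ba0baf006a074f013c0bef0b5d090b053d0da7013209640e2807fd0b06082b07ea0c1c09d0062807c4067d04d801df019008f20375006d092801f807a20cad056c037b0b670a100a6c06c707d00c5706fe0d3a05ae0e4301cd07370d0c025d068b0f0c08f50c650e4d0f4a0ecb007b0a720598065d01c40f0001f9043d097c0a480b44035f0ef2021e0cf109b905460011077209bc081c0518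085d053c0d7f056f06190dba0dd10973049b0d5b0f5400fa038704b207150ec40353044d05e90c7003920b1b0ea301ac02aa0ceb0ada0f6d0dce07b8020b064702fc0e5407240405072601700347054d0d810678067f0c8307f000760e90078200d60ad20a69089f036a0ed2075b0fad059f056e03c60c5e0854092e0a93002102d60862010400750fbe0d6a08fa0c66030909090022097e06ec04c70e310368044c0c8e03fe0b9301ed067a0437029704f600ee0de008cd040d0551090f060a0ec302d90cd000f20e61025507640fb9037103ef02c307420acb028a07cd0ee808e70354072d008904b3009c06b50d3d06250bd80a190d3b03970aa90f3f094d077802cf08c30200013e0e440d8309490983072106ff0b5408600d300f1a011d003b01cc0f450016005b0b550aa8051307a804d908bc0bf30b8f0f2200990a6e0b5100d2043a03290b9a0ea806200a81036c03f109ed0e67096900720b9c040907ad0f3a0bb903b80fb304430956022508da05c30a9d0c61083508410d280b2e03e70cc7009606b706290cb70dc200650f660ae205640f6109fc00b5002f0920038404550403000008680bee011102330d8c06e10f6701af087b060f028e06c80fa702af0a7c03ab06a0092700c801220661064a08c8019e064d05eb0d940c0a03940e9906060e0f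0a06070d0f5e082f0c5a059c05bc021d013402990f7a009d0140018a03af0b210bb404cc0e2200e30b4f058007eb0e8c00ef03fd00530aef088d029e0d360cb809290c2a0179064901e400c9099e016f0dde0eed068802e00e080237048d0a0f0e2a0b9207ce091f0fd80400076b084302a208b402120a630f88040b0c4b05ea036d06140ebb05dd0b3b05b800e901550d8902a40aee02c00b4d008100d102ac01ff063603dd06210b42012005a306ea08940ba20a46022e0ec1087006a60ae304a201000c600ba00d9d0aa201560bc901e505b90b02010c0a9c09dd0692091d0f1203080f4602270f2605840b870d41061a069e0da3009b0600045d014208ba0ef80a4d07b5055802b00d9701b7095b0b7501b207c8024f069800f90d1a02dc068d03160f4206150e6209bb043f039605b4011202bd0ea1006b09b507200c0d033c09180d2b086e0c5802f80ddf02ae0eb806a3094203d105820f2d0a200454083309c10207019a0a2b0e69042705fa0e640185056a09ce0eca0074032e055a0c350fc0061103770d4f02720aae011b000407410d7b0c960464014c010f066e0195055b050f0ae9084e0ad605e00128080a02460b7a05bb05a80a9e060c0a5904890b6a01a90cdb0c3e03de0d1e004a0ad80ac6065b09db0c560cbc074c051b09710ce80c0b098b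0eba0d03016a03240cdd0b890168046604820d1b019302a303a70ecf0bdc000900510618025005660e4b0bc60f8a02df05f902920829020606e209cc00dd0f380dc707f700b70a9109d106160d4708b9042303da096508fc01e20b170d52053109ad0a87003d057006040e170ab8017a010a016b01430b2409df03150d4901e90792002a0434030a0d51046a00c203e90c5f0c77024c04ca083005d70bfe0360042b04620f8c054c0ba1022b0d0e07ec00050e3e060306ef04330d10068f04be08ec079802340b9f01330803074b054e0d7601290ecc0e2d079906a80e090d8b0c3d00d800f80d37035207df096a0e5b00a50217036205490b530cb2083701660c8b005e0e530d5608a909c60be40a3a0a790a010b070fb700a40a71097f0e1f02cc069d05d1087203ba07050dd604cb0bf705be0bd20338073803fc010e096f0dc909510c340b7d0fa308d20c440eae0732085c016008ae0ddc0d3509960b0f00690302085901d202b40842095704a10db20bd10d5d06680db70b9b00060da40b30092a069b0fa40c330171013b0caf0a6a00400317077402840f920a6206d20af80856079c08150876036402b10b6c01ca030002f00dfc01c80f9a0fd70987030d033106e80f85035901910a320b560bd00e58084a08ea0bf10569023e01360c110db603f90e55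011f0c3702750c1e07be0268049d0e5203a50c0908bb063800300d8f049f020f0c3f000102e90fc8025f068101530fd50c520cbd06f30a1b0bdf0f8f00950c820f0d032c0c9d00a807b70a6806d009310f4102bf075e094c0f830d1c0ac20b2806070a5e007e0e570c6f047e0bd5009f083206a90b58054b0a3609ff033b0921059e0f020ba603320a4a01980aa00f76010605ff015908ca0acf081b07fe06400ea205b60db80ed509720c620ca60eda028b0fa200b0068c0f2a065e02e4071c07f20afd0ad4064201ea0ebc068401bb01150aaa09b204150f190edb0e800e0a00ff061e0c190d6906cb09fe006f05b5070e07b20fd4075d0dec06d90d6f0aac075c070b09ba06dd0dff0d870cbe0ba9033d0af60e3707d50d900787095d0eaa0a4004300e4206c40571054f079b0ce500270c8605850555001a08bf0b6606bf0da5033407de07cb02dd006409d7049e01b0005408ad0c3a0ee70fbc0f2c08c60ea404a007ff030302f207c905910a5b0a670507056b0ba40529026c0be809f70b78097d00500f53096303f40cb104b507aa07680de70b4609600df40b4905b005aa0c500cf50b6d0f570f70083f076508db060e0cb4053304bb003108c10769031008080c1d06700a380eb10eb50faf09080c9c03630bc80098051705c80a040a3e045002cd00ac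0ded083a04b40d8200b906c103830e130fa903e40c5c0d4a0fcb03f20f250c710e98025402020bd606270ee6028706d8073c0b1602cb0cb601bd0b14052707e905e604800175020807020141083803eb0a5f06870087004800b304d20c2e02450b1e0f400bec0e070cee01b604180c420c79013a05bd0edf0468053f03c3076d0dee058d098103d706010562005501ce00c60c30083d00dc075500850ef005340a8b013703a40a9704da0f20081009950e75043c0f2e084507ed0da0090d00e1005906600f160dc30e7f038603f501e004b109fa0bc30a9b008f0c9e018d04cd027002b7092f0ae10763015b04940138031e0d5f05e50717078605a508eb02010d4c0123021f0e8f0b080bd70ac505db06d10f710c9f04d505cd0e500cf607db03cf0e2f08040ab903d30e6a022105c900cd09b00f7b0700086a0a150e910c29025c087909d40f1303a60d450d50030b0c5b03040a5a09f3097005440a840d18045f008b038508770f3906900ec8001d080b07ee02d8095000ae0e66069503ce0de801210e600b470ec0054a003505120c76019407cf070f01c704fd05f8093d001f04c90b320bd90d260b700ccf0a390be103ee0d2c01e608e30b1f02d701b30c1f081809dc08dd00e0000a0b8c07a30fbf0e5f085e06cd0cdf0573071a0d9303df0b370b0a0813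0bc405f40105020a03ea0e02042209a10db5026707a5064b01f406800c0e0775072a09ea07d602230e9204e80d3402eb01b1011c00cf0de90cec07f60b8a00de0dd2048502380d460809083101bf08660ec70cf00393007f0335053a0e9f0a340ee30b860c9802940d7a0c2c0a7008990fcc0a2d06350eb30bf5049002350e63051a03420653068201970c4e029f09fd0beb0e7106a70c9b0373096205c205fc04f901480afe040606240d0109370e2e0b8b0a220b250d8408a508f805e3005a05a1082e089d03b20f4901e701390fb60ac70d2704c101690a92038e0f52007302f10a2a09d20f7c0655028208d1084705630df80c6a0ba3064308d906be048e023c037e0ab205a00f9902fb085f0f5d0de402ee0c1206ca03820e8608a30a9902b5036b08860d4e0910076c0d0f0a1e06770dbb0259068601d9046d056d05de0d960b2a02bc01a107450a290ee0022008980b1a0900035c0b260cab00bb0ee201eb01650a74077e0df3050e0cfa022804700f68031805210083030509b605f20acc08a80deb081f0e7900a702ba06aa0cc50d4d0dbc01570e7e0d3c0b1c0d5306c60ca9094a08b607e105cb0d160e4e0215069108cf0579000b070c04a30a7a087f01160dd80992031b0c4d00be098d077a07560d770dbf0dd50f8209a905d20abf0203039d07c5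03dc0f5b0a570ee10e6504d703270728026f041a07b1047f0b48084401d00a750946096804bc02a10b7c0612055d04ff0de20211091a01f603b508640568046c047409a50c7f0c27074604f10d17067b0b2f0a4f031909cf039900880f15074707af06d4037d0c3801720f950192052805ac0e4f00790cbb095e04480248039805c4037809cb04ec00b40c7d04b805b10d6509da06a10eac09480ed30e9c043e08e500f3034c02d50df207bb0729017b0fca0ab003570d9c056008f70f56039e013d08490b0b079f0f69040104c80a3b087e08a1037a07760590090609c505b205930770087c0f330018036e00430d3904d60bf60eeb09120bfb008e062e0e4907300f0b093209d60efb00ce01810b4b04de0271034501f30e06080607ae06740d7300a00b3607400dcd0eb90f0e0bb6028806bb0f87014d08e20cd205df03f80d7208e80e1003070ee50dcb0b040a17095303c70b6106300c4508e008c907620e6b0bae096b0abe019d086f08d40f9702f60fd00753076706ae04e905410b6b04570f040bf8092200820265017c0c490f1100390ccd0df50ead0d59098a09c702da0dc50dfb0f100af009430cc4027c08b801da0a3f0ad10d7e0fc30b5f033602850224044701a809af0ed90f8608520d2202760bea03bf045b0e5c05740af209f20f170f230f6e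0bc20fbd01070f28085b0c7b0e1104b607ac023103690d7c07ca0be70656057d00fc027f063304bf02e605d30b8504ce0a240d0009930ac9066d07130bfc091b03b605b701fd08650e2905f70dd40f600b230bda0fdb0aaf06b90fda089205fd021304ed063c04a500460f24073d03ac0262024b01a70b96079503e60f8900250f3b07dd0cc00b1d08be039a06cf044b0b790cde0bcd03bb0822069706b804d3023b01a601dd0fce06170a8e051608480e040e96007c00df0bc707040de305d50a8c01b402f5023609de04eb0bf00e480f1e0d230d64013f05250b760c3c0e0c09a20ac00187019b088a0a4309e4081d0ac80130040a0cc3062d090a091607b90b120c5d0389098503be0595088e055e0365028c0bf402100e03075403c90d2a08e10f2106b30067071902a50ed00f8b02be043905c5007a0e7a0e820c160f6f076107e70a1301c20b7f04410b500974026d012c0eb009a80d8d0bba008a097607b001d10b81086705090f9f0665047c001203fa0b430b400ebf002b0820080f0d4b00f50c590ad00c180e68035d0df907e50a3c0d9a0f780d12021601ee00cb0dd90cd504040a270f3105ad0bf905770e2509cd07ef0e050e4c0266048a0897061d0d6d0ae5002301b503d40b64005f0e0103f705750a65079e0d33088108340a6002510a730bcf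0127093c029d0e6c0f370a11006c035e0f9b07e809ec009107ab06a50311016205e203950d2109aa0c1b0e33032f08800241004e04b702a904ef08f6020d0fd307d10baa0d620ce30c0f02f4038a06db0a510d9f0d7d0d540b52055900eb0fb40ce90c2807930ec200b20b8200930a45027a031c04df0736089e0a0e033900e606eb0f9c0b4c00fd0e8d01640e9d0ad70fa509170fae0f7d0a140d6c072c057e0c6b0ac10013040e0109071b021c063401170de10daf0cda07180c9703010cef08a20f58068a01510e0d0ed806e9042e0cbf02b804020fcd017f07c3078c0a300b2b0ced05f50d660ce101c600c106f5009a07c2023207c10780018309350f980a78071e063f04260b050d19032b0df10e410dcf042507570fb009f90ce700c4019f09a406c202f309ee05230f01043b05ec08730fc100020e1d03db0ccc0744076f044005f004a70cb9037004e00070002c0faa05cf0a4b0c8004fe06bd09ca03140c2607a90771065708d50af108070e240de60ef10fd10c9905ef09a0058f038b03d50afa0c8c0e470bbb0f0703b40f750bb20ae807e30f4d030e074300d003120bdb0938022f0e340a490c2501a00e7c051101c00c850cf3035b0d06021b0bfa0080049c0e3f0afc061c0cf4077b054801cf041e075808ed09990ab3055c0ecd067505a60fc5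0a180aa3046f092d04110934093609e90dcc04970ce609470bbf054306450eec03e1091c06bc0b68084007d20ef506b401030e2c044603f004c00501048c08d70d1d0812086d0a9a041d0e180cf803ec0c48012a0791029605260479015e088903660def0dc60520078e0d0708160af90a640dc10cc80a1c09e7099800e20b0d0696053b0d04072f0efe0d4402f90a8a0ca006f604fa02bb0229008c099707f90da60c010a1d021805960017078908830a7f0e4a066c06f00b1304450adf01f2039f05970158036f01840eee03b10ca107f50aab016d02ca0f30060508880cac0b190475014702e80a1f022a0ca30c5408f908530e1c0a2306df050303a80f2b0e6d04dc050b0fa60540094104f50b0009bd05bf0d80071409230c95079000d70c8704af097a0c0200bc0a370bb00b69025b0975095a095c0d0d04dd09c40cd7024905d90cd1015d03a2053503e803d80c9406da0f9108fb06a40f050c4603610dc40f9e049a058103fb0ca20ad30036016106af0ca40dae04630e95031f071205500b5a0c140e5a05ee0bf209040ade08aa04320fb800a20667012b03b009e5097b058c0eb7095801ef0e46050d01f108e60fd907fa0cd90b350d02090208de0ae7080c09f40aad0a7701c308570d3e08b3030605000061057f0a6f003308b1006e0c8900370825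0d9e0e59071f07c607d405a7029102de014a00c30d3100c500ad06220e3c08e90a21092b05ab0e5e0f1400ed090707590a8807f304280c2f0672011901a402430b9e0f470554050809eb0298034e024d0f440cfe0887041c048f0a7d0a4204db0af70b7406ac03330dd30c670c1708b005d60a0c059409770bca04fc0da80a35051c00da027d03ae0a4703410f1c052b08d303c00c1509820b030aed03aa084b05370e770b940b5e0d92084c06540e360fa00f510af505530da90b0c00f00f5c0f7f01e80aa40961066a0c320b5b08ab0a8f0f8104e1012f0c1007a60d4005150f550ae409450fc704b90a25084602900565047603900858001b010b072e0d480144013100a30d2e019c0a6d0b91058b0452028008d600580ab10ea50337098909ab09b700380aca0915015f088b0e1500a6034d06e60781048802ea03b304b00b3f0caa0c240a0809780c7c000c0ab5083b0b9506a201db00cc018800a104f80e0000840c75032208390a5d08f301240b09032a059d0380048107a40c040b6e091e08ef09c807fc026903200980025a0d6e0e8103d904440277000d0c7205e102c70b2c0f620bce00c0001e06d5074d04fb0b380f8d098f00080fac0e8b003c0d380cae0bde002807bc02c80d1f0df7070a089301500cd30ddb0323082c0f930d2f04a802810d0b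037c0d95047203d203210c1a0edd04a40a3307010536078d0a9802260c0308ee0ef70e8508d80e3b06ba0d9b03510a3d08900aa605f60c00067303c209c90703001501860b2204f406ee00e50a5009ae05f10d3f0658074e0abc0e1204990542041408000722047b031d0e3802c10b330fa10dc00850047d0bbd03e005470c4304e403a1073308d00bcb01c903cb09e207230c910bd3041005100bfd04e608ff0bbc0b3903cd00ec0db904ae0aa7017e009e03c506dc0b98033a063e026e0eab0cc100520c8f073402ff010201bc02ec0d5e074a07060d08025e02ce055604d10b110c4f0a05052e073f062301c5077c0f4b086109f501800367099d06c308c5061b076607cc07b60e2104980f5a018905a40be60416031a064400260b1804c3080209d80d240bac05e8091400af051f011300fe09540d4308950d15092c0a090f1f0ef60ddd05c7035802090fb10d200959078403a00d78045903e306e00c69003a01ec0773064603f6081a00d5001c0c92064102d2012d06850e760dea077f0d140bb105570905096c0f6c080506630a61051d0ed70eb60a0709f60381069906370199016300ca0fc60c510118001405830adc0664069a075f044205a9093f0b600bc10896050a0d0a083c04860e9b0d610a8d0484073b02440b34039b01b908230d130f270e56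057c05d40be30f3d04f00ede0ee40ed605fe09b10d98046b03ad042c0d2d047a0e32055209300b8e0f740f1d07250631057608c20f0f04730a6b06b1088508910a0b0d050c390c4c01fc00d303880e8e08840e4009910b800f340d8500bf09660d6004f307070c5301e10460014b0f94041f0b6504e30aa5078f08630b59034f04130cc601f5021406510ec605d800db03a902600097038d062b079a07d907fb059a024e011a00fb02e10b27045c0be5064f02d103c40aff027e0ea9087d00c703e505b30ce2050605870eb402ed063d0e700eaf02d304510ca5095f023003bc074804ea0c8d0d630b73004408f4034b075a066f0421065a084d0f5902c50346044e0f4e0ee90c6301fb0e140bab06de0666083601820c0607ba05c102630c7e003f01d306f80efd0f50058906ad0d250ece0c8102860bb80dda038f0f4f0524066900920edc003408c4057b00240be209250bb3094003ff00ea0b10006008750126016702b20c2d060b06c5052f0f640c8a01a309030fb20b3c05dc08510a560dd005e40374043101490bff0cba02c4073e0bed01d40fb50e7d04a60cfc023a05d0046e004f0a850c220b3a06f40ac409010be0088f000f08c000100d8e087802a807e405390a2f04710ea0057800770ef90b3d04e70a030e1e00a901ae09e30c84067901d60fbb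09a60438029c0b8d06e306e70eb205f305c0012508820066024a08710c740e1900030b4a0e200b880a9f0e880491071d05a20dbd09f10aeb02580e930a1a0af40e72099c0c73002e0d7409670f90011404ac005d01540461033e0349042d071609d9090e004c0b0e082708ce0979018f09880c0505af0eef032808fd0c47065c01f0087a0f9d02c2035a069f006205860efc0f4801a20bd40dac0d420fc9046907d70a2608210fab06fc0826050206cc079407b40325093e0711027402a6035607e20cea046706390aea050c002907d3083e0e970fa80e4504c20ae60b3e089b025709860f4c016c020e021a01d705920d5a03c1028f063a098c0a660cca007803720b9001100c3106d30545072704770a4101ab0926085a02790d880e3500f40e94099b073a0a900c400cd80df00f960ba500ba0cc204650b83061307350b15060806f900e7052c042a0c6e09a700bd004b009001fe02400913098e0242053e013504f20f630264079708a60f0809e80c2b04080ce40d700a4c063b00940b9906d702ad03c800630b630df606520ebd0f8e0d8604950f5f0c130e730e30007d004506f20ef402e303d60a950b2d092409440152052a0d6b01ad06ed0379081906500a12003e094b07f808e401740f3e0daa09ef099a006802040db10519044f01b805300c9a0419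0b7e04cf0c2306fd02950ebe0d710e7b06620aba0e6e0dfa029b025307a105ce0d1101d5042409330a7e0436040c0049058e0ae0090c08690a000b410e0e0505076e0d8a04c40c200c0808cb0dca00e407790e3900f70e5d094f0a8306760ac30dd70cc9069c02730bc50aa107c70dfe07da026b06fb01e309d50bc00f7e099f07bd080d0e3d0cdc0b8406e50a540b570a0a0ef3086c0dab0d320a310330062a022207dc0bb502a0014f07500e230801004109e0045804070cff0b6f0c6c0f060340048b06830f7205c60c7a0a7b0cfd07a00648039c0a820b710e1a03b90567011e024707960cf707f106100293032605140ed1053804490ab6028d0d580f3c08b2081e02fe05fb07bf01ba02e506ab0c0c0572034409190da109b304290a020acd0f730788014e0ad90af3050402d002b90ce00fcf01450c9005ed02830b45049208b50f0a052d04830b310b97010100320b770a2c0710030c0a520b720dbe0d5c0adb0cd40f650c680177077708fe0456027b06d60cb50ca70e0b008608f10fd202e2033f0be9064c04d40a0d0f090f1b02d40c4a0a2800f60d090e9a03910ace0785022d00070fd603ca09a3068e06b600d9066b03550fc40efa02fa0cfb0fc20d5508a4018e0c930fba096e05220f43064e0f80099400470ba80289096d0bad02f70817062f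04e508df09fb0abd02db01be0c2104ab0a76059b0e16068909b402ef0c88058a0b2907a7002d02b602b300ab00d40e2b0d790e84091106090a160252078b08dc0e8a078a02a70708023f0db402c601aa0f180cb0061f09be0bcc073109c307c00dc8079d06590ec903500aec0bb70e1b0e2707e000e80dfd0811022c047808af0f2906260cd609ac08c70e6f0955093a062c09b80b01008d0f0302780a53042f02e707b3005701c1040f08550b5c029a0b200e9e076a023d09f00db008280afb09bf018c0602084f09e10f79067103b709f80588077d0ba70da2017d007103d004c5060d089a0cf2086b0e89057a08a004200e2604960042094e059901d80f6b0a94010806f7004d082d0694045304ee01f70261030f00b8063200b10dad0ca804e20ccb08740a800b9d0a55074901fa0c6d04350e3a0256089c00560739067c0d570f3505e702c904ba05610532017608a7041b0984099001460a4e0e74088c0c07045a08f0075208cc03cc095203f304930add0ec506ce0a96055f0ab40a5c018b]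

private theorem TL_eq : NL.map tabN = TL := by decide +kernel

private noncomputable def evalT (w : List ℕ) (i : ℕ) : ℕ :=
  List.rec (motive := fun _ => ℕ) i
    (fun a _ ih => forceN ih fun c => Nat.mod (Nat.shiftRight (nthT TL a) (Nat.mul 16 c)) 4096) w

private theorem evalT_eq {i : ℕ} (hi : i < 4096) : ∀ w, evalT w i = evalK w i ∧ evalK w i < 4096
  | [] => ⟨rfl, hi⟩
  | a :: w => by
    obtain ⟨h1, h2⟩ := evalT_eq hi w
    have h3 : evalK (a :: w) i = app (nthL NL a) (evalK w i) := (forceN_eq _ _).trans (appK_eq _ _)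
    have h4 : evalT (a :: w) i = Nat.mod (Nat.shiftRight (nthT TL a) (Nat.mul 16 (evalT w i))) 4096 :=
      forceN_eq (evalT w i) fun c => Nat.mod (Nat.shiftRight (nthT TL a) (Nat.mul 16 c)) 4096
    refine ⟨?_, h3 ▸ (in_nthL NL in_NL a).app_lt h2⟩
    rw [h4, h3, h1, ← TL_eq, nthT_map, tabN_eq (in_nthL NL in_NL a) h2]

private noncomputable def evalX (w : List ℕ) (i : ℕ) : ℕ :=
  Bool.rec (motive := fun _ => ℕ) (evalT w i) (evalK w i) (Nat.ble 4096 i)

private theorem evalX_eq : evalK = evalX := funext fun w => funext fun i => by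
  show _ = Bool.rec (motive := fun _ => ℕ) (evalT w i) (evalK w i) (Nat.ble 4096 i)
  cases h : Nat.ble 4096 i
  · exact (evalT_eq (Nat.lt_of_not_le fun e => Bool.false_ne_true (h.symm.trans (Nat.ble_eq_true_of_le e))) w).1.symm
  · rfl

private noncomputable def eqF (u v : List ℕ) : Bool :=
  allL (fun b => Nat.beq (evalX u b) (evalX v b)) [0, 29, 580, 577]

private theorem eqF_eq : (fun u v : List ℕ => allL (fun b => Nat.beq (evalK u b) (evalK v b)) [0, 29, 580, 577]) = eqF :=
  congrArg (fun (e : List ℕ → ℕ → ℕ) (u v : List ℕ) => allL (fun b => Nat.beq (e u b) (e v b)) [0, 29, 580, 577]) evalX_eq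

private theorem eqv_eq : Cfsg.Agent.OddHalf.D9.Ru.XChk.eqv = eqF := eqF_eq

end fast

end Cfsg.Agent.RuFast
end


-- merged: Cfsg.Agent.OddHalf.D8.RuFam.TwCut
section

/-!
# Centralisers in `RuOrder.H` by fixed points and adjacencies

`x` commutes with the elements given by the words `ws`; `x p` is fixed by the elements fixing `p` (`mem_fixAll`), and the
adjacencies between `x p` and the images of `x r` are those between `p` and the images of `r` (`testBit_cut`).
-/

set_option autoImplicit false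
set_option Elab.async false
set_option maxRecDepth 100000
set_option exponentiation.threshold 5000

namespace Cfsg.Agent.OddHalf.D8.RuFam.TwCut

open Subgroup Cfsg.Agent.Lib.BitNet Cfsg.Agent.Lib.BitNetSimple Cfsg.Agent.SporadicB Cfsg.Agent.SporadicB.RuData
open Cfsg.Agent.RuD.Letters Cfsg.Agent.RuD.Model Cfsg.Agent.SporRec.TCUpperCert Cfsg.Agent.OddHalf.D9.Ru.XLevel
open Cfsg.Agent.OddHalf.Table

/-- the networks of a word -/
noncomputable def nets (w : List ℕ) : List (List (ℕ × ℕ)) :=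
  List.rec [] (fun a _ ih => nthL NL a :: ih) w

theorem appC_nets (w : List ℕ) (i : ℕ) : appC (nets w) i = evalK w i := by
  induction w with
  | nil => rfl
  | cons a w ih =>
    change app (nthL NL a) (appC (nets w) i) = forceN (evalK w i) (appK (nthL NL a))
    rw [forceN_eq, appK_eq, ih]

theorem valid_nets (w : List ℕ) : ∀ n ∈ nets w, Valid n := by
  induction w with
  | nil => intro n hn; exact absurd hn List.not_mem_nil
  | cons a w ih =>
    intro n hn
    have hn' : n ∈ nthL NL a :: nets w := hn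
    rcases List.mem_cons.1 hn' with rfl | h
    · rw [nthL_eq]; exact (okNet_letter a).valid
    · exact ih n h

/-- the points of `M` fixed by the networks -/
noncomputable def cutF (ns : List (List (ℕ × ℕ))) (M : ℕ) (k : ℕ) : ℕ :=
  Nat.rec M (fun j ih => force ih fun M' => force (idxMask 12 j) fun P =>
    Nat.xor M' (Nat.land M' (Nat.xor P (img ns P)))) k

theorem testBit_cutF {ns : List (List (ℕ × ℕ))} (hv : ∀ n ∈ ns, Valid n) {M : ℕ} {p : Fin 4060}
    (hM : M.testBit p = true) (h : appC ns p = p) : ∀ k, (cutF ns M k).testBit p = true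
  | 0 => hM
  | k + 1 => by
    have e : cutF ns M (k + 1) = force (cutF ns M k) (fun M' => force (idxMask 12 k) fun P =>
      Nat.xor M' (Nat.land M' (Nat.xor P (img ns P)))) := rfl
    rw [e, force_eq, force_eq]
    change (cutF ns M k ^^^ (cutF ns M k &&& (idxMask 12 k ^^^ img ns (idxMask 12 k)))).testBit p = true
    have h1 : (img ns (idxMask 12 k)).testBit p = (idxMask 12 k).testBit p := by
      conv_lhs => rw [← h]
      exact testBit_img _ _ _ hv
    rw [Nat.testBit_xor, Nat.testBit_and, Nat.testBit_xor, h1, testBit_cutF hv hM h k, Bool.xor_self]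
    rfl

/-- the points fixed by all the words -/
noncomputable def fixAll (ws : List (List ℕ)) : ℕ :=
  List.rec RuCent.U (fun w _ ih => force ih fun M => cutF (nets w) M 12) ws

theorem testBit_fixAll {q : Fin 4060} : ∀ {ws : List (List ℕ)}, (∀ w ∈ ws, evalK w q = q) →
    (fixAll ws).testBit q = true
  | [], _ => RuCent.testBit_U q
  | w :: ws, h => by
    have e : fixAll (w :: ws) = force (fixAll ws) (fun M => cutF (nets w) M 12) := rfl
    rw [e, force_eq]
    refine testBit_cutF (valid_nets w) (testBit_fixAll fun w' h' => h w' (List.mem_cons_of_mem _ h')) ?_ 12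
    rw [appC_nets]
    exact h w List.mem_cons_self

/-- `x` commutes with the element given by the word `w` -/
def Cm (x : RuOrder.H) (w : List ℕ) : Prop := x * wprod ml w = wprod ml w * x

theorem Cm.apply {x : RuOrder.H} {w : List ℕ} (h : Cm x w) (i : Fin 4060) :
    (x : Equiv.Perm (Fin 4060)) (((wprod ml w : RuOrder.H) : Equiv.Perm (Fin 4060)) i) =
      ((wprod ml w : RuOrder.H) : Equiv.Perm (Fin 4060)) ((x : Equiv.Perm (Fin 4060)) i) := by
  have h2 : (x * wprod ml w : RuOrder.H).1 i = (wprod ml w * x : RuOrder.H).1 i := by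
    have h' : x * wprod ml w = wprod ml w * x := h
    rw [h']
  exact h2

theorem evalK_of_fix {x : RuOrder.H} {w : List ℕ} (h : Cm x w) {p : Fin 4060} (hp : evalK w p = p) :
    evalK w ((x : Equiv.Perm (Fin 4060)) p) = (x : Equiv.Perm (Fin 4060)) p := by
  rw [← evalK_eq, ← h.apply]
  congr 2
  apply Fin.ext
  rw [evalK_eq, hp]

/-- the images of `p` under elements commuting with `ws` fixing `p` -/
theorem testBit_dom {x : RuOrder.H} {ws : List (List ℕ)} (hc : ∀ w ∈ ws, Cm x w) {p : Fin 4060}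
    (hp : ∀ w ∈ ws, evalK w p = p) : (fixAll ws).testBit ((x : Equiv.Perm (Fin 4060)) p) = true :=
  testBit_fixAll fun w hw => evalK_of_fix (hc w hw) (hp w hw)

/-- the points with the same adjacencies to the images of `s` as `p` to the images of `r` -/
noncomputable def cut (p r s : ℕ) (ws : List (List ℕ)) (M : ℕ) : ℕ :=
  List.rec M (fun w _ ih => force ih fun M' => force (evalK w r) fun r' => force (evalK w s) fun s' =>
    bif tb (row r') p then Nat.land M' (row s') else Nat.xor M' (Nat.land M' (row s'))) ws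

theorem testBit_cut {x : RuOrder.H} {p r : Fin 4060} {M : ℕ}
    (hM : M.testBit ((x : Equiv.Perm (Fin 4060)) p) = true) : ∀ {ws : List (List ℕ)}, (∀ w ∈ ws, Cm x w) →
    (cut p r ((x : Equiv.Perm (Fin 4060)) r) ws M).testBit ((x : Equiv.Perm (Fin 4060)) p) = true
  | [], _ => hM
  | w :: ws, hc => by
    have ih := testBit_cut (r := r) hM (ws := ws) fun w' h' => hc w' (List.mem_cons_of_mem _ h')
    have h0 := hc w List.mem_cons_self
    have e : cut p r ((x : Equiv.Perm (Fin 4060)) r) (w :: ws) M =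
      force (cut p r ((x : Equiv.Perm (Fin 4060)) r) ws M) (fun M' => force (evalK w r) fun r' =>
        force (evalK w ((x : Equiv.Perm (Fin 4060)) r)) fun s' =>
          bif tb (row r') p then Nat.land M' (row s') else Nat.xor M' (Nat.land M' (row s'))) := rfl
    rw [e, force_eq, force_eq, force_eq]
    have h3 : (row (evalK w ((x : Equiv.Perm (Fin 4060)) r))).testBit ((x : Equiv.Perm (Fin 4060)) p) =
        (row (evalK w r)).testBit p := by
      rw [← evalK_eq, ← evalK_eq, ← h0.apply]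
      exact x.2 _ _
    rw [tb_eq]
    cases h4 : (row (evalK w r)).testBit p
    · rw [cond_false]
      change Nat.testBit (_ ^^^ (_ &&& _)) _ = true
      rw [Nat.testBit_xor, Nat.testBit_and, h3, h4, ih]
      rfl
    · rw [cond_true]
      change Nat.testBit (_ &&& _) _ = true
      rw [Nat.testBit_and, h3, h4, ih]
      rfl

end Cfsg.Agent.OddHalf.D8.RuFam.TwCut

end

-- merged: Cfsg.Agent.OddHalf.D8.RuFam.Tw
section

/-!
# K = Ru, packet TW: the line `z, v, z v` of type 240

`C(P₀ ∩ P₀^{k₂} ∩ P₀^{k₃}) = ⟨z, v, F z F⁻¹⟩` (order 8): an element `x` of it permutes the fixed points of stabilisers, and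
it is determined by the images of the points `981, 902, 2075, 2050`.
-/

set_option autoImplicit false
set_option Elab.async false
set_option maxRecDepth 100000
set_option exponentiation.threshold 5000

namespace Cfsg.Agent.OddHalf.D8.RuFam.Tw

open Subgroup Cfsg.Agent.Lib.BitNet Cfsg.Agent.Lib.BitNetSimple Cfsg.Agent.SporadicB Cfsg.Agent.SporadicB.RuData
open Cfsg.Agent.RuD.Letters Cfsg.Agent.RuD.Model Cfsg.Agent.SporRec.TCUpperCert Cfsg.Agent.SporRec.R3.Kernel
open Cfsg.Agent.OddHalf.D9.Ru Cfsg.Agent.OddHalf.D9.Ru.XDef Cfsg.Agent.OddHalf.D9.Ru.XChk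
open Cfsg.Agent.OddHalf.D9.Ru.XData
open Cfsg.Agent.OddHalf.Table Cfsg.Agent.OddHalf.D8.RuFam.TwCut

/-! ### words -/

/-- a word in `T, s₁, D, Y, s₁⁻¹, D⁻¹` as a word in the letters -/
def ew (w : List ℕ) : List ℕ := w.flatMap ex

def k2w : List ℕ := [3, 5, 7]
def k3w : List ℕ := [3, 0, 5, 7]
def k3i : List ℕ := [3, 5, 0, 7]
def hw : List ℕ := [3, 5, 3, 1, 7, 0, 5, 4, 3, 4, 3, 1, 7, 8]
def f2w : List ℕ := hw ++ ew [5, 4, 3, 0, 1, 2, 3, 1]
def gw4 : List ℕ := [7, 7, 5, 3]

noncomputable def k₂ : RuOrder.H := wprod ml k2w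
noncomputable def k₃ : RuOrder.H := wprod ml k3w
noncomputable def h : RuOrder.H := wprod ml hw
noncomputable def f₂ : RuOrder.H := wprod ml f2w
noncomputable def v : RuOrder.H := k₂ * (S * S) * k₂⁻¹

/-- elements `x` of `F₁ = P₀ ∩ P₀^{k₂} ∩ P₀^{k₃}`: words of `x`, `k₂⁻¹ x k₂`, `k₃⁻¹ x k₃` -/
def fw : List (List ℕ × List ℕ × List ℕ) := [
  ([3, 1, 3, 1, 3, 1], [2, 4, 3, 4, 5, 0, 3, 1, 5, 0, 3, 1, 2], [2, 4, 3, 4, 5, 0, 3, 1, 5, 0, 3, 1, 2]),
  ([2, 0, 1, 3, 2, 0, 1, 3], [2, 0, 3, 4, 0, 5, 0, 1, 3, 1, 2, 1], [3, 4, 0, 3, 1, 2, 4, 0, 5, 1]),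
  ([2, 4, 0, 5, 4, 3, 0, 1, 3], [3, 0, 2, 4, 2, 4, 3, 1, 5], [2, 4, 3, 1, 5, 1, 5, 0, 3]),
  ([3, 4, 2, 1, 2, 1, 3, 0, 5], [5, 4, 2, 4, 5, 1, 2], [2, 0, 1, 2, 1, 3, 1, 1, 3, 2, 1]),
  ([2, 0, 3, 0, 1, 5, 4, 0, 3, 4, 2, 0], [2, 0, 1, 3, 2, 4, 0, 3, 0, 1], [2, 0, 1, 3, 2, 0, 1, 3, 1, 1]),
  ([3, 1, 5, 0, 1, 3, 4, 0, 5, 0, 3, 0], [3, 4, 3, 4, 3, 1], [3, 0, 5, 4, 0, 3, 0, 1, 5, 1, 3, 1]),
  ([5, 1, 3, 0, 1, 2, 4, 3, 0, 2, 3, 0], [2, 0, 1, 3, 2, 0, 1, 3, 1, 1], [2, 0, 1, 3, 2, 4, 0, 3, 0, 1])]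

/-- the word of the `i`-th element -/
def fx (i : ℕ) : List ℕ := ew (fw.getD i ([], [], [])).1

/-- elements of `F₁` fixing the four points -/
def s0 : List (List ℕ) := [fx 0, fx 6]
def s1 : List (List ℕ) := [fx 0, fx 4]
def s2 : List (List ℕ) := [fx 5, fx 6]
def s3 : List (List ℕ) := [fx 0, fx 1]

/-- elements of `F₁` for the adjacencies -/
def sw4 : List (List ℕ) := [fx 4, fx 2, fx 3]

/-- possible images of `981, 902, 2075, 2050` -/
def tab : List (ℕ × List ℕ × List ℕ × List ℕ) := [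
  (324, [2775], [], [1091]), (840, [273], [1088, 2075], [2297]), (981, [902], [1088, 2075], [2050]),
  (1536, [1325], [], [2045]), (2134, [2049], [944, 3512], [2264]), (2722, [], [], []), (3104, [], [], []),
  (3135, [], [], []), (3255, [349], [944, 3512], [301]), (3671, [905], [], [1889]), (3946, [2014], [], [873]),
  (3963, [], [], [])]

/-- the centraliser -/
def cw : List (List ℕ) := [[], [1, 1], [3, 5, 7, 1, 1, 3, 5, 7], [1, 1, 3, 5, 7, 1, 1, 3, 5, 7], [3, 1, 1, 7],
  [3, 1, 1, 7, 1, 1], [3, 1, 1, 7, 3, 5, 7, 1, 1, 3, 5, 7], [3, 1, 1, 7, 1, 1, 3, 5, 7, 1, 1, 3, 5, 7]]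

/-! ### checks -/

noncomputable def an (a b : Bool) : Bool := Bool.rec false b a

theorem an_iff {a b : Bool} : an a b = true ↔ a = true ∧ b = true := by cases a <;> cases b <;> decide

theorem chk_fw : allL (fun e : List ℕ × List ℕ × List ℕ =>
    an (eqv (ew e.1 ++ k2w) (k2w ++ ew e.2.1)) (eqv (ew e.1 ++ k3w) (k3w ++ ew e.2.2))) fw = true := by
  rw [RuFast.eqv_eq]
  decide +kernel

theorem fix0 : allL (fun w => Nat.beq (evalK w 981) 981) s0 = true := by
  rw [RuFast.evalX_eq]
  decide +kernel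
theorem fix1 : allL (fun w => Nat.beq (evalK w 902) 902) s1 = true := by
  rw [RuFast.evalX_eq]
  decide +kernel
theorem fix2 : allL (fun w => Nat.beq (evalK w 2075) 2075) s2 = true := by
  rw [RuFast.evalX_eq]
  decide +kernel
theorem fix3 : allL (fun w => Nat.beq (evalK w 2050) 2050) s3 = true := by
  rw [RuFast.evalX_eq]
  decide +kernel

theorem pts : allL (fun e : ℕ × ℕ => Nat.beq (evalK gw4 e.1) e.2) [(0, 981), (29, 902), (580, 2075), (577, 2050)] =
    true := by
  rw [RuFast.evalX_eq]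
  decide +kernel

theorem dom0 : Nat.beq (fixAll s0) (RuCent.mask (List.map Prod.fst tab)) = true := by decide +kernel

theorem chkT : force (fixAll s1) (fun M1 => force (fixAll s2) fun M2 => force (fixAll s3) fun M3 =>
    allL (fun e : ℕ × List ℕ × List ℕ × List ℕ =>
      an (Nat.beq (cut 902 981 e.1 sw4 M1) (RuCent.mask e.2.1))
        (an (Nat.beq (cut 2075 981 e.1 sw4 M2) (RuCent.mask e.2.2.1))
        (Nat.beq (cut 2050 981 e.1 sw4 M3) (RuCent.mask e.2.2.2)))) tab) = true := by decide +kernel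

/-- some element satisfies `p` -/
noncomputable def anyB {β : Type} (p : β → Bool) (l : List β) : Bool :=
  List.rec false (fun a _ ih => Bool.rec ih true (p a)) l

theorem anyB_iff {β : Type} {p : β → Bool} {l : List β} (h : anyB p l = true) : ∃ a ∈ l, p a = true := by
  induction l with
  | nil =>
    have h' : (false : Bool) = true := h
    exact absurd h' (by decide)
  | cons a l ih =>
    have e : anyB p (a :: l) = Bool.rec (anyB p l) true (p a) := rfl
    rw [e] at h
    cases h' : p a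
    · rw [h'] at h
      obtain ⟨b, hb, h2⟩ := ih h
      exact ⟨b, List.mem_cons_of_mem _ hb, h2⟩
    · exact ⟨a, List.mem_cons_self, h'⟩

theorem chkC : allL (fun e : ℕ × List ℕ × List ℕ × List ℕ => allL (fun q1 => allL (fun q2 => allL (fun q3 =>
    anyB (fun c => an (an (Nat.beq (evalK c 981) e.1) (Nat.beq (evalK c 902) q1))
      (an (Nat.beq (evalK c 2075) q2) (Nat.beq (evalK c 2050) q3))) cw) e.2.2.2) e.2.2.1) e.2.1) tab = true := by
  rw [RuFast.evalX_eq]
  decide +kernel

theorem chk_cf : allL (fun c => eqv (c ++ f2w) (f2w ++ c)) cw = true := by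
  rw [RuFast.eqv_eq]
  decide +kernel

/-! ### the centraliser -/

theorem beq_eq {a b : ℕ} (h : Nat.beq a b = true) : a = b := Nat.eq_of_beq_eq_true h

theorem centraliser {x : RuOrder.H} (hc : ∀ i < 7, Cm x (fx i)) : ∃ c ∈ cw, x = wprod ml c := by
  have c0 : ∀ w ∈ s0, Cm x w := by
    intro w hw
    simp only [s0, List.mem_cons, List.not_mem_nil, or_false] at hw
    rcases hw with rfl | rfl
    exacts [hc 0 (by norm_num), hc 6 (by norm_num)]
  have c1 : ∀ w ∈ s1, Cm x w := by
    intro w hw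
    simp only [s1, List.mem_cons, List.not_mem_nil, or_false] at hw
    rcases hw with rfl | rfl
    exacts [hc 0 (by norm_num), hc 4 (by norm_num)]
  have c2 : ∀ w ∈ s2, Cm x w := by
    intro w hw
    simp only [s2, List.mem_cons, List.not_mem_nil, or_false] at hw
    rcases hw with rfl | rfl
    exacts [hc 5 (by norm_num), hc 6 (by norm_num)]
  have c3 : ∀ w ∈ s3, Cm x w := by
    intro w hw
    simp only [s3, List.mem_cons, List.not_mem_nil, or_false] at hw
    rcases hw with rfl | rfl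
    exacts [hc 0 (by norm_num), hc 1 (by norm_num)]
  have c4 : ∀ w ∈ sw4, Cm x w := by
    intro w hw
    simp only [sw4, List.mem_cons, List.not_mem_nil, or_false] at hw
    rcases hw with rfl | rfl | rfl
    exacts [hc 4 (by norm_num), hc 2 (by norm_num), hc 3 (by norm_num)]
  have f0 := (allL_iff _ _).1 fix0
  have f1 := (allL_iff _ _).1 fix1
  have f2 := (allL_iff _ _).1 fix2
  have f3 := (allL_iff _ _).1 fix3
  have d0 : (fixAll s0).testBit ((x : Equiv.Perm (Fin 4060)) ⟨981, by norm_num⟩) = true :=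
    testBit_dom c0 fun w hw => beq_eq (f0 w hw)
  have d1 : (fixAll s1).testBit ((x : Equiv.Perm (Fin 4060)) ⟨902, by norm_num⟩) = true :=
    testBit_dom c1 fun w hw => beq_eq (f1 w hw)
  have d2 : (fixAll s2).testBit ((x : Equiv.Perm (Fin 4060)) ⟨2075, by norm_num⟩) = true :=
    testBit_dom c2 fun w hw => beq_eq (f2 w hw)
  have d3 : (fixAll s3).testBit ((x : Equiv.Perm (Fin 4060)) ⟨2050, by norm_num⟩) = true :=
    testBit_dom c3 fun w hw => beq_eq (f3 w hw)
  rw [beq_eq dom0] at d0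
  obtain ⟨e, he, e0⟩ := List.mem_map.1 (RuCent.mem_of_testBit_mask _ d0)
  have hT := chkT
  rw [force_eq, force_eq, force_eq] at hT
  have hT' := (allL_iff _ _).1 hT e he
  rw [an_iff, an_iff] at hT'
  obtain ⟨t1, t2, t3⟩ := hT'
  rw [e0] at t1 t2 t3
  have q1 := testBit_cut (r := ⟨981, by norm_num⟩) d1 c4
  have q2 := testBit_cut (r := ⟨981, by norm_num⟩) d2 c4
  have q3 := testBit_cut (r := ⟨981, by norm_num⟩) d3 c4
  have t1' : cut 902 981 ((x : Equiv.Perm (Fin 4060)) ⟨981, by norm_num⟩ : ℕ) sw4 (fixAll s1) = RuCent.mask e.2.1 :=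
    beq_eq t1
  have t2' : cut 2075 981 ((x : Equiv.Perm (Fin 4060)) ⟨981, by norm_num⟩ : ℕ) sw4 (fixAll s2) =
    RuCent.mask e.2.2.1 := beq_eq t2
  have t3' : cut 2050 981 ((x : Equiv.Perm (Fin 4060)) ⟨981, by norm_num⟩ : ℕ) sw4 (fixAll s3) =
    RuCent.mask e.2.2.2 := beq_eq t3
  have q1' : (cut 902 981 ((x : Equiv.Perm (Fin 4060)) ⟨981, by norm_num⟩ : ℕ) sw4 (fixAll s1)).testBit
    ((x : Equiv.Perm (Fin 4060)) ⟨902, by norm_num⟩) = true := q1
  have q2' : (cut 2075 981 ((x : Equiv.Perm (Fin 4060)) ⟨981, by norm_num⟩ : ℕ) sw4 (fixAll s2)).testBit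
    ((x : Equiv.Perm (Fin 4060)) ⟨2075, by norm_num⟩) = true := q2
  have q3' : (cut 2050 981 ((x : Equiv.Perm (Fin 4060)) ⟨981, by norm_num⟩ : ℕ) sw4 (fixAll s3)).testBit
    ((x : Equiv.Perm (Fin 4060)) ⟨2050, by norm_num⟩) = true := q3
  rw [t1'] at q1'
  rw [t2'] at q2'
  rw [t3'] at q3'
  have m1 := RuCent.mem_of_testBit_mask _ q1'
  have m2 := RuCent.mem_of_testBit_mask _ q2'
  have m3 := RuCent.mem_of_testBit_mask _ q3'
  have hC := (allL_iff _ _).1 ((allL_iff _ _).1 ((allL_iff _ _).1 ((allL_iff _ _).1 chkC e he) _ m1) _ m2) _ m3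
  obtain ⟨c, hc', hC'⟩ := anyB_iff hC
  rw [an_iff, an_iff, an_iff] at hC'
  obtain ⟨⟨g0, g1⟩, g2, g3⟩ := hC'
  rw [e0] at g0
  refine ⟨c, hc', ?_⟩
  have hp := (allL_iff _ _).1 pts
  have key : ∀ (b p : Fin 4060), evalK gw4 b = p → evalK c p = (x : Equiv.Perm (Fin 4060)) p →
      (((x * wprod ml gw4 : RuOrder.H) : Equiv.Perm (Fin 4060)) b : ℕ) =
        ((wprod ml c * wprod ml gw4 : RuOrder.H) : Equiv.Perm (Fin 4060)) b := by
    intro b p h1 h2
    have h3 : ((wprod ml gw4 : RuOrder.H) : Equiv.Perm (Fin 4060)) b = p := by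
      apply Fin.ext
      rw [evalK_eq, h1]
    change ((x : Equiv.Perm (Fin 4060)) (((wprod ml gw4 : RuOrder.H) : Equiv.Perm (Fin 4060)) b) : ℕ) =
      ((wprod ml c : RuOrder.H) : Equiv.Perm (Fin 4060)) (((wprod ml gw4 : RuOrder.H) : Equiv.Perm (Fin 4060)) b)
    rw [h3, evalK_eq, h2]
  have hx : x * wprod ml gw4 = wprod ml c * wprod ml gw4 := by
    apply eq_of_base
    intro b hb
    simp only [List.mem_cons, List.not_mem_nil, or_false] at hb
    rcases hb with rfl | rfl | rfl | rfl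
    · exact key _ ⟨981, by norm_num⟩ (beq_eq (hp (0, 981) (by simp))) (beq_eq g0)
    · exact key _ ⟨902, by norm_num⟩ (beq_eq (hp (29, 902) (by simp))) (beq_eq g1)
    · exact key _ ⟨2075, by norm_num⟩ (beq_eq (hp (580, 2075) (by simp))) (beq_eq g2)
    · exact key _ ⟨2050, by norm_num⟩ (beq_eq (hp (577, 2050) (by simp))) (beq_eq g3)
  exact mul_right_cancel hx

theorem cent_f {x : RuOrder.H} (hc : ∀ i < 7, Cm x (fx i)) : x * f₂ = f₂ * x := by
  obtain ⟨c, hc', rfl⟩ := centraliser hc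
  have h1 := eqv_sound ((allL_iff _ _).1 chk_cf c hc')
  rw [wprod_append, wprod_append] at h1
  exact h1

/-! ### `h ∉ P₀` -/

/-- for every element of `⟨T, D, Y⟩` some generator of `E` is moved differently by `h`, modulo `z` -/
theorem chk_h : allL (fun i => anyB (fun j =>
    Bool.rec (Bool.rec true false (eqv (hw ++ ew (gg [j]) ++ hw ++ ew (aw.getD i []))
      (ew (aw.getD i []) ++ ew (gg [j]) ++ [1, 1]))) false
    (eqv (hw ++ ew (gg [j]) ++ hw ++ ew (aw.getD i [])) (ew (aw.getD i []) ++ ew (gg [j])))) [6, 7, 8, 9, 10])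
    (List.range 60) = true := by
  rw [RuFast.eqv_eq]
  decide +kernel

theorem chk_hh : eqv (hw ++ hw) [] = true := by
  rw [RuFast.eqv_eq]
  decide +kernel

end Cfsg.Agent.OddHalf.D8.RuFam.Tw

end

private theorem dce_350fd6267012 : _root_.True := by
  try have : _root_.True := by simp only [_root_.Cfsg.Agent.OddHalf.D8.RuFam.Tw.s0.eq_1]
  try have : _root_.True := by simp only [_root_.Cfsg.Agent.OddHalf.D8.RuFam.Tw.sw4.eq_1]
  try have : _root_.True := by simp only [_root_.Cfsg.Agent.OddHalf.D8.RuFam.Tw.s1.eq_1]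
  try have : _root_.True := by simp only [_root_.Cfsg.Agent.OddHalf.D8.RuFam.Tw.s2.eq_1]
  try have : _root_.True := by simp only [_root_.Cfsg.Agent.OddHalf.D8.RuFam.Tw.s3.eq_1]
  exact _root_.True.intro
end

-- part: OddHalf/D8/RuFam/BDef
section
set_option linter.all false
open scoped Cfsg.Agent.FastGrp

/-!
# ODD half, D8, K = Ru: the group `B = C_K(E)` of order 128 on `RuOrder.H`

`B = E ⟨G[0,1,3], G[1,4,5]⟩`; `B_list`: its elements; `B/E` has order 4, `E` is central in `B`.
-/

set_option autoImplicit false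
set_option maxRecDepth 100000

namespace Cfsg.Agent.OddHalf.D8.RuFam.BDef

open Subgroup Cfsg.Agent.SporadicB Cfsg.Agent.RuD.Letters Cfsg.Agent.SporRec.TCUpperCert
open Cfsg.Agent.OddHalf.D9.Ru Cfsg.Agent.OddHalf.D9.Ru.XDef Cfsg.Agent.OddHalf.D9.Ru.XData
open Cfsg.Agent.OddHalf.D9.Ru.XChk

/-- representatives of the cosets of `E` in `B` -/
def cs (c : ℕ) : List ℕ := [[], [0, 1, 3], [1, 4, 5], [0, 1, 3, 1, 4, 5]].getD c []

/-- the group `B` -/
noncomputable def B : Subgroup RuOrder.H := closure (XR.gE ∪ {G [0, 1, 3], G [1, 4, 5]})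

/-- the multiplication table of the representatives -/
def mt : List (List (ℕ × ℕ)) := [[(0, 0), (1, 0), (2, 0), (3, 0)], [(1, 0), (0, 26), (3, 0), (2, 26)],
  [(2, 0), (3, 26), (0, 26), (1, 0)], [(3, 0), (2, 0), (1, 26), (0, 26)]]

theorem chk_mt : ∀ c < 4, ∀ d < 4, eqw (gg (cs c ++ cs d))
    (gg (cs ((mt.getD c []).getD d (0, 0)).1 ++ msk ((mt.getD c []).getD d (0, 0)).2)) = true := by decide +kernel

theorem rng_mt : ∀ c < 4, ∀ d < 4, ((mt.getD c []).getD d (0, 0)).1 < 4 := by decide +kernel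

theorem rng_msk : ∀ c < 4, ∀ d < 4, inr 6 11 (msk ((mt.getD c []).getD d (0, 0)).2) = true := by decide +kernel

theorem chk_cen : ∀ c < 4, ∀ i < 5, eqw (gg (cs c ++ [i + 6])) (gg ([i + 6] ++ cs c)) = true := by decide +kernel

theorem msk_mem {m : ℕ} (hm : m < 32) : G (msk m) ∈ XR.E := by
  have key : ∀ m < 32, inr 6 11 (msk m) = true := by decide +kernel
  exact XR.G_mem_E (key m hm)

/-- the representatives centralise `E` -/
theorem cs_comm {c : ℕ} (hc : c < 4) : ∀ x ∈ XR.E, G (cs c) * x = x * G (cs c) := by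
  have key : XR.E ≤ centralizer ({G (cs c)} : Set RuOrder.H) := by
    rw [XR.E, closure_le]
    rintro x ⟨i, hi, rfl⟩
    rw [SetLike.mem_coe, mem_centralizer_singleton_iff]
    have h := eqw_sound (chk_cen c hc i hi)
    change G (cs c ++ [i + 6]) = G ([i + 6] ++ cs c) at h
    rw [G_append, G_append] at h
    exact h.symm
  intro x hx
  exact (mem_centralizer_singleton_iff.1 (key hx)).symm

theorem cs_mul {c d : ℕ} (hc : c < 4) (hd : d < 4) : ∃ k < 4, ∃ e ∈ XR.E, G (cs c) * G (cs d) = G (cs k) * e := by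
  have h := eqw_sound (chk_mt c hc d hd)
  refine ⟨_, rng_mt c hc d hd, _, XR.G_mem_E (rng_msk c hc d hd), ?_⟩
  rw [← G_append, ← G_append]
  exact h

theorem cs_sq {c : ℕ} (hc : c < 4) : G (cs c) * G (cs c) ∈ XR.E := by
  have h0 : ∀ c < 4, ((mt.getD c []).getD c (0, 0)).1 = 0 := by decide +kernel
  have h := eqw_sound (chk_mt c hc c hc)
  rw [h0 c hc] at h
  have h' : G (cs c ++ cs c) = G (msk ((mt.getD c []).getD c (0, 0)).2) := h
  rw [G_append] at h'
  rw [h']
  exact XR.G_mem_E (rng_msk c hc c hc)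

/-- the elements of `B` -/
theorem exists_cs : ∀ b ∈ B, ∃ c < 4, ∃ e ∈ XR.E, b = G (cs c) * e := by
  intro b hb
  have hb' : b ∈ closure (XR.gE ∪ {G [0, 1, 3], G [1, 4, 5]}) := hb
  clear hb
  induction hb' using closure_induction with
  | mem x hx =>
    rcases hx with hx | rfl | rfl
    · exact ⟨0, by norm_num, x, subset_closure hx, (one_mul x).symm⟩
    · exact ⟨1, by norm_num, 1, one_mem _, (mul_one _).symm⟩
    · exact ⟨2, by norm_num, 1, one_mem _, (mul_one _).symm⟩
  | one => exact ⟨0, by norm_num, 1, one_mem _, (mul_one _).symm⟩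
  | mul x y hx hy ihx ihy =>
    obtain ⟨c, hc, e, he, rfl⟩ := ihx
    obtain ⟨d, hd, e', he', rfl⟩ := ihy
    obtain ⟨k, hk, s, hs, h⟩ := cs_mul hc hd
    refine ⟨k, hk, s * (e * e'), mul_mem hs (mul_mem he he'), ?_⟩
    calc G (cs c) * e * (G (cs d) * e') = G (cs c) * (e * G (cs d)) * e' := by group
      _ = G (cs c) * (G (cs d) * e) * e' := by rw [cs_comm hd e he]
      _ = (G (cs c) * G (cs d)) * e * e' := by group
      _ = _ := by rw [h]; group
  | inv x hx ihx =>
    obtain ⟨c, hc, e, he, rfl⟩ := ihx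
    refine ⟨c, hc, (G (cs c) * G (cs c))⁻¹ * e⁻¹, mul_mem (inv_mem (cs_sq hc)) (inv_mem he), ?_⟩
    have h1 := cs_comm hc e⁻¹ (inv_mem he)
    calc (G (cs c) * e)⁻¹ = e⁻¹ * (G (cs c))⁻¹ := by group
      _ = (G (cs c))⁻¹ * (G (cs c) * e⁻¹) * (G (cs c))⁻¹ := by group
      _ = (G (cs c))⁻¹ * (e⁻¹ * G (cs c)) * (G (cs c))⁻¹ := by rw [h1]
      _ = _ := by group

theorem E_le_B : XR.E ≤ B := closure_mono Set.subset_union_left

theorem cs_mem_B {c : ℕ} (hc : c < 4) : G (cs c) ∈ B := by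
  have h1 : G [0, 1, 3] ∈ B := subset_closure (Or.inr (Or.inl rfl))
  have h2 : G [1, 4, 5] ∈ B := subset_closure (Or.inr (Or.inr rfl))
  interval_cases c
  · exact one_mem _
  · exact h1
  · exact h2
  · exact (G_append [0, 1, 3] [1, 4, 5]) ▸ mul_mem h1 h2

theorem mem_B {b : RuOrder.H} : b ∈ B ↔ ∃ c < 4, ∃ e ∈ XR.E, b = G (cs c) * e :=
  ⟨exists_cs b, by rintro ⟨c, hc, e, he, rfl⟩; exact mul_mem (cs_mem_B hc) (E_le_B he)⟩

/-- `b ∈ B` iff `b = G (cs c ++ msk m)` with `c < 4`, `m < 32` -/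
theorem mem_B_msk {b : RuOrder.H} : b ∈ B ↔ ∃ c < 4, ∃ m < 32, b = G (cs c ++ msk m) := by
  rw [mem_B]
  constructor
  · rintro ⟨c, hc, e, he, rfl⟩
    obtain ⟨m, hm, rfl⟩ := XR.exists_msk e he
    exact ⟨c, hc, m, hm, (G_append _ _).symm⟩
  · rintro ⟨c, hc, m, hm, rfl⟩
    exact ⟨c, hc, _, msk_mem hm, G_append _ _⟩

end Cfsg.Agent.OddHalf.D8.RuFam.BDef
end
end
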