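import Cfsg.Agent.SporadicRecognition.CosetCert
import Cfsg.Agent.KFacts.OddLift.SuzCov
import Cfsg.Agent.KFacts.MulDef
import Cfsg.Agent.SporRec.SuzCl.Inv
import Cfsg.Agent.KFacts.SuzY
import Cfsg.Agent.KFacts.SuzOut
import Cfsg.Agent.OddHalf.D5.EightCleanSwp_m3
import Cfsg.Agent.SporadicRecognition.CertFast
import Cfsg.Agent.SporadicRecognition.HypFast
import Cfsg.Agent.OddHalf.D8.RuFam.WordX_m3
import Cfsg.Agent.OddHalf.SpTwo.EndCOP_m3
import Mathlib
import Cfsg.Agent.StdSpSix.TR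
import Cfsg.Agent.OddHalf.SpN.Start_m3
import Cfsg.Agent.OddHalf.Quat.KTwoOf_m3
import Cfsg.Agent.OddHalf.D7.Uni.Lay_m3
import Cfsg.Agent.OddHalf.D8.RuFam.BDef_m3
import Cfsg.Agent.OddHalf.MM.Main_m3
import Cfsg.Agent.OddHalf.D9.FFour.Out_m3
import Cfsg.Agent.OddHalf.SL.Defs
import Cfsg.Agent.KFacts.TwESix.Tor
import Cfsg.Agent.S0111
import Cfsg.Agent.S0112
import Cfsg.Agent.S0113
import Cfsg.Agent.Nodes.KindBC
import Cfsg.Agent.KFacts.RgdSL
import Cfsg.Agent.KFacts.RgdTI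
import Cfsg.Agent.KFacts.RgdPar
import Cfsg.Agent.OddHalf.DblR.MinusTor
import Cfsg.Agent.Schreier.ClassAll
import Cfsg.Agent.S0297
import Cfsg.Agent.OddHalf.D5.SixAut.ZeroEnd_m3
import Cfsg.Agent.OddHalf.F4.EndOut_m3
import Cfsg.Agent.HexModel.Main_m3
import Cfsg.Agent.TriTwo.PFacts_m3
import Cfsg.Agent.StdEven.Red_m3
import Cfsg.Agent.StdEven.Syl
import Cfsg.Agent.OddHalf.D4.Spor.Transport
import Cfsg.Agent.S1071
import Cfsg.Agent.FastGrp
import Cfsg.Agent.Prune
set_option linter.all false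

section
prune_inst 0x7ffcfefbabf8bddfdfff7e7fa7dccffd99f89fffe6dff9cb7fe0e9ff0bdf030cadc52bad8fe090fe1ed6623410b87803f97eca3fe26bdc7ffffd5ff41ffbee0fa5e7b50851d488340fbc0fff03f0778e7f3fffffffffffffffffffffffffffbeffbdffffffff

-- part: KFacts/SuzLift/Two
section
set_option linter.all false
open scoped Cfsg.Agent.FastGrp

-- merged: Cfsg.Agent.KFacts.SuzLift.FouEData
section

set_option autoImplicit false
set_option maxRecDepth 100000

namespace Cfsg.Agent.KFacts.SuzLift.FouEData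

open Cfsg.Agent.SporadicRecognition.CosetCert

noncomputable def tree : Tr := beta% (fun (N : Nat → Tr → Tr → Tr) (L : Nat → Tr) => (N 96 (N 48 (N 16 (L
  0xffffe470348da91806a2f8d20b43cc43698e6e060227ffffcb7328551d2d4c85998cbd3402e100560648c507ffff94f5b296b409c341481964622b8c058184aa2e2fffff20ea440d4412818280e292b24555c8bac10b5353d6060dc4c7ca78f74e1e89a0e4281181101501a0905ffffc77258ea4a1d0921145c79260d72d1ac0c084083ffff8200a03e143311c642301d020741836d0c0d8487ffff17c842e9045c200b43f18c8a064200e050c0432ffffe2a8ec539d0a5391427006824441701707158783ffffc4a998923212062230c00a8309d3613e6e06020fffff87e2b0f4541d8a4391408a2f02c0e04c0841160fffff0bc401687c0782011020e04e1b0943713062215ffffe1105c200b00d020200a16078290e0541d09030bffffc048100b010541c098341f0a83613078280b03dfffff80701014060481407020240c03c140882c0a033fffff01806020080300805010080200c04010080101f)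
  (N 32 (L
  0xffffe16c7c2e82860143b0ea94c991f85a50774f8fafffffc2c8285c20527009254920a12a08556b0ca5e05c978dffffffffffffffffffffffff0ae09fffffffff912c190ac1fffffffffffffffffffffffffffff853040ffffe9c1f145bf93c194eefa14411150da0a5409e361ffffd43bf17766466b851485158e04d1a0a03889950897027ffffffffffffffffff84e1bffffe12c67ffff8fffff25a1e5b1953cbe93d1c0923080550d88c04c1a33d21bffffc941b9380cfffffffffc250c847043643227c850208b0430408c17ffffffffffffffffffe4ac31fffff83f040842e8a16d2cbc26f7c4caf69a1e43f9539fa0afffffffffce0347ffffffffe0f40ffffffffff2ffffe800588c2c1d4750be40935dcb8331220f0760607c4087da78380c392e44e9601a81fffffffffe0cc480f68312707ffffe689d0b0b097567062220d04ce7ba91e40723e5447818c9b87ffff064245d19c1788195711)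
  (L
  0xffffec1e4981c888b0711c62888a11d989ad3935062a8bca7ffffffffffffffffffc7003889063f8cc37cd48ff82fffffffffffffffffff887081c412214b44b9a0a0726fffffffffffffffffff10659ffffc6e9a0862e31aa17fffffffffffffffffffffffc421688106ffffe2474443d9507d06fffffffffffffffffff210a3ffffdfffff879060f856bbe3d75c71242a24a54200592fbcbfffff0f0521dca43994075064640e8c4191833203645ffffeba63572c6071060e852908c511981f85c26c9ca82423fffffffffffffffffffffff86f05fffffffffcbffffadf8b5470a955dd1b332110b4a440840843682820809fffffffffca3117ffff0d60bfffffffff869240ffffe92c8d6ac521e0943a449f9f4339186a2542e145ffffd6bc524a2444214880f434122807d0ca44864f47ffffac98958b10860fca3928632142a6a850f433119fffff5830ea8604a20da0e5c41a6a190883082a0c261)))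
  (N 64 (L
  0x42645fffffffff8b53f16e13ffffffffffffffffffea87093fffffffff166122d903ffffffffffffffffffd507917ffffffffffffffffff8b1341b06a2bcf471a20fffff69332cda5905a31f41515a783952062220b03e31a26fffffffffffffffffffe33920571e8ab08ffffe3ffffc541d0a908264764c4ed7145a444167f3091995c9a058a608fffffffffffffffffffffffffffffffffbfffff2a41c5456c511c0a40847ab877838d3189ac3053546ffffffffff8a00814673ffffffffffffffffffea78840948c7ffffffffe6ace46a240d33d1a4102781c06f17fffffffffffffffffff89c07fffffffffc4d1a87ffff64b2ac8651172a22d0f1b27c260d04d9b20566240c43ffffffffffffff3fcb8264d4591f0962e1b85a27b8a8499909407ffffffffffffffffffffffffffffdc930909107fffffffffffffffffffffffffffffffffbfffff5e51ec664c469808f07448bc90ca0d4981a7395)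
  (N 80 (L
  0x2542ffffffffffffffffffffffffffffffffff2001807ec047c060fa132729fffffc7ea78fc4f1fe9e3f93dcf1877ffff374d23d5347b067ffffffffe4d4a3ffffa93718fffffffffc79867fffffffffffffffffffffff547c41fffffffffffffffffffffffc7885fffffffffe44cc2075a50ed0bffffffffffffffffffffffffffffdc981d8e90b1d8963c12877a57ffffffffffffffffffb9f320fffffffffc730b8e70bfffffffffffffffffff53d01fffffc90abfffffffffe390f4669e0cf0cffffe4810f7fffffffff1928c32c2bffffffffffffffffffd50f91fffffffffe31c286523fffffffffffffffffffa8e12efffffffffffffffffffffffe31427fffffffff242c47ffffffffffffffffffe3050ffffffffff1867a684893fffffffffffffffffffffff8c24417e12368287ffff8bb4117a12ace09ae4daa6854803eabe09bccf3fffff172122f109a9cd2da8a48a76b822db4ceacc887)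
  (L
  0x46eb9ffffffffffffffffffe56c3bfffffffff2b4be08e4a3fffffffffffffffffffffff9595efffffffffc91d187fffffffffffffffffffffff44a6255d77ffff8a3c39fffffffffffffffffff2aab9fffffffff9585e3ffffe57570af2e1cc73468368e038ab2e9530e368c23ffffca62d14e0e4b6f08a4590d2da1b5b75d48c2245ca81c94a0e29ab7ffffffffffffffffffffffffffffb9b554fffffffffffffffffffffffe52037fffffffff227cac46453ffff93b13fffffffffffffffffff22c1a06b94c90247ffffffffe50d548a06fffffffffe449580fb8214114ffffe5004ffffffffff220aa44d5c9f8692021cfffffffffca12bfffff222adffffc872a7ffff1ffffee6a89c6d01b90f370c84314cdb06a271b21eaa67d867fffffffffffffe6c154d78690d542141bffffc7ffff9045120c1a9207d48c034a997114072948e5a9391a102041a4154bfffffffffffffffffffffff9092b7))))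
  (N 144 (N 112 (L
  0x3c063fffffffff9906f32423ffffffffffffff386c4a77cc3fffffffff31e22645c3fffffffff38cc5ffffd4e2357fffffffffffffffffffffff33ce467444c688018968fffffffffffffffffff30e21fffffffff9856c03ea7dfffffffffffffffffffffffcc1b59866dffffe47f4d7ffffffffffffffffffcc23619b73302ce62d984f0847ffff3b8ea5f5a4bf887ffff38ae5fffffffffa9bc623769dffffcbd8817e6afffffffffffffffffff53ce7bffffffffffffff3822bffffcbc87fffff314d847b0bfffffffffffffffffffcb988976122e2cc609ac7ffff9781b50afc8d499273b96f144acee631acb9339fffff2d6325b43d974abbca573b44cc659239db459874586bfffffffff967632d21ffffffffff9a374ffffea6dd53fffffffff2ca1e5a193ffffffffffffffffffd4ee9c9bf4effffe6f840deb57ffff2c61c709c0e3b791ea28fffffffffcb1091a074fffffffffcd9ae15f0e0)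
  (N 128 (L
  0xffffea56014a40290525243f0babe12d742daf62524bffffd450e28c7c71f40faea547bf3d1a765729056b5fffffa846650c36aa21544bd3d3a751cfef72a1d0d13fffff504faa0df53b0e27819502469fc913e9027b775ffffea35fd388e3dfa880f569d5ed370b2727c4e6f85ffffd35bbbcea74daf69b1ed320b2747c80d58989e83ffffabc865f920a21f958c22fa904c0f298dee015597ffff4cef2999e5944a3609c4c2f4bde412f15269161ffffe975e12e3c258164b4b6fd2a9ef543e6a95850ebffffde853a6a7b49ecc950992bb324c144f4fa944808f816fffffffffffffffffff9d075ffffe75dcce93919e60b3b6d5ffffcec901d514ffffe745d8e7091da1313f253ffffcd2ba19f6134225ffffffffffffff348c8a7bcd3fffffffffffffe73570cd35fffff330e4759d84f2977fffffffffffffce40999671ffffe74dd8ccb9999c6efffffffffffffffffffffffe65dc8ca08fffff1)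
  (L
  0xffffebf5e97fc3436af60102bd9e57dbd2f9905f1207ffffd8dc9af3315d91cbb8a9d5d1b0c915e91b16ac97ffffbb7a474f46ba8a976c7b168c62324bc63215572fffff5cd18ba0a1d8d2416ad75f48c724e2c592f58f7ffffeb90a173c6b0a9172342c3a498bc7423ae5e11cfffffd6e422de268976511ec570a0ae33b7ab4ed6e71fffffad4245ac46b6d05a8cd2d98a5b1150eec1a74cbfffff58d10b2089b64eb4c995a304b4e0567c4ace897ffffeb108963c4acb8859510cb2559acbacd416e73afffffd5f40ac0217b14f09ab9bbceb2694586f0fcaa5fffffafe9057af4aee195d432b68656f0cae6055a0f82a9845484dfffffffffaa77e53e3ea950bffffa9d840ffffeab4996ec5ab07a558fcaac7d4e41a9e85555084ab90bffffffffffffffffffffffffffff53505ffffc7ffffb709d6752ed926d5921298815a112df67d4dc19fffff54442afe1d80c8432af5a512a66094b0fab8861)))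
  (N 160 (L
  0xffffee3951cc513eda9720fee1d49caccc4cb1715426e027bffffffffffffffffffdbd4f7ffffffffedf208fffffb869a87d60e125dbfcb3829e6f73ede109c0c10fffff6df2edc609b5ccb6d896e928dda1db944368410fffff042adf7d4b61796cd28f9ea5ac4db5a8b7b34e5ffffdaf4db5f9b6ba84d9609acce3e9a96ad2ed8a587ffffc40b070b3cd4229a920c50b188760d5269aacd2fffff68d2cd20f5a6c4b6a9d72d40d2d49a7c5444b07ffffed0261a0cc343937934d04eb5e2533446567c761ffffd9dc136e9d6712ce0e799a4433c956652cd5e6c7ffffb373d68f32dfa799ccbb306573744d8e6d99cb9fffff64528c90d5df52b2f6567b2ecb621e3533f9aa7ffffec80d591cab679c652f2c9e1dbacec18ad654fefffffd8c18b1a8f78f4cd0a618ec6bb5a463f26c7a4dfffffb049160c60c52498ac93108e61f18c4e021ad7bfffff60460c1649c9d0b0b8c61b1ee928d84adbbaa47)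
  (N 176 (L
  0xfffff0fe7a20cd43db08796110a6a2958c4599875141ffffe2f59439ae867030de4218d742f80869250b2003ffffc38af8ad6509e1e14d3c24808615f0ae3a114607ffff8434306e9a0bc6c1ea483b4d04a620a3fc1994281757fffffffffffffffffff00eaffffffffff80af67ffffe07d4c119c810f902aa206d5c04ac802f5031ec7ffffc00a57fd50fdaa9fad53f8a87e6f0fea55fe5317ffff7e13903aadf63fbeea07d536fa271f8c3be5780ffffeff6a9f152c09ab7c0f8f75e1fbd53e4a27b6fc1ffffde6bdbcf778515cf5e1de93fbd47e7b538f5a2dfffffc1aad79742f2a61e449bc3988395afeea9e2ca9fffff7c350ffea9ddb2bbd957834af0a95dfd2bc0a55ffffeed28ddc4741fad7651aeda4dd846bb99175ab61ffffdd4473b3a475546ea68dd1c8bac8f74d46e968cfffffb97a0732a8e7e89d05139c9673ccae89f9f1d43fffff7994d082b5c9463949171742e3285c4d044eb11)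
  (L 0x3ffffc57ae8bf5f122c62545c5cb28bb6516e3e2cc6afffff8ab63152c62345c49b28a7611466a27d0c4da05)))))) Tr.N Tr.L

noncomputable def wtree : WT := beta% (fun (N : Nat → WT → WT → WT) (L : Nat → List Nat → WT) (c : Nat → List
  Nat → List Nat) (n : List Nat) => (N 67 (N 33 (N 16 (N 8 (N 4 (N 2 (N 1 (L 6 (c 7 (c 7 n))) (L 4 (c 5 (c 5
  n)))) (N 3 (L 3 (c 0 (c 2 (c 1 (c 3 (c 1 n)))))) (L 6 (c 3 (c 7 (c 2 (c 6 (c 2 n)))))))) (N 6 (N 5 (L 7 (c 2
  (c 7 (c 3 (c 7 (c 2 n)))))) (L 3 (c 7 (c 3 (c 7 (c 2 (c 6 n))))))) (N 7 (L 4 (c 0 (c 7 (c 1 (c 4 (c 6 (c 4 (c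
  7 n)))))))) (L 6 (c 1 (c 6 (c 0 (c 5 (c 6 (c 4 (c 1 n))))))))))) (N 12 (N 10 (N 9 (L 6 (c 4 (c 1 (c 7 (c 0 (c
  6 (c 0 (c 5 n)))))))) (L 0 (c 7 (c 5 (c 7 (c 4 (c 6 (c 0 (c 6 n))))))))) (N 11 (L 3 (c 1 (c 3 (c 1 (c 2 (c 0
  n)))))) (L 0 (c 3 (c 1 (c 2 (c 0 (c 2 n)))))))) (N 14 (N 13 (L 1 (c 2 (c 1 (c 3 (c 1 (c 2 n)))))) (L 8 (c 0
  (c 3 (c 1 (c 3 (c 0 (c 2 n)))))))) (N 15 (L 8 (c 0 (c 3 (c 0 (c 2 (c 1 (c 2 (c 1 (c 3 n))))))))) (L 2 (c 1 (c
  3 (c 0 (c 2 (c 0 n)))))))))) (N 24 (N 20 (N 18 (N 17 (L 0 (c 2 (c 0 (c 3 (c 0 (c 3 (c 1 (c 2 n)))))))) (L 0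
  (c 2 (c 1 (c 3 (c 0 (c 3 (c 0 (c 2 n))))))))) (N 19 (L 8 (c 0 (c 2 (c 0 (c 3 (c 1 (c 3 n))))))) (L 8 (c 2 (c
  1 (c 3 (c 1 (c 2 (c 0 n))))))))) (N 22 (N 21 (L 0 (c 3 (c 0 (c 3 (c 0 (c 2 (c 1 (c 2 n)))))))) (L 3 (c 1 (c 2
  (c 0 (c 3 (c 0 (c 3 (c 1 n))))))))) (N 23 (L 4 (c 7 (c 0 (c 7 (c 1 (c 5 (c 0 (c 6 (c 1 (c 6 n)))))))))) (L 2
  (c 7 (c 3 (c 6 (c 2 (c 6 n))))))))) (N 28 (N 26 (N 25 (L 0 (c 7 (c 2 (c 7 (c 1 (c 2 (c 0 (c 6 (c 3 (c 6
  n)))))))))) (L 1 (c 7 (c 1 (c 7 (c 5 (c 6 (c 4 (c 6 n))))))))) (N 27 (L 6 (c 0 (c 6 (c 0 (c 5 (c 7 (c 4 (c 1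
  n)))))))) (L 8 (c 3 (c 1 (c 6 (c 0 (c 2 (c 7 (c 1 (c 6 (c 0 (c 6 n))))))))))))) (N 30 (N 29 (L 7 (c 3 (c 1 (c
  7 (c 0 (c 2 (c 7 (c 1 (c 7 (c 0 n)))))))))) (L 1 (c 6 (c 0 (c 5 (c 7 (c 4 (c 1 (c 7 n))))))))) (N 31 (L 3 (c
  7 (c 1 (c 3 (c 0 (c 6 (c 3 (c 6 (c 0 (c 7 n)))))))))) (N 32 (L 8 (c 2 (c 7 (c 3 (c 7 (c 2 (c 6 n))))))) (L 6
  (c 1 (c 6 (c 0 (c 6 (c 3 (c 1 (c 6 (c 0 (c 2 n)))))))))))))))) (N 50 (N 41 (N 37 (N 35 (N 34 (L 8 (c 0 (c 6
  (c 3 (c 1 (c 6 (c 0 (c 2 (c 7 (c 1 (c 6 n))))))))))) (L 8 (c 7 (c 1 (c 7 (c 0 (c 6 (c 3 (c 1 (c 7 (c 0 (c 2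
  n)))))))))))) (N 36 (L 8 (c 5 (c 7 (c 4 (c 6 (c 0 (c 6 (c 1 (c 7 n))))))))) (L 1 (c 4 (c 1 (c 5 (c 1 (c 4
  n)))))))) (N 39 (N 38 (L 8 (c 1 (c 5 (c 1 (c 4 (c 0 (c 4 n))))))) (L 5 (c 1 (c 7 (c 1 (c 6 (c 0 (c 5 (c 6
  n))))))))) (N 40 (L 5 (c 3 (c 5 (c 3 (c 4 (c 2 n)))))) (L 8 (c 1 (c 7 (c 1 (c 6 (c 0 (c 5 (c 6 (c 4
  n)))))))))))) (N 45 (N 43 (N 42 (L 5 (c 1 (c 5 (c 1 (c 4 (c 0 n)))))) (L 8 (c 7 (c 4 (c 6 (c 0 (c 6 (c 1 (c 7
  (c 5 n)))))))))) (N 44 (L 7 (c 1 (c 4 (c 6 (c 5 (c 7 (c 5 (c 0 n)))))))) (L 4 (c 1 (c 4 (c 0 (c 4 (c 1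
  n)))))))) (N 47 (N 46 (L 6 (c 1 (c 3 (c 0 (c 6 (c 3 (c 6 (c 0 (c 7 (c 2 n)))))))))) (L 8 (c 0 (c 2 (c 1 (c 2
  (c 1 (c 3 (c 0 (c 3 n)))))))))) (N 48 (L 1 (c 7 (c 1 (c 4 (c 6 (c 4 (c 7 (c 5 n)))))))) (N 49 (L 0 (c 4 (c 0
  (c 4 (c 1 (c 5 n)))))) (L 8 (c 7 (c 1 (c 4 (c 6 (c 4 (c 7 (c 5 (c 0 n)))))))))))))) (N 58 (N 54 (N 52 (N 51
  (L 1 (c 7 (c 1 (c 5 (c 0 (c 6 (c 1 (c 6 (c 5 (c 7 n)))))))))) (L 1 (c 5 (c 7 (c 4 (c 1 (c 7 (c 0 (c 6
  n))))))))) (N 53 (L 8 (c 2 (c 0 (c 3 (c 0 (c 3 (c 1 (c 2 (c 1 n))))))))) (L 8 (c 5 (c 1 (c 4 (c 0 (c 4 (c 1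
  n))))))))) (N 56 (N 55 (L 6 (c 5 (c 0 (c 7 (c 1 (c 4 (c 6 (c 4 n)))))))) (L 8 (c 5 (c 3 (c 4 (c 2 (c 4 (c 3
  n)))))))) (N 57 (L 5 (c 2 (c 4 (c 3 (c 5 (c 3 n)))))) (L 1 (c 4 (c 0 (c 5 (c 1 (c 5 n))))))))) (N 62 (N 60 (N
  59 (L 4 (c 3 (c 5 (c 2 (c 4 (c 2 n)))))) (L 1 (c 7 (c 1 (c 4 (c 0 (c 6 (c 1 (c 6 (c 4 (c 7 n))))))))))) (N 61
  (L 5 (c 0 (c 5 (c 1 (c 5 (c 0 n)))))) (L 4 (c 6 (c 4 (c 1 (c 7 (c 1 (c 6 (c 0 n)))))))))) (N 64 (N 63 (L 7 (c
  4 (c 6 (c 0 (c 7 (c 1 (c 7 (c 5 n)))))))) (L 8 (c 2 (c 5 (c 6 (c 1 (c 6 (c 0 (c 4 (c 0 (c 0 (c 2 (c 5 (c 6 (c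
  1 (c 6 (c 0 (c 4 (c 0 (c 0 n)))))))))))))))))))) (N 65 (L 3 (c 6 (c 3 (c 7 (c 3 (c 6 n)))))) (N 66 (L 8 (c 0
  (c 4 (c 0 (c 5 (c 1 (c 5 n))))))) (L 3 (c 5 (c 6 (c 1 (c 6 (c 0 (c 4 (c 0 (c 0 (c 2 (c 5 (c 6 (c 1 (c 6 (c 0
  (c 4 (c 0 (c 0 n))))))))))))))))))))))))) (N 100 (N 83 (N 75 (N 71 (N 69 (N 68 (L 0 (c 6 (c 0 (c 2 (c 7 (c 1
  (c 6 (c 0 (c 6 (c 3 n)))))))))) (L 5 (c 6 (c 0 (c 7 (c 1 (c 7 (c 5 (c 6 n))))))))) (N 70 (L 8 (c 2 (c 5 (c 3
  (c 5 (c 2 (c 4 n))))))) (L 5 (c 0 (c 4 (c 1 (c 5 (c 1 n)))))))) (N 73 (N 72 (L 8 (c 5 (c 3 (c 5 (c 2 (c 4 (c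
  2 n))))))) (L 8 (c 2 (c 4 (c 2 (c 5 (c 3 (c 5 n)))))))) (N 74 (L 2 (c 6 (c 1 (c 7 (c 2 (c 7 (c 1 (c 2 (c 0 (c
  6 n)))))))))) (L 3 (c 0 (c 6 (c 3 (c 6 (c 1 (c 7 (c 2 (c 7 (c 1 n))))))))))))) (N 79 (N 77 (N 76 (L 0 (c 6 (c
  0 (c 4 (c 0 (c 0 (c 2 (c 5 (c 6 (c 1 (c 6 (c 0 (c 4 (c 0 (c 0 (c 2 (c 5 (c 6 n)))))))))))))))))) (L 5 (c 6 (c
  0 (c 6 (c 1 (c 7 (c 5 (c 7 n))))))))) (N 78 (L 6 (c 0 (c 2 (c 7 (c 1 (c 7 (c 0 (c 6 (c 3 (c 1 n)))))))))) (L
  4 (c 3 (c 4 (c 2 (c 4 (c 3 n)))))))) (N 81 (N 80 (L 1 (c 2 (c 0 (c 3 (c 1 (c 3 n)))))) (L 2 (c 1 (c 2 (c 1 (c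
  2 (c 0 (c 3 (c 0 n))))))))) (N 82 (L 4 (c 2 (c 4 (c 2 (c 5 (c 3 n)))))) (L 2 (c 4 (c 2 (c 4 (c 3 (c 5
  n)))))))))) (N 91 (N 87 (N 85 (N 84 (L 6 (c 1 (c 7 (c 5 (c 6 (c 4 (c 6 (c 0 n)))))))) (L 7 (c 2 (c 6 (c 3 (c
  7 (c 3 n))))))) (N 86 (L 2 (c 0 (c 2 (c 0 (c 3 (c 1 n)))))) (L 0 (c 5 (c 1 (c 4 (c 0 (c 4 n)))))))) (N 89 (N
  88 (L 3 (c 4 (c 3 (c 5 (c 3 (c 4 n)))))) (L 2 (c 5 (c 3 (c 4 (c 2 (c 4 n))))))) (N 90 (L 7 (c 4 (c 7 (c 5 (c
  0 (c 7 (c 1 (c 4 n)))))))) (L 2 (c 7 (c 2 (c 6 (c 2 (c 7 n))))))))) (N 95 (N 93 (N 92 (L 4 (c 7 (c 5 (c 0 (c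
  6 (c 1 (c 4 (c 6 n)))))))) (L 5 (c 4 (c 4 n)))) (N 94 (L 4 (c 0 (c 6 (c 1 (c 4 (c 6 (c 5 (c 7 n)))))))) (L 0
  (c 2 (c 0 (c 2 (c 1 (c 3 n)))))))) (N 97 (N 96 (L 4 (c 0 (c 4 (c 0 (c 5 (c 1 n)))))) (L 7 (c 5 (c 7 (c 5 (c 0
  (c 6 (c 1 (c 4 n))))))))) (N 98 (L 0 (c 7 (c 1 (c 6 (c 0 (c 5 (c 6 (c 4 n)))))))) (N 99 (L 2 (c 0 (c 6 (c 3
  (c 6 (c 0 (c 7 (c 2 (c 7 (c 1 n)))))))))) (L 3 (c 7 (c 1 (c 7 (c 0 (c 6 (c 3 (c 1 (c 7 (c 0 n))))))))))))))))
  (N 117 (N 108 (N 104 (N 102 (N 101 (L 6 (c 1 (c 7 (c 0 (c 6 (c 3 (c 1 (c 7 (c 0 (c 2 n)))))))))) (L 7 (c 3 (c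
  6 (c 1 (c 7 (c 2 (c 7 (c 1 (c 2 (c 0 n))))))))))) (N 103 (L 5 (c 7 (c 5 (c 0 (c 7 (c 1 (c 4 (c 6 n)))))))) (L
  2 (c 6 (c 0 (c 7 (c 2 (c 7 (c 1 (c 3 (c 0 (c 6 n)))))))))))) (N 106 (N 105 (L 3 (c 7 (c 1 (c 2 (c 0 (c 6 (c 3
  (c 6 (c 1 (c 7 n)))))))))) (L 3 (c 5 (c 3 (c 5 (c 2 (c 4 n))))))) (N 107 (L 0 (c 4 (c 6 (c 5 (c 7 (c 5 (c 0
  (c 6 n)))))))) (L 6 (c 2 (c 7 (c 1 (c 3 (c 0 (c 6 (c 3 (c 6 (c 0 n))))))))))))) (N 112 (N 110 (N 109 (L 7 (c
  0 (c 5 (c 6 (c 4 (c 1 (c 7 (c 1 n)))))))) (L 4 (c 6 (c 4 (c 6 (c 0 (c 7 (c 1 (c 7 n))))))))) (N 111 (L 0 (c 7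
  (c 5 (c 6 (c 4 (c 6 (c 0 (c 7 n)))))))) (L 7 (c 3 (c 1 (c 6 (c 0 (c 2 (c 7 (c 1 (c 6 (c 0 n)))))))))))) (N
  114 (N 113 (L 6 (c 5 (c 7 (c 4 (c 6 (c 0 (c 6 (c 1 n)))))))) (L 7 (c 0 (c 7 (c 1 (c 7 (c 5 (c 6 (c 4
  n))))))))) (N 115 (L 1 (c 5 (c 1 (c 5 (c 0 (c 4 n)))))) (N 116 (L 3 (c 4 (c 2 (c 5 (c 3 (c 5 n)))))) (L 8 (c
  1 (c 3 (c 1 (c 2 (c 0 (c 2 n)))))))))))) (N 125 (N 121 (N 119 (N 118 (L 4 (c 7 (c 4 (c 1 (c 7 (c 0 (c 6 (c 0
  n)))))))) (L 6 (c 1 (c 4 (c 6 (c 4 (c 7 (c 5 (c 0 n))))))))) (N 120 (L 2 (c 0 (c 3 (c 0 (c 2 (c 1 (c 2 (c 1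
  n)))))))) (L 7 (c 4 (c 7 (c 0 (c 7 (c 1 (c 4 (c 0 (c 6 (c 1 n)))))))))))) (N 123 (N 122 (L 4 (c 6 (c 1 (c 6
  (c 0 (c 4 (c 0 (c 0 (c 2 (c 5 (c 6 (c 1 (c 6 (c 0 (c 4 (c 0 (c 0 (c 2 n)))))))))))))))))) (L 4 (c 7 (c 4 (c 6
  (c 0 (c 6 (c 1 (c 7 n))))))))) (N 124 (L 0 (c 4 (c 6 (c 4 (c 7 (c 5 (c 0 (c 7 n)))))))) (L 5 (c 6 (c 5 (c 7
  (c 5 (c 0 (c 6 (c 1 n))))))))))) (N 129 (N 127 (N 126 (L 0 (c 6 (c 0 (c 6 (c 3 (c 1 (c 6 (c 0 (c 2 (c 7
  n)))))))))) (L 1 (c 7 (c 4 (c 3 (c 1 (c 1 (c 5 (c 1 (c 7 (c 0 (c 7 (c 4 (c 3 (c 1 (c 1 (c 5 (c 1 (c 7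
  n))))))))))))))))))) (N 128 (L 0 (c 3 (c 0 (c 2 (c 0 (c 3 n)))))) (L 1 (c 3 (c 1 (c 2 (c 1 (c 2 (c 0 (c 3
  n)))))))))) (N 131 (N 130 (L 7 (c 0 (c 7 (c 2 (c 7 (c 1 (c 3 (c 0 (c 6 (c 3 n)))))))))) (L 6 (c 4 (c 6 (c 0
  (c 6 (c 1 (c 7 (c 5 n))))))))) (N 132 (L 4 (c 1 (c 5 (c 0 (c 4 (c 0 n)))))) (N 133 (L 7 (c 1 (c 7 (c 5 (c 7
  (c 4 (c 6 (c 0 n)))))))) (L 0 (c 5 (c 1 (c 7 (c 0 (c 7 (c 4 (c 3 (c 1 (c 1 (c 5 (c 1 (c 7 (c 0 (c 7 (c 4 (c 3
  (c 1 n))))))))))))))))))))))))))) WT.N WT.L (@List.cons Nat) (@List.nil Nat)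

noncomputable def stree : ST := (.N 1 (.L 0 [] []) (.N 2 (.L 2 [] []) (.L 4 [] [])))

noncomputable def C : Cert where
  data := tree
  lm := 15
  rb := 175
  fb := 19
  mask := 524287
  B := 256
  k := 8
  N := 178
  inv := fun x => bif Nat.beq x 0 then 1 else bif Nat.beq x 1 then 0 else bif Nat.beq x 2 then 3 else bif Nat.beq x 3 then 2 else bif Nat.beq x 4 then 5 else bif Nat.beq x 5 then 4 else bif Nat.beq x 6 then 7 else bif Nat.beq x 7 then 6 else x
  words := wtree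
  subs := stree

def rels : List (List Nat) := beta% (fun (c : Nat → List Nat → List Nat) (n : List Nat) => ([(c 4 (c 4 (c 4
  n))), (c 6 (c 6 (c 6 n))), (c 0 (c 2 (c 0 (c 3 (c 1 (c 3 n)))))), (c 0 (c 4 (c 0 (c 5 (c 1 (c 5 n)))))), (c 2
  (c 4 (c 2 (c 5 (c 3 (c 5 n)))))), (c 2 (c 6 (c 2 (c 7 (c 3 (c 7 n)))))), (c 0 (c 2 (c 1 (c 2 (c 1 (c 3 (c 0
  (c 3 n)))))))), (c 0 (c 6 (c 1 (c 4 (c 6 (c 5 (c 7 (c 5 n)))))))), (c 0 (c 6 (c 1 (c 7 (c 5 (c 7 (c 4 (c 6
  n)))))))), (c 0 (c 5 (c 6 (c 4 (c 1 (c 7 (c 1 (c 6 n)))))))), (c 0 (c 2 (c 7 (c 1 (c 6 (c 0 (c 6 (c 3 (c 1 (c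
  6 n)))))))))), (c 0 (c 6 (c 1 (c 6 (c 4 (c 7 (c 0 (c 7 (c 1 (c 4 n)))))))))), (c 0 (c 6 (c 3 (c 6 (c 0 (c 7
  (c 2 (c 7 (c 1 (c 3 n)))))))))), (c 1 (c 5 (c 1 (c 7 (c 0 (c 7 (c 4 (c 3 (c 1 (c 1 (c 5 (c 1 (c 7 (c 0 (c 7
  (c 4 (c 3 (c 1 n))))))))))))))))))] : List (List Nat))) (@List.cons Nat) (@List.nil Nat)

def subw : List (List Nat) := [[0], [2], [4]]

end Cfsg.Agent.KFacts.SuzLift.FouEData

end

-- merged: Cfsg.Agent.KFacts.SuzLift.FouEChk0
section

set_option autoImplicit false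
set_option maxRecDepth 100000

namespace Cfsg.Agent.KFacts.SuzLift.FouEChk0

open Cfsg.Agent.SporadicRecognition.CosetCert Cfsg.Agent.KFacts.SuzLift.FouEData

private theorem alC : Cfsg.Agent.SporadicRecognition.CertFast.al (Nat.succ C.lm) C.data = true := by decide +kernel

theorem c0 : Part C 0 64 36 := Cfsg.Agent.SporadicRecognition.CertFast.part_fast C alC 36 (by decide +kernel : Cfsg.Agent.SporadicRecognition.CertFast.runF C 12 4095 0x10130000000000000000000010020000000000000000000000000a30f30011430020334646740010020020020000000000000020020010000010034944940531730024b30010000000000000000000005945940010135c46142f33030000000010020000000000000020000003743b43b43b40010000000000000230000000010020026346340020010026a40000000007240020020011130010030000000000000000000010000000000000000000003e30020010130a30020020020020020010024235d40023030000000000003540016643540000000000000a344400100200000000000000100000200200000000000000000200100000100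30000000000001930000010020020021e30020020020020830010132e42e42e47340020020010024a30026040020000000000000000010000000020330020022c45032c40010000002730000230000000010020023e43e45730010024240024d34544540025830014340020023f40020013d43d40020025332933343340020013340010030023d30024b44f35630010020020020020020020020000000000000000010000000020000000000000000000015430022730020230f35440010022d34630020020010024330000000000000020000010001c40020020020015243230020002034c40000000020010020010030020000000000004f40010024430020020023330930000003830000000010000001641a32930630020021d30010020020021630230000000013140000022c30a30010020022a42a40020000020020010025045040020020010020020020020730020020020020010020020020010130020020020020020020010020020020020020430020020020530010020020020020020630022b42b4001002033002002023002002001002002002002002001002002002002002002002002001002002002002002001002002002002002002002002002001002002002001013002002002002002002001002002002002002001003002002002002002002001002002002002002002002002002002025002015002005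 24 16777215 0x2408570002562033270000000000d6000000493a77000000000256613857000123000000042d071006770001f6000000000000633417011257042d170000e60f50070000000000000000002d04370000002d04270000000000000000000000000000000000001903370002230000000000001c18070000000f3677740a470000000b02370000000a74070610372f6e570000000000000000000000000d4d47000000000000000000000000000000000000000000000000000000000000000000 0 64 = 37)

theorem c1 : Part C 64 128 18 := Cfsg.Agent.SporadicRecognition.CertFast.part_fast C alC 18 (by decide +kernel : Cfsg.Agent.SporadicRecognition.CertFast.runF C 12 4095 0x23630010130230020020930010032732c30021730020020010030020020531730026135930020010130020020020020020027c38330020014f30020020020023a30235530020016036432630020a30010020020025334434e30020020010020023630010130020020020930024d30025130020012430020000000000000010000020b33e30000020020000020011130000830010130000000000020000000000020a30000010b30000000003a3001000002002000000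0000000000020010000000000010130000000000020000000010020000003930000000000000000007047040010000000000000230000000010000000000000000010020000000000000000020020010b30000020010130006d40000000020000010020000000000000000000000020000010006c40000000000000a30020010020020022934e30015230020020010034430020530020020020000000010130000002430000000000010020000000000006840006846840000012f30020000000020020000003330010000000000000230000000010000000000000000010000000000000000000000020010000000000000000010000000022b30023c30025f40020010020010030020024030020020930010020000000000000000000000000000000000010000000020000020000000000000011c30000000020230000000015740005740000000010025740000002730000020000010000020336246240015840020020000000005645640020010000010034c30020530023b30020010020000000000000000020000000000000000000000010010032630000021730021830003630010130000002430000000000010000000000000000000000000000000010000000010030000000000000000000010020021630000000000000000000010130000000000000000020000001530010c30000000000010130000000000000000000010020000000000000000000000000000010000000000000000000010000000b30000000000000000020011030010030023d30024938240020010020025b3002173002613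 24 16777215 0x2d71170769672760472d71070769270000e63861173861070002830002e33c67072e6607386147000373360f270610270000000000000004560003530003f34d0d170004765b5f07275e272f5d170000000000000002a3000343000286000313170c171852470000000e47670000000001b6000213020b673861770002560004833a4967000233740a570f3637140957000416000133213d07240807000000000000 64 64 = 19)

theorem c2 : Part C 128 178 46 := Cfsg.Agent.SporadicRecognition.CertFast.part_fast C alC 46 (by decide +kernel : Cfsg.Agent.SporadicRecognition.CertFast.runF C 12 4095 0x20020010135730020020020023630010020020020020020020020025f34a35830020016030020020020020020c30016c33630020020235530020010020020025130020010c30020000000000000010000000b3002002002002ab4002001ab40020020025130020010020020025330020020020027e30018130022930020235230020010010037c37a30020020020028130830020020015a38030b36c38230010135730027230020020020020020020024f30010027030023a30010020020b30010034430020020020027d30025330020020a30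020015630020024630020015a32430020000000000000010000000b30020730020029e40020019e40020020020027335a37230018430730020130230010c37b36f30020020020025530010b36037630010135730023930020010030022c30020020028536c30020027930020021d30010027032737530a35a30010020020022930020011730020020010030020020020020027f30010020020020020024f36a30010032731630027730020930010034430026330020020020010022730020020020020020020024635130010020020b30020020010136936731d35637830330010026930020021430010034635130231732430020010026637536830020026130010030020020020021930020010030020020021730026e30010034636d30020020020930010020025b30530020020020010030022c30021730020026530020025f30230020020010020000005b30235a30000018440025c38448440010028440000000000000000000010007136b32735d30016230020020020020022c36330020015e3 24 16777215 0x746000000000000000000000000000000000000000000000000000000000000000000000000000746000000000000000000000000000000000000000000000000000000000000000000000000000000000000000000000000000000000000000000000000000000000000000000000000000000000313000000848327000000000000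 128 50 = 47)

theorem all : Part C 0 178 100 := ((c0).append C c1).append C c2

end Cfsg.Agent.KFacts.SuzLift.FouEChk0

end

-- merged: Cfsg.Agent.KFacts.SuzLift.FouEAll
section

set_option autoImplicit false
set_option maxRecDepth 100000

namespace Cfsg.Agent.KFacts.SuzLift.FouEAll

open Cfsg.Agent.SporadicRecognition.CosetCert Cfsg.Agent.KFacts.SuzLift.FouEData

theorem part : Part C 0 C.N 100 := Cfsg.Agent.KFacts.SuzLift.FouEChk0.all

end Cfsg.Agent.KFacts.SuzLift.FouEAll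

end

-- merged: Cfsg.Agent.KFacts.SuzLift.Sq
section

/-!
# Perfect double covers of the Suzuki group: the lifts of the elements of class 2B have order 4

`Dbl π c`, `π : L → Suz`. If the lifts of `e` were involutions, one more relator would hold between the odd lifts of the
letters `b 0, …, b 3` (which generate `J₂`), and the chain of coset enumerations would give `|L| ≤ |Suz|`.
-/

set_option autoImplicit false
set_option maxRecDepth 100000

namespace Cfsg.Agent.KFacts.SuzLift.Sq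

open Cfsg Cfsg.Spor Cfsg.Agent.KFacts.OddLift.Basic Cfsg.Agent.KFacts.OddLift.SuzLet
open Cfsg.Agent.KFacts.OddLift.SuzRel Cfsg.Agent.KFacts.OddLift.SuzCov Cfsg.Agent.KFacts.MulDef
open Cfsg.Agent.SporadicRecognition.CosetCert Cfsg.Agent.SporadicRecognition.CosetCertHyp

universe u

variable {L : Type u} [Group L] {π : L →* Suz} {c : L}

/-- a perfect double cover is a perfect central extension by a 2-group -/
theorem cov (hD : Dbl π c) : Cov π where
  surj := hD.surj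
  central := by
    intro x hx
    rw [Subgroup.mem_center_iff]
    intro g
    rcases (hD.ker x).1 hx with rfl | rfl
    · rw [one_mul, mul_one]
    · exact (hD.cen g).symm
  two := by
    rintro ⟨x, hx⟩
    refine ⟨1, Subtype.ext ?_⟩
    show x ^ 2 ^ 1 = 1
    rw [pow_one, pow_two]
    rcases (hD.ker x).1 hx with rfl | rfl
    · rw [one_mul]
    · exact hD.sq
  perfect := hD.perf

/-- the kernel has order 2 -/
theorem not_card_ker_le_one (hD : Dbl π c) (h : Finite L ∧ Nat.card π.ker ≤ 1) : False := by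
  have := h.1
  have h1 : (c : L) ∈ π.ker := (hD.ker c).2 (Or.inr rfl)
  have h2 : Subsingleton π.ker := (Finite.card_le_one_iff_subsingleton).1 h.2
  have h3 : (⟨c, h1⟩ : π.ker) = 1 := Subsingleton.elim _ _
  exact hD.ne (congrArg Subtype.val h3)

/-- If the word for `e` in the odd lifts of the letters is an involution then the kernel is trivial. -/
theorem false_of_word (h : Cov π) {B : ℕ → L} (hB : ∀ i, π (B i) = b i) (hBo : ∀ i, Odd (orderOf (B i)))
    (he : ev (lt B 6) (gw .e) * ev (lt B 6) (gw .e) = 1) : Finite L ∧ Nat.card π.ker ≤ 1 := by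
  have hno : ∀ u ∈ ([] : List (List ℕ)), Odd (orderOf (ev (lt b 6) u)) := fun u hu => by simp at hu
  have e1 : B 0 ^ 3 = 1 := by
    refine h.eq_of_odd (odd_pow (hBo 0) 3) (by rw [orderOf_one]; exact odd_one) ?_
    rw [map_pow, hB, b_cube, map_one]
  have s1 := base (B := B) (by norm_num : 0 < 3) e1
  have s2 := step OddLift.SuzTwoData.C OddLift.SuzTwoData.rels OddLift.SuzTwoData.subw (n := 2) (m := 1) (k := 6)
    (by norm_num) (by delta stepOK; exact Cfsg.Agent.SporadicRecognition.HypFast.and_fast (by decide +kernel)) (h.rels_eq_one hB hBo hno (by decide +kernel) rels_two)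
    OddLift.SuzTwoAll.part s1
  have s3 := step OddLift.SuzThrData.C OddLift.SuzThrData.rels OddLift.SuzThrData.subw (n := 3) (m := 2) (k := 6)
    (by norm_num) (by delta stepOK; exact Cfsg.Agent.SporadicRecognition.HypFast.and_fast (by decide +kernel)) (h.rels_eq_one hB hBo hno (by decide +kernel) rels_thr)
    OddLift.SuzThrAll.part s2
  have h4 : ∀ r ∈ FouEData.rels, ev (lt B 6) r = 1 := by
    intro r hr
    have h0 : (FouEData.rels.all fun r => OddLift.SuzFouData.rels.contains r || r == gw .e ++ gw .e) = true := by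
      decide +kernel
    have h1 := List.all_eq_true.1 h0 r hr
    rw [Bool.or_eq_true, beq_iff_eq] at h1
    rcases h1 with h1 | h1
    · exact h.rels_eq_one hB hBo hno (by decide +kernel) rels_fou r (List.contains_iff_mem.1 h1)
    · rw [h1, ev_append]
      exact he
  have s4 := step FouEData.C FouEData.rels FouEData.subw (n := 4) (m := 3) (k := 6) (by norm_num)
    (by delta stepOK; exact Cfsg.Agent.SporadicRecognition.HypFast.and_fast (by decide +kernel)) h4 FouEAll.part s3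
  have s5 := step OddLift.SuzFivData.C OddLift.SuzFivData.rels OddLift.SuzFivData.subw (n := 5) (m := 4) (k := 6)
    (by norm_num) (by delta stepOK; exact Cfsg.Agent.SporadicRecognition.HypFast.and_fast (by decide +kernel)) (h.rels_eq_one hB hBo hno (by decide +kernel) rels_fiv)
    OddLift.SuzFivAll.part s4
  have h6 : ∀ r ∈ OddLift.SuzSixData.rels, ev (lt B 6) r = 1 := by
    intro r hr
    have h0 : (OddLift.SuzSixData.rels.all fun r => okr [] r || r == ws.flatten) = true := by decide +kernel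
    have h1 := List.all_eq_true.1 h0 r hr
    rw [Bool.or_eq_true, beq_iff_eq] at h1
    rcases h1 with h1 | h1
    · exact h.ev_eq_one hB hBo hno h1 (rels_six r hr)
    · rw [h1]
      exact h.prod_eq_one hB hBo rels_comms okProd_ws (by rw [← h1]; exact rels_six r hr)
  have s6 := step OddLift.SuzSixData.C OddLift.SuzSixData.rels OddLift.SuzSixData.subw (n := 6) (m := 5) (k := 6)
    (by norm_num) (by delta stepOK; exact Cfsg.Agent.SporadicRecognition.HypFast.and_fast (by decide +kernel)) h6 OddLift.SuzSixAll.part s5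
  have hX : Nat.card Suz = 448345497600 := S1694.result.2
  exact h.card_ker_le hB clo_six (by rw [hX]; norm_num) ⟨s6.1, s6.2.trans (by rw [hX])⟩

/-- the square of a lift does not depend on the lift -/
theorem sq_lift (hD : Dbl π c) {x y : L} (h : π x = π y) : x * x = y * y := by
  have h1 : π (x * y⁻¹) = 1 := by rw [map_mul, map_inv, h, mul_inv_cancel]
  rcases (hD.ker _).1 h1 with h2 | h2
  · rw [mul_inv_eq_one] at h2; rw [h2]
  · rw [mul_inv_eq_iff_eq_mul] at h2
    rw [h2, mul_assoc, ← mul_assoc y c y, ← hD.cen y, mul_assoc c y y, ← mul_assoc c c, hD.sq, one_mul]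

/-- the squares of the lifts of conjugate involutions -/
theorem sq_conj (hD : Dbl π c) {x y : L} {g : Suz} (h : π x = g * π y * g⁻¹) (hy : π y * π y = 1) :
    x * x = y * y := by
  obtain ⟨k, rfl⟩ := hD.surj g
  have h1 : π x = π (k * y * k⁻¹) := by rw [h, map_mul, map_mul, map_inv]
  rw [sq_lift hD h1]
  have h2 : k * y * k⁻¹ * (k * y * k⁻¹) = k * (y * y) * k⁻¹ := by group
  rw [h2]
  have h3 : π (y * y) = 1 := by rw [map_mul, hy]
  rcases (hD.ker _).1 h3 with h4 | h4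
  · rw [h4]; group
  · rw [h4, ← hD.cen k]; group

/-- **The lifts of the elements of class 2B have square `c`.** -/
theorem sq_of_e (hD : Dbl π c) {x : L} {g : Suz} (h : π x = g * SporRec.SuzCl.ie * g⁻¹) : x * x = c := by
  have hee : SporRec.SuzCl.ie * SporRec.SuzCl.ie = (1 : Suz) := SporRec.SuzCl.ee
  have h0 : π (x * x) = 1 := by
    rw [map_mul, h]
    calc g * SporRec.SuzCl.ie * g⁻¹ * (g * SporRec.SuzCl.ie * g⁻¹)
        = g * (SporRec.SuzCl.ie * SporRec.SuzCl.ie) * g⁻¹ := by group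
      _ = 1 := by rw [hee]; group
  rcases (hD.ker _).1 h0 with h1 | h1
  · exfalso
    obtain ⟨B, hB, hBo⟩ := (cov hD).exists_lifts b_odd
    have h2 : π (ev (lt B 6) (gw .e)) = SporRec.SuzCl.ie := by
      rw [Cov.map_word hB]
      exact (ev_gw (all_lt (by decide +kernel)) gw_e).symm
    refine not_card_ker_le_one hD (false_of_word (cov hD) hB hBo ?_)
    rw [← h1]
    refine (sq_conj hD (g := g) ?_ ?_).symm
    · rw [h2]; exact h
    · rw [h2]; exact hee
  · exact h1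

end Cfsg.Agent.KFacts.SuzLift.Sq

end

-- merged: Cfsg.Agent.KFacts.SuzLift.Two
section

/-!
# Perfect double covers of the Suzuki group: the lifts of the involutions of class 2A are involutions

`comm_lift`: a lift of `z0` commutes with the lifts of the elements of `C(z0)` (which is perfect).
`sq_of_a`: the lifts of the conjugates of `a` have square 1. `sq_one`/`sq_eq`: the two signs together.
-/

set_option autoImplicit false
set_option maxRecDepth 100000

namespace Cfsg.Agent.KFacts.SuzLift.Two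

open Cfsg Cfsg.Spor Cfsg.Agent.KFacts.MulDef Cfsg.Agent.KFacts.SuzLift.Sq
open Cfsg.Agent.SuzThree.CentA Cfsg.Agent.SuzThree.QZero

universe u

variable {L : Type u} [Group L] {π : L →* Suz} {c : L}

theorem ker_central (hD : Dbl π c) (k : L) (hk : π k = 1) : ∀ y, k * y = y * k := by
  intro y
  rcases (hD.ker k).1 hk with rfl | rfl
  · rw [one_mul, mul_one]
  · exact hD.cen y

/-- A lift of `z0` commutes with the lifts of the elements of `C(z0)`. -/
theorem comm_lift (hD : Dbl π c) {x y : L} (hx : π x = z0) (hy : π y * z0 = z0 * π y) : x * y = y * x := by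
  have hyC : π y ∈ C1 := mem_C1.2 hy
  obtain ⟨D, hDD, hDX⟩ := OddHalf.D9.OuterOf.exists_perfect_lift π hD.surj (ker_central hD) SuzR.perfect'
  have h1 := OddHalf.D9.OuterOf.eq_of_central hDD (MulAut.conj x).toMonoidHom (MonoidHom.id L) (fun d hd => by
    apply ker_central hD
    have hdC : π d ∈ C1 := by rw [← hDX]; exact ⟨d, hd, rfl⟩
    have h2 := mem_C1.1 hdC
    change π (d⁻¹ * (x * d * x⁻¹)) = 1
    rw [map_mul, map_mul, map_mul, map_inv, map_inv, hx]
    calc (π d)⁻¹ * (z0 * π d * z0⁻¹) = (π d)⁻¹ * (π d * z0 * z0⁻¹) := by rw [h2]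
      _ = 1 := by group)
  have hy' : π y ∈ D.map π := by rw [hDX]; exact hyC
  obtain ⟨d, hd, hdy⟩ := hy'
  have h3 : x * d * x⁻¹ = d := h1 d hd
  have h4 : x * d = d * x := by
    calc x * d = (x * d * x⁻¹) * x := by group
      _ = d * x := by rw [h3]
  have h5 : ∀ g, (d⁻¹ * y) * g = g * (d⁻¹ * y) := by
    apply ker_central hD
    rw [map_mul, map_inv, hdy, inv_mul_cancel]
  calc x * y = x * d * (d⁻¹ * y) := by group
    _ = d * (x * (d⁻¹ * y)) := by rw [h4]; group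
    _ = d * ((d⁻¹ * y) * x) := by rw [h5 x]
    _ = y * x := by group

/-- the lifts of `a` are involutions -/
theorem sq_z0 (hD : Dbl π c) {x : L} (hx : π x = z0) : x * x = 1 := by
  have haa : z0 * z0 = (1 : Suz) := by rw [SuzY.z0_eq]; exact SporRec.SuzCl.aa
  obtain ⟨n, hn⟩ := hD.surj SuzOut.n0
  have hy : π (n * x * n⁻¹) = SuzOut.n0 * z0 * SuzOut.n0⁻¹ := by
    rw [map_mul, map_mul, map_inv, hn, hx]
  have hC : SuzOut.n0 * z0 * SuzOut.n0⁻¹ ∈ C1 := Q0_le SuzOut.n0_in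
  have hcm : x * (n * x * n⁻¹) = (n * x * n⁻¹) * x := comm_lift hD hx (by rw [hy]; exact mem_C1.1 hC)
  obtain ⟨g, hg⟩ := SporRec.SuzCl.comm z0 (SuzOut.n0 * z0 * SuzOut.n0⁻¹) ⟨1, by rw [SuzY.z0_eq]; group⟩
    ⟨SuzOut.n0, by rw [SuzY.z0_eq]⟩ (fun h => SuzOut.n0_ne h.symm) (mem_C1.1 hC).symm
  have h1 : (n * x * n⁻¹) * (n * x * n⁻¹) = x * x :=
    sq_conj hD (g := SuzOut.n0) (by rw [hy, hx]) (by rw [hx]; exact haa)
  have h2 : (x * (n * x * n⁻¹)) * (x * (n * x * n⁻¹)) = x * x :=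
    sq_conj hD (g := g) (by rw [map_mul, hy, hx, ← hg, SuzY.z0_eq]) (by rw [hx]; exact haa)
  have h3 : (x * (n * x * n⁻¹)) * (x * (n * x * n⁻¹)) = (x * x) * ((n * x * n⁻¹) * (n * x * n⁻¹)) := by
    calc (x * (n * x * n⁻¹)) * (x * (n * x * n⁻¹))
        = x * ((n * x * n⁻¹) * x) * (n * x * n⁻¹) := by group
      _ = x * (x * (n * x * n⁻¹)) * (n * x * n⁻¹) := by rw [hcm]
      _ = _ := by group
  rw [h1, h2] at h3
  exact (mul_eq_left.1 h3.symm)

/-- **The lifts of the elements of class 2A are involutions.** -/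
theorem sq_of_a (hD : Dbl π c) {x : L} {g : Suz} (h : π x = g * SporRec.SuzCl.ia * g⁻¹) : x * x = 1 := by
  obtain ⟨y, hy⟩ := hD.surj z0
  rw [sq_conj hD (y := y) (g := g) (by rw [h, hy, SuzY.z0_eq]) (by
    rw [hy, SuzY.z0_eq]; exact SporRec.SuzCl.aa)]
  exact sq_z0 hD hy

theorem sq_e (hD : Dbl π c) {x : L} (h : π x = SporRec.SuzCl.ie) : x * x = c :=
  sq_of_e hD (g := 1) (by rw [h]; group)

end Cfsg.Agent.KFacts.SuzLift.Two

end
end

-- part: OddHalf/D8/RuFam/PlaneRu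
section
set_option linter.all false
open scoped Cfsg.Agent.FastGrp

section
set_option autoImplicit false
set_option maxRecDepth 100000
set_option exponentiation.threshold 5000

namespace Cfsg.Agent.RuFast

open Cfsg.Agent.RuD.Letters Cfsg.Agent.SporRec.R3.Kernel

section fast
open Cfsg.Agent.Lib.BitNet

private def trs (x : ℕ) (l : List (ℕ × ℕ)) : ℕ :=
  l.foldr (fun p y => dsw (Nat.pow 2 p.2 - Nat.pow 2 p.1) (trMask 16 p.1 p.2) y) x

private theorem testBit_trs (x : ℕ) : ∀ l : List (ℕ × ℕ), (∀ p ∈ l, p.1 < p.2 ∧ p.2 < 16) → ∀ I < 2 ^ 16, ∃ J < 2 ^ 16,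
    (trs x l).testBit I = x.testBit J ∧ ∀ j, J.testBit j = I.testBit (l.foldr (fun p i => swapIdx p.1 p.2 i) j)
  | [], _, I, hI => ⟨I, hI, rfl, fun _ => rfl⟩
  | p :: l, h, I, hI => by
    obtain ⟨h1, h2⟩ := h p List.mem_cons_self
    obtain ⟨h3, h4⟩ := sw_trMask h1 h2 hI
    obtain ⟨J, h5, h6, h7⟩ := testBit_trs x l (fun q hq => h q (List.mem_cons_of_mem _ hq)) _ h4
    exact ⟨J, h5, (testBit_dsw (trMask_valid h1 h2) _ I).trans h6, fun j => (h7 j).trans (h3 _)⟩

private def swL : List (ℕ × ℕ) :=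
  [(0, 12), (1, 13), (2, 14), (3, 15), (0, 8), (1, 9), (2, 10), (3, 11), (0, 4), (1, 5), (2, 6), (3, 7)]

/-- the table of a network -/
private def tabN (l : List (ℕ × ℕ)) : ℕ := trs (appMr 4096 4 l.reverse (pack (fun r => idxMask 16 r) 4096 4 0)) swL

private theorem tabN_eq {l : List (ℕ × ℕ)} (h : In 4096 l) {c : ℕ} (hc : c < 4096) :
    Nat.mod (Nat.shiftRight (tabN l) (Nat.mul 16 c)) 4096 = app l c := by
  have h0 := h.app_lt hc
  refine Nat.eq_of_testBit_eq fun r => ?_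
  show (tabN l >>> (16 * c) % 2 ^ 12).testBit r = _
  rw [Nat.testBit_mod_two_pow, Nat.testBit_shiftRight]
  rcases Nat.lt_or_ge r 12 with hr | hr
  · obtain ⟨J, h1, h2, h3⟩ := testBit_trs (appMr 4096 4 l.reverse (pack (fun r => idxMask 16 r) 4096 4 0)) swL
      (by decide) (16 * c + r) (by omega)
    have h4 : J = 2 ^ 12 * r + c := Nat.eq_of_testBit_eq fun j => by
      rcases Nat.lt_or_ge j 16 with hj | hj
      · have h5 : ∀ j < 16, swL.foldr (fun p i => swapIdx p.1 p.2 i) j = if j < 12 then j + 4 else j - 12 := by decide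
        rw [h3, h5 j hj, Nat.testBit_two_pow_mul_add r (show c < 2 ^ 12 from hc),
          show 16 * c + r = 2 ^ 4 * c + r from rfl, Nat.testBit_two_pow_mul_add c (show r < 2 ^ 4 by omega)]
        by_cases h6 : j < 12
        · rw [if_pos h6, if_pos h6, if_neg (by omega), Nat.add_sub_cancel]
        · rw [if_neg h6, if_neg h6, if_pos (by omega)]
      · have h6 : 2 ^ 16 ≤ 2 ^ j := Nat.pow_le_pow_right (by decide) hj
        rw [Nat.testBit_lt_two_pow (h1.trans_le h6), Nat.testBit_lt_two_pow (lt_of_lt_of_le (by omega) h6)]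
    have h7 := testBit_appMr (k := 4) (l := l.reverse) (fun p hp => h p (List.mem_reverse.1 hp))
      (pack (fun r => idxMask 16 r) 4096 4 0) (r := r) (by omega) h0
    rw [Cfsg.Agent.Lib.BitNetSimple.app_reverse, appInv_app h.valid, testBit_pack _ 4 0 (by omega) h0, Nat.zero_add,
      testBit_idxMask (by omega), decide_eq_true (show app l c < 2 ^ 16 by omega), Bool.true_and] at h7
    rw [decide_eq_true hr, Bool.true_and, ← h7]
    exact h2.trans (congrArg _ h4)
  · rw [decide_eq_false (by omega), Bool.false_and,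
      Nat.testBit_lt_two_pow (h0.trans_le (Nat.pow_le_pow_right (by decide) hr : 2 ^ 12 ≤ 2 ^ r))]

private noncomputable def nthT (l : List ℕ) : ℕ → ℕ :=
  List.rec (motive := fun _ => ℕ → ℕ) (fun _ => tabN [])
    (fun x _ ih a => Nat.rec (motive := fun _ => ℕ) x (fun b _ => ih b) a) l

private theorem nthT_map : ∀ (l : List (List (ℕ × ℕ))) (a : ℕ), nthT (l.map tabN) a = tabN (nthL l a)
  | [], _ => rfl
  | _ :: _, 0 => rfl
  | _ :: l, a + 1 => nthT_map l a

private theorem in_nthL : ∀ (l : List (List (ℕ × ℕ))), allL (inn 4096) l = true → ∀ a, In 4096 (nthL l a)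
  | [], _, _ => fun _ hp => absurd hp List.not_mem_nil
  | x :: _, h, 0 => inn_sound ((allL_iff _ _).1 h x List.mem_cons_self)
  | _ :: l, h, a + 1 => in_nthL l ((allL_iff _ _).2 fun y hy => (allL_iff _ _).1 h y (List.mem_cons_of_mem _ hy)) a

private theorem in_NL : allL (inn 4096) NL = true := by decide +kernel

private def TL : List ℕ := [
  0xfff0ffe0ffd0ffc0ffb0ffa0ff90ff80ff70ff60ff50ff40ff30ff20ff10ff00fef0fee0fed0fec0feb0fea0fe90fe80fe70fe60fe50fe40fe30fe20fe10fe00fdf0fde0fdd0fdc06860c90053a08b0046805170809080a019f0a670d3005ec09750b0505160f5d0112040a0b3d0106045c010e0e3f00bc097e09f603200f5105970f3e06c60f9d04160a8e028f0aab0f220e2405ed0d6300bf0802068d044b01a207f90fac0fad02ad05650a4a050c02b605a10cb10aba022303110ae500bb034e04af0fbc08e80f250f4701e90eac0e400d730a80008103ea06ef0b1b0ba60df00d97076105f20c29046107630aee045f00fb0cea09d405a6052701550305051808db09f209870c3f00160d5e06fc040105b20ab50a4d0b2104c908770dff0904096e0cd80f0d0d760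8010b550be200a406b50aa80b6b0d540e5406e40d59029102eb0fcc060a0ea00e7a090201af0c30053c07030b3204c409be0fc00ea90b19042c0b480e360a8403100c5d01bb0f9a0a3808fc0243004f0b0c0ba0028406f20fbe0c4401d9056201be0f0f087c07950d1408d30ccc0621043d011709bb03630486032402330d6405d709520d4409f80d0b0f9b017b05fd0fb704600ee8072d06d30b08093401bd02bb02a303930242099a089f0cc103070a1a0cf705700f3905c60f6c043f056908e00c5a039e06a704a1085b0af4070a070b03440b9e02c40698003f00f407110cf90d9b05f4013004c805860715029c0e5b07810972028008c903810939090101f803300f200d0901770df70d8101c4008406a00c010df5019d00a208c30581038d076505cf03f40ad9009409eb0d8702e507b80a9d01080399080308200bf0008d0c180a170a6402e20b0704080c2409360aa50e4c0c7e0bef077f02be058001940a830bcb07ac041b07fa05a50b2a0b740c7706420c7101ce01460f9805c1026e0f500d0c04220afc007c03fe059b09aa01c70f5b02c80328055908a505470431005f0e8f0d740645062d01d00b35057305000a160e9809f404d205b90914021002280966066a02f60526010903f90d4e0b9a03180d90043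40b4c000a09150f5a032708500054077c006a0d120d7a054d0a0502120ae102ef08a80d61027e00fa04050ce4095e05140cdd054f0bdd07f707f602bc0cca001e03a9089d0ef2055f0172044e011104bd0d940f620a3a00100411064d06bf029e05310ec0078a0b340c48001c07fd0d3a02e7060506650ab80ba90f970fc50c45083d0b8206150ca30dec0473020c0f4c0bd105dc041803970a6a010a02ba087e01e40a3e0bf80d1c0b670cf80cab00b307b20fb607a3078b07a9063004940d6507d1066d06380e1700b200b80e1a09ff0ac108ce0d6e0640017f0d3100ee0d1d0a25079306c8075d0a1501b206dd01f409ea08c70599002b0c59029d0f7002700ca90b8f0b270625007b09540ee500d40edf018a04d7014707340f8f08680b2e09580e390c32099e043603df0bbd025508210c2a03690ce901d405de0070088d0da40d1608e50af6052f011c044802e40cb60d180c27095301050d49026c005d0d6d07aa0003087d0b0e06a90be40924014b02a602bd0d8305030d3b096b0c6d08060ab30c0a085503e401db045801ec07a007a20a52098c0d070433046e0071099409ed081004fa02d50c22084c02a5022b0ddd00db01280533017907b000af0af704aa0ef90729026208610f8e003c06590e5504b80b880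9700e7f099c0d7007ff02aa0c3a0ab9002107ef0ed30a90033303060dc2067b0ee40cb30676006c063f09fe06840e730bb00ca00a2b0f6b04ef0e970f9600650c810d8e02510e130dcd0ba70aa60463089a011407bb0c0e0e1e0f2b0fb40afb0e6c059d01580f7906e50c5205ca09730f60063a061e02cd04300f630480042008ef046200c50e82051e0316093a04700dd00b3e05bd08e3092a0f280524042608f0073204b70c89033a0c1c0dc00e46056c07b3007d094606ae0c0d0be105570e100fd10542050803a104be032b06fd0a46034705ee013401f00175058f030b09a5068f049e0c2e0e0e0e2a049703cd0c930dd401ef0ddc088f0f36019e0e74022d01dd01a70ac606340ea80f260ab70ee703780db1098a04d509980a9c08ee00f804e703b0042f0b99019a01a906950efa0e280f11073c068806ac02f5097400d30c9c03d20a5c0ccd023c05c80f850de202db0b63067c0a4b0e68079f07e40651072b0657036c0e65096007350af008170f6d09a602ff019908b505c5032a030e01cc060805eb0ced0f3401780e5f00ec0744071d0a810c6301d30173004a0f14058402dc08f705e7008f009a055403150c99052d0dd5078d08a20d80083b0fa50838024b054c052c002e0e270a360dfd0beb02220837082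a04e20e3a020706910d780543003809e70cf00abf0ab20cb808a00c410bac027d06070d19058d05d80fda0be800430c1e047a01cb08de0d3e020202390b6e01950168065205e00d7102a905e30ebf0bb708bd0890013e04bc027f0eb1025b049a025002b701b80eaf0544008e07f80dbe085f0737027a0353099504ca09c60bfa01860cc5044504510a7c00b504fb0f490baf06fb0f090e010b180b20031903010b8c02e10d5c08490459064c0883061404b0071f00450c130e4901d1049c0e3e0f3d067408dc0c9701ed0f7b05e2033b026d09b70d8b064b0c00074f055c01a406e90c030deb02ce0f57001f0d1e0989003b00ca0de40f8b0a880dd30b09018c0ec3018b0da80197085e03870c8d0a920d3c062301a606530ec903ed00df09ba084d0c490a8a099603f5056e0d660d34093e057a0dbb03b7007907c90332040705090c33065f0ee00c38067f031b06a80558012d0c65080e0e2b0bd90a19047107c70167095d00080ecb0ebe026603ac0b940ca802d706f10c8f0a3d069706270dc703bc0f680d3308a406d207200e63084f090a01fe0bf708ae02d306ce04910a7a035807d40e35013b078f029000070a090eb8001305a800ba06800818053805a70a9604e400ea0882053d0a760de70a1e03c102c508af0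4bf0c7d048701d8028709470a3903f60d790c5c056005740c96032c074b0e41094f0d6c0f900121037f09680b5604f00f4108810f0008a605c700c20e810cfd04e3039a0a7507fe0bec06bd018d082502fe0dfc0400011d0c54006306da00ab0d92000e057c01260ad302820e3c0967099f02810886087108aa07ca04da082603e10843099702f10eb206f609dc0ae7026009190c8609a409170f640135099203aa0e290753060f06890ce702ed09d10ac30b5a076406f7000f08230b5f021e0a4f07ab0ba20f6901ee08b6035e06d5023804f7042e05360e7d09a00862013f0f4d04a609820b4104400ae606600b45057805cd0d480fc90a0106f000b1063303dc014d040c0e930e4a05b70f5404a5001803d60dee047d043e07680eb306c70a020dfb00000a5b0b11003707740f730c57012c0215024e09ad0f91076e0f4f0c58042b066202850b1202130b140b2404ec08be0dc906470f42009c061f0c260f1d0ec500cf0fce059c017403b204d40074073601e303260ea60d620039005302690d9d0dda07880f040513007809fa0cda0aaa0f880965009d04560481098001100b710b430fa1045a083f06700e6f086e03c3060e03c70550016b02050ed603ff03d5044a090e073e0b840499016f015c063b004e069303d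70a2803d906b00a3303db0d0e052504a40b6000ad0e1501de0c9b08d401c007480a9f0fa40d8a0e420d0a08880f75021d0dbc0c9a08b8098e03e5076b07ae04ab0fb80aef09050f6509c90d6b0ec10959027109ae05fc08110abb05750ed00d03042d0a71067307df0a620bc309f107ec04c70c1d04dc0d86032f0fba07800062050f0c1203610c2804db014a04f80f4b0eb903700cc60f9502b8053402ac0c6002fa0bd405c400f300200bbe0b9607060371027c0a9a05fb08e709d5061308f600880e3101ff020e0fd2013206cc0ec7068c0a97036a008b055d04d304cf0cee0b2507050382023b07be065c057d02c706770db3006408870b5806ff0f7404820ce50fa9026f00d000ce0d290898078602de07ce059a091a007e0e2c0be705ad00850e530bb20f4606af0caa040601760ac808cc041e06d0014f06e102b502a70d7703c806f30acb0429082b0e0d00350297073008bb03de03fb0bbc089e095008f80f120bf609570ec80e900e0907cc008006ea012e0441074d05920738013c084406440bcc0339084008480e7109b306480b280b3c05df0e160d7c04f6086709310af100020f27041c0fc206c00e8e07270f7d0a95063e007f09b20dac04fd0ed40e05023d05880c9d038a055b027406b304bb065007960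0d807a807a60b7200b4038506be06b10707028a0a6e0f840783049f0b6107af00b9087907da025f052901870aa7087b01610c66025208b9064100830051028802310f5204e5073b0f300c1501f906dc0c3b024f071a044f0a0409ee065a060301b10aa20b1c072406090ea20912099002990cd70d210b6d02a1029f050e0b4b0b800dea00950d8f01510f16086a0d040b760c110c680dad031f0b69002609a805550ab008930db206850d060c2d02fb0f7c072105ff065803e20b46075f0ae903e60fc3077d05bb0643031307bf022c080409100fcf0cf20d5a0ef000ff0d91023a0f6e01f603640dbf069f05d90ba30b810e880aed0267008c005900c60cdc045d0e670bf2029401df05530aa40ded0a1802b3000d0df80dd20f2909080a1c0ba80196081c0119035401b9041f01e20bb30d36091b03da0666028b07c2084707750c0c06c4004802650d4b0eec061902370ec2015a0f1c01cd05ef09fb0373045e0309085d010b00190d4503cf07a40709074005fa0dc6012f060d02cc0229064e06db08da02d109450a400b6f05f90b6c07790e7b0e8b052209a900c8097601220ad50760022504130bdb05be0951046408e40aa90f6f03e70f590eeb070d03d006cf07ba0f45086006ec00910a1b0cbe0a6c03b50360066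4040207390d410d510d020549086c0626085304570f9c0a6f05010ddb09060d4602c902b10f0a031c0c8a03a50c420f7e091d02a2050403b300bd06b40abe0f3507850546075503920e14020a0a32022a01250eee048a0e04050a01ab02c20edc047c086f034f02780b0f0c7c049d0a21078909c40ab102e90b530cd4005a04c30234053e0fd80bb90bd8006d028607b60b7c08350e6d046f0b9d0e9c0be0059f0cb401bf0c980f150a1d0e5c05a301ba0d6908950a45068704c60899058e098d04e104eb0c7b0d1506bc0dde010206a502f9076a0ab60a500b7e048b01fd0c4e0bc00b9f05d3017c0e2e0dca0f3809c8038f09ce03950f71043c025e04f40203082f0b7d074c08c10ae0007a08ec00170999076d0def09fc04cc0583051f02950b4a0d9808fb0c6c0c20092d032e0f0506df04b603ae066307de0dba02bf08ea0246064a0e780bdc06750c140da7024c04850c510a060940034c07990a0b0b7704e605850a070ae3073a0e3d02540cb204b906b80cb00ca6038b08a904e807bc0506059e04e9087206f9001500c00a260ca5075e057703a60b790b9103ab0b5b07710de50ecc047907a7004d094d0050014200a70bc60cd9051d03b604880567055a0aa00dab05c00bf904d604b407570fd40fd5022e060b0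dbd00de09770ecd0fb20f6a06220d8d0b950e47029a02ca0eb50fae0c6e0e620e6104240014040404ac037403450d88007307500a94015e048407e106b901a505e900a10ce20410008907e9024d0a980856037a01b503ad09cd016d02980489043500d60bd20624072f0e1d0366018e0a4206e30a14072a0b7b0c0702140bf40004046700d705480941040b05d509790a57018008330d6708fd034b0ed1008708ab010f068e0d380e25038e0d9f09d00aad07460eb70b570dcc0e2109de081e09dd05e509280e230db4037e0db50ce3071206e6026404490368084506e8078209e00f3704c10e0c0139025603080bcf01650cb503430e220e4b08ba0af503140a4408d2035709d307970ef10a8d0ebd046c097d0e76026802ab091602cb06aa019c093f0b2205bc03770822070803b10b1a086901150aae088907470b2b03c601200ed90b5e0f8901c30f8d090d098108290e0a04de040f047703400276080b02b408d003750b660656054507ed0c3706a10a0f08700baa05d106720abc076907ad003e0cc8069e013102fc092605980ad4031a0cf609bc083e08f10a0d0c6b0aff0cdb0df104f30d4004dd0a2207d200a90f1f03ec0ce007cb0d9a015009f30148047e09ac035004ba09860bde0c4b065e0cc70384044709b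504a206e0024901810ef4066703f2079e0efb01c9014305b6090005b30f020f030927077009d70a740a5a066e0f55023f04df06d10a4e05ac0d2a0f780c5b0057082e06eb0b5d0b7301b300560a290f3f0be90b3b0f920100003008fa06f80a120c340798057f079d0d5d0f6107cd00cd0a2e0718085a00f70e0709b8091e0b8a05fe025304c004720b5103fc0f1e0bdf07000a3008fe0bd601e50a650321049601ea0e0b0b290fbd0671093d067d01e605da09f50e4f09d90b93088e00c4061807e80839005c00e70f6608d509e3061c09d80ac90a370d35025c0cf4011e07770dc80bfd0f070699088b034106120587074e0ee1096a0743058c0182020d005806a60efe0be602480cfa068b0acd050b0ca104a90d2007b40fb10a63069405f10b640cf508970fdb098b0d7b025a00b603c50bc70bff05c906c30ce60d820541017102240a530d7f084e0c430a99074906c50ae2032307040e1c059400060e8705790219071409430e4308f308570b1601c80b420c02071e02d90a56050209b10d9509840cdf0752024702d40c190c830ce109e1048e091f0e500c4f0c39085100ef0a030b0d05630e960a0a097b0eb009c30e120d7d09f003e905c30acf0d58045b0e1b02ae04f200600d0d0b39017a035c0e2002a404760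e9503b80184016c04f102d00be508eb0dfa07d30c1b08000f33054b0b0a0d57044406b2046500aa093806ba0033042a0e3b0c4d0a6d06a3050503360b650ade0922002408070f5c09ab0ccf0c94048d0e4402cf09b0004b01e8015d098506d90f230aa10a7009250918002f0164020103a20ef803ca0f8c068a01ca09320d270fb50fd00cce00f207e605190cbd055207a505b40c7f0c3e01a00c820a000de001230e34053f06c109690c910f2a00c307c001f1088001fc074a04a80ed802720b3f009300820d5b067e0ceb0b9c0f0e0cd30a79063c02060eab080f00e309090d470773097c02200e8c00be0b33070e036505e4070c0f76055e02b2039805390a3c06fe013601bc00520bc90bc40f830eb4030c089c041d0fa6001b08a308310d600b040ea30a410e03073f0fbf02320116066c058b0a0e0226011b0d2308940c92069d0593016e047409e806a20ef508410cc0086502e30edb0ebb06e7009f0a550b8602630c0b06690b400828021a0a9e0bad0e9200e2054e0f1002730c0f00d20d39023501370f0b00f50813012b0faa000106460f3b00a30bae0e5a05b10a5f0c3609e508120e9d0bfc0d3201e7098f0cba095a05e604550adc0e6405710e720cae0620052b08ed07c30e9b08d107510c700c9f0d2f067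a041705db08b10bbf0f5603030fd905ae0bc504b50b4d044d0a7e0da103a30e4d01fa0dd904b10cb70cad054a008a09cb04b20f820e850ac50d4302dd091300e802e808640d4d0816047b002802af05e80f7f0fd60fcd03960e660af304fe042103a70a8b09a100eb0fa8069208c60c040d2e02d20832061108d80dc1065b08e60e9101f3051209ec01890c5e0daa01f20a850b4f09fd04cb08740733063606290ba10d7500fe03560b1008910041083008340d00084209bd0bc20b980ca4089201560701075c07310a910a870b7a040e034d0df3080d0d050b010a5e0e8d0124046a0a5d03420346086604f50c670f720ef60a930896032d0f5308b3009e079406d70bb80d2c0e560c7909e20722083a0d930d3f08590537080c01930528052e0c4c0f9e02f4007707f20aac0d9c069005d003f10b470b310ac402f707190f0603ba09d20d1f08bc0c4600f60c750ad200f10d1b06ca021b0e1f047501180bd502f30442064f06060098088508c807d708140bb60f2e084a07ea03380a4c0aea0d5303cc07250b2d08c2051c0c8c081f0230075a062e049305890e3806d60bf50d4a08a70daf03eb077e013a04d001910fd707c50044061b09070d6a0d500f8a0f210f87092f095f0fc706390ae40c500db708e90aeb05510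0e40427041a0c6101fb09b40e58053503590fb00ad6079b0dd7071b030a0c62061d0236048f0a100b440f0c0b2c0f32087603a8012a002701da004c0de907d60e7e0db001ad0e9a0d550cfe0b4e0a9b0f4e0b1706160a2700fc04530d4203e807f502b00ea705110d5209490a3105a209f70eb60452010d0e3305400fbb039100d1090b023e0e5107e3075b04d900e10b3607c10fca01c50ec40c050a350e6907f3020008f20f770b8e0ad80ea403a006d40a1f00d90e83001103b40bb10c100ed70211071304a7030f03a402920c17072c046d0f93063d04250903097f0aaf0db9031209830b7800610de80a20026a0b380ac709440aca003a0acc0b2f0ad703bd03be0cef035d08ff092902750d1a047f02fd05f302ee0a2a0add0767068103bb0adf02450bbb029b013d03d303d40be303c404a00138062c0c09081508f503f708d70b02076f0cff0042085807db0bed08240b680e5d043b0510082708dd03ef053205f50d2d03fd03830f0801cf01c1006e0b970ece05af0e3205150878037c0f1808cf04150283087a07b10eda0049083609e6034802770c1f014409da071c039f0a590eed02170ba407a100cc0394001d07dd00460d08077201e0075407f10930005e0a730a8201d2036b01600cde036e0a610de3079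a033e07d005b5096c0f2f017e0a8908f401b70b5203d1063103350104044c0bd3078404ed0133094b0c6901ac0090072308c00f9f04d8084607b90198015f03890d2804cd07f00f01078c04ce06a4075902e60367010c02960c3d0d3d0a08048302e00610035b01dc0d850c06021f0ee90a8f085c04c50bab0d2b0cd201660e9e0e790afd003d0f2d066f031d06cb0fc109930258032208df0bfe073d0c560e80021c0d4c0cb90787097a03e30fa20f4a03f00cd1030405a40d220446092e07900f130d840f80030d053b00e90c5501d50cd60b9003cb074109880a7b088a000904a30e860cf304ae049002ea0b7501620e6e03c90b6200f90f5e02f208b705200e45033f0ed20dd605820ec60c53033701d60a4305230cbf0ce80216065d00b00bea009b0da906540bd70507091c062806040c310d560921077807fb08e20e9f0a5401570bba0eff015408c4011f01e108540ebc0dc30e600f1a0e2f02930a7f0c730fa70a2d0756095605b008e10423051a06370fab0a7d077a0d8c0c80025d0a2c0dc40da6062f0f1908d909a3015309a20e4e0e000ef303c007fc09a707d80a23033c0863095c02b903ee0f5f0bce0fb9016a005b006f094209d6008609c00bb408ac0b150f4003900b830b7f0eef0c780e6b0c950a720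19b0c6a00ed08bf0388075803ce09e4056f05ce0aa30dfe0a490eaa0c3c0dcf025703dd0af8077b09640bee093b079c057b0d9900970b7009cc087502a806ad0c7606830107031e026b07910de6083c06d809c50d6f0c7409b60b1d07e0084b0caf0103071706960655085203c200b70f440f1701d701400702041209e90cec0a58096f0c870b5009370443056b08b20f2c059609bf0478006b08080d1109780da508cb09200e8902080591090c06780fa30ca701a105ba03310b590ab4031704950576066800d5038002da0b1e07c80b130e7003f30e8a01270a68069b0e37002c08cd00a502270ca205c20ada018508730c8805f604030a690bda088405d20450053009b90eea01eb096d00750e0604ff04f905d40d250d170b540c400db601f706c90f990601055606c206cd0e2d0afe094802c00376095b0ac00d1003340db804380f3c0bb5024102df03000de10cc4036f0c470e94039d0eae09330cd00c8b05f0071006610ea1019204090ee3076200e5039c0abd08a10f3a0f1b05aa0f48089b094a0c72035f00da07dc00dd06f50e0809af00290f5801a80432035208c500a60cfb01ae0d0f0c1a07e70c3500550faf022105e10fd30d130ede0776027b0cfc0cd5034a0c21094e0c850eba04b301c60469014c007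207cf0b920c250c230df404fc003209ca0c640204062b0068069c071607bd0e1103620092087f0f2406320da00ccb0ee60a340d240b030cc30e59067900dc0ad1058a07d9062a0adb028e00e00c840bf30329078e05f7010102f009c7036d034907eb06000ad000fd093501450d5f02c604e00f8102c302a000ac099b07280a2f00a00b3701900dc50a86000507260df20ead01590386070f081a011302400b490c7a03bf0a0c0bd0046b079203b9056a05ab0b6a0d2603550a6607420ef709230a110bfb0b1f0566043a00230da2020f0b8508ca04d105dd090f0ba5076602c106ab0b8d0dd805900031094c04920f310595076c0d6801410fcb0e570ae807b50fc60419033d092c0e300e840ecf02590fc80dd1035a024a088c016306ee097104ee015b04280f860e6a02ec0d0106de049b05680efc0a7805ea0498000b06490e0f02790cc9050d0bc10302052106b6003601c2045405bf0572040d01690c16080501b401700da301b603fa09df07c407d502180df60cf1056d04140a480b060a4706e2037d00ae0c2b00c7091100c909610d4f06bb05d60b9b0067082c0fb305b808d60fc40fa00bc809cf0e18024406820c5f09db0e260e190b3a02d80d9e00cb0ac201520b89061a072e000c081901aa02090f6705610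edd07e5014e057e04c20aec0b0b02d60cbb0047048c0261001a099d0ed505cc017d08f903510cbc0c6f0eca09630a60052a07e20a6b07b702890a3b0ee209c205cb0f940a1309ef0a3f0d370ea50df9086d0c080af204ad006601f50b0007ee018f0dae0ddf028c039b08ad0d7e022f0e750012018300c100760d720a510b8b0a8c03e006350e9903720dce06b7028d08b40962069a06fa06f401a30e770af905a909c1081b0f430ace081d043706020cc2038c093c009903790c4a04660c8e03af04ea00340efd074503250d960c2c03d80afa0c9e0b2300e60a24004006170188011a06ed05f80cac0025020b0e02002201b0051b04390991002d060c0129002a0d890a770c2f0e5e037b0e4805a00096092b0b30086b0f7a082d07f40bca006903f80e520b5c0b87095500a800f00e7c02f80bf10bcd066b014907c60dcb09f905640b26,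
  0xfff0ffe0ffd0ffc0ffb0ffa0ff90ff80ff70ff60ff50ff40ff30ff20ff10ff00fef0fee0fed0fec0feb0fea0fe90fe80fe70fe60fe50fe40fe30fe20fe10fe00fdf0fde0fdd0fdc088b0c220c0c0807082e0996056b07bd0203095c097d09e805e2043405380f5703f101e502050b2208920da10d1305ad0e1e0da60d3f0d000e6409e5037400e60c6504b90788099d09de0727048b0d4f0a170e470680021908760a610cba05540844093f0d8b0bb20a410751013605c8029200ff04980a6e001108780036030b085a0ac0023e03db064f01080bd0073700850899011c065d03d0022905040ef90dc9069d076e0710037a05a60a4d0d930f8b0e760771041002b30ecd0bf703f50c3f078500ce007001d30bec0bf40e59097206470423036600960f2500c804bd02dd01440f18082c06f2019f0b7f0b4700730adc049e00d50bbe06670c3009ed00a107440bcb01e7006f05de01bd0de60d4a024b04e70f2f0f4f0bd409bb04000d180679030803a101de065b043306cc0e6907dc0b5308a407f0055b03cc022d03570987072203c70671006a08d90a710740076707a10f80035c0d570b390e910de102720c14046d0a8503fc06df02ab063407a808130f39085c0ee50c9b0ba10ed20e9e0a84033502d50ccb004e04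d704320b1e00720ba804ba0a800e5604f40eb20fac072b08e209ac0f89062b0d850e5306b301e10a01005908880a60012305e50b8b0d30068809660607094b0146097e0e3e0e2608190d0903e5036708bf05b80d5809390f0f04d2058606050f610e7200b60dc203c00afd07d30d5b0a4603b50c1600e4041c09140eac02d607b703fa05c405c203ce009d00f003cd06ec0efe0424013f05a906c60c640b4b08e3015b0acd090c08e0041f0a420ea1024c08180e8a04eb0af00e5207a002aa08360a4c0ed402e40cd3059b0254025c0ac705cb0b7a03630b77066d0e1101220edc0475037807ad07e50a9002860382089703ac0d5a05da044709aa074d0dcf0c6306a60d490a550754071b0ee0079100ef0bf50f810f130cd604360d250eee026006a90f580ad00cff0056006709c50fc104830cc80c7f096e0a1e04920d38045308600520078c0a100e7409ef0f6c044e0aa4077f096d0f6b010b0c5703bc0be20820083105070ef70cb90ad9075e0f010c45021a00b008ad08560cad0c43055005ee0c2e0dc40ece01cd083809f90f0a0848078d083b07070fb203d4028f06dc0fc00ded0b89048e019e0f7f0149057504810f1c093c0dca04310b8e058e0ac5078001d704220e7909be030007ab022004e6032c023d0e86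0e38089e079509f30081049c063509280f1908c509f209b50f9909d00a7c016507af05ac0019011b022f0c6c005b07020de800e3063b04b5034e0b9f0aee04200d5c068a02830bb70d0f02980e000cd507d0009f01470f5d00970d4500690e390e4402d00326016d0c6a0f9a016208ff04140aa105e60048035103dd06780c0f0dff0bb307f206b5023606fb0d07059f007c07bb0239010903a30e140e2f038f09d30a5b005d0e1f0b41080d08140e8f0ea0044b06ea054a071c0c0500fb09a3093b0fb1021e0f7101cb06850f970e230df90a3301ce019a023701d904cc031807c10464097502e20191073a09db0b430df5043b08790f230d420f7509310b0c05ae0d2e0da50c87029906cb065a0b4c03120e0f090306ab0fd103ed0c390dee09200487079f06740e3d0f620aa806f40cf605d30d0601380fa102490aa9080400d9016302440a23098b002e06e40edd06c90ca40e5c01f80ebe08fb004c0c7e0b2f05230eb70ea20ecf08060e3208800089006b0a12056f043f04e0051e049f011f02db01ab01d400c5033b0e5802f5024e0a470e0a01a205c3096302180c7908470b540dad07ee0160088a0e2e01f2018701af0dc50133034a07320e9801390b510c9e0bd303eb015200d7048c0415041d0e3a02a4094a07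a303bd07f901dc012b0ae90ebb001700830750023f077d06e703bb07f606f801e80e8308340b2308c808f2090a00a007fa0ba7084e039a04b604ef05bf0bab0d1b0356041804940e0d0e840ec40e7507d20427028b080901b60c930f5c084306d40ee60e8d004a00b40d8d08ab0f960bf004a800620cd107e90e6c067d0fa40a620be1006302f6018f07ec06d103b40c4c072001880e66092405a509cf094e0dbc0f740c5b0e060ade0b2c0faa0d76031d06f60f6009f10d360b950be308c20c8e0b400a87091101a502bc0c8f060309f802b40e4305910ccf00d000b90a9a0524031503f4023b0a24010e072c02e30d3d0d740df300b20d8a0d9f040f06d70c1e0ec00760029a03480dce04580fb700a2080005ab04fc0dd9067008a806bf047303140df2000c045f074b02fc0d9a093405b40e810ebf0cdb088f09df05140cf406ae07fc0e8e0f8e06210bc400e80e330ba20a190da80e010b79032f05f3014206d80ca30c330fa60b55079b034905a30cf903970d0b07db09490b2b00e50dd7031b09fe07180dd607e6082105d106e803960ea30ad806720fd80ac802160dc00bc10b2106f104a90eb105e80a0903ec01e20b420abc0b360ad307900fab03cf0ce0029d02c30a110ce1024601950bfd0faf00aa0bad0b9d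089f0b8302c70c5a0cf109c10cb207ef09e70518047f01030f1a0d9708d00f7b041b06b006b60b860ae50fb6089305530d6f08ae08fc0d4c00900451028c05290d75051c03010c620f660b0e092f0b45035a0ce500fd0aae0f420d920aa204f60a8f046e01b90f4104d30b760b49006c0c0a055d0955005107df0fca039d0d9e0ce8086b08d30b0b09370bc80ca801680e4e0e2707c90316050e029b098d09ff02a80c5305680091051906530842094107040cc90ba30f3108450f04069807ce0eab0dfb0b8500a801670b0a0c5908d5021701ae02650da200c009c2091307c5098e0ecc09830cf80cbe07c20f070bc00247012f0d530a5009ee08940af10b4e07be07c60db40cda0f54038e01fa0cef0c9a01920a8e093801580cc101ac02f207f30f700d200fa50e700e3506560768017407720b110bca0e990287043702ad0b140c180f3300db074300ab0df1027302d90f0602c60daa0cb80d3e08b600c90b3c08a90dc3098f015c06c3088e0e77047709bd0126034d03fd01a10b900fcc0e36001b0c8509dd07260c720e5404400071077e0b0f072d0a9e009e02fa028a08860ede02f702ac04030c9f0a15025f0092009a09eb0953079e0c280a9f09890f690b310fbc04a605720ec7053d09e90bac0a8a07a9060e0b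5f0cae07b900c40ab4010f0bba064806bb0d690cbf0cf70c990393008f08cc0de707330c5f07b202cb059402520bd20ef40c500f30013c03850029063d0c34067e01b00f59018507920ada0b1c05eb0cd9028501b20243059206990cb50a2102550c7c0e6305a805fc0ef6087208b404820143087102610ce90c6600400e5d00760ef0012e0f56041904d909810dd801210b19015408cb04090945074f01aa0c370034062600250f860f2101b500d2084a01040abf09a003a70e7e0bbb003e04ae0bcf02070b980b8d0c1d017f0c3d05640e4b050503e708ce03ab033307d70ccc05c605780e1a01c90e120d040d980921065e0e890a8806e900f104a40b0900200d120541072a042b0a960c210aa5002f0f980023015d068300780a1308be069a01d8065c02c203e60e2b071d0cc306da0794099f001e0d1907f70df0034b0846092b0ca906ac058b03410cc00d160ceb0717095801770d0307c70d5e0cfc0d35040d01bc03040ccd01da099c00950e170ac1028103d10f0c02250d26018a0c200aeb0a310ddc002b02750ecb0045090e05af00f204460619071f0aac064c0daf0828010102f1083a0ac6081f0dc70a980d94045e01ca03b206420dd408910c410fc6013b0f320773019b07480c6d04800f5508a70b610404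075a0f5a07d506970ad509300830044a0296091206390ea706f30f4002940a6607790fbd089b030a059804f208f60e710a5d0eb409c605b90e480a7404bf069103650d6006c8046900e00dfa02dc0c5c01720ed305650c3a0a6b080b0b5e04e8059908ed055f05fe0d8e05df0cd705ba06b40468048d0d27005f0502050a07870a630ce60b80062305ed051f026704440ee3004403d60ee80a30017301000e3f0acf0a0a02df0762007509780a7f068f090604c5024d0215066e0288005203750f8805cd070e038a0cf00b5c0a18023801ec018306ff03d707a206590afe062a034302950ed90b7d09ad0c0d06fe0eea06860472076c0f0e00fc04f803a502a50bd50c0102620bd90c4b0dab08a50ec505fd0b13008703900808022300d8012a07470da7049006e6022204af0e22006105e007120d640827004f09190e9d0d910ad604b803f0095b054c0495018b03af01c009b40a1b00cc035d0f7a086a0c7706640c3601dd08840af30e9608fd0caf058a03d903050a5f026e0f1e057c01b40e310d0c08630b070cc600f70deb085e075f01a408250d0809ba0fcd0d1c07e7067504a506fd053b07c807d40a7b026a0f49073c038101780f5e0d73017d040a0be909ce03590a6408b10516049605aa01d2083e06a107ff04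7b02910c10047a0c4809320efc09da0b9e071e08830d6505f207cd09760afa0c7a0140090009180c3e0bde008c00a70b160f650e680f9b06be093d007b0dcc0b1b04fa04c202ff06400f2a020c01270c71047c0ba4092c0799027f03d30bae0134055209c00e5b00eb0dec04d6084d0e46032d073409ea00cb09270ab7095e020b060c00130980032404be062e085507d100c30c250f350e20017a030c019802780f380eda069308e504f0067b0aad01150aa706c2070806090d3c0d8903580000096c0868075300bf068d006e073d049b0a820c3c00150c2702a00f2d0a000c2d03f20f9d014d03380471020e0c150abe05f906fc0af20102021f02740e2809e00d3a07a707810e15001a06760eb800be0c47045a054e09600db0042a0b30012d07e007b009a9001d0a5a0da00e6b04d10098087e05d00dea01a30a6f005c07eb0d2204e903b605320ef10038000708c10fad0fbe0253062902bb08030dd3053a0761002a05db04dc059302a205950f820ac20ea605900c8a0c1b0b630d710aaf070a0c7d02a7029c0d170d2902310b920dc107fb002d01c2066a01f508ea055c00e10c700a3209b008c7086c0b1801cc060b0bd106a7042f08dc0ad204a304c70f0d0ed50835068705220b1f0f2204fd09f40ace08e40344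026801f10d4d06040e0302ef07ca02cf064a036f0c6f082a0448040802010d670e5f0c1f0b38013d0a9c06250b7e0aa00cfa0f15035200c702b608d601d504070add001605d9004205be02b006dd083f08410c2a0a34019d0986018d067a0ad40055091a02eb010600d106d6008d06ce0a69090107150b2e061602da09ae09ab061401840e780ee402bf03100e570f3c055706b704b10bb90f6e03e20209000d05390e2c0995061a016c05d60c4002500a4e09cc09360d6b01e30c260a7e0005006506220c9503da01890baa04ee0a9303fe02c80bfc05dc04ec01760fc40fd405970fc5074103470a3d02e60543022102e70a03019404ac08fa01c807380e7300ae0b870b9c0c690ab204db058100d40a7304c901d0041e04260bff0c190ce20c670b3b01800235008a04ad0eae09af070d0d1a07fd03860985098a04e50802058d03300d8c036a08b0059e02d203e40d8402fb00dc0b6906370977092203ae04ab00030f5001db017502930a510e950b730f4d08b90db80c2f05ea011106500fda0e300abd01130b820c4909cd0dd109b20a02082b0f7d0b520a4906d90c730b3f05610a7d0c8405350968039e02d4063e070b0e1d0e4a047e013e0bb806db0e9f02c10cdc04a202060f0b04990701068e03340f370d7703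e3021b043800fa00100f11052b006003e00a0d0c82031f03640f940ec602d70fcf0322076a02690b62004101310c7405bb0b000f9e06c50d6205370d2b0eef0aab042e02700db701a60c460a06085308240692054901160112030f007400b30d0e01c70f760f8c0118020d06ba0b3704d40ab80a43018c0066098c033d0eba01f702480ba50fc80f170ced03bf031c005a0a1f00300454021d0b1a061c08d8088c0f000d28088103c50ec30d4404250c0806f00d9000ad029f0c9602900da40858095a0ee109570721069e0bf2045c058408df0e6a003c0a58069c08670a830b660d3900800d540a940aca053401240db60d3b04e3004302f001c10391036201c30a26048f032e08120a9500a30c17064e0d9909bc05d50c35026603c80c8c0ab00f0906570035045705730a6a04500a670a4f04c30ead09c70643088907a50b7801e0086d01d10e6f09e30a3a0def01eb05590e7a0e8c01930f1b0340013a01370baf080f03f90ddf092902a900bc083907b50dd206f5032a06d00345061f0cce0895090406cf001806b809e60f45097c0b060af8075d0d1f02b7057a061d0fd2085005b10c5206d3082d01480684000602cd036804f300570df70467056a0864057106550fd609160cdd00330af70f9f070f07f104f70630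03b10b71050c049109330f4304d805f6026402ee0d24094405f701500fd30a9102f300470b6f04c108c605800b4a03f70d9c0e4202a102e10724007d038707d60e1b004b06a00d8307aa018206e1083706520d050d370ab603800b990d3306d20bf805cc0b9a03790b9707b40bc701ba0bdf0c0e0e2107000e6e06a5074e0bef00bb02d1019003d20e1602ce076f043e0cac0a9d039f08bc0e0b01ea00a5024a03980fc70b4f0a77066f04b3071a0b7c020a0de90b930cb6016104760f5101790f4a01c50d0105c909a10cdf085b0ca10c510a810ce305ef09460bce027706940997089c0d590ca708c0026d039908a60e2408af08f40765046003ea0a0f0acc091005c50d10085f089d081000500cb308c404bc07cf01e900a402110257060a0b150954048407a40a2804dd026c06c70ba600530ed8050101a808e7092a0b280ba005ff09260f92048509400f8a009909080a38087c03c90b9b081d0aea0282033c063804bb0b330c120b17031a00ca00770dac0b9106080521056309b8062006de06730d4803d50e490d7b0d0d045603730fb3071303cb078907360fbb0cf5074c0d9b0d6600b107ae048a088505880a48060f006405f5075b06aa0993079703ad0eb60a200efa0d3408a3084f052504390fa80f910bf605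ce0f2e072504060fa708b2095d008609f70a2f02040a360350063c0c310ab302bd0f950f2707030d80081c0082067f0b81079606d50db206e30ebc06490a0408bb007a023307820ae10b940cd4096a06a204130fd705c0059c0974092507b10fba0c29038b050f077b000a05450840012c0e340cf303c104930d7001a7056c054f0627087b08aa0f6d0b500026016a0eb508510b560a2e0cd80cde0e7b0fa3060203540aa60e190bd600ed08f50bc600cf00b805b50dae03aa009c06bd09020be707760e020ec90dd00e130120094f0f9c00af06e20fae09c305f40b7405110f720e93077502e00f93078403420b12057608b50a6c025107690e940a5900f507ed039406ca0e4c056007770d0201970f68076602e80ae206ef05b0099e0f020bed05270ddd03ff0735057f0ed0053100270cd002ea0de00a16093e090b01c60463066c065f05bc09b102ec000204b202ba003b03890e6d02b20e2908f80c09077c08c90e6200ac023a0a680b2d0a2d01ff014b0edb09d806b908d703a209560c110bc50ba90b2004890d21083205420be4021409520a3900930a2c0c0703c40f48055809e20f8d0e4008490815057d064d09a5021303320b840ab50ab10eb00e250fdb045d0585039c03f305cf0c8907ac0a5c0f7e08eb0ca5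0c540b100ea4030e0ec2016e0d5f06bc0729008e0e0c046b0681017e057705f002000bc20329027a07e407b6078f0a050256072e0cfb04cf0adf02af0eca095f06900b0d0c940c4f0b7b08f0047008ec0e0e0afb0d56075206eb052c0d7c079d0a2a027d083d05a20d810d6a04ca0c9103b70c2c0a540395036b0c6e01700d8f011e0046028905620a0c08bd0f8f0b4d01fb07630a1a01df08590e870c9d06150de500580fa9049706170aef02a300c608d1092307c308f1034f0646095008110f030c1303710b03061e0c680ea903720d8702cc036d061307c004c809bf06b103ca066109170f28073109610915087d079a00ec0d4000940edf0b9605b20b5d01a90a5206f9065406af0951081e015604f9058c056707dd01e6037f04e1018e0ac40574040b015e086108ee0b5b070c02d306600ac30ea8006d0c0207110668025a04ea07830e92046a0948046103690739000f03e90874082f03c60e0709b70d6d087f06580d4b022407da00c10ae60ae8097309940d6107780c4a0a7a022a004d06ee054005b307c40d310db90e510e1c050602f9002c0fb50e7c08dd0db50bd703ba0a8d0e4d0bfa04c4011909e4061202a60b480c2404e404620a0e0b3406cd03110d460cab068c01f6098801f9027e0cc40f4c012908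c308e106fa02b80eb30dc806770b080bb401cf0e8b0efd097b0f3b0c7b0c000fd00d7e055a0a750a3b081b0e100d7f0c4e030d086601fe00f40e0908a2056e022c0a440e080e5e0d2c0b8a0dbf0cc70bc90600046501140dc60a700ae40b260ae004ed0a6d0fc908700f240f200bc303fb014c09f607cb027c0cb10c980b720d68061b01280fc20f12058f0b2900ba0df6037b0f1d002202f4069607e104300854010a0b270e450bbf08290c3b0d2f033f04f10c3800f904160e6102b1066302c90f3a05bd09f50054000b058702410e4109090d4e035b0afc0f530cec09690a2b00df023200fe043a052d058309fd080103a608e90857001c033e024501570bea0fb40e82051d09e104b40cc2010c03b809a2099209c9058900d60c9703a40a86042c07fe014a073f044307420145035e0f2c06c4063106660e55070502c40bbd05fb07ea0c8608750efb08870fcb08db02020d0a0f73045208050bee050303f8016601ed07190bb00c040cb70037051a02ae02c00c1a03c3043503e80b460159016f0c440ac9062f0d95005e031305b70b6e0f3600b7029e0adb0eec0b750c4d0d410da306010756057908ac05e30a9207cc0633032303390e6504b7044c0dde0a080f3e025d0f63065103b00d510355090d050b00390bda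09710171089006650e850a8b0d6c04d007700fb801ad029707e305260e900b05085203170e6002fe0b3d0eb90f5f0dbe03dc092e053601f004b0036e0548057b0cbb0570007f017b0b5a093507140263054402b50fb909820a790b250279018606a8097a07f40e5a096f0ab901f409650f050f850bf30a7809fb068b088201bb015308e6054b0c6101ee00f60b010ee90bcd0d86059d04cb0212096201fc01ef031e063f0d32084b0c8b013003280f520a3f043d0798059a01c40e7f0ef2069f086f041103b30f670a0b027b061803b90f2607bf0466087705080acb0f4b0fd90d2a0ee203030cb001990fc308a00c920e2a0e3c01d60f3d0eeb0c78007e05ec0a760a570af50dda03920dfc0dba0970055106450b240c42091b0be0023c0f1f09d60ee706e0095905a70be604c600ea040102ca08650079086e084c08e8014f0df4057e008804da00e70f5b0b6407860611069b05d705c105a402ed0b68064b0e9b0abb044f0ae30979086205e90fa00107088d0689028009470d72066b08f307e2074a00dd040e001f0a3e052f0a890b580cfd0388052e0a720bf10a650da9012501a0075906a3022e019607060ce405a100b5038d0de306410c5805000be507ba0b6c0b6a052a09420240022b0ce7037003070227099103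31049d03ee0f87085d02be016b089a0f7908ef0aaa019c0dd5031903c20aed010d044d00a60441003f015501b702840c830e9a0d7808de0512020805e4094d05f8003d0de40c030aff09b90a2908f7069502340b6005280eaa063a000909d9033605f10e5008b80a350bdb0a250cbc0755090702f80d9d04120b3e037c0ae705170b57011d00240d7d062c03be0dfd0fd50d140e8009840d11037708ca0014021c0db1058203ef0d880cc501be083c0d820226081a0b3a03e100f8074609a80fa2054d06b209a40d4706a409ec0f7c02e50cf20d2d05d40e6705150eff08980c9009b601b30d520c3208da0556038c0110041a0ef301bf0a97004900da0a5e02b90bd80716043c092d03de0873072f062402de08960aba0be80d790b880e050449021005d809900db3003101e4026f03a00a4b076b07d90c06042d037d0bcc03250f900b6b0ca608b3091e028d09430bf900bd077a0df80e7d0d430ef5067c014e0745033a02d803830c750bb5036c01410af90ec10af6025b015f011706690dfe08ba08330f1009990f4e05090dcb0ad70a5605e70ddb099b0b1d04f50793082205d20084099a0eed091f096400280f44011a0b590b020f84073b0f4706ad01510f6a037605c7027105e104590bfe09dc006809fa06f7032b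0d230ef80b0400e204020c88013209fc0e88039b0c9c08f9053c0b350dcd02e90321035f046c0c8100a90bdc0f7804a106ed025804aa05a0087a028e075c07090546037e09c8024209d20aa304a707de022804df053304a00ad10c1c03270b700aec025907740488025e03610cca07bc0f6f06620cee0cbd04170f830ebd015a0a8c055e0e3b042105dd046f0b650a4a01f3036003df0f770ed70f290f140fce047d072802300b6d082309670d6e0d500c760dbb01b1024f049a09a70a450b2a078b09f001050c560628003200cd094c0757051007640c0b0d6307b804450d5d08d406e50eaf09ca079c0486055500e90fbf0ec809b3053f0a3c09d505300c23078e0008091c040c0f2b0a1d0c6008170cea00ee0ed1034c0f1601b80f4604420276035308a104fe0f3f04ce05ca062d051b0e180d1d0998056d00f30c8d0a220a1c05470a270c5d009b0caa080e0bfb00de04c0074907f50e3706360b6709c4045b056904550606068201fd07230c6b05b60e9c09a60566090f0012073e0beb0f3407f8076d06100ca2060d0e2d03a80ea50b8f06c00cfe04e2013507b303d80f64030208690dbd016907a604790cb4026b06c104740fb0016408cf0e04020f04d50c800cd201810bbc078a05fa0513000e0405097f0d7a093a0a990e97059606320730080c00d30a3708260d550b8c0bb1008b0d960a140bb60c55096b00010d1503a90478064403f600c20a9b04de08fe02fd0e4f0c5e0ca007d80346091d07e8017c053e04fb0c2b08b704cd090509d109cb0ed6081609d70a07042900210bdd0a4008d2080a03060b32003a0a530d1e02c50b44050d075804ff032003090af4000408cd09d40f080384042803370de2,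
  0xfff0ffe0ffd0ffc0ffb0ffa0ff90ff80ff70ff60ff50ff40ff30ff20ff10ff00fef0fee0fed0fec0feb0fea0fe90fe80fe70fe60fe50fe40fe30fe20fe10fe00fdf0fde0fdd0fdc0cd107140180091d081d0d3a0da609b704f60f7e094f031a00ce043a044e077603a2061d05860fc800fb088d051f016005ba0a980a4d02030c92074f0ea307510b830b48014b0954057802ec07bc09230d400d7d0ce70a0b0921020e0478023008cd0eb609a4086b0cb80f0a0cd307fc0bee0455055d0b5a026d0a5b054508230c2e00ea0850005d097c071606f40f6900f70869018509f50b6e0bdf0b22018f018c0a3000e40c2409a8045c0267087a0c3e0bba08b4025700860fd20c5f03de03cc08d20ce5016a03e6074705b303200dd6063a090205900d61019806430961040d02cb0f9405c80e960049032104d402d60e72049e02870cf6045a019c0ed806a80510087706cf0e710ec80ad707960b0a0d2c0873017d046402470a8e03020cf8077b01e308970bc10bbe0a8d0c1b0dd704a40e2b0a2300fe0c370f3d0a960579045901bf0228030b0575057c098e080603bf011400e003dc02ae0a8302c80d0805a20db80f1f018e09450d1e0685009c0b4004f903d60f28054a035f0c8508f4089d09bf07dc0387043c003f00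1102cd0bd105700cf708a10aaa00c6065d08ad0fa60d150414022606710bcc03f5034b014208dc086308bc00c8089f0a3405f00b3b070d0b5301bc085f0b3d009902f50db909cc090907600e2001ee05540ee5046202390b2f0a9b09650eeb04cf066c0cc60757005903f4060501720a8b007d0a5103090f5c0df50ac100820bc5020806490b5702480b590ece00da01f6023f01c501890f5608a804f402dc086f0aee06cc09a100a50ebf07290ebd017e0abb0c4b032400270bb00faa0c58074d03fa0ca702550041075e0be406c20dce0d820813009200cd0b4b0275036601d50fbd076203480bfd02330e9e092c08a4026406330c070bca08620f6709fc062a02690353005102e8001303f70549015d0e8b0d46087c0ce808a00dab019106d9017103cd03c20b2900c709e60e18040e040703a700e301e90dcb0bbc016706740a570f620f57039a07a501d60a64090408e7080d01ba0b0d0aa4047e04d306bc0c7b01b905220ad409890253007502bb03e4012800a205160acb0b230daa054d0467063809de002c029205e101680209093c091e084a0d2608ac05170dbe019d01ae0b880b8905bb08640463078209d20bd704f8081209e20c8000e90a1a04ec0c83080700fd09b60929025407ef0df90f410e2a0cc40a84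012b063401eb00f90161062c0c760eee0870062e054207100010075605840e7d02b4000f0ad902c20601002f08d703d90d9e0c7f014e086601de09d00bd20887073a0078098402b1029407a105d5012e011b0da7015003bc06950b760e2c0aab090107ea0ed7021b0ba4045d05c20c860792055702b5055a077a051c0abf0de806b90c77009a0da90dc10cc70b710cb2051b010e04fe04e206d50d2403d705e40f430f7308de00d70125052d09e90c660dcf0eac0dcd0b7d0e7708f50b5e0db001ce01d8028f04a9082f07a60de308ff07310e4506210a410c9501100ef20f290c0c0db608920d4f096c0481061c0dc80d9c047902f109b40e860e550de40c6b0dfe0fd50bab05120299055f0bb902740cbe0e0f07410daf09000bef0d960ca806d20d9906df04fa0c550ab8006f00c9046a04e30cec00a606b409b5000601e402270489033203a109dd0eab0a5d0a2f06fa0c910fb204da019307be07ac04ff05d200e1031d0b4a01810d290ae20b9808f101e80d6d076e01870c450ac80117058e086d04760378012f00330f6f066605ce0a4b0af1041a024e06c90bb404c9095703070cd4009b0616080e0bac01f80db40d1a04c302fe0a08062209c606730c390e8a0631072d049b047c05b50fb305c30bbb0373083003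d00fd6007f01df0581056b07ce0c0409d50b2e0aca0ba807d1065e03060f5200070ac60d720b6902930e4808fd0dda07b1079508bf0bff06e40f2505e30d1c01fe0d4e085707c4035e0ca40f090a9e0c110c43099b076b054e06fd00b306e2091b0b2d042d0f2b06b2043809910af5097604e008d901150979037a028d020104040b2706f00f4b0f100f5f02ac0263029c05f1088c0cf00c70053003c40d8d0be20964071d0e880fb10c9f0f79064706120746025203fd0c2307870a5e072106b303790968097b06540a710b200d550fa502710fdb06970c0f01b103bb0ab005bc0c2d0afd0bf70de20ee200950e2909c9045e03f800b20b070d9f09b20add0821093907860fa709530c8a0661053f014f0de005c501cf03c3097a0b330a78056607c807280d980eb2032303fc0d160a85024608b101f30ce60c7d09550c9c0436070402b6066a007e08ef0dbb025e06630fbf0d7e06670c8f012309b0063e0bdc0cb603c1013303300df00f1c05310e33061806700e370e0e0c7e0c9e036e0e6300d802dd00300de60e210a3b021f02360c7208290cef0ab4002002e704c80da806b60573012c017c0dd00a75039b099d094104c10c600f7d060e0afe0ac704ce088f07c00eb50199090b0d93059c0131045207ec01be0107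0808034d024c0eba026a032d048502f007e90d6a0c440d1203440a3f07d6047f0f830341034e080a08d50d470b620f3e02760380039f0c3302ab01c00a0501c10f9b0cca0a140b5002d50c25073008ca02da0c290f880cdf07370b7c0949024206030c1d04e90f4402de062804fc0bc6041001c201e004c509800d130af40ccf007a05090db70629027d034500a90e99033309150d340c030845096202ed0d20070f0ea000020a7f0b9604200ba00cc80b70011e0359006a05cc0b4907020d9a0fa3036f0b5d0861063d09250be803b201cc09310eae0b8f0ceb0a6e08a50f8e008008900c8b05f304970744065c0e3b08600585029005010e090f1207d901830a7a032b0f0504390e980b13084708be0c170ed4006001d900b00f47053406780f4607e80e760d3e0f820da10277003804f309240d5900a700f505390eb703db046b02400d510da5074300ab0d300b1a06c007700df3081707360a490bf8011302950835082607da0245005b0d7002120bfa0adb06f7075a07710a6303160be30a1208480b0403510ab60e410e42029808d306b70ad10fbb049f0b8101a3034309c80dcc0c21077909fe05c70b58041c0dfa099402220b730b720de10bf607910f8f0a4a07fb0b0107c60d28029b01d3083400b90237068d0c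380b4107e700bb0dc90bec09ff08e80fa00ecf0b780ed10aff008103810ef801ef08e50c2b0a030b4e030300b80ea70d740bf10fba0b4704ab09d103be05a3098f0b610f2201490a990ef509b80efa045304310363056a07060af806db0cad09e0057705d40ee80d320d0a054809f100d90e8000be0cfa083904af057e0e560f8d02e40cd50995031e05ca096a02040ba7090707fa0772095603e7077e0bc9046c009f05dc068007640e680ac405fd0f53021601b70cbf01e2012a0b8c08f80a3d0b6b003d0b560c5d0cc903ce0617024107900b3502fc01750d040c10041e01f40d5d004605c60ec3017702fa08b9098c0a8a085501d4089c0a5f02eb0ada0d7105e504cd024b04fb0cbc09a20b950ae30e15033d0f55089305b60e60016f09ac0b8408ab090f0814019b052f0e570d310ac20d690c5c0d2a09d70b0c01a50ac90ed606c80de909bc02ce01320ebb029a071a0d92047d0b8a070c0c6f059a066e04030ccc06c401dd0aad09820df80f0e0a4e06cb017309ca050e0e67032a000b04420a1c05800d14069609100ee702ff0b3e0fc203850f3c076808490a930a92091207d7048d0f4d0f4500150edc0ae9031f0a22024a08f60ca30e280f2d0450008400560bfb088206880a7c009d0bce0a790cac07f80a38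0c65040c058200580cd607de027e0be1033c014a0136015b06cd07f908db074809360e6d0b9109da001407d50ae50cdd0d8101fa0f9e0a5a0626060c0e7308ae088503d804f503640eda01b203e10aa90fc10a4c0d5e0b6d0ba102ee0975006501e7031501a606ae0dbc08320c41007b0b0208650c7507c505680a760466021407830efc089a04c605130f8a0d800908095807b401fc013804650111065003bd00a007cb0f400a8807f109870a1f077c08dd0aa001740e350260061e053c052007d40c2c07200b8e029d08e905a5057f07a701440fb00944085b0d4b017a011d0c3005b00b4f05b806dc04170b5c0b7a019f0e95062706e5055807cf084307df0f9003b409cb00b50b2b047a056c05e7044f02c3053806580dd108a7000d0e7e0853017907350e3804290b32013e0e510d8309dc06ad0a6201a100320ac505760d33038f04060e3c0b450e0a060f00dc00c20ef109f30aa60cc30b7e07a30d490651045600f203ef050005280f1904be044d0abe016900e5023a0b3c0fd40e300d8a0dac02b20cbd04190c8d05eb00f0069f0ad208fa01c304dc0f8700db02d402780fa9020d0adc0ec104220055047b0c6304d00d110876035b07880625019e0b1f0b75036103470d05045f0b420f34044a0aea017b01da0e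5f02e60a20096000520e0502f30aac07d30c120401022000cb0f970cd80cae0cff00b7094d0d030a47068a01ea05be04b5028c01f9034a08200db304dd0b1c04b10cd9096702db0ee60cea04eb0c010f6c0986014709590093059907b305f7095e0a2d0d570b160c9d0fb80cb701db06e108110fd105ef09770398010407f70c2000cf081902350f260a0a059d06d70c6200ba0749045803e50e4b021c03390cba033e06890a6507e00195007301960be5033a004a0765030f0e9d0668035c0e2f09280572030c0be90bb50fb403500faf048a02c60e4a0fd803ba0d0b0506025603e802ca07ca0c05091407f60a9106980a9c0acf070e0280050b0c5603ca0ef00a2e0b1900d206ff0e6c02850f710df70d9b0dc001af0d25078006ce09ab07120b0307b00a860dca0f1b004008310d6f03650c96015604d203ab0382055b0a100b5b0e6b03580b51056d0210004b08c705a104df0dd50a1d0f010a6708b00d0106200e1102b00c3a073b0b860f7a038406ca011a08c40fab089608b70c270630022908e108c6001208ce050f0426040808c00d210bc7036b0eff037407b50aeb020008cb05f404300f81051e04ba0ca108da05330a560f0b0e470ad0019708a60ec709e808a90be00e9c039105db0f0f0e870efd03a50f1a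0ae604050a33006605560f4808cc007607bb0ad60db5008c0bdd0c5a054f0fc60cf10232081503c606da0e08087b0a5506bb022e0a7e0141082c04ca083c03b50e8908860f84017004470f59099a060702e20f5102bd07aa0e1f0ec403460d6608240fa803350f920139062d0e0c0a3c0e3f0f000e970beb0bd60ef6041f03f003f10a090659085900a80d1905fb0ae807e209e5020701530f9901cb00e60376027004b00e490a940b8d0bc805c90c02044b09f706d104910632020506dd0797087e05de05e90b26039d066f05d60b9d0b6605ed0a4008f20d3c0dc307520062088003d406d40c7104a5061a0b9c068c086c0f9c018d0cbb096d007107380fd708040334070b094703ed0ba306e6088a0ace0eaa0e39095002f607eb0d520e6a006106a00c3b02a50c4e0e320f3306a1081c01b6063f07780470023c016b02860fa40b6c0b180a680a77094a091304a8036a01a9055e0a2103b70e2d01cd01240c51080f0df60c460bbd0b6004b9047207ad00df0854049c093509f60a70042f0f1807db0b9b0bd0000e0a900c400a600a150981069d0d2f007c09f80d3507cd003b0a240916005f0caa044c0b6a0a3a0d18043e044503a80c5903b00d7a053a0fb5089401f0070a07ab0100015c08ba0a2c095b01f70d2308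f7075d07ae07e40d7907b80871025b04110a0d0dc20e6f07a409c700c50e0204e106a30091051d05470639079a065f048e083d0f540d22045104cc0def0b6f0af9006800d501c8028103b80048010f09980cde0cb9001603eb0a350e3d025f08fc077f0b1400ae0a1e0f4a0deb0b7b080103750fcc0672076101780b170b920ba500220d6c06ef04e70d10076705b20a95076a0356092e0b0e04540ea207740eef06240eaf07af067a07170b930593055c0ee10e1a049606aa04e8082e0fbc04d10fbe00de0eb40494069e058a093f0a660f760ce203a30bd90baa02e10d9d05a4050702bc05ec029108d40e070251081e0c220ba209e30206048700bf0dbf0c28058c00790d44001b03a000350ebe0ca9052903f205140499060d02340cdc0a13019405080ce9054603950ab906940394075b0f9600470fda014808f901ca0e1c0bfe090e0ef90ab5081a07b900e2012105250b3607050c9a03d50bf0031c04e6090504920d0e028e03420d7f065600a30b9406f605150f95061b04ee05fa0cf9076d0087027f0609056104000383064f0592081609fa0d1f06e30d0c0951037c0d9503ea083e0a010b3408880e84001e094200a10ddb082a052b0d97084204610f5808fb0a690ec20aa808d00d5a0ac00318059b04a10aaf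03c50ead04280ba603ee022104770e64088405e00de700000b850c6a038c0d8b0cdb0d07018800ad00440a4209db057b0471075404330f5b059104830596033b079f006b0805080b09ad074b07d2069c02a1027c033809110cd00a9d0dfb0719027b0225053e02a6067f02a70b63082504a2097409370a7d01bb030e0f2404b30097011f067d0b0f068f034c0681054305c1075c03f90bbf04cb005700360e740d4807750f060c8108370ab201c90ee300210c980562092b0c900d6001a800340c9302b30cb5055507990d2e0f0c0bd80446010d085a09ea018b06f9042c0cd702d0041809c50a2706e80157020b025905bd02a00ed204f70ce4004200a403da0f6d04ea05ea05f808020c8c0bea04b701220f72079b0e520486052a05a70e260e9a08400d4508c9062f0e1e08670e22037d0e940c0b0c1909fb0a590997075f02430d4a0dbd08d804c40a180fca0db106f3082703670c820afb0d5302d304d802960ce30589049309cf0c5e07230a58039705cf06ec056e0875032f0ede06040c1e02c90e1305b905a901090b0b048f085606f104250640095a019a011208b60bdb00720cf20efb094e02b90833073d09af0641083a016609ee04a30ae10dd80d1d05a60e4e06ba0540083b00430b1008a200fc052e006c04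1d08360e010b3000c00d77016e0424060a0d5f00050bf200940b1d08460f680b790aef0cb105c40d3f0df1067b015e03270972064b0ccb0e400fc306000a02052c0ad50d41011c0f75076904ac0a04011903f6058301180088013005ff0213063505e20a0f07400b430f2a08e003ec0415040209430c5406c60ab3095c02d2058d06a5059501c4075906e706a70f70038e0d670597072f0340074a0611046f022f0fc90bd50e1905ad0a730d370a9f0a0e0b24048b0f3506ac04f10f3b0fb70b3109d60f3601400c69092701a70f110009060808e409ef0d360b37006d0a39026e0cab041b01b003af066906eb013a0da207f20fa1075808ea0dec010b09f90dee089806600eec016402f70311029f088e0d0f0e54031305040f1e0e8d0b2c079c071c0f9d03d2067c0e1d04de05df0cb4069102240a17053607bd0bb109eb00ff053b04e50bc008af003e0c840cee0acc05d90dd205b706d30636072709c002c50469070700f604bc0e6103cb0a160fc508b3079d0dea0ddf014c032902890e460e5806f507250a310da403490f5a08c30aa5025d0017090c050a0c0d071e073f091a0474054b0369030a0bd309c10d780ddd01540c180ade0d940f210e3a06480fd30a530ec60bb6008a057a026f032206f201200e340963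06420c1c0753076c0700053502d80d8e0ddc07a00d0208df0541096b09a901030d7c000a0614037f00fa00260f640e6508ed0750099c0ee40c5b0ae007930677087f0d580c6c04c70a320c13061f0d4d01b40c61028b038809be00370523047308b207e60301063c04b6097103e0068402880969084b0b250498033705b10b46046e0dc407f5032e04a608280f4205e6068b06c502d10b820f6102c407e10d430085072404ae0bda0755018a074c061006fe084103e205fc07980a8f0101057d09200d86004e073306370c4800d406a604820db2042a0c3f0e660ab70d42099e09f00dae0fad06bd0d650336050504bb07e506ab0800058804aa03570b120bae0d8f0526004d0e530a370a290f4f0e3e0eea06d001f209900cc20df20f8604490f5e0f3a093e044109c40fa207630b3a0c5207940a8209ed0fcd09bd07c70844098d045b004f0878065b07c2040a02b70aa1045703d302d907c3013d0f16040b0fce0bcb0d0604120c9b01ed038a06a901450b3908b507dd042e0d0906550377048009e106c100b108c205f905d000bd09a0015f0bf9085e0af305d70b7705650d5c09b106520a000282059f0f080319043707a80c1602490e7c0f6b0a74043b0444008d08c10e7b09d3089b0cfb0ab1059e097f06ea010c03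000ce00ca503fb0eb306790cc10e8e05ae0f040edf00ed0726085c085d09c206bf081805a0078406de02d709180b150f77093d0e5b03e304900a4f04b403df0f7c00450f2f0baf06440e100a540dd90f200703082b0440054403d10d3b02ba0afc0e820f7b0521090a00d003b9008f088906c30ced0caf0e810c8903aa0f320b440a260dfc0ccd091c03c8078b07f002f9087d09f4017f0be7002a07bf0563000c03ad01d208ec03c001f507c10e7a00aa089e008307450fcb0d84072b0c3400d10838001f0c640e700399094c060b01b3071b071801b5003108a3039009d4058f006406b500c3043401c704bf0f17013c0a9708d106e908eb0b540c3504d7002b062b06e003720cfe0cda0d64042b084d077708bb0d3d037b02e301fb0bed0c7c00bc031408bd07f40503036806190ea508f00a520b3802be099301bd0f1d0d17035d092a099903540bf408e6046d07660202035a0e9201520b8b0922034f0c3c0c4d067e0f03096e05110ea10992086e0c090c420b7f06fb0c3d058b02fb09380ad80a6d06a40930093a069904ad0475086a081b0c060d8502500c87060604a70c49022b0bcd0aa30519032805bf00ec00740eb90ca604ef0f650f740a890b1e0d75070101430fd0041306c702650b900a44036c054c0312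05510268092d0686030d09260f3705020ed900530d560d2d026b03040b4d0f4c04b803fe0a9a0d4c00e80af7033f0aec03b60273055208100ef300f10983020f0dad0c4702df0a480c000fb60ae40127022a0e900c6d098800ef0b21037108740742007702ef0c1a0c790ec509660c26043f04e403e90f630c2a09a60615059804a0065302cf0abd0f1301a20f6a091706020f2c003a091f0527049d09ec0e1400b602c0008903620872073e0e5c03cf05ee012d04430c990ded0e17066209b30e0408d601900f2e020a0cf50c3201aa020c00eb068e0690080902a4023100f8069b064a055001a00a110cf30b680aba0da30b87028406130b9e0e030d270e4f073c0bd40dc506fc0cfd097004c0021a051804b20f6007fd0903029702830416078c090d06ed0a6f0c0a069a069300e7021109a50bb80c360ea60da002f801580cd2084c04f005670f9f026c03050c4a0e9303100f85022303170e9b0cf4003c025a0a1907810c94050d00b407a90261064c02150f8009190eb10e2e0e5e0ce107390331010a0d5b015a0c4c0adf0a87040f0ed00f4e0ca20b9a022c06230c1f0afa0bad0ecb004c010507ff002409b90ee900ca0b640c73094607220e9f088b02a30fac0587088301510244032c02e908c80f380d870f0706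92053d02660b7406be097e0c740108008e093b0df4028a0019016501a40b0902580a3605a80b97027908e302f20fae09a302a9064d02ad0e4c0ed308520734083f0b1b0fc003550cfc08b801e50d1b00c40a2b03700a5c096f0d5007b20ecc03a90af20ca00460001807ba0b520eed043501ec0e2509730e780d6e0a45014601ff0d880f490b0601e10c140d380e0b0aae00500952098a0bc30dc600390e6e0ea40ae70b6703ac0162016c0cb00dc707ee0be6084f0711066d078d0389001a0eca059409aa0c150c2f0c310f390c5003600ef706870e690e6201b80b080803039304c203960a500cce056408fe0e43015900ac006902aa07f3066505710a430ac302170b8002cc09d9029e09fd09960e440f5d0acd05f60c570f6e08aa09320934071f0d7b00960e8502af0f8c0f2708220f8b065704950ec906b10d6b006e0f9100cc0bcf01820d730fd903b30ebc0f500c67098b0a0709e407730aed00f40af60a1b0aa70edd0e8308790ad305d1013b01d007fe0f7809bb0e4d0e7505e802180553009801d10e230fc4042105c00e8c07b60a6a024d01ad0272064e08ee005a04fd08510352022d0dfd0cb30e0d0137051a0fb90a6c0b3f0713095f01e604320a0c031b0f0208810574000809df043d0386016d05600868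0a2a014d0a6b0004001c0c880abc0c5305aa0d630e0002b80c680e270b0500250e5a02ea005c0dd307ed0c8e063b070804ed06820bf50a0605b40dff08cf05af05ac0d6801160d000f310b9f05f50a280dba07890dde065a03ff0559024f05fe021e0c4f0106023d094b04db00d3048c07b705370f3f0e3105da0fc704d60e2402a20f9305240bb20176002e09c302f409ae02e500af03f3032602a80f9a0e3602fd027a084e09ba0f890e7907090d760f3007e3074e009e09ce09a70ecd0b2a0c7a0dd4008b078e048401020906039e03c909480fcf0ea80184097d02380d900efe0e7f0f0d07a201fd038b09cd00c105d307320b280423036d0b5f09400b650b4c097802c109f2025c0d0d0cc004270bc200ee077d06b001ac0ba903a60c0808580bb30d8c0ec0064506f80e5906d60a250b1100dd0a7b0f230d540de50ef40163068301920cc505cb095d0ea9079e006303c7021d0409089100d604f202bf05ab06ee0f7f049a0a8103a40ed50b550bde0d390c970edb07d00a3e0c0e072e0e0602e008950e5d0325093305f2081f00280d910186056905d806a20bf301ab078f006708990a46038d0090082d080c0bc407c9001d0f9801260b9901550ee00a7206760a80099f0003030809850e9101dc044804880468023e08e2092f0f66078a07150af003dd06af05dd06460eb008f30f1505320b00026207cc02c701d70bb704bd0675072a06640d6209d803920c780e1200f300230e50037e03b1000100700eb804d50129023b002d076f066b0c6e039c06d8005e0134072c01c6021901f1050c07850a8c0a610e8f08c50f140e1b0e1607d809e703ae0aa204d9056f013f0d2b0d8905cd013500540bfc002906b8,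
  0xfff0ffe0ffd0ffc0ffb0ffa0ff90ff80ff70ff60ff50ff40ff30ff20ff10ff00fef0fee0fed0fec0feb0fea0fe90fe80fe70fe60fe50fe40fe30fe20fe10fe00fdf0fde0fdd0fdc0ad404920a130d1d0bbc09430cf6076c0b0806f807240780079b0eef0ca00d7a0417055e04bf00e70e5f04040efd099205ba0adf004402330da4001b09e104c90bcd0d3e0f1b0bed065902ec078c09c901d209a50ba00215061e00de0c5a0f0902d700670d8504f90e5107f6049e000208ab0bb609880a4503d80f120f7206ad0ec406a009260a050072085b03ca018500d305ab0f690e2700e50cb003e005bb0a95030c00990e3e017402bb02ed07f10b2f06af03280b8c0c56033708b9000f046907d7077a065c0fcf09b80f2d01c904b206210b4e0425030a0959058907170cd5040501000b2b07eb0b260cd7064e018a0d910cd303040da600b80e730275040c00910a230d4a0dce0b700b9b003c0b650dc30f2c07d802fc0f9e052a067506b206c904a00bbb0ee1084f073d0c1b02ca01e00d9d087709e505a002e80b890cc10e9b08590ac6008202620de0036304ea089a061a02b604df073705030a710b5302f70c5c0677015501730408029c03610d95086b05e2015f04750efc080b0d1103570691090b0d2e0d47086406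a300cf00c40f4f021404b6012102490cac043607b10c07041409240671055505e6048c059f082508e50d97043d02c9090401ec0801092f0d080e3d005c0fb000e40fad0eb101eb057e05190b7c086104e301ac02f10f010c3e0f4007730e030d6503c00a3d01950e6503d20a5507e00a8b033d06df0870067900ee0440030b0be30c4004070d180bd806c2048b07bf0bab06e5083f09fb0242011c0a280c0c070708480b170b7208ac080f045704dd07860c550c4b070c0775024c09e90ab303a802a107c10e5d0dbd0b6105a80b590e710ae000660298058b0c390ed80c800e8a0d660eed0d6d0b360203005a092c08ef03b2039f0d150bca0a92081208c2033400940c9b0c150f3d00130cad08c307b80aec0cf009f2076b08510c61047f01df060a04b30d0c0c710ad80d130ae4032d064908f900430ab106fb081d0d27096805770394080907200b430fbc05e10a34045b0efa0a750306034a03510e5b0aba0c290a000f770cd10c820b0906f2045c0c770cff07040e8008740288062b0970050a0dc40514003e060e0a640a2a02860e7d0fb3084a0b6b00a501ab036704d006100c2f0a96018f003f0cc70e770d0f02ea0deb0f670d4d0366084e0b2507530ae8080708f80bda080a02790ccf054f0b63082c01e80f19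0a030ad009cc00f901610d5f04ef0332030904230ab60fc103d4097d00df093c077d03de07e108fd01d306530a7f081e014507d4099f0e3c0672066305e30e230bfe012c00a70f92049006570fce014703e805ce0150053809ff0d1401e50a6d059901170cef07d6018804650e9701c20fcb0cdc09f300a40ce5009a0c6903f2022303e4051c09470eb9046304de0fd3005803d00c5909df056905c608af0f980ee40e1c00970f26081f0e7e0faa0f91075805b40389021a078203c505da06d10f1c094800b30c7900f60a6903680fc6077f062f063a0c6a0ca306520a5e0d3602dc01ca0d8e076f032308d50e2804c107e508ca0462006e07da09220b0c06370ec50c3001f60e010dea0ae50acc0df60fda0edf09070841045e0a1409e00f7008380a9e0a5101840abb02520d9303ff0ede05540c200e040aea03e3000e088101ed07850eee095e01ff08cb0e1e07cb00d2065a0dbf0c7d0d1a082807ac04c408a501990e4c0c1d0f050fa80e5e0cba0fb10cc40348068001870ec303c707ea0622086d02b008b60aa7048e01760e460da702ab0af101e70b1c077b030d075108840e250eb80df4015a0be10e6204d70bf401930d7f03ea0ecc058e0b1b0d7c0b4b01d502630a530872086702f9091e098c089700f3095101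0e08c5007f06d90fd108ba037508800c8b0b9907a709ac028d0a010b0d054c028202280d72036d0534048d02c20a790fa608ce08bf01d706b10c0a0bd200c0024f0d4e07af0d0b0d0500d802300d9908fa0ba30bbd0ce80c410cf5028f05930cc30192028409100cf809ae06da03380d64095505610c3b01b603e907d10917088d09720f6a02a30b190e4e01080631068505180db50d460bdb06f10d49010a03170b620d6a02d008f106410ac50d8403f803f00ab80ce409280aa10ef20d1709a2037906740474044702c807830da507c607ed02fd020d002a00fc0dd00f2f0aed05e0081606ab0e7506ae05d70f24092309000612015702700fc206070a330eaa0a39017e016904210261022c0477072a057c0d1f0e8407df010105a9093006480f1107280b540019096c06bf0f5e0c32008306a60f530b1204da04e008e308ad00a200e0066a0e4308a40f9b028a09d005e903250118083107b30ce20ac20a76084d0687026f080c07b501ce0200090f0e36001e00ec08da05c00563064d0f800ca403f10d1003a9085d008b0e6f062d0a1d09d10ed7017c05e702a404c80b490106035800780ab403bb01ba044f0f2a0d310dc805a60f38029203ba0e91077e07c90b050eb500e107dc006f02650bf205560f500c09087b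04e80cfc0bb007d50060040e04850db10ed6071d0520017f0c870665021b01910a7c08c00bfa09290481043c09640529026c0ef4063302d20a4b0225005d06680dbb0f860bef0f780bb309f103a5047905d00c7b0a06037e02ae0e2007b40f5607e40b4a090809380839096609310574094c0c8604a404d9089309e6041907ef007a05d3081504320e3a06aa03590d6e0b6d00cb0e9d050707030cdd02670ec90224043f07fc08d7089b02c10ce70cde0ec80bd900a90ce901cd0da80d5d08e907e80732073301ee07dd08f6059e02640ef904fc0934082d076801cb05d2049d07bd0f8b09d500560526036c016a0149033c046e0356095a031e0a5b0fd00e6e0f1802aa0181093f0aa90a480bd608be0b680a10026a0ad2009606a2029301430d280fa30cf40b480e560c9a08b0064606f7022602a009840d4c05320eb70500000a0c380be00d5501790bc30edb0bc70cab07700eea0ac9073603550af700790ddb045000080e860ea80e1d04e10b32034e091604f305db0eb0040a05680bc50cb40aee093b047e05420d9009c50092065b0c6c031f081401a70d0201a30833025908bb08df016b0a990bbf00f10535053a0b6a040b0f2109a10de1091208b2010f0f340448091f0fa50f4605940601022e0b410461073902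4000b9084909990e3f0a0406950759086a0a7d002906000aff06ee01c308e4098608630660012b090201a2045a062702060b79008a049a0311082900e8048f0a09075e054b0e3b09fe0bb80747080d0bd50e40098e0ed90cd20ed500bf03f70d960a5702c30af00960093d01820c2509a305160ada0e1602de065509090f8207f20528040d0b600e09044a08780b550a7b074107fa0d5405ef0d4204ce0dc7034205be0709076e06c103a0037605fd01f304a800f4093e0bb50280025700fd0cc60d26006c022105ac020c05cf064f067f092007fe04640f0e0c47055204b50021070200460d240c450e4b0d6c0c5f05c30aa80cd801d4044202fb0ddc00be0f510ae602b702d10afb0b4f06b30e9304090b44007d07990980098309da09930ba807050bee0e330fbb06e906320f8c0941063e013d0db8068808c10de40c51081707e9093a006d0a8801b302be0b1609f90312001f01c60026032409bb027a0edd0e4d0fa90ab706ed04290b9d03ac0175043e09a6094509ca09dc0d2d0a740b7e089c010406620b7608ae0f2b0ee70424072f0d9f02bc04990ceb07e70f6608620bf608d20e480c8900b10dfc08ed098d0ad108dd03ab09250c95061c05b308350d3505f3060c0b8d0d2a0f83091404ed0dda065d0f840347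0f9f06a802cf051b07f50c3d058f080e086004ad076d0a1b0a3e0da306eb0506014c0dd80c420e600cce0eba055f0962004f0be902470ad30f0f0bfb019c06960399026d09ab066f00690e9001b00e98071003ae052503330722022f097f0065041a056201a60ee20b180abc054e0e64079c033f04a608c603160bdc0f740cf70b20035f03bf04c60e1209370b2404e9056409490e9c0b64045d05f2059b0e520b800a2f0a9b09bc087a0a24094d06ac0a2209f409a806bb0a1709210f170c440c7f0218039a0b8e02020d9a065107810aca0dc20b3d0bae07160e0b0dd90bc00fd503700cbc0205076903a20a200bb7083b04430ea7023f0a0c0f81000c03c30698052c0fbe09c405c80a580a590020039b05d403bc0819039e0b9a0156052d0ee0074309850d030aad02120ccb0cb80386050e0823049c0ba2037f0f7908710bf903740c4e086609cf0505061f040203d506e702b50a70091b000b0a5003c405a50146013007db03db02e40a8402bd09f70abe0fa70b6e0045071e03cf07ff0d7b09aa0a820a770af40e4707f40886039501d90c11038105b2068b0fae071b02780ccc069703540bf00be500550cbb0b00019d08f405bd0c2704830fd9038a0af20d50009c0a38035e069400ca0a4a05ca06b40b670aa200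fb05830b5c0d3205b70683095c0fa20c520f650913022009150e9a085509be012800b70a1f0e3804490f7f0268009f041e04b801bb0aa403390c4f0ebd024e052406b008ee0aae078a0546039608ea00eb01ef012e01980933090101230f0003a1072702cc0ebb0c48061304340baf069d0e8e058109560a25032f0a1c0c960cec02cd0658078900d70d6708d80f4a0ed20b340ac003b60d0001770f6808200b980c6d03b9042b0172075703d106e0042204d103c6013707ad0d3401c1057b0bc20c230d760a3001fa01e2058a0692053b0ced0e190bc803880afe07c407480234011b0dd701f000ef009d0f0a0f760f9004730c9303e2012a0723008606f40dfb058c0f1006fa0b2c044608b7029703520cd007190c490b7b031a094004f5082a099009f6007707cd014b0a3c0c8f0caa088a07f7000d0a73024a0d3904ee0ed4025c0d2305730f0b005703000a6101aa038e03dc0c140c72023902e002770a5c0fb70e74047602830c2805de090e01c4014809db07ba023208960285035b08aa030806ef07c5038d0795050f09030d1e0341063f0b1a0e500327038f0df00ead05310eab0906022b07cf04bb04f002310e0e0ab2028e0b510c8d0634031c0b4601a008cf01fb0d5101fc0b31075a06260e87051f07300fc7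05e502cb0add0813045209b908d0056706440d5b088c037d030504780df908ff06de0fab0db7004a09910a16010706050e35083402b90c080e2a0b8b00ed06810d0e00f007f808f20654042e0afa09b20acd0d7104be0a2103f90c2e0c730fbd01030d290dd302b1011202360f1e00400dc905f705c20dff08470ef6068e074602dd098f057801bf0b77063b0d6b0c83086c00fe0fb60f6008b80a6e046d0ac40b07073f09e70ea908820e4a0df104e60fc9044d0db00427052f05b804860054032e0b860fbf004901090364012009820b100827079f017003af0d2c011601650c0400100e4f0b2904150114053d0fca07e203400bcf047b032c075f0e1a02a80e0d062a01d00da903aa0c430c3503650a6b08210e39035a09cd0e96011f0a54077400ea0115073c04060e020d58089503fb09790d210e6908fe085e07790209088e05f60dbc08050cbd05df0401021606020a6a061d07aa0f3a0b9f05cc0d3d01a50ebf02740a97099b09950166013b030f058409730a62042a07b00aa60eca0a7a03ef0ad706d6000600ac0208008502580dae06e108880f89023e00840dca00d509870adb0e130d6f072e0994078d0b570a4e02e5074d04fe0da207760dfa03a6080007ca09690dd40f940d0d056b0c3f05fe025f0e6b0c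9006110a270603084b015d05760d750c990e170144021f018b09c703b10e320d700011051003260c500a6f03690842003305aa0e7005cb08100b820d7706f3008702ef003b0978074b01580b4c0f8f01d10cc80f3b0ad50036088301bc01f70b3a0731067c0e7b004d06d704f80d250b3b07ce081b01de04ac0c7a06cc078f0aef056e02fa08e10aaf00300cc204dc018c00250290074c0fc5004709ed0061043a0d5c06c708570711096101e106e200700bc107380726034508080b8501d6033a09cb020e0ce10e830da00fb404390ebc0a9109b005ae011e0b7f02e10e2b06d00c030385016d029e08d40f2e0a3603d9013f01a1029f0d74055106db0fb2073b0a2e01130349074f0e680f7c07cc0ea40f3e0de809de0f3c0d9402560557018000d60c1f006a0cea069f0684045f0f620d450a9d04540cbe06ca03a70db60f73073a0f7a01cc0ab508a300980f6b0aaa0d5e0bfd0b840da100c20ec101970c020e8f07140e890a56046c04c3059502a209b3046008910c0b095f055b0a6c04d601360af9097104cb08d904000b3906170f070afd09fa05c5087d03c208300e540b4002fe031b065e00ba0d2f01cf0670000904aa02950712049308bc065f02370c13029607a601900a8a08cc02bf07490fcd0650067d04e7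08f50aeb09af0efe0ade0b56053f007b09570c2d0151038c082e0a410000039005ff01620ba409f00a4d0754011a035c02500a4207000f0c0dc6078802ad08560a4003c90a680c850b1d02810d4807c303fa027c0af50f320d9b0f960ef00dc00c3401c006990e1b02410f7b0f4108dc0d3b08360f8a0ecf01f9073e0e2903cd08de0d5204a10b0f0c18034c03b509c3022a0ae70e1f05c70609056d03eb0e1107d2002706c30fc000dd05330320071c01f4064a03150b7408f70504033605ad0acf09320e530bcc0f5503870f5b02480e6c0f040064025a07a401260b4d03210e8801220e4207ae0f5a00b2074509c808760d590c62008f03fd0c1c055a05600dba08060ef70c19096b023b020a04b70418054500ce03bd06dd0a8e04f20fb90f970d53075b0c060e450a5d047c08f0008c0f020f9505f80189056c0f360071061906cf0041059d04ff01fd068c02f00b6f05ed0dbe098904fb084002f2019a08fb091a0643052b0b450d62050b047a002b03ce0996002209d60398046a02e307fd089f005f074a0b33039d0a8905a3033b053005900af3050104d8013903780c70097c038b054107180a7e03430a8d04280c9f032904b90c94041d03310e6d091d0c600f5f0f4c05f5019f00e30b6606ea01b10d43003d04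a3097405120ce00d1c0def0d6302ff0171062c06150131026909ad0846021c0bf10ba500040af60d3f05c9086e06450eff0b2709a0013e043108790ed106a503b40016078b08a80f7506dc07610bec07e3020f02e60667004e00f20cdb00d003dd03d6043b0e7807a5099d0e6104ae04a500dc0d3a026b0c0e0c5802f30c330ddd0a020656038408e80ef10a0e0ca805a10a0a07e60b3e0f9c05b9075d0e8102ee044b045302c6003404d2010c030106a70d800ece0502077c01ad0cb906200391087509970c000abf0e34049f07c809420d880ef809ef0f29001d0de909390de506c000c103e10d3c0f1408db0e7c03b00f8d0e5a0dcf0c010dec010b029a0cfd0b5f0c2b0bb20b9e05a204ab09e30fa409d2037c01630d600e0c037106ff0b020ee302df03f40b14005b0b71094a0a1209bf070f02600f4e0080012704410c780faf04e5011d03d7002c03c800f80bb90f030511005207930bc40a2d00370a3703cc086f082f069008e006860e080b0e067601a402990c360936083a031906660d780c31009005370c920d4406e805490ecb046801f20abd046705590b3c04b00ce3097b0f22079a0d610e9209ba0e58058d01f1068f03ee060d0b73027d05660cb2072d069304550fba0a8001330ec0007505d6092700cc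0822004204ec09b70433041c001a089202eb01020b810c210efb08020a1908240673046b00bd003202c70b8a013400590edc0aa3099c0f4300030d8206d30f1f021d0f3306b706b507550f58060f09e20ca60dab02f80fd80cae09c004a70a9c079105970a9f0db208a1027f0b220ab90b23070a0d790a1a0a4f0fd2044408a6058506380cd6087e0c7507be0c2a03f50f8706c5024b04cc09d80e790ad9052e0a60094f03ec09b60a3202d6092e01ae0f490daf070e03140e7a05af097a0e440790015200880b5d0c6b0c9d09e408b10858063c09350a2c07a806c403e709a700ad098102f502c004cf01a80e0a051e0d9c0bf70894039200a1089d0ce609440d8f04970a1e0cb502c5091905700c240df305a400170b0307670a110cca0a470d1603b70cbf09eb00b50aac0ea508fc07d306a902b20ea2031809bd07a20b1e0ae908e70d81096a08d30e100a6304cd078707290521002e069c0d690039022205d508b504c20f2703530227019e07940d9e03830bcb063d0f590d0904af0f630a070ea307640f4509fc018602da0614064b0f280d33023c0640009500a8023d062405d8011001b9000701420105028904370e660cc000c6013a00e2032a0a0f05b10cfe09d700ae0c570b960e3101e90be8097508a20d3702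100b30079e081c00230f5c0579081103a3010d0e0f083c04960e2e0e21085203fc0bad0c370e5c0cf108cd0c6402e905220d0a04d309b5029404980ee907130035023a0ab001db07bb07c20e6a017a0cda084503f30ac1090a007304a204e403720e8202a703d305440213068904f7002d0f06048a091c046f0f4d03ed09110e150211001508c80caf0c840d41077705b506e30aa00d120a810c0f00da0c9e084303a40d400089066c0f3f0ca707980d6801b80246020b079206470018027b00d106d20d9209180f5408850410060b02ce02d4094e041300b4081a0d8b0c6e027e085a04c707660cb706be0586053c0bfc0c460f85019b0f390d9806e601f803970daa01960afc008d0f2009760a650cb607f00dcc0124014d060408a9095405cd068205fc0b3f05eb0a830de3024307630e22064c07010132016f0dc509fd072107ee040f00bb0adc0db4055300e600c3029d09500bd30d8604ca0e5506a4003a08d6073405d904fd0dd209d90160067b01be0b910baa0dcb07de00cd0a5f0f4400c70aab034f0a7806c8053e014a054a0fa00fcc08c909a404710344001c052301af04300b830750076008b40c8e0e370cc50dc101b40c760c1204660b0b0844025b0b38067807d901b50eaf059c0f93036207440f52071a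048701ea07a903cb0bb408500e140f35056a07b70b060e670c540287042c06ba028c0dfd0e9f00f503be0bf808650e8b045804db0c100451098b0b5805b603f601350d040f9d0b13014002070e180bb105c101b2033e055d0c05066d0e8d0acb095d0a8600680c1a04a90dfe062806d80ea002ba037a03770f4206cb00050c4c01e3002f0582090c07b2030306f00201036a08730c3c0b0104bd0f8e0f6e0f370fc406bd08ec0a44049b030e07840fd40bf300240e95041100010a0d05800b9400a60c4d0ec20e070bea06fd0a8508c70cc90f6c041f04bc0f5702e70ca10cee0be60c98094b0ec70df20fac0c1706bc07f9066b042d0fb801640eeb016706d402a5039301bd02380dee054d03100b7d05f10dd601530c1e04260f710c3a048807bc05e801dd06390f2500280ec60fc80a260d7d0ef50ddf005e069e028b03b80706027204ba00760c6502760bdd096f0b9504c008d106b90be204590e76079609ea09a9057f09ee0f0d0031092d0c8a0a520a0b0e630a290db9085c0ae20eb4068d0ae10d8d0ad6061605980a98056f092a0d7305360e2408a7066106230508099a08180aa5004c0f080e30012d0f4804b40b420138034609520ba10a9a0b280f4b0cf30f9a0a350de70244096d0b150ccd0f7d051a059203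500b9c07b6092b01c709ce0bf502ac0f300b04009b025e0eb20062079d02530a1502510be40bde02540c9c02d300db00d907d0036e0596031d02af09c2067e01c509c60c810a49034d0f990e2c0e850bd1086805b00d010c4a0b750f130a080de60b1f044e06f6072b08c404d50762049505f00307085407400e990b5a045609dd060806fe0d560b930dd505dd0d4b02db0f5d0946009e00ab05910f1601830ca9075c017b0df80d0701dc0bdf0bc9035d069b0bbe067a0b210a3a0dcd02d8042f029b0dac00510b8806f508eb0547022d05ea03c107780bac089e04f606640bd40d0604eb07a3001409580470007e00af0a900eda032b0dde0a3f0c9706b80c68071500a00d570ea102910f1d06ec057d005002e20b6c09d309ec063002b30eae071f0d8a00b00d1b0ed30e5704120642089007a104350d2006e405fb09b40c660963018d05480ed0062502b80a6607ec00630ef3048000d4096505bc01b705c4015b012f066e04940fc30a5a0e8c0472070b0b350b500c6f04030de2090d0c2c08e607b90998088700b609530c7e05d1026601a90e5904f1084c04d409670e9e096e08a00df7036003fe0b11080407650d870e2605fa08bd03df061b021e06290558083e0e9401e40bc6082604e200c80d8305ec03da0a2b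0168037b0ace0cb106060e0008320c53083d016e0c8803b30ac309f507c0076a0fa10bd7085f0335027105bf0d1907080bce00bc0c740f880eac0beb09e80a8f0c5d00aa075203e504840e2d054004f40f6d023507f30c9100c90c0d01fe095b01e60db306b605650550027300f7034b00530a3101f50cfb0b5e0f1a0cf90ca200a30b9004b10eec0f6f02d90543072c043804450159082b051d0fd7058706180fdb059a00e909c1007c02c405dc0572008e01190899098a097e099e08f30129017807ab0a3b0a8c0f3107a005f40dd1006b01d803e6024504fa075606fc0e410ba60ba9050d07c70a180cf202f6041b0509036f088b062e0b69089806ce0b0a004801c80420087c0b5b015c0c1604910e2f0df502b40cd90ee50e7f0fb50141048202d50d2b0322015e0f7e024d0bd009770cb308370ba70f230772026e038003130e050b2d00740d2207420a940ca50c670ac8087f0ae30515019405a70d5a08690081068a0b470be703ad0af802040b97038205710d3002a906cd06c6044c0d890a6706a102550d7e009301110125069a0e7205f906d509b10f4705ee05170b920eb6074e050c001207250b8f03300636088f0b3705e406f90b2e018e08530a7208b3057a014e0c5b022907350ac7016c07fb0416025d09f80f15070d0a930ee602170ee806350bba0d38003807710ecd08e205390c6305750ebe00fa0bff0b7a05270302014f08030c5e0f61058800ff051303730eb3036b0cdf00c50ded055c0cd40b520b2a0c8c08890d4f0b8709d402190c260ea60f6402f4047d039c01540a460489078e004b09050fd6066902a60cfa017d0e490a4c01da04c50a870c220d8c0e060c7c0dad0797013c0b780a43,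
  0xfff0ffe0ffd0ffc0ffb0ffa0ff90ff80ff70ff60ff50ff40ff30ff20ff10ff00fef0fee0fed0fec0feb0fea0fe90fe80fe70fe60fe50fe40fe30fe20fe10fe00fdf0fde0fdd0fdc08360833059f0de40c4600e00c190bb6074d00f406b1089b011a080d07010a100b3008fc025a0c1d051103bc067900d8087700d406d20d570a540ec8085f0b8302a900cf0ea505ae0c9909e102d1073d0e5802e103ea06e00b4907220ed504a7025506c30b34023e0e2c05f507240c610c800bd70458052c07ab05c70266072b07640c4709c406ed089d0211091f036504950c5705ce02820c1301e004aa0cd207c90d0e08220ddc08ba086e0c410f850c04095b051b00ca05240176072109d50aa20e0e005b07950f9c0be906a40388012301510ab30b5b07c108610ef103cb00410f8d08f0098f0e320e44010102e501f604b20e41083901dd0e1609c105250953040a031f070b0b5c08f605140f020b6d09da052b030802fe031b06a0023604180f2409e4025f05630da60e7a055c00cc0d860c080b0b0e8e01c10399013508200e5b0a880d0507680fcc001f037008e10f92078c060c0fb80ae20d6b0b8205f90bd40080085d039e0da40b2e082b08620e6f07cf0ae703f007f80387053e00ec0e7e0bc4009808630ada092605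700a990da8088c0881038208be0c100f2808d3011200ed01f206a6015505cb089300740bef06d60f1d0f6206340309026008d000d702b40d98048003ef066201d6016b0f1606b20aee026d06130def066908da0fa5031a0e9d0b840b2708b003960a180999095109a20b010397048a02fa0bc30bd9086f070703c603950bdd0fd909070ed7013b07ca0d170304067c0cba0f230d5c008d0a860a20035700060efd0eac07390dbc0a7807a401af01e10bcb0dd60d2408bf0d7005a603c50b4a03370a0d02a20b4b07b603330c7d0888090904310ba1033f0e670fab0f9b04f70b800ef60be00d7d02b70a1a00670726090603a900e60e1b0b2c023f080705bb0218028b0a340a9e0ede0ab9037507280e0104a600a0004b02930f6609bb047f00a70f7d07c304bb0bc20ad8097c02d0069401ad07c409840f79053303d30ae4001201db028809ff0334007b01aa05f8076908a40aa70d63079b0e610a7f09500d600a090d840ea80a7a0a530571018908670cad05b505830c3b0bfd039d0c310eeb0ca20c290fa40aaf091b09710f2507840d10061f08d507f906a805a3023d0e870f2e0b9e06e4037306890ccb01720576047d0026018b045b0ba6052d021a06980757038c0ebe01da0aab09f10cb9065f00a90de8083c0f4d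00880047078806b4015e0e06040c02960c9502b006d005fe00890147029906530cef00b604ed03170b350463085a08b20e190196070807f100f70bc10cb60dec0b0908c80785080807d40a43077804d40bac017d00850c49088201a9079909cf049d01e308890b630994090006e5021206470afc0b3c0bb4098603d20a2d0a7c0b6606b30f9509c00802093c07130eb20d720df003ee0c78049803000790096601840c8e095c083a05500a280f0602dc06e30ef008c0067008af018e0c8400900d040646088305c80ad90e46063f0457095d0105028f097e09af0f07043c0bde0c680c330a40009b0f7b0c6c01bb0063071205bd0032025c016901c0052805460f5006280b900c650d9e005401280adf074305840db408f9047b07960f8703920d9309a8048f0e1e0a4d05300f820ba40c2302be07b40e340cb501930dd0021b0bab01df036f09ed0e860b390ee405ee0f0a0878074208550d4e0a1400a803e5095e0cbc0f86028408c408b401ae01ed0bb204bc077f071f01cd0ec70bbd0fda0f5d06f9090c07f60329074a03a8036c0ac304280c6a01040f0302300887013600200ca100d3074109790cf60ce00a960d5409b5097f0abc07a00b310ce605050cfe0a250a97063303f5025b0da10516046705910e95097b0e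910f3008dd04a40cb10dfa0c770a3207730168057a0e7f04940501038e0a620d7607d10f810e4e09df0a68030503fe07f7086c075a03e9049e0d3206580c030d1b0d8a06e70a8d092e097203f303d0039f079401a40cc709b20cce05dc0f2b049103ac00e704250643068e037b06360d23059b09f308470158055b014d02ce00d509920fca065201410aae0b5e06860690004d0f140a1f070d0b0806fb0a2c0ef30247073c0d2706de066e0b9901ee0749033a06f8011b0a5008170d2001710d350711059d021305d9007e078f0102049908b705d60eaa0a660f8a088a06ce002f022a0183063e0e4b035b0980087e07e5020e0430081e07040baa0c170d2b091902d606c80df90e470b2100f90b560fc40ca70b6a00970c5d04a30f3a0609099b04e30977003100f80bda033005be060205c3061106300ab20acf0c0e0b4709fd01b606b00a16070f0d4d05eb05d000d003d804470118042e0ebb032a06a90ca402e4058700b205e80b97069102ac0ee10c11030306c00932030d090f04df085b014f0b040f880cdb0a7404d2029a028604b60b2d0ef90bfc020300280156071c09ce03e10100054f0ec50f260fcb03190bdb0e510db60cdc0ed107df0b320a940e14079e0d740f320d2c0fc1060103690c1803bb0b5f041f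0a03096303790dda00ea088d0650026a05ca08a80c7e04510b050f8402140c200d340cb407f20fb30b85037a09210c2f0fa80d580c820c60051f02250af305690b0e02e90a1301f00df70a9d073b093106bb069604e201b202c800ba01910a5c0c2d0b4e0f480758048b0bbe079c054e07c2053a05b601dc09be0c34051807480a3a0d79012c0d260e1d0c27019000100311026f04c6048205e50627047502d70cd60443084208d8068c078a08920c8c08db0a0c07d60e7105b30c3807fa0f540e3702d30b0a0a00086a00f10b720853040703450c9e039a02f50a6402c30c1404a20fad0d16069b08370a690e930ab70b290bfa025d04460c8a0c6b0c3c076d04b108160094044c05480db10b4508040d0f01800a480ad2086003af0177066c0fd50454044006a707b30e5a0301008a08bd01620e0802f306a303cf05e20f5808a300c403fd0316074b0ba900c700550bee02100b7509cd0dbf0cd00db50cc10564002c0e5e0c670e6801e90435010e082504db05320eb90de704fe02270e70038902a50a5609f00a2a0d1f02950da20a17084a0170020c073707ae037107bc01b40c8109400f8b0d3e08180b70010b07f30d9005530328010601480a67015704c50b5d0c4d08950d3705e106650f370b920363077a01e40f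af08aa03b0087605310f53006a051e05b7035e0bf6016d0c3d0e770e810ca807400e6c07ba0e040fc80dcc072a08cd02970b6209480a790b6501150f1807a60dc4019707a504e4023a02b302e00dd402c7043f04ab0a4b08c2059c03a304590a6a010f0c64092c0e4d01d204b306fc09a700b00c010347099c09ee0ce90838046e0e0900680a5f0b0c081d097a0ef7099f060804020cf70b2302090b1f061c07e0042002ef0c7502750639052708f20a4a04cc0ab80c9a0f4b06e808ae05380dae007605f1034109f60bcf0688006106aa06410c5405540ba7052a0289011f086506b608800dfd0dce0537008b028d02440d4506a20598023b077e05130db90e430ac9019b061a05b1000703b701030ef201200d3007250d430f8e0bce05c20edb0879079d0be400e4012409880ea004f1084507e809e00d2f0ab602c501850c02071b07ef095808a100bd04640f7301ab0aa90cee0fa2013804dd0002067e09c604f808fb08350d5205950bb1060f0bc70e8f0e76043a04770361052206770db3017f0bea02940d3b0e520dac0ad1065509b904840ae9000401d300400ece09dc0d010215051c080b03a708000aec06310fc3056c0cf30fbe02c90a8e018701490e65002d062001a005570e2a014e09690c9c06ec059400b8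09450996076e0f210c970a12058b0e6d04ff0f3503800c5c0eda0c0b0b78022b077506400ddd0c5603c807700b140bff04cf00010b790a920d390fd6095202dd002b016e007201070744046a092b00130d9701ec06c10bec06970f1905400dbe07350fb107eb055602200ba0087a0b400479079708ed0c9d0a650b4c05e30bf405450a1904880c3e016706fd02b90fba0a0f010a0d6409d709a300e9078d0257050f084805fd09ef05740d6a060409b10626063d0c15028a0e92067808ad00a40a9f072007be01c707670f360de9072f00ee054b037c016c03f104e103c40e18041e0b4102b101250c9b01980bf30bbb0a010e4000be0ad306df00580b7103c3041605960a910864028e006401bf06d80e62076205600a37067101f1063c0f9705a907ea02ad0449005c015b0ce807fc0dab0a5a0d2d090b027803ff0b8a08d101780a9a0f9009d60d000f4709290d5d07870d07091206bd047204c208850c9f08e605da00920fbd0d670fd80060009505f00f0f0d830bae0f13007704f3098a0d7b00b401270bc603930aa3087004690cf4007d04f40759095a07b5020202a8093306db00de07f00a4106ae01750df204130287021701be067f063b062a0c760ae500c9084609650372001504a901fb0961022c0d25088604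f502700c45023707dd00160e8405390afa04be0c960ec10b6f0f1a05a805e6027204e0054907b105df07b90f050bdc0d280a900c8500ce00c503cc08a20cae0e6009430283036d0cfa0f4e0b6c09fb05210b64032f09180ba205dd0d9105de03e805a50c6e0e56007a03f608ac000a0c830a81018800440e8d0c0501c509760e850908066d0944051201d0087f0d6e05f302f203b1024d0a6d076b0f9600790f63069a09f2067206ee067301a108d20c09038a0aca0ecf067503f205730c630df80f3d0e27021e02f401d105ec08910bf10e3d0de504c40da906670841093a01290d77072307e204f003fb01fc08d900a609b40eae02770ade019a0f5207e30ec30b48056e08e703cd05b202e2059a02c4099e044100fd026b0cf905cd0ec6060009eb08f7074f0f27032604ce0f4000f5000e04c3048106800cc40abe0c39057508b30e9c05a0090401c30a6008b807d008a700bf05990a5900a10b580e5409cb047e065904fa06b7089e053c0c7f09d2044d096e02730eb1000c018f0be508a60e22007c0b81041102f80e8a03830b5202c00b93081c0fd40e720c260d990cfd087c0f8c097501130ddf059001340589054d00810c790b860f5b051d05b00ca00987001801f309ec00d209ba070c08eb00490ed9073009e6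00240239004e0a1109a0078103ae03f40dc0049b0832037d047802c207da0dfc001104ee07ec0649060a055a09b6037e03740621029e07720755096808ec033e08e20e3002670a9b02bd0a890c5002ed002e06d30c91029b0dbb089f0d750656016a004c0aa001990e3807ad0a21083d0937035f0ecb04170e8009c20a520f0c0c7b085c021d0c72050905920c53006b0ed005ff086d02de0456005d0d440320052f05350c3a08f3080909d1050e0ae109470de10c6f0e4f06640b5a02400af203ab04dc0b3b04d00b160ca603130e5007710d680bf80a230cd80e1509e7003c04960f4a0fb40d0a00620274025305850f7803a00814025607a20985013307e90f0e0be303db01c90a5b00c206420c510f890a49065700840ae607a10f5f017305970a840d400a240b4f06b508c703ca0aaa0cbf0400015d045f0b7e0be20f4c04c1034d059e062901c40d030a2b06100f5c056b0bd001400ee007860a830ae00ccd0e020f490b1d076307bf0f5a079802bb06a10248097400870caf0b8e081f01630aad017c034e0f9402580a360ba5058002410663074c0f330a720de60e9e040e0b8d08540b7b0d8e017e058109550f4506ff06f306f1009101300c2c017404a008ff031007e10eef0c0c040d0d96024f006f0bb7094a07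b0092408c60e5c085807600b6806ba0e7400af05170a3e04c70a550f3b01a6014c08f10774008f0c520b9a034f0cb80cc301f4014208240250073a0ce4064e05ea03600644048506fe00a2009f062201220ba30ac000e303e70f9d0edd04e906f003d109950056041906850960018c0e8c00fe08e90a390c5903de0f1006b908e306cc01940afd09b30de200660b510b670899040f0b590ea60ac808a507c00f9f03b40c060bb50bb00ed60324056d068106e1095f0af007d3089a000d0fbb015f0f56046504ad0d2a0cbe0427002a032c0925093009a406cd069e0ea10d4f08c1041c02d4082a0b2403a5021600220c880f2c0731020a042d044e0c7c009308d4063505060e9a071e0f770a3808fe094d02220ee803860eea0448045e0e830d7a058206eb02910bd107170a4e07cc07100ac102790efe05ed084305b9024c01090a710bb80e17096b0baf049c0f72009d036a04260c8f080304710b1804870aa10e820f3101b10254017a0fa60207030a003e062f06f502c60c1601d70f6f061d0cc9046c01cb0ec0072c0dc107060c4202a304ea016f0f6102a40d080e3303e205fc03150bad0436074505cf0bb30b2501e800fa04ae092302240c550ab40c0a081a00050a5102510bbc09bd0fac0e2d0f34097802e70b9d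041206da0b370fa30b9109ca06be066608bb047c083408120e4900dc0e96066107ce0f6d037f0fb705bf089803060552012d09810bf70cb709fe0dba075f05cc0d6f04da090a0e2802630d9f0c9301820c6203b503c10d8c081306380a7e003b0fc70daa096f0a870cc600dd0d880bd50f29070a00b50dee0b1309ad03d40bca01520a050c1b0a3b0ee20f710f440021092d0eb702ab0ee309b00186067b08c504740568005a0b4d03230d490844061e00da052002fc0c6905ac031407aa03b603c901ac0e240adb0fa70bd30f1f02690d2e0321008e046606b8085209d4052e0a0601e2035801c8034400cb0e2000f00a3d0e230df5014b0eed03dd066a040409cc0bcd03d70be106ea04330335082e01eb022d02450c2503c00dc70a0e0715084e0034038508a900c108d607e40078035001650e480f460b28007f0e9409f4041b05770dc50e6600960bbf0780068704100da00f080d13080c0cff0d850dd7020b093f0d56013f0e2f0b57004f0d3a02e80ead00a502080c000e1a060b0cf00cca005e0af80d9c0be70394083109f901310d610d0c0a6e083b047606fa0a4702a10989046806ca06af05b4011706d40e1f0dd90efa03fc001e0b1c0ac202db09ea075c04b50d4208b609a90dd502df0ab50f9905d703560c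d7054c0801039b084b09590c9202cc06c201a50ab00f7509730fd70aa50b4203ed015007c609140e5309fa030f02a005ef0c8b0b020e120d3d0f590daf0dd3083f0bdf0bb90d80033b08e5090d0b61026e0f2f078b091c05720b6003b20d3c057f067a0abf04080dc2029009e809c50ed40bf004ca0e1300b7034c00430f200617062407db054a08e402310b7a08e806ad019c0afb05a704fd00b103070057033802610b960da303b80d6c05c50e03058c071d0851039c02f7004a096d02b607890384077608660a4f012b0b9c0cf10f090ed309aa0f390b760d5e0c37093601450d11050c0e4209d00af7001b08f8000307d9093e067d0d470d59073f0d9503ce04220b9505620529038b0eaf05b80b9b0cbd0ee50cd10bf50a770ca9068404520f1202230a8f066b0461089605f40aff01f90f510f0b06370a1b02ba013a0534048605d30aed0b55001a0cf501b702e6041d01110205053d01ce0b74091d0b1e064c07f402fd06d700cd098d064503f90f7003c705440d290a0801ba0f0d0b43080a0515013c0e750a75069304440d46099305a2024305f603ad07ac05610b7703390195011e05fb0252065b058e093d06bf0a6f054704ac062e09f804d50fb90eb405f2046d036b01f7092f039807500039082f091107fb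032b08970a3302b2044200c0045003620030051a06c6073208cc05db05f705550ae80e730f43094f08dc0ab100ef08110b0f04210f6001b308490acd0e070c8d0cd90a6b08ee0ebf0f83005001920401023c09de065c084d0cc50fc909420b54001c0510090e075208590b690b3a0e980eff0ad404e505e7043b0fd3028000b90f6a0f68049306c902cf082d0489096a0db80c6d0b7f0c220b890c2a068a0f0405c60462040b066f004601de0ac60008011402920a0b055809c90dea065a015307820d3804e80fcd03aa0a2703a601100d1c04c80b1b09490bfb045507a9045d038d064b00820221050b060709340381048e02b80990067602cb09ab093503910cdf02590b0002460d1d020d0d4c05bc0cd3027d03670a8c0fae0d9b03460868000f03e4015a089400fc0e3b0d69003a04fc03310b3f01b9031c0efb0ebc08190f6c013909170872065e061b04b90e5703b307bb06cb0d8209050f1b0ae306d50e6a07c702a70eb6019f00270ce20cc805af02d90b9f00710705027a038f0cd402040126056a0d6206e906e201a20cfc0a420322004803640682065405590017094b01b50b060f6e04060bc50460035c0faa06740445006c07190eb0019e0ddb07e60e5d01ef015909f50ee9078e0e3a070208ef0de302f10e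ba0dff0c8705c407a70c3208b5077703dc0ad60b6b00090b2f0e63065d0ea30a630f9e06510b150a440cdd05d20e4c0823033c0b3303e30fb0066804530a4c0d330dc6095406cf0cfb04ba05d10af901d406ab077b0aa8048d0d6d00510aac0a7d043e000b044a00df07d201e608ab0ed2043703420afe0473022f053b086907dc0f80032d08150c9001460e5900590840093806a504e609e5061205aa0e0a0541039008290e290536035405fa0d180a980c280aea0fa905d4044f03e6061808f50956014a03a2081b092809150e900d81075b0e1c0a1e0ef800e5050a02ff09db03510f6706ac074607de03760f000ad70a8a0e3c0b3609bc03c204c90fd109c7092204900f3808ea01ca09130d550f740f3f02da09fc02280ea406c7061508df0dd80e6409b70ed808560ebd0414064807d80c4f0b460caa05c90cd50f170765079a099d068f02640c4003ec08fa024900d90e9b0efc0cb0047a008c035d055e04eb090203250fcf027b0fb20ee6031d08ca012a0fb50a07053f015400f2027c0ba80d780bf20434072e0c8904f608750a1c0b8f05510bed0c43016607560d5a0fc60c0f06e604cb0e69026c094e013d024e0d21049704d1048c04bf05ba0ac4045c073309640405092a098e0c5a0d870ce706bc0fdb069c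075e0b500036069f0c4401080a950ce10ec40da708b1058f098b0a930b7d0c73070e0c4b042c01320f7f0eec09c300d606320d7300c3089c07fe074706d90b7c09d80c4a00b309bf033604290a3104e70c1e06050070084c012e0bd201d500f303480ded0d0d057d0b8c0d8900bc08840eab0a820a5e0ecc090100eb033203d60343011d0e8b04230b3e0c940b22060d001d049f04b4009a031e02d50ea20265045a0dcd0c0707c80d7e09a6062d0982011c07030acb00ad09b80c7000ac02ea0c4e0d940e2b0d7101e70dc90fc50ef4075102bc009e024a07cb0dcf0d190de0094101610a020dfb076a02a601a800690e0f055f0eb5064d01b00a15013e0d0b057e050d022e0e2e013707d70bd80e9f00c608bc0b26030208740c58011609d3049204fb084f03400542087d00fb0734021c007304b8086b0c2e024b01810d5308cb0acc094c043207b80b73017b0f9a04c00c2b0a3f0783088f01f5030e0828003703530c1c04240f2a0a9c05e004bd09ae028c023800250ea70b2b01a700a3076f0d120d8d034b055d0cda0827029c05d8091601430d3f0b0d03a4056501fa075401fd009c0c36006509c8081002cd0fd00a260deb07fd0a0a0cc20e3506f20857032e06990dbd00e200830ccf0603062c09910da504830e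5508730a3501640aa609a10aba0f150e110716068d02330fd206250cab07930970035908300dde093b07d50c210234074e0fbc0eee0a4503eb0b190d660d090fa001bc09570b2a0abd0e890dc801fe083e0378031800290f1c0f3c00380939035a0a3c08c9061905a1026805a407920eb803df09980bcc0ce5052309e30a610db00df401790cf803680ad50f420f93080e0f8f04d9087b09ac0042023202aa01a302d2030b0c7107af094606830af50f2d0e7b0f980c4c044b0c480a7006f7041a0f1e059307bd006d06920a2200bb0b20042a0bc9012f03a101b80d920b07077c07ff0a5d0d8f0a300b880e3102ae01cc0ef5021f00990d3608710826080f0f91056602e3025e09a5069506dc0e2108a0050007ed0d6503bf0beb0a040f7a0d480a730d1a091e0c3f0f41027100d10ace005f00000e0b040904d707ee046f0d5f061406ef031208ce0415070004390053088e08fd0ced0df60f7c00ff00190b1a01c20fce09200c5f0ee70df10fbf060e02350ceb0d2209dd0d1e02eb0ca50997072703be075d05c00c7a04ef064a05d50f6b0ac70fa10be60616097d0db20dd1027e0c1a01cf0709049a0160012108b90d4b0366057c02d809f706060014011905040cea0d9a0b170e0c07f50e8808f40f550c5e0b0309e2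0ac50aeb0c3501f80e100cc00f4f050307e705190f6403d507b705ab064f0cbb0d41076c02ec029f04cd0abb0e250a7b0dc30c3001440e7d0a2f0d51034a056703ba071409670bc8028103f80d7f0e3602260d4a0c860f650dad05070cec0718003f085e0be80a460eca0660042b010d0db70bc003f70729085003490f010d8b0cb2018a00e8079f021909030ea90f7605260e000eb3056f043d073e02f00dd200860206072d046b018d0e05063a0add0a5808050a290d060af10355054300db0cb305e90edc03da00aa03770e6b0dca069d0a2e08cf0aa404d8079103bd0df30e26033d0af4057906dd057b0cde06f604b0036e0962020105e4099a020f0b3800350d020f5e0e3f09100b10073800330bd603fa0a8005780b3d00ab0fc202af0c0d098304ec0cac0c98050205ad04d608c30bf904380e0d0e970d9d06f40e6e0b4403520e4a0c1201ea073602fb076101ff0ad008d70075062b0a8b07b20e9909270b1200f60aef04d3098c08900dcb068b0a1d0bfe01d908060f2207c5091a022902b50edf0ec90d5b09d90e5f005206c50bba05880f3e07660d7c0f570c7401bd07cd029d0e450b8b01e50262058d02ee07790ca3027f0fb60e7809e90adc04f9006e00230af60b870dfe042f0d140b6e02ca0753003d027602000d31019d0b1100c8082c01d8032708de0045015c0c5b030c01c60cf204a50e7c03e0088b04f2058605c10a7602f9058a010c0b530c240e3e028500ae06c407a30ce3024204a10b980403082102f6077d0ec20ecd0fc00a6c04af0a8503d905080b940f7e08e006230e79047003b9071a07a80f1102bf02c10f6904b704de096c0a570d1504a800e10c660ccc0d50029806d10c1f0e39,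
  0xfff0ffe0ffd0ffc0ffb0ffa0ff90ff80ff70ff60ff50ff40ff30ff20ff10ff00fef0fee0fed0fec0feb0fea0fe90fe80fe70fe60fe50fe40fe30fe20fe10fe00fdf0fde0fdd0fdc0c9509850c1309dd09cf032509260efc05e90a81040909e200ad098409c40f41076208ce0efe026c015b095c07e8076b083b093b0a0e038d015e0f220d0c098c03a40920020d08bc096e015f043e0a3b086a011e092203210512058505c5088204c604350ca40b03000f06150534027504fb07b603ed0ead06c6015a059c07f809de0cad07010e5a006600aa0e6b061f0d8406e80a6907f6059f06a506a80ad2066d0d170c8109cd02bf0b42054204610ea70541086d0e5302450084064404eb0c2009300c3d0e4601c404b40b70056101740d030eb701ff002b0f3e0ee60f23047d0cb704c40346047c04a20a0b05bf0dca03dc013307ba0dc50df902530f470b2204e4095a0a1a0b530a3e02a70e240943070607e70ee301b308090242047e08f30c6d0de909b00f5c010808270be3058f0cb20fcc049a06510f6e0c7e0d3c0099026a09ab0e7f08da0c080c9f0a01036d0c420dee0f030e7209860045078d09c20a0a08a00ae70cba0bf1055b04a10f6c0fbe0b3d085d01d4072b062c01a20649076704ee047008c80a490c190a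21001c016b0e0c0226004b0b540ca905980e7502d309b800a60cf70125060303fc0f30066103f4007809540fc905e60fd40bc604ad069a0e7103fd042504f905790da8069703470a3900b7093d059e015207680aed045b06a20d0b0f6d0a950d4c0f50095d0e25055a08dc01940948065e08b701a50cae0bc1013d0842058101dc083708f4065c0e760d0e0ebf0682039e03cb00260188007b06c809ef09750b1c0672055f0b1e0a850ece010304a608a30c150a1301be04370f7101ed0e690dd407430d380d340bd7064e0a3c0fa00936042b0ae30401034e0f8307fc04650ae906e203a20a0c0503070b0a1f0ae8009a073002400d9605bd098d0d42048e03c0060e04f30db70a73053103ec0af40a2c01e1070e038202b20db80528096c04a5040404a0081c0c5d0f380a11038b040c0bb5024b080d0cb406bc0ed00f0b03b20c120f2f0ef806810a8607a20dac05fc0f9500e30eb500e807d9030202190dcb0b130495055e0b9205e1019c037f0cc90c470f9803420bea08560df205fe0b670f8004230c2e0ca00ad109890d4704520c7a0365029c0d5d04aa0f780d8f0bde023704f2081e07e5052e03800a2e012400410d5c09e7031a090d098a06cf0367099806ba06600dd20b1d004d0d6a045a07760d1c0b3801fa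060d00370ee10f540a54035f069403e50836062202670c3107b505dc020200c3033e0cb80c1a05cd07830d58058d023a0b2a0746069d0f11044f070705650adc0d3e0863043a0a04021404420cec094e0b1b061e05fd08de04a704880f5e0c4609740958043d0d1108dd0e5608b102be07fa0f3103f300590ae207410f490482096909f308a4016907610cb3088404a4020707c801950ba308780a14015807d0038e0a1b03bc0eb406710e30029f0540034f0a650be8018d0e640f63071a051e03bb07ee0f5f0d75057d0795077404b00999046a0aae05270cd101410cd00e870e910c7209ee0a8f01910b04085c08b302b80b2c08740e6d09c0010909bb0ef30a18030c022b092100db06cc027f0d180a0d00d9051c012d0b160d8b0c070bf305a70e9905b20577058c02f9089606260e45021205d504140d9a079405f402170c0f00f806fa0f93091d03770abc0445033204980bf503f20c430300055302960d6e03400dc40519078006f9077a03c501c60d770283060b00420e2d03f907dd01a708b401b5028202970249037e008107440a4f0e480e3a060c01a007f00e12047a09fa043f03d20641022e042a0cd8048d033102fb0ee40af0062e039c0a630e4d090e037100c403300e96084f033502380e0709c90f3c0c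68007409940eb2008204e809120eb10c4d037a06070d05072a0a8b01840b3601540a76065604f5076c0af10c090c2c070907a608760cfd00b208ea00680e2a06f5025005020da00f8a09a40b3c07b7017501930df40160044d0ecf01470fbd0ee70593000803ef0cfa07250d300c510f7207b806b300df07900b2e0d200a9d01710d07027300400f07028f0aa9070f084a09f105740067087d066405ad0e01054607cb0c6209b30350057c034107020c670c7f023101bc0a460030014d00d508d90b140a4a0d500937069f09ea02d90bc00bc30dbb0db90227092e01ce088f0a6b09730e5c052f014f00930952036303730bfa041c06e40ac907a706ca027e01860f270a200e160f6a024301420e780de20f4204780af70bc20ed90f9a005e068d010e0f0d006a01df056e03f50fa900a503bd05c20e500f350af2096207ae06c705e508cf0c63068609c30fdb096f009d05c004ae01ab0390053a089702700b3406230675049e049b036202cc001307880ba70f8902800ce20f3d01f40ab50bc90e4b0c6c078709cb07190923091c06200db6056d03b5075b0b8b0f4a0c7902f5062906c10d3b0ce305df0c3808a50c980ce90b0e04b603da02690e80027b01e20ab006ea01ba0b0508c2072f0545044302090d0403240526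08aa0d3309950720045900430c220e5b0df807ef03990d7b0f32027d07d40aa20b4b0f7900cd0aa00a8701680c650198053804630055085904540e1c066b0a000e5101ea0d240b2607b902ce0264098b01480abd00c200650c4804200f7b0a8e0bcc03280aa30b8f0e150f150b1505f002b90ebb09f40fd90e730af605490d8700be0529005106b60a3f0d250f360d990b6f007302550a7c01b60955004a028d02630369039507fd0cc20b7c001e0acc05b30d7d0a9f0d9808db0f26064706b40ade011204ca05690e5802c70dcd067401d1026b08650f44071c00b4039b05960e4407c606db0b24090705ce0b570eb009f6020e023500d6041b07fe0aa407e4083400180c1e0bae064b0c7b090a04730efb0050088b0cd20caf0ed80cd30053021e051f0248073a04de06ed08c3029503530e7b03b70262003e02f60902028a0bcb06330480032c03fa08f709910c8205b102410a1d0ddc067f043c06d80559003808c90500074900860aff06c304e3045e08fe079f00bb0e6006730a660c1b07ff014304810c6e026e0738008a02510a310690029200830a270b470a9706ff07de08220bf908440b09093e06a403f8004e007f00a80b4e02c006bb0f750c0604150968077300fa08900a5302a80e540a7a087e01ae05660a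750a030873075a0ab9087f0031009006c206fd033b0bd8005b06660f0e0f57038f09f908390b410b730ace04940c3e03290945048a0b8108ec06a10990086c0f860b4f074f040a08b20f210d15033700f100d30e2906680d2c02660c8b00ea034904fa09ec006b0cfe07590dae05f10e0f0afe007a06b20c2b0a400bdb045d0f5b050c0658024c0ec10e2f0ec40dff06180497079206a60d9b0c180cda0e63093a00ba075605ec0c6102fd097e0150059d0b7a08400ac204ce0c570db20fa804b304d606fc0b990b2902bb06fe021d0770097902230cb00c1107ec0e8d05430c9e0d260d4b083107750eea065b02d707510ea40e9d0f28098201ca053c0eaa0deb070408d103a70bee0a6f0e0801af081302de037b068e0166075f077106110f8c0e4f00ae083d0b4d05760bf705fb08750cbf067906930a38014502200a510b0706d108a801e308b80c250d8101c201180b5e03b6040d05670c7c0717067a0a6c094b0c5a08a90dbd00c1089c07e903810cf507ca07850a6105560bd00c1c0c3f07a10c3b0bf401000cfc05f8091b040804ba021c0b8008300ee5065207a403fb07ce09e30db40c1f061a01630d2e01d504dc046d0c3a0e6f0ec00a5c03dd04b90fd2008f0286023002810c0306630b6608c6001d08230d2a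0b62040e0e9002b309ad09c80add025c020b0ab20ccb00fb0f9100dc05cc0b900dce09b40d4803830aa606aa0711013701320a84024d05c400c9024e098008ee07c10e230b6902590ac301050d5e02ac057f069c03e10cd90f16003902dc0cdf0258089104e6036102c50b250c0a0f5606840eae0fb409fb0ef00ac603600294060109b701a908cd0b86035e07c20e3d07ea0e8c09d305af0366087b0b82024604b80964008503570f140cb90e9e05f60ba4080a0dd60f58036b0da702eb092a07d60dda0eba023c0e7e019009e40fc10d9f0ea10f650f2a0687004603b8057b00210e040b6101550f340c2f03920216037007980a3a0d560b5101ac08bb0bd609130c140de605d70cf209570ec60db501de0b3002760cd5055006e60e39029d07a80a0f0a900fd00750051101270f9b0fd80914061406e9094c09030432019b034d01ef0a2b07ed080505250fd707f90f8809920c7700140d3d0a7005fa001f00fe0fcd0c960f2b08260dab06f204d9054e02000da9044c03d90f090a34052d04510a640ce808d0050b0f48054c085e0a71018f0f3901d2031f00890299066504f00d16014b0887031e0846039f039d066a0268021b08bf0dbf0e33053607cc0c4c0d3906ae09cc0ba80b44045c06dc0e970fbc0c270e360e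4e06a907860f2e0fda0fce082d0ae608e30a5700920b0c0311089901f803090af907600518063a0ec50df70cca074505f202ad0c940fb702aa0e8500bf086f0de70b6d077f08e106430a2403de0c9d009c02ae00b309420ee20fc603ae0f5906d70df609f009000c010eff02cb0cc5012200f4008d0e00028909d90ab1022d03cc0edd07c902900b4905a20f53095e071d009f07da0b790eee00d80fc20b12018e02b40cd70eac050604fe0915043403050f7a02ed0cce05870855056a0a1605ca030d004f0fd5003a04070c750fb10da40fba00d208f00d830c740a9b07e0067604bc05ab06cb093309dc09f50d3501f2064007970d460e37041904260bc8056807820bda02c60343048f09d80bb0068a0956084b0b9503450181031701bf06ab086b0ba907a502d60ed20f4b05c6001a091e00f20a56082a0b46087c0d1e02af006306f4077705580829098108a10966064208a20dfc0df30edf0bf20f370cdb02360597010f024a03540513033a0ae009b20c990fca0a32006f007d017b0b9d0f1702db0a7905ff061d0bb80c5602ff0106099a04bb02600fb809f7001003e90abe0edb000605070d660db00b3e0df1030b036c01560167046e077d0c4e0aaf0ac0081606c40c640de50ebc08df08e20f2904a303a9076a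0aac013907f3097c050e0c8d0d9106d604e505e805e70a440b6a0ccc03b1059901400bc4052a00ec020509a2011103a80de1080e0fac0110014c0b5d0b650cef08eb0a2806d008410ddb05f70d210aca0dad0b60043b073e05d6096a05c80f810b4308f80fb3064f040506ef05700be405d90e06044a006d07df05f909ae0f200db101bb00610c330222030a0e57092c03d30411051b0120031c0d4106dd072c063e08ff0cf30418031b03ca09a008030b7b03740ed608790b0806da00e60acf00b90fc304f60b50047b0ed30e1f06300bce081f04af0aef0a96048b018b0983051a002808ed08e406d90f4509c1072205a30a770b7d006e01aa08330e41060f0e81055c0233005f055d04e208a7063603030ada000d01760539017f08830e79065900010a1c0f4e019705e000bc09d103c208450091024f07dc0b8e0bd10bfb0ea601780def09ce0f9c01510f9007340563089a052200110d590c450dc609d20af503b30a2d0aab0fc50f5104500e400bcf01150440049d091a08600b7e0d68080006f6093f0e67009607350a1507540c400210014e00350dd800ac0a91060409960cea0aa809470dde00e50bdd0627027407bc0a2f0a550400053d03fe012307c305350f600c2a0d020d140fa20e1b015d000c01b000e200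ab01590c9c0183016404e002bc038c09e50cbe0d2208f60a9306f10e6e0aa107550b94063f002d03eb00f606e300b609fc090f00f90dc20d8a06a70b1803330cff05e307210f2c0688017a02f202b00c830c7809870aa705470e13090804cb0d730967037908ab019a02e70d71044b010a08e60e2b0aee0dc10b6c04830ad40afa00540397062d0d270fc4089d06df0eeb0f1a058a01b104c102ab0fcb0de309780ad5015701ad059a0c6f0b5f0b2d033401eb0b1007a007d5056b06570aea09e10b4004f700d700b800af03560b9b031603e00e0e09720d5f0eb3054b0dea042c043008710680069b035a0bbb02980b890485068f07d707f500fc04dd035b0e9b0c5506ee01fd084d0f1e0d2f04db00c6050904da0d060537012b0825078e0c4b060504bf09410be200020dc90c7606920ab403a6025a005202da04710a5f01c00cf40e8a027c036e0e9f02d50d2300d00e0a0f52050a0ae105b90ce40f9901a60b7f0afc0b590b0000a20d850d72059206a307db0d1b08e7011c09bf07a302f80867072e0bb902c903200c5909da0f9200a309e803070cc0079a0ea3063b065a0769062b084e098e0bdc083f08280ba009590895044704d205aa06350ac1087a0e35026501850da209160cbd029e0ec70c9b0f9f068508a6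0b980b5a0c6904ac047403b901460e770b710e3204b104b702a60c0b025b0bef0d010b27018900ce02e5099304d8011d08f90a6009880f8d07930b170f8e0b7806f70ee80b4500290cd600ee0e0d0a4c073c0ef905c104600ef20201032e0e210ac7071805d00b8507360ad70cab0234004909010654078c0a090c9706c50a3d06690ecd0e70073d0ba205a6039a041e03380ab30ac80308025f09190c890be70b910ec30dd300e40208014a0f8b017d0c30099d06830b3700690b5509a60cee0a7b00580f020e3102c10edc02d20ed10aec06e0080c0b2007520d2905a4068902f70a940f3f049f08690eaf033c03640bca016e0f1b00de0bf0018704130f7d096508e00d530910079e084c0516000006e10976052400bd0218081506d204bd0bad01b702e3083505950d4a076d0f1d06de03aa0c6a003f07c50d90053b05b60c8a0e1e01dd0c730f940dfe08c403f105b40a8d04ec0b1a008e05ea0fa609db04ff017c0ad3027a081d0e930e270d5b0d6c052c060203230d3102df071f07cd0f0506090a3503d508c50e550dfd0e6c0acb09c7085f0a9c08770a1e036f0d89057e09710b2b0c17012e041000710b0f031306160fd3089308920efd0c9a007c078f034c0e5f08070c6605ba032d0e1a04df04870864042709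f208700d8d02c3044101e802a0069105b70bd90e140a67022a09290422086e045808f20fad0a5a00ca0ca106990c920f6403a30e980136047205de0703005a05cf062401cb061b0bf60d950ba602b10a2a02880ced029a091706d3001201350d97067e017906550824094404ea03f70f8f0eed0b0a0f9d026d075c088d0f0c08d70bdf062f03e60d0a06f804cc01e50f4305710e110d9300e10766016f0025092d00c80fae035503c402e80ed503590a4d05f30dc30ce60a0604750ef4034a0d940acd00a90cf104280448058e086600770ca60c7104f40753092b0beb09090ab60b630e0901f707f400970f74004c0ec20e610818081b0f250ee00b9f08e501140aa500fd03520d7902d000cb09e9002a09bd01d309af074203a00c10047907840ceb0c54009b0af30f850f820dd001e9042407bf0ae406250c8e08100c360724099707bb0fa5031400f50e8f00340cc80e3f09b6060a0130088a0c0d0e860dbc0c4f09d0063903e807f2023f035c0bbd0dc800230d9d0852082c0d740977016a063d01fe043808d30faf09e002d80277089801d00b2109b107050727038808b5093503ee02e10ea00d19008b0b9c06130934000703e70fa30b310ef5041a074e083a0d28056c0e920e42033609a5005c0f19015306190f7c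05a1032a0d3602930a4308940f5a0b970817049607ab05db0bba07320a890729072609be06ad00750b0101c50327001906d40429031002fe0b060384059107810bec002f02dd03040fab01800f69033f01c70764013b071e000a0634091808be0a990a820a2506b80c6000720f760b0203f606b90dc008320c910efa06c003ab0e47031d02060dfb0ebd0e840de0089f0f660f240e8206500c8807e102c40c870f4000ff0d7e0b1904e10e620b4c00e703ce0170010109040e950d4f03e2082f0b4802a20dfa05da01650737027907720de80b8c0bac000b0f4c0f6b0f6708380d5705480cb101e60393057a06bf0bc705bb07120f18012908ac0a88033904390dbe01070254025701bd0ea503960c3501770f84069803be0b960b23098f0ee90e2c0c4a05c700c0044e015c0c3202f40e4c09b507e60e0b04560d0f09ba077908620239057206d502fa0d8001490c530e0205d307e20d550fb50df50ba108720e05046b05140eb803180faa093202e609d70102073f011703ad013f07400eab0d5104d1057305d8090b0ef6053e0e5205c902ec0c2100f0067c00b50cc10bd204f8090c084901c103780b6e0d8c06450027085305ee00330a740ab70e7c02bd0b3f0fd10a9a092401fc08680e83010401ee0ea907c000f307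be0ef70f040a920baa0d690b7705a004b20ca50f010ded0d7c061c03d60d0805050fa10e8e079c037d08b9052304fc05940e2002f001b8048c0a4b0747018209630a830f62021a0c5f09b90161027203f00600007008540d540116012c0024049202d109490ecb084701210221005603260d70058300b0080400360e940344045f0ca20dd50dc7021f06be0a070bb40ab80c7001e007eb0e74088e0224036a095b042e01c304ab062a089e08850adf071601f50fbb05be0ea200f7054a099f0ecc099e0d490be0067d0c4401a1076e04640bfc0225047609ff017e0c8f0b520dd70fc007a90e7d019601b40508022900dd01a304cd0a620e890aaa0e3e0e5d0d6103ea010d0ad80d32077e04160d82001b035808430cc3033d0d4509fd05f5070c0f3308af0a1903af0bfd02cf0e340a290e4a064c0cc40c860a420a370e220a3002a405200731073b058003750a22074a058408d40bb6055400200ce70dcf0ea809d505e200e005780b3201440ef10f6808fd03bf09050e590ce50d7604c30e170372064d0b5808d2046c067b0b3b04f10d40075807910d7f0d4e0d4302ef069505dd0bab01f104e90b4a0c1d04d403c60fd60c50060801260fb006eb09a909a104a9085008480e3800a4043608fb0748008c053305eb01ec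097d04d0022f007e09280da608b00857097a067806e500cc093104c708140e6600a00d7a08c104cf0b0d01cf0d4d04460d9206f006530bb10c6b04530062078a02e203e4032f01d7092f04210a17013e00940582077b043306af0017063102f10504000906060ad904c80a4708c707130cd405100aeb08f5070a01a80f0a065d03cd055203680c2901340c850953008806ec01c80be909060a41049c05d40005065f0b720f870df0040b07aa0afd023b0c160daf0131011a00ed09380a720e8805b0078908e9096009700a4e0763096d02440b680f5506b70247035d02520489029105d10dd106c909e60e4900eb05ac09a707390d630d780bb70a3604e70b8402a109460cf6003d0bff020a016d0baf094d05ae01f00a7f0032012f0d6d0d640a7d0c800da10cbc0c41070d0c5c06100484026f050f09eb0fa407c40cf903d701d90c8c02780b8a059b0fc80be50f3a0c5e099c0e1d0b3506ce0c280bfe0bb3004708bd067701f9016c0a6e06b507150a520a45046700570c0404680f5d02a30b870d1a08010a580a5b0b1f0e7a08d50d620bbc02a50a260f7f02a90cb60f4d0ba50e9a0521013a01b20a1202ba0e1004490d3f0e4308d80bd4068c081a00600ce10a7e030f0d52094a020c0da505cb038700c70ccf0f1003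9403b00af8085803c80ac403ba0bbe0afb0a98099b03db0e6506370d8809fe01e70e0300040d8e00d407d300480bd50fb9022c0a6d028c0c52066f0ddf04a80888011b00640e19069609bc0f700515072d0406019f0e28025e097b056400d103a50c7d002c0911032b028709d404020eb6031207570c2d053f05d202150477059001a40abf0c5b0e8b03b40ca709ed06210ed4009500e9027101cd02ee00c50a8a0f1f054d09aa0be6050d02fc0ccd01d8016205b50ae5018c02c804c20d6f04d50f7703ac0abb0417071008fa0eb904660ce0085b0c58018a03e306320c020d6503890f4f023d076507b20adb0b64075d09f80c9008200a3302d40d6707000eda01e403850f1c03980d5a01fb003b00800e5e09d6077c012a0c370808038a0ddd0ede0d12000e0db30a1009ac09390dcc01c9082e01b906b10ec906460cbb06cd0d2d07ad03df08fc04c5080f0391066c061208ca078b05a507fb046208110d130f73001600cf0cfb04910589064a028b025d0f1205170de40c3908ad0ad6048607ac0a8c01cc03d80d100fb60fbf07b404550fc70f9e07af0dd9075e08ae0a020d2b04ed0eec07f70b0b0cc707d20cdd088009a3066e04440c260d0d06bd0ac503480b8d0cb50dba088c042d02ea0ed7009e04c0023e089b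01190a5e05bc05a802cd0f610a5d02b7052b028405ef0d9c03d007230199046f005d09df03220f060e3c07bd095103c9085100da0fb206ac06f3020402b601380aba042f03d107e30557010b0bed0886088108d60caa037c002e011307780daa0f46046908c00a5004030ebe043104900a9e049909c5055507330a6a0b6b07960d8603a1079b0532095003ff08ef0b3a041f0044069e02b50889029b0b3301da0e680493083e07c706700e6a07b1058b034b0d00064803860a680da3011f0d9e093c074d0bd30cdc02110b39091f01f60708017206b00c3c0306055105c30a5905860228072801d60d440e180c240aad0457096b0c0e063808060b930b11083c074c0eef0799041d0be1095f0d1f006c03c3074b0ad00fcf07cf07b00f9605750b74003c0f080ca3031906e706fb007603010940013c0c93096105440e9c0f3b0015056207d801db02e90cc6097f08020b5b0a800617094f031505010b8809a802ca00790b9a0a230f7e0b830d370d60019d0b75030e08cb05e40ec80b2800870f00056f00a104d70d3a0c0504b505ed03d408cc0821086100b10b2f0ca806670d1d0cf00f970c23020308e802f3085a023208190cac012804ef0b5605b80dec0662025603c70c34076f0bbf07140c0c0bc509270b760e2e05600f0f0c00068b020f02610a080f2d00ef0c490d6b0e3b0cf806280bb2028e00a7019e09250a480b9e0e2603c107d10530040f02850b5c0cde04c9010c079d01f30f6f054f06a0082b04120eca058803cf051d00030a05035109c60bf80a780f13037608f104d30bcd02e40173009809ca0c8405a907f108ba0fa70192081207b3047f04be02e00d0904fd08b602c202130022071b080b063c,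
  0xfff0ffe0ffd0ffc0ffb0ffa0ff90ff80ff70ff60ff50ff40ff30ff20ff10ff00fef0fee0fed0fec0feb0fea0fe90fe80fe70fe60fe50fe40fe30fe20fe10fe00fdf0fde0fdd0fdc04f607dc02a20c6e05ad06cd01dd082d06b506e00d9b03ee07a000e909a80b8f03570c1103cb076d06720a81082b082e029c03bb0e7c0e4300c008df0a640b6c05f505a702e703080cb40c39041e037d05fa0e470dc6005d0c52056c08e00f0a0c5c0ce5049805da05d30c870bbb0cfc058801c50d8b025a06c807960917056f096e0df20e1b0ad90dc10d0405c607a30563062005d9018404a40c970504077d0f83061d0f060a1502220b0e02d8014900fb08d10e8a0f300e3e04ed07d101be0c3f09c8021d012200ed077e0daa0cea035305670dc40bbd0100085005930e6d0e6801440b6e054f02ae0c2a09700068031a0d920ee40ce102fb09990dfc0d0d026c0a740b400e820fcc0b1f0a790bca039102ba066507ea0f4f016007e3040002a30663099d0507014700aa06e9014d06be0c220c1b0a6800a4031c0296085503f1039d0f20093807b20334093e00780bac0a7f0bf30b480f5005d6091b036500b4096400eb047705c502a90f6e03c90dac08a20b0d03c8028209b803b40e3a07030c420e1f0f69076c00ac088300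ea0e8903ba07ab01620ee809fa08a80aa607b70e4c071f00040bd80ba502d90bf1048a05480e5c075f01b70ecb03f30983035905e00f8c01370e600b2d01770b4a01ab02b308e40b2107910e8501510330029509fe02ca0a2a02800d0a0f1e08590a2d02a0074e0e8e046e0b7d0d800ea4051d09370a03062900ec001e08a70eb20a4c0f1b00ae05410d730e500f7e0bdd0a9c04cc057400bf0b6907a209ee0d15075b04e6016b0cba0ca00d7b00fa05ba0d35077102fc09020d7505e2058f0a5c03fa0f0b0c6604f800c6080607150ed60bee01f90484044f0a6a08cf007004e80c710d740ebd0dcf07bc0f1a09d7007f0261020c0bb20d49004a09c007e5055a056604470f2c03030dd00c980d09070503f40eba0ae80130049d0e28030d0d160d2a037c0ca101db02b40b050179041d058907060e30085a0b970f820d140e6f081d0ee30a5e0bba070c0687052c0cfe08f207460f43096f01b90cf003210fbf0b30052503a102ff088c03db0b230d7d095602de0f740d6108560f0d03610b880f030eb7042301f3002e0c06041705540af907c105ff0a590fb2095103ab0df70cd106aa039605030a260ef20d93029800f60d3e0df80e27008c0b8e0bb9059e0c930d7109b507db0dd90d510072084b0acd0299052a090a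0c050ef104f7064b0dc009df0689093d0dd40fc307c2042206a30aef0584009f0aaa067f09050dda05720aed0ea603e80d9e04c20d1704e006770d5d03e103dc043c0ce80196005a089805750c8f0e010de7016501de028c0bed0a500dbf017a06d303b60daf02710cc10ca90ba80ac407090d980e42095409af08ed066a0e0f0b520f54049a0203023600000f2b053c06fc031e05450a9f015a028e0caf0b1b0c7b0c7702190a8408da06f607d505730e950cb6012a096a015e0e380f8b03f90a8b03d20d4d0e510b9c0ee108c00c6b03d802fa00650ceb00df028b042407e1078d0738041b0bcc019105bc01d408fc0a92057c0d55060a09f00ba302420c9009e40fc20da50751032c0be30fc608f30cbe0c0f01ea06ab05f20ca407270aeb0c41003e03390a890f840c2109d6075604ab0a410d0607fa0fa90cbf092b01d1048202c80f0407f406a001cd04b605c303e703ed01e104bc05fe004d0198020b07b10ce40c2e0cc20998025408ca059a0c3600e2043a030b084104b50b5903be088d05f1097e09db00cc0794042f0a5404e40ab400c90e070edd0e9a06510eea0f2e04c00042073d0bd401b2031700e10fb40394089a0c3304370f530e92060101c104080dfa075a01780dab032d04700fc10ba10cc3092c07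370908073f0e7506990cdf0ab205df069502bf04250ef903a70da601bb03da079202a108c3075e0a3a0aa40e8606b9013808e805120bbc06e40010009e09a70d1b08030ac60f4b08c40abb003801dc0fc50ae101d906410e03078005fd09b40c8003540eef09aa0de10d8d069a0aec0ab6055106610fc00e80006d02480ab304d008840c820bdb0b570d8f05f40c9b059d01bc0c4a0a110bc700fe076b03900aba00b00b260c0e022a0a340c25023a0659080d0c560c5a065e058a06cb07ba0c9f0bcb0b3a058b0a3f0e880e0005b10eb000560d00053e0ccf06f00aae0af20f1601020bf50e7a03d709b101d004010acb03780bc10abc0b580bda00fd01ee02f10fad0e5f0ba2034806680b340061063c0c4803c1029e09be0b610e56067b040700930ac00c080650018204eb0d7e0c890074065c002c0b790d46049c012e0f1d0bc60b5603c003700753083a04c80d0e029a04b301b50cd50cdb009a072102bd08cd04f001330da4035b0b8c07c9020d07a6012500570e790d7808c70b3103f009790d58029409c600e00170079907cd0b89096108b7089204ad0a7b0e1200810df308190485080c0b250fbb0ec60e940c2b02ce00b20b50002d00950a4e0ce90c4b0be802340e6600d5003b04ea0bfd06dd065b0b4904c7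03e6032e0cf309f1042d07d709850900078b0e5b033c0e5502860a8208460f7b09750afb091f03a80a4a0d9903a40b1209c407240b430c8801b105c90f5d07e00e52091904b10024087305a60b71091d083f093f040f00b90fda0adc0aa2088b0cbb0afd010b08cc0343080e0bad07290eda09120f290489060f051709870de8068a0a000fd900cd0c1605280758050901890dca03490202044d09f403ef080f013e0c53083200910416017d06930f7d05d80e8b0f7502d7074a02440d030684035005470f760079037e099501990577027c0232050f0cdd0e640cfa0284068b09740018012301f0031209f201a4041a058309f50f4e0d450b4b08af0f950b01065602c901860f590bb303d60c09068d058005160c9503c704d90c6a0bd703aa0f5f035e00540b040b5c085107be0e04003c016f03f60de60fa80040034a06ff095a0c500b660d1c083705150f100d22062b076e095f0bf40c920f1c06230e0a09810c4f081a0617069106960aff068f046d0cde05b2066908c106090b90006f0e360afe00410efa03d90e410197081b0c3b0bec04fb0c4d07d805bf0a330f6508860a02066c04c60eaa0c8e07100ea80c19032f056907e403bf06c2010906b1033500e502300183022f07f10263008a074000f2026b08cb07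9c0a7701fb0b620a47046b0a10045402ed014b024901e4058d0c860d560f4107d00d47059206710bcf04a30da00ec506ad0c1804100f64033f0c27000e0db00c610dd30cda07cc01e802fd0b9e080b01ca0f2d088a07790c5f012b040b061000130b6d08fa0d77086105210ce60c7d00d903b8062403ac03cf02e402870d280fc80c69051408a30f1201580b3c096907630b1908b2060e097106330bae09ec05600bb404e90b840c2904c90da80c0b0be90ae303f709b206e7030201360487014a02cb079702010a070edf039204c1097a016c06e606c9016a028f000809c1090e0bd00eb804950e09021601080aa106150d36043201e604330c3a03d0025e054c05b303ce04ce0ce7087c0f6203310b3d0e5e0c70015d09d50a71086d0c5e08ab010c0e810a25089f0ec2064402a4073b033b0c6d0eac0a8d0e34045a045008d00aa90f9a0b08091107da0c600260019a02dc0777094b069804fa0b5e05c8081804f9072008c90c2309320a940790021b0d890d91093005850adb0e6b01130c200dee08850b700b82067a088800320ccc004b0a8a01a90add072b073c0835032606b40e9f0c1e0bc4041800f8030c0b65024a0ae70cd9036e0f270f1907410920065a0f0e0a1f083e07ca0e19099f042c02e502d606700291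03eb0a58081402450f3403d108eb0fa003cc055d0a49071a0864052207180a66024309920a350cfb0fae0efd09ba01a60a5d04ee0dd608f4055907440290015c0e9104b00011046907e60bd3071708440f850eb3018c00f107cf05eb0d5e0edc00da03dd07760ebe0fa7001702b9024c082800bc03ea070a050c061a004405cc01f108720dbe08b60aa00a2905ce058c0520050a038e04ba01ff062f0096072f01ef0cc70d8400990b3305e107670e7700b3009809cb04a00c910a0f0fb3053b0b78003d0ad40d6d0c570e700645040c07a704a602ad0a240c64031d001b078a04d305b8082307d30f00091a0bff0c790387013102d5013b0e4d0cd305cf03c4039b08a00e240e1d0ce000d70e6e0bd20f5c01bf0b74094e0b670fd00c4606ea0fbe0413070b0505037a09090c9d0fb70b8b013d0db1098201f6051c001c028100bb00050dd7011400200e1a0ced099407d60843001f00c50373011607140a5b0e7d0089056b0be10c490957047c0e2f0b9507260f4d09a902000605043b01b40e1c09cc00be07d4053308b50805085e0a010f07085d0e9708f601c600db007e04fe01c20dc80375065f0b070ac805490fb80aac015901520161009d06530fd6084a043005e50374022601920b9b0bde0c0007730d8307ff0b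6f04040f3a0870080001da0bdc02e60b1c0946004e0ef30fd106e803f202e0025d0a2007ef097b0db505aa04310f730311028a02dd0e780e690928003a05b0038f07c700e30ef702da014f0d5a02c4047508fd04cb094a05d10fd209d2074f027e0ab8074d05180c1406320b73050d0465048c05700cec020600d10ef50d3c0c7e0445025506570b1506b8017e022d0bf7061e0faa053a096c0e390dc7004c0ee90bc30c0a084202ec0ca306bf09840da90a700c2802f801a1095e0ac1062506fb0e20094c062105a90cef049107ee0aea0d9701500180002900b60285086b09d80976047806cc04740ed70be00a6c0cd80643007c0a9a03150ec105390d250395061b01ec0a1d002106ee0d9d0578086309770df0003009bf0c340d7a0820012d052901fe0a5f0581064902520d26048f04c5021c04550a4404c304ec08ba03840273062602d00935089e0ec40f0803fd0ec00747020a041c08ac035601b00f350761051a087f0be700c80c0c001604920c40005b0af600060b530b1701d705260d2708b406af0e1e063b03fe0cdc08e1064f0eec0ad304a5067805b7016407e201f200230ba0055e0b2b018105d2099107f8064a0c350e5803280d0505940b9d0cad0a78064c09ef0f4005de03e000a6029b0c4e0e26063f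06520a63021e0f9201b60e9c019b06ef0bd10c380fc70a83030f0c9e0b98025807600fdb0d5207120efe03580b7e05ed09c2097f02d3075d0d70043908ef047306190595011c0dad0f9e02a60faf035a043f019f0b2c0b2803ca02b10275070e08b30c0d09c700660927074203e4027706d009b3025c04560e73064009ae02210f1f065d0f9b049e075003830e57094203ae07890301058e06df05dd0d210952027402be0b0a05020e4b0d570ac20bf20fab0d0c0bf8087405a00875098c04b801ce0e490a8e06f80e4e069c0eb408a60d29016305110e620a6f043e0fd706db0f6807d2089103a90a9109da004309ab078800e401550c750e630a8c0464061605c203e901cb0ef00ebb00b1001d05010dd10f21072c048b063e06fe00920dd200460a4800150d1009e90fd80d7203510d8808db07fd03860cb2098a036c08020c9908bf0d230d3900770ac50d2d008d02df0bbe0de506c60f3f0c470d5405570cf608e9035c0cff002809a60c760ea004d60305025103b008f80c120111045f0f420c7f0435018a002b0af306a40a7309a00ede0d1309410dff06390bef097c032503c308960c0409a10ab50bcd0bdf042604900bd90db7047e02a80bce0fd401010dde02310b6000cb0ed404d506f7068e006a0b4f05a808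f70e1705ef0ea104ef0e2d069f0b640f2209070063071106300d3b0a090f310eb60d950b7204bb00c40c850472095d02b705e405be0e250ac901560b3e0e8d0c5d04d400b80e4a0e7100d8005305f70fb90a36026a0f7a0562044805b409060e330e6a0b850d30052705a3017b0a65042e05520576056501060a7e0bb50f810309067d0f89007609fb018b079e055b0bb70f32054e064800ce04a10a2208d80cb909ad0e5d06e5011a05e70a75023f000c00d0032a01ed0e90092604bf0fa60d320b1406850e9605f30ca60250008e0a7c09e501c701740f5a0baa0368082a0f33036a007a0922099c01480db20442081e0f9405f60543094f0b510d4a04760047019e04d10b830cc50f090adf04e200e70fb60b8a05d506a700820f39074c0cf20a9509800acc0dcb0e8f066d034b0c780ab901a3086202eb05f909dc044c0f8806c70a130804045307c308c80119092e0e48023b03600bf605c40e1007b506880a0b09ff09a3090f0de203fc04680d2c013a0ce206f50d900a690f670c680757054b042901200ecc04be0dcd0ae60c730d2f09e200c70d8105bb056d069d027f0f25060308760e4407bd0aca07ce0c8a0cbc086705bd0d0b06dc06940cf506f306ed0865040a0f440da205550d7f0a53062c0ec707950364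0b99092f005f006e0cac096d057904e30b5a077a051b06eb08530c3c0de40a3d0f0201c3047b0c3d04660c9a01460abf0d9c05e60e8302e108ae0e93068601c0023e05af098b06a102b2074b0f8a074302680ad20b350bf00a7203b101fd0654093607870a5604ca0a1e07b40924040602d40e0602570ef808a509fd0dc206d90ad6008404de0fb105c00b420cfd01760933086e0f4a0de903f8090309a50d9406020c6f0f370cae066f0a190ea70536025308bc0166044b0f5e0362030e09c5039f00ff0479045105350ae90f900ad00f460da10a080438071e0bb806ce04670bf9069b031907dd0f97072804ff0a930262089405b90b5b0f72048d0288003507130a850235096502c007c40b4405ca0e0d01f80a6b061207f0008b0e210f2303240048036306c4033a094300a101e00f050a0608dd00d405960b100887019d0a32083b0c96060406f1048606e1076203bd08490a9602ab04960860049b085c047f04120269007505ea0b630073094808b00634092d06080ef600850ee508990cd40587032b03d506220a4209ed0b2e035d00520910020506b706bc05e8056a0c8c097d01f404db06580e530a3102920b3b07df025b0c65015b0ded0efb020703270fcf014009dd0a400f5600f4083108d60e99087a019302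670847072501ba0d8e01540c7408ee04f105d70a1406920eab00a206600fa401420af106420ed20d5b0ed1026605ac0d1d0878039c053407980a3e0a5a0eeb03360080057d0ca20427046c06de054a0a990da70fc40e160cb1098e0ec80b2f027d0f860cee02650c8304b70239011d0de007f702c705ab0eaf02b60a450a61082c004908d20b4d08d40b360cd008ce03b90e3507fc04610abe09bd037205ec03980ee604f40748038801d3081606ae05420270050009b702f206e203290af004dc055f0e3c0459071b0b6a06cf02f00d6c03df009c05980fd506d100870bfc0460007d0a4b0afa060604a707cb05530a4300f70c1508b90f3e03ec07070506085401af00c20fac0c37095802890e54059708fe01c409d102cf0dcc078602f30097011805a102e9082605100ae0042800bd00260b68012c09a208d9084c0fcd079302f707c8073a010e08e5054000ba024b0246038904bd07aa022e0c2f01fa0546030405dc0ccb0d7608a406070e720a300d69037b0c2d00a003460bfa0c4501e5099001b80c9c00510209056800cf05a40c02000d06c103140a37015f02a50e6104210af80f8d034f0a3806280233000b00a508a10cb000250968046209f806c50c1f01570f0c06d50a6003a509340d1e083603cd08300eb9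044908e70a460f510e2b07fe040e0736006c045c0d6a010f0031062e08d50817026e0b1d06bd0f140953005807780c1a0ee708f1030a04cf00a300220db902c604b40813047d08a9027b0a1c04150716096706b0008f0a5709440f6c063a06110f0f0fba09d403200d1f0e0c0379066e0530085202f509e00b020807082107ec011e0c670d0201120b6b09a40ae408aa07b90121010d0d680f6102240e22092100dc07b60fa10497098f09d00d18059b0e7606c009e3072e0e400a3b0d410fb505ee051301050d9600c3061f06310e7b0b2a0e3b0a7a0c4407c000e8096009890986006200360b9606660ea3005e0cab09fc091404c400f30c1d0f28012604df04460a520a3c06d202a703d40db60537040d044406470ca70a8804f50749008808ff013f0cb5071c05fc008607650e7403520c310719025f0e6c0214031f0dce0a6e019508900e980a9700ca0a2e036900a902120b870d6b067c02b801a20dae038a05db07ae0bb00e8703410fce0f450f130e3703af08ad078f0188036d0ade08fb001a00020d12081007590eca0f710e3100f50e080ebf08110d3f0ed80c3e01ac0b1e0d1900fc03a20d400def05ae01e902b00f800cbd024e0ab100b5045809960b16088f087d05d4004f0a760b7a013402790f4c054408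340b920f2603c60ed306fd034e06ac00340f7c0cc904f209180fcb09d301d202230d9a0c630d440646044003400af70ace0eee07f507b0084f01c907a800ee01a00dea02f90f98083909bc00690a0a0a2b06000e46095b06800aa70f8f0c5b0ed00ecd0f3d05f8047a061807220f38043d075c050803420217059c0ee0076a01df0d3a0e650d2e041902aa037604b208e60edb0cf402af0a8606c3031809ce07ed05e30e9b0af5057b003700710b06038509f7036f0ddb05190f48018d067907c60c1004f3012f0d20064d06730c810c7204af05560b55028d073209ea0dd80bc9023701ae05a50a12052d024706a508010b46000301710e9d099b0697045d0117018701e703b50f8706900ea201d801430a160fbd05fb048304880229089302f40480016e04ae07f9044306d60eed0f700a5507a40ea90731010300ef0127036609c90f2f03930c260993092a0f3b0d1a0316058600a708820deb05cb048e0e0b0b9300ad0ac30d4b0c840cb70829002a06f2089d0a0505610abd070203a60381077206130d62017303220915000101f50f1807b30af404fc022507fb0c8d072d09500e2a013906f404d802bb010a0df5018509450323079f0128000a07a502c10ce307690c7a060d02180db803000c030cca0caa03370d9f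04090857078304e703e5093b0f9c0a6200090f490228001409bb0aaf029f00670c2c0e2e096602fe002f0ca507f30b80042001eb0b7c0cf80d6003b206b30bbf0a8f0734089706ba02640532086a053d0129054d0824082701bd0eb10cc40db406a805640a23019c0f6b0a4f0d66085f0ba6017207a10ed50f1707c5045207f606820df60895067e06d704810b4e0278039e08330c4c0ba4000f035f0c580acf07bb03440858022005c70cd608dc052f01a503fb06e3088002e80cd20f7f052b03a0087704cd03450baf0b7b0f240eb506fa0bfe08c6041109f60d3d049408d306a9091c075403320c5908c50c010cb80da30e0203060a6d0a040a6707e70fa3098807520e45011b017f0c300d110b7f04a80a180bb10e9e0b39020e0e0506140aa80256095c040204b903c202ac04d702e30939065500a80a9d090b0ba70f2a0141078e018e09b9064e062d0060099e079d089c0a2f07230be406bb02ea09f30b270e840b770104031b0ead0169044a0107011f063504d20b320eae08de0b4c055c084500dd0d5f0a1b0ebc0f5206740d8a076f0bd60c5503800d850b3701150397022c0d310f990e2902830cc805230ddd0a0e0dbb0de3080901fc05b5038c08c200e60e13023d0f3c03de022b042b0f8e0110022701cc0a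a5043609e809e108250e2c090c0dc5076401d507af0e5a0fb00d590be60c6c0a1a050e04fd02c50636019400590913077b09630949066b084e02080b0007b80fc905cd0fd30355088e04da051f03e3008302c304a20bc804030d7c0770040508bb02db00f00d50089b02f602c202cd034c0a0d0708067606380d2b0f58045e0fca018f08400c620f01070f049f0f4709c30d3807e90aad0dba0ad10e320297087e0d640f77098d070d081203f50dbd0e4f08b10dc30a870aee081f077f0538066202b5073008bd073309cd01aa01cf0f550ab002d2068c0c1c00ab020f0d0f0b0c09b601b30b3800de0b410d4e0be503070bc00d650b13046a06270599078c0cd709ac08ec0d5c0b9102400f660e3f0871021a0a7d0dbc029d093a0550023c0c54082207040bc50db306810cf7045b086f077509cf0aa308380cf10d4f02e20b3f085b0a0c069e0055080a0afc04dd0997002702ee093c0664099a0ab7082f07e80bb60a280a4d031004ac033d04e50df40848021f059000640c070bea034d0e18005c0d860df106670d53016804570ad70b9a0ec300f9033e0bc2037f046302100b1802d10d43014506b602720175091603c5051e036b0e3d06da0dfd0ef403670f6a0b290c8b016d09780ec907bf08890b470a8007010d48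0d8c07000fa5006b09590d4c0132079a02bc0bd50b2008f9059f0d3709e603ff03bc09620b94024107390efc0ea50b1a05710d6704aa01e30f910e14014c0414077c01670785093103d307d9078407de01ad0b5d0cc6021503770e6703ad0ddc0f960259086900d60b090c43090d0a900a270fa2038b0c2409f90dc907ad03a301c809b002cc055803e2009b0a980ae50ece0e8c00af058204710955027a00c10c94026d0fbc0c7c0ed90e0e013508b80a51038d0090024f07f20bab01a70d8709e70d4203710f60081500450b0b08680cce057f0f7900d209ca094d060c0b9f0f6d088104930d630b5f0940003304340be209250901017c06f9068303b70ccd057e03330ee202380d0707810cc005f00e59056e081c075505240ba90c5101240beb0972021306750637072a0cb30f5b0d240dfe0b810ecf057a00940b75061c08f00dfb0f6f0aab046f050b0b760bfb0c320b5404e108660973003f08080d6f026f09eb05d00f9301530d3305c10e23073e02ef029306a60ddf096b05b602760ad5060b0b220a2107820f630f110b860f780f570923044e0c170d6e0f360df9013c0e7e0774083c05e90cf90d0109de07a90a3903380dd508ea0e1107680eff049906d40e7f086c039a062a0a170c13063d09d90f15042a0d7906a20d0801a80dec06b204a90a9b0a2c07350879079b0b2402110b0302040745052e0012031308e303470f9d071d0b1106ca00d3019007660ada0d8208be041f0a9e08d70b45014e053f05910b0f01e20ad803b300190ae2024d0ac708f503820b8d09040e1506ec0d34087b091e01d60947007b0f9f07ac04410050084d0ca8039905a201f700b708e206d8083d000707eb053100390929,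
  0xfff0ffe0ffd0ffc0ffb0ffa0ff90ff80ff70ff60ff50ff40ff30ff20ff10ff00fef0fee0fed0fec0feb0fea0fe90fe80fe70fe60fe50fe40fe30fe20fe10fe00fdf0fde0fdd0fdc00e80d9f099704bf00eb00120a0502ba0de004ad0d370bd00f770e0106c703340def08250844027a089d0dc0076402c101700cbe0e1c0670083a09f3086d0e6e0ace04f20634029608d8085200aa074a0e4a07310d6f0ef5053609a70ef3029c088b0dd10ab00d7209bb0d230b6a054f0bbd0982012803350a750f4e02ef058b0c95022f02000dd806330696062907b703160e040dd00911078902c4055e0acb0bdd068907d0011d04a20c2d03840a770a7c0b2309f80c7b097400a30228072a068e070e09d70c2b0e61091205b30a3707100f9d02840d9800f402c3011002a807090cf90f91093b0e390a930980001c042b07180032085105e10ca401dc03f9065d064f042e04c502a50c1f065f039a0ca003130ae20c510f11053b03c105e0023109420492023a006b0b690427033e04cf02d5068d0ee703a907270e900724078607f003820c5f02c20625030a0b6d04c9069800d4021d0ccc073a0f750f510a9c0c63056b042104370dd4027d0cc4009c05040b73037904cb0866019f0dc70fb900fb0e280bce0a1701d7004b05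6201f70f9e0caa09070a590af6025d06a808e509130fac023d06e703c50d73065a052e062a0ee9095a05bf06c00fc50f1d04de0e6a0be6056d0641085f02770c35017b0cdd059206950fce0d850ea200f502940ba403e000460a9b004800ac0dd705460a420f4709e50d9e0d8f0ab204d20ba801ab0b370ea60c700c460b3508e90190094105b901810688057d00400d4b050e07dd0bff0bf6029e027b0da70f9b0d6a02af070204ef07eb003b096b074809560a600de30d550bb000670c580252002d02190ef20b920318019508b9011c08b70cbb08490b9a09fb001d045407280429044f01a102d902ff01550c040a2b0f3a097c01e80a4e0df1080f02b701420adb05010c5c0a5006ff095002e3016e02fa0ea406fd065308a00b9b01fe0cb0074c03cd05880e5800ab0dd20e4b0560077d048e049d05a40e3d02630cc708d70f5d006f0eac07960c740bcf05e4065b07b103d80801072b030604110ee00a3e02570d5105a10a620fc70d710eb103eb0e65055d015a04ff018f0bba035006e006610a260fa708bd082a0cf60ab10d750aed0847000d0a8f09b00d60062f048b0c97065100c90b390b5e0f880ef70e0c0b3f0c0a0812097603260c82088405720acf07a10404023c00b003f1011301ff0741088006850db1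0f90014b0d5602460e08036503f00c2106790d810b990dd60690081e091f02eb07a70b2703be030b07c90a310674044503f408b0081c054a0a0804740b1e052002ae000600970d8c0ee508070da40133086102dc03000a8c090907bd088e01d201520da000af0d540462029d084608ba05d2028d0029055a0e3a0da305690726022d01f505670ac4036801670b710f35027601a905970ae40b9e0a790a070a640917028801e007b8086a034900d10ccd055c0f5701c70374034207cd08640c610b1306a703600e520f520a0c032406940d7d06190eb007fa0c2e064302550ac7088a07110cf10359010704b70c470842049107d3000401c304c1037d08190bf10d5f0f5f0cd40fbf0a6807bf0704074b0a9804320f41047206970a100d1403810eff0b320f2207230d91039c0f620b89046a0db5024f0007039001930078056e014c03520fa90ce4013c04cd0448057e0d4d007402780d4809b50fcc04b005160792092707a9073402480d29087307a007c80c070ea10aec08560ce9043d03a609440ea30ee40d0305d1060e0502054b0e2207070bf0075f08930089064a080601a201e20bab0b170632068208a5099400220d1a0e380bb201de0f580ced069d0f160cf00717051105d90b1503b803ac05c30fba07ed056306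8b059d08eb004303ff0db80a81092c042009860c62007d06da0f170aa4082f00a60a7d086b0bbe0e750b0107790aef08e70094080201890cb108c10fd805d301910d7b01220ed10cdc045a0e990dfa0e7e03b30f1b0c780e3c087c07b60e810d1803e5042d0ef801d101b40d1702f009e20b8101fa093d0e5a040905570c4d00fd000f00fa0d070a360fd50d0e0bbc023000c303ea0e8a0df502a2092009490a95071c0bf30d100bf8046c0deb0ce005060c8d074d05d4002b0bf70c010dee05a903d600ad0ae80f6504a80f6b00270f610b360e6009000e2d0a61022909a409df045c02a907870e3e0b0203250d6e0d0b076a0f3b04100458071407f80a03099e0d70057909de038a037604670b8e009f04f601350f8e03ba04be0e8e0f0c0ba608f101d5059003a804c200910c7a0dbb00f902a30fcd05ea03af048502100e920bb907a802a001a7094a0a8505e7090f0512010d07b008f2032708ac00240d33025a0a8e012e0c420c1506a003b908550e5f02030ea50a15015e0d7c00050c2507730dc405370e5b032204a6011e086e08dd0e8005f30169038f09380b8504860dbc0de901a500900185026d03e8003d06490e8605e20aeb003301180f2900540fad0ddd059a04060f7f0ebb0305013109810ac3079c096c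09d302b002d20eba01f908fe09550af503850aee0a1608170a630d0f0ed307b40ee80a7002c70d0002830ea70bad03ec051b0816069305980ca305150da60e42086f06ba0165055504a40e6308d40999001e0b2b04630928000804df0d8d071e02860d7406460f4402de0640067f029b00b20e9108de06cf032109ab02f703b1059b010b0ec506f40d1e0c5008810f09063002e5082c073f0700055b057400390e07070603860a580c3c09d502fc04710a91021f0d4f02b90c5305c709a10c2c0ad00fb805b0011b02ad0a5c0402008402a109a002130ed402650d520bac01cf0212026b0a380cef0e300bf50ed001270bc80b3a01b503530d1d01fd00a1082201200fbb066004300e9801ce091e0ba701400b8f052a0ba9092907570a060b7901cb0d110fd70f480044052f0b3d09fe0fa20b06030d0c2a055402ea0c4c09520a0a03ed01b90ecc034300c70ad2009d00c805c606b10d1209d902340fb107ef05530aac02240f5509e80d32093900800405026902b201e10068034400f700620a120a7e0f80087f04d50f3c01c10021083b07520705032b079304e00a2507430aa2028a0eee08fd00380b49000108580a9e01f8066804f90ec105410f56061b09ba0c06019a0e480b7500bc0bc6098b05dc0f530a2a0e2b0c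ea0eaf0b1f055600fc0487098700b401e70ead02f407c406be0b1b0ca80f2b002608ad016a0add0f710655078a0d470c1d0c6b0bbb008508a9060f0ad90e6f02380b6506df036b058c0a0b05080778078006e9031c005e0ea0016b094005ff0b9708a303fd0f83005b009609050f6800250829023205be0f660e350a2f04b204b401c90a3501f4044b069f0d5b0d4908be0cf70a410ec20abb022a054302ee0c9f014f08340680051f0d2d0da9031f00b90e5e0fd3084c03070c59021c045f054702c6099d0b56091c06e6037b0ade087606ee00820ba005c4069909b105f809950d5d0b2f07700b8d0ccb0e8b06c20d8b044a0e33067a0ae10da20e7d008d025302500eab0fc206bf089a035a07ca0b28049c0e7f07da024e07850fdb0a5a0bc30a890e260663013608740da102e20a0d0ba3008f00510f380ce5084d012c0c8c03d3093f057309bc050b0a400d930e6404b30ce10aaf0e1d070c0c670eb508af0e7803dc076c096609e10455033c07080bca0ae90d6307de023f096e04d1098a0cde03b404b80d96071604bb0a2302330b7a024b07e90e410f8b009200490e97074701ac0119063605ec00d50edc06cb05fd0abe000902e002ab09bf036909b303b204f10e1105ee0b590c3e0b1a07dc0d24033a09b20c8b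0e690aa308ed00580f2c09ca079b084f0df806f1081407f30dc206a10077017e03770e4e044407e108e2049a033f0db9062e08d90bd1016f09ef09f00b3106fc0ede080d0d4402590d9509c704ae07c306af000c0c32098e02020bc9045b00170fa002be000006aa06b606a301a80a690ee208f300d601c80cba099205270739022e0e6c0cbc049600ff09260a24072f0529047f01390e4d02560ec607ae0279094d0a200f590a1d087109ff097704680c72094b0a6a04af04dc00c40a19088702150d9a0fd9053f045d0bc5040b059102b409f90258058e0b4201f6042a0c240f980b5d0e2705960d2e0e620dfb0b3e035f04260ec906e50aba004c09bd08f7012b0a1c0ded0e890c2906b0056c025e07620198045702610eb6011a084a0c110f3f0484055004c30fbd0d990ddc072501e50aa508cf0ad40348049e040806070bdc00200199054e0c710c9309d1022008100e25074f0aa60fb4064c07a302040b8809f2067c020700e504bd053e097a044d0a220ab4050008970f7604e7049703e3018606f70875006c074606c10d0605ca0d300a5309b402600a1b047b0aa80fb203320b2a0cdb0b7205bd0e0d00db05a204d007e802410b5f01620575060907e707c60ad30fc4088808f8085b0b380a8a0d3f02f500dd06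180fa107cb0b5209e30bb30ad5083504790ad60a4700dc0e1a05f20505048c0803078d00a00378040105d607e20cfa06ed0e54026a0154022b0ca6063f044707b90e7401560c1901780c3801840a5e075b0b2e06f30d8402e1098301090bd30f6e01b006bb094e0d02036f015f02350d3c0354049903940a1f0c16029f05400a2c0dc60de401db0aa7046b0fd6056f0aca08fb0bcb0b070b2d0e180b8c0ac005680c1b0a30051a04800be4095d06620c180cac0ef90494025b0e9d022202490c3b0cdf04ec0f990a860f070cc30daa0a180af90b6b0d4005e303c309c906120465039b0cfc0b95097d0a7b097f0b7003bf0d080c8308d2016602ce0f1803d20b240c1c0d9d08b600130efc08c20b4e095c0cc2088d08000e14045306130d130e7a0e3106670be906c3099b00da08790ce7062c0e9c09670a8b02bf01bf09620bef0593044901640f000b530c9c003f076d05220b7c06830a88068c05610c7f06eb09430bfb034d0db2073b04460a900267089608a70d2203e906ca0d820dae033303bb02aa0a3a0d3a01f00e8d0e950ac50c3d0d210bc7014906d20b7d0d360f7d085009030d640439032800570b6f04830bb80dd90a9d0c9b0ec00fa308c9037005b4024504ab0d770c96070b040004b60153060201b8046d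0aa10bfa0f3200de00bb0d3e08cc080504700c1204e306f5018c005f07fc0cfb089200be08f0002307d1016109ae03990d57078308480d880d34008e04a706e300b50c4f0a2105ba0b1c0f40064b05760e5702c80d4309d60ed9052505c10d6608540f210b5a008801fc0d4209d202fb0f150b510a920eed0a6d012607ff0c7602540f96038d0f390482075d06a4097b01ea005903ef0e87030c0f460e360c8a015807ac0e490b600ec3086005c903d5031e03ae07990d9c06160eca0143013003f309fd05190c1a0d97009e068a0a8208830b7f01320c8f06e1052406b70be30e2a00ed08f90b450d7a0833013f0f0104db09db04ea0813093a0dd30e100e7603fb0776039109ea02400ac20cc90c0c0b8308990e9603f707940ebf0a6e0b3b0c870f1c0e2f0e7107530e32064207f9014e003404dd0efa07bb09b60af806030bfc004f0b180299087a08ef0fa60a7109af010e0b220f8403750c0f035d0cd2017d0f670d680ac10bee0a94058d0daf0c1e05af08240e150edd0caf03410bea0c5609c20dab031a0f500f7a0df40c4b0e0e045206730cfd020c08b4077708f507290d8007ba0c5a057000c50cd308c6091b069c03d90eb2012a0ecd04a50bde028103da08ce01630e8c030802230c860c200c8e02cd0f0a07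df0d190650092d0d7900d707f1030f047e0d3106cd05a3065701b2044c018b00d3083203fc02170a3d0fcf05030ad703a70003026208c40433052b03a204ba048a0771001507c50fb505b50965094606a604420ebc0d8602bb0cd50dcb0a0e0fd00dbf0c5b0e17057b0d5a0f7907fe01ba03b707be0eb8080c0ee6009b00410ba50db40b0f0a6b0fd40e8801290a010be2045e038b014d0428036601ee05b10329081f0b41058901d4063108a20b5b0dcf093400cb04c606ae0e3401160d58032a072c006607c10765078c060006c8091a0b3c085d064d031409e400930b1901e9084b06860f4508090730070f0b6307560f2e0ba20052034c0bec0bed077f089e0a9907c704f500f101f10cb304410ca90958075500630fd1090c0a49035e0e70019409b80c45066c09a6031208ff05ef0f6c0a0901a406fe03df06d4075c0a4d053d0490004a0eb9016c04b10b1001210ec402710ad10e590c020af1036306a9054801e302ac00ca0e770906005c0fd20bb601f201c0090a07910e5d0cee02cb08c70b550aae019e0a6705db0acd051009cc03800ecb018803b5075907d209320eda088c063705b207320d050d3802da077b07d9006d029204cc039d0dc80740062200ba007b077202d407130f4a0339075e007a04a1047d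06710ecf0b0e05660ca5038902c0029a0a1a0302026601a604c8010604c7098c0adc0f4b0d1f09680f820cc60f9c0a1e0cc80c0904510a74057f0ca105b8034f0f140bc100760f9a071b02740951043e01cc0070069109f509a30a560b5c099004f409220f19052304fc085e0251061d09a8008603c80ac60c8905210cf3071a0984036d087d0d6c0afa020606c5077e034601ca0ed8031b0f28051e0f4c0cd904da0e0b0f0606d80a52017202e403aa02980c9800110c2f05ac05170c4101b60e0a0a9f02440b5006d106dc0a780f780b860d7e0fb709470e0205950b2508780e120dba0a0f06c60afb0f640c7c03640422066a0e7b0cab03a10bb705c008940611018d0ce6041e08bf0ac9042f048108570dbd027e04a90da80060004508ab0c340acc0cf401970dbe00bd0c7305ce0e55081b014502db0b4b08a10180041a02430d670f72057809cf0faf07f20a8401470f31062300e906e8024d05cd042309540cc107af0e4304c40e4f04fa0a7f03970e83067701e40cbd01340885037107ad07f40b670b5706b307b30b0b036c0187014a006e0628086307fb05df00d20a800a28028901ec0b16006a061a013b036a01bc0c9202800c6e0f04089c005d0e090f200e6d0cca07f708d301df00e20b930dc9034b04190c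c504ed043a09ec0c0d0be0015d0c260afc0dfe036e07ee0795098d05c209f106780dda06e401750aea086202e90c7e01230b11099a01770f8c0fc3058a083f098502f303b60dce0a8309a9040a01fb048d074506640afe0f9207970cad0eae008a0c6009c5046105fc0552058f0f3e0f020be8062003170a2700e70df7024c04b9020a06f90b680d0c022601d805f90a6f0d4a04fe09080ea809230f6d003100ea038804aa07e3098802cf094f02b3025f0ef0019d0cb2092a005603f8085a0e7307aa003c0c1708e600e1007e0464024a076f0676062607b503090ddb0b90089504f701050a2d0c7d0a440d0106440a5f0fca02e6002806f206450509014407210c520f050d8e03580af4073301040e2c0a3f028c0d2c0b400336050f018201be0964063a03ca00f20b8a05f0011206bd03380826038709210b76003e0dfc051302470b770d27066e0bb108b805fa0840049b09e609f406100f4d0c370b2100370bda0a4b0969032e03e604400c44089f047300ec0de50a7202270eef0cf200690b29008c0e51002f05d5052d079e08c309dc00c60065060d0e5300c002420c030a6609d006660f2d057c05f70baf061f07c0034a0be5061700cc0fa8077a03c701b708fa01110b940635015908b20e2108ea0a7a04e801b3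0f330a2e0c4e06c40845053503cf0eec013e0b980c9d0f2f0de10ebd076902f80c9e0c1305f60d5006f001ef015703e4058209300e4404760b140443049f06ec03510fbc0c6c038c0a32000a0d7806fa04380db002680fc9087202c502a608b3026f05e80970063c0f0f0af302390e820f7300f60507042c05a00a6c0774055106d602dd0b0904bc0a3b059f0c1405d703d006810f4905710fa50bdf09da02bd0b470a9603e1046903f201ed017106d30fda00b10e030b430d620d260f030ece03c4001602820311083e0c480114099800a80c3a017a0e850b8b001a062d0821060c0c27088f0cb408d60f1e0cd80910016d033101af03c20bd5084e06fb04d906050f7b050d050a03200df20af70de20dad0b6406f607190d9b0a290e5c0e6b0b4c026402f90ebe01e604f307150585089802f60b9d0c6401f30843007905860b1d09750b6c0cd7090400ef04ac09fc0ae605380ed60bfd0aa90efe0c3905a50760074900f004120f0b018a095304e60c0b05bb032c01c5087702970303093607e00aad05eb084102850f700a9a0e1e09310cb700b602a7097105e604e500c10a450c10063b0fcb004e08280f080393018e02b60398035c0c490b200f5b0b740b910ada0f250ed208080f6a0fc6016809ce07f606ea0d9001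50064703ee0804069b08700ce30b3302f204a3054403d40de80c790ce207db04fb03c0049806750d4c0cfe0dff047c00ce01150de60d8a090e05640f8d01480e1605a708df09c1013a07380f9f053305a609cd0e1b03cb0edf09330dde09b7060a06840526030e0f9506a205310d69092f0dca09c609f606e201bb0ee30a3302fd063809eb0c660c5d093702720459093e067d05b7012d0e9b07a2055f08300a4c00830aab0a8708180c770eb4071207bc0c2803ad03f60a0009590b0d0e9a09e905fe001909ed0a130a550606037e096309ad0e720290046f057706b408bb08e008c506b805f109960dcd091d065e09dd073e05940431007f09aa009909d80c230891054d013702d70cda05f402d60b0c0d3509d4002e03ce05490a0400bf020b0d280bd9002c02c9079a0dc10e450e37081508370f3403150f2301510a34099101cd06ac08ca08110c080c690f1a0bd40ba109a2043609010e660225033b0b960201067e01010e67072d0d6d0a7602360754033005ed0b1208c008230a3c02e70edb0bd605fb0750096d0d040f7e066501250e940a4a0e2005e50061094c083c0e7c082001aa040c05e90f8108bc079d0c910ab50db300a50654066d0b840bd2020908aa06dd08fc0518044e0ceb0a390669048f00980ab9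0b46028b07e402bc0d590f8a0ed50f6f0e1f08c801eb0e6808900f6002cc0036058008e305d006de0cd10f4f0ae5076e0d4104c00f2a00c20478001b059906150eea061c078f05870f850fb604e20e3b03e70f3d02a405ad07c209c00604019b074208db05450b26085c0db701dd042400f301c60fab049500a70395020f0c330adf0ce80a73039609480957089b0f430efd0cd604d60584046600e30b300d250bf9047706c90abc09be0a970f8602d80882017f0ae00f3009cb00ae0196045008690d6502080c2206a5021e0d5e0bcd007c081d03cc001002910c6d0cf806f80eb30bb40735073c03550f2401c40558051c0ea9090206ce06d503e20bc00c5e01a007660d0d08ae0d2f030102730c9404130e5603040e4c08cb0d0908d50d2b069e0b0504b5038e04f8069a039f0ab30e2e09a508da026c0f5c07ea0103027001240cbf0c88009a0a540c36059c0bc405cb09730c00015c0c540be70d450f360cb6053c07b2021a004d08e8031d06580b7e07d40b0407220075021102160d92021406ab0d1b096a00a20eb704a008ec0f0d065c0a5b03a400cd022c03670ec8068f0b6209fa07cf041b041f063e03dd08dc028e06d00867010f09190fc008cd08b10d150a480b6601bd0cb508b5067b00530d2a04350bb50c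310bfe0de7043b0aff097e07a5014604ca05c80c400dcc001f0a14004707f50fb00f1003c909e003bd03fe05ae074e0cd00afd03a3063d07fd07d602ec0b4a0a0200810e9f0a1102ca0c840d83010a061e08a408a609250687037f07810da500fe066b0b0a050c04fd091609600beb0d870efb0ef1031004030e290d5c01080df9014102d10924075a0f420e840775027f01d003db000b09ac00cf0d2007510d460ae70e130fb30788081a06d90c850bf2070d0be10db60f7400b702210ab7020508d10b540df0092b069208590345028f0782096f0c65041703a501760cff031903230abd02e805da0a4f032d0493057a0eeb0e4608e1015b04750b820a4307ec051d0b800b4d073608a805de0434099c0a57038306140d76095e0701037c0ee1008b0d4e0d0a0c3f06cc0e40005a0183076807a40f6306270df30d6b04250f940d9401d60b2c0bcc07200c430cb9000e0c6f01d303d70baa00d8093c0d610aaa0f870f26093505cf08310361012f073d00500b7b0bd80cb80138029307e6082d0295054c06b20e2303470f1f00a407ab00b301740d5300ee078b0cc009e70f2700180287048906b90dfd0035005503720a6508f403370bd708d00e0009c40e0f07a60bbf041500a902ed073705bc0ac8000207e5040e05f5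0237092e06ef02f104d404f0036205cc09c30173095f023b0e060b4f090d00d909790539065600710373095b06520f0e0836080e074405340ec7091806ad00df0c900df6082e080a0827072e0868007204180b6e0d3b03f5058105590cec08380cf508860c6a04140aa0086c04e10cae0f69003008530b030cce0989003a0e24053001020dc302fe0b080d3d05aa0b78087b09150ed7087e0c800961080b00e60b440fc803570f8f0ef405dd040d0c570c990e190fae066f059e020e03b0020d0d160945071f07cc01790f930d7f039e05a80f130639034004eb0c05098f010c013d033d040f002a0f120356070305650d1c0b340ae304d8011f035b06db0b610f5e09780160045603920dc5064e0a8d019201ad0407047a07d701d901170bf4041c0e0502b10e470dec00f80c9a046e01a3097201da09140993021b0dea0f89070a0dd50bc2041d0e9300730b870f5a0514064800e0037a062b0c750b4803ab04880790090b07d507ce0ca20f370087053a0d3901ae0ad800e406bc0c0e0b9f0c6808f6026e04ee009503d10f97062407580c550dac0abf0b0000d0071d0a5102df0faa0eaa0a460659017c021807610c4a060102750c300ef605420e9e04d30ddf08e40bdb099f083d0100052c01c2019c0a5d05ab077c023e00140889083900b807630af009b90fc10e7904e9062108650e3f0e5005d80f54078e034e043c00420528078403de0583079804d7025c076b02d0043f03c60532060b0ccf0b58027c06720ab6076702b803fa06080af209ee0ab80c81056a032f0fbe04e40ca703a0046005b603bc01b10e8f0064079f082b0f7c0d8908ee09f709c80bae06d70b9c041607d802d305c504ce0fa402b506b5,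
  0xfff0ffe0ffd0ffc0ffb0ffa0ff90ff80ff70ff60ff50ff40ff30ff20ff10ff00fef0fee0fed0fec0feb0fea0fe90fe80fe70fe60fe50fe40fe30fe20fe10fe00fdf0fde0fdd0fdc03130d680ed409c005ca0a580bbe08bd04ad0219037f0239034a017304870f360c640cf904bd0b4e0693032d02ab0cb30a8900aa0c550020016e0a8609c2020c07510a2e04f70f2f06b0005c0343082a0c3b03480a4403e20b62045e0bdd06c90ea7041203a30c36065f06fa0eea0e5106c00ab7015a0205076003ed07830f770ea6026a05da01cb09e6093b0de507d801de0f3201a509d301dc0ad50f6a08b70b7b0cce08140c780d990d750f840c4104c60d910d2903bd02fd00190e8301780db301960e780824072b00f105cc03760abb0709067e051e06f1041706b2044a015c04aa000e04a9038c0e87010d012e09390eff06e404d0080e00b60d6707f408ac07e605ba0baf006a074f013c0bef0b5d090b053d0da7013209640e2807fd0b06082b07ea0c1c09d0062807c4067d04d801df019008f20375006d092801f807a20cad056c037b0b670a100a6c06c707d00c5706fe0d3a05ae0e4301cd07370d0c025d068b0f0c08f50c650e4d0f4a0ecb007b0a720598065d01c40f0001f9043d097c0a480b44035f0ef2021e0c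f109b905460011077209bc081c0518085d053c0d7f056f06190dba0dd10973049b0d5b0f5400fa038704b207150ec40353044d05e90c7003920b1b0ea301ac02aa0ceb0ada0f6d0dce07b8020b064702fc0e5407240405072601700347054d0d810678067f0c8307f000760e90078200d60ad20a69089f036a0ed2075b0fad059f056e03c60c5e0854092e0a93002102d60862010400750fbe0d6a08fa0c66030909090022097e06ec04c70e310368044c0c8e03fe0b9301ed067a0437029704f600ee0de008cd040d0551090f060a0ec302d90cd000f20e61025507640fb9037103ef02c307420acb028a07cd0ee808e70354072d008904b3009c06b50d3d06250bd80a190d3b03970aa90f3f094d077802cf08c30200013e0e440d8309490983072106ff0b5408600d300f1a011d003b01cc0f450016005b0b550aa8051307a804d908bc0bf30b8f0f2200990a6e0b5100d2043a03290b9a0ea806200a81036c03f109ed0e67096900720b9c040907ad0f3a0bb903b80fb304430956022508da05c30a9d0c61083508410d280b2e03e70cc7009606b706290cb70dc200650f660ae205640f6109fc00b5002f0920038404550403000008680bee011102330d8c06e10f6701af087b060f028e06c80fa702af0a7c03ab06a0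092700c801220661064a08c8019e064d05eb0d940c0a03940e9906060e0f0a06070d0f5e082f0c5a059c05bc021d013402990f7a009d0140018a03af0b210bb404cc0e2200e30b4f058007eb0e8c00ef03fd00530aef088d029e0d360cb809290c2a0179064901e400c9099e016f0dde0eed068802e00e080237048d0a0f0e2a0b9207ce091f0fd80400076b084302a208b402120a630f88040b0c4b05ea036d06140ebb05dd0b3b05b800e901550d8902a40aee02c00b4d008100d102ac01ff063603dd06210b42012005a306ea08940ba20a46022e0ec1087006a60ae304a201000c600ba00d9d0aa201560bc901e505b90b02010c0a9c09dd0692091d0f1203080f4602270f2605840b870d41061a069e0da3009b0600045d014208ba0ef80a4d07b5055802b00d9701b7095b0b7501b207c8024f069800f90d1a02dc068d03160f4206150e6209bb043f039605b4011202bd0ea1006b09b507200c0d033c09180d2b086e0c5802f80ddf02ae0eb806a3094203d105820f2d0a200454083309c10207019a0a2b0e69042705fa0e640185056a09ce0eca0074032e055a0c350fc0061103770d4f02720aae011b000407410d7b0c960464014c010f066e0195055b050f0ae9084e0ad605e00128080a02460b7a05bb05a80a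9e060c0a5904890b6a01a90cdb0c3e03de0d1e004a0ad80ac6065b09db0c560cbc074c051b09710ce80c0b098b0eba0d03016a03240cdd0b890168046604820d1b019302a303a70ecf0bdc000900510618025005660e4b0bc60f8a02df05f902920829020606e209cc00dd0f380dc707f700b70a9109d106160d4708b9042303da096508fc01e20b170d52053109ad0a87003d057006040e170ab8017a010a016b01430b2409df03150d4901e90792002a0434030a0d51046a00c203e90c5f0c77024c04ca083005d70bfe0360042b04620f8c054c0ba1022b0d0e07ec00050e3e060306ef04330d10068f04be08ec079802340b9f01330803074b054e0d7601290ecc0e2d079906a80e090d8b0c3d00d800f80d37035207df096a0e5b00a50217036205490b530cb2083701660c8b005e0e530d5608a909c60be40a3a0a790a010b070fb700a40a71097f0e1f02cc069d05d1087203ba07050dd604cb0bf705be0bd20338073803fc010e096f0dc909510c340b7d0fa308d20c440eae0732085c016008ae0ddc0d3509960b0f00690302085901d202b40842095704a10db20bd10d5d06680db70b9b00060da40b30092a069b0fa40c330171013b0caf0a6a00400317077402840f920a6206d20af80856079c081508760364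02b10b6c01ca030002f00dfc01c80f9a0fd70987030d033106e80f85035901910a320b560bd00e58084a08ea0bf10569023e01360c110db603f90e55011f0c3702750c1e07be0268049d0e5203a50c0908bb063800300d8f049f020f0c3f000102e90fc8025f068101530fd50c520cbd06f30a1b0bdf0f8f00950c820f0d032c0c9d00a807b70a6806d009310f4102bf075e094c0f830d1c0ac20b2806070a5e007e0e570c6f047e0bd5009f083206a90b58054b0a3609ff033b0921059e0f020ba603320a4a01980aa00f76010605ff015908ca0acf081b07fe06400ea205b60db80ed509720c620ca60eda028b0fa200b0068c0f2a065e02e4071c07f20afd0ad4064201ea0ebc068401bb01150aaa09b204150f190edb0e800e0a00ff061e0c190d6906cb09fe006f05b5070e07b20fd4075d0dec06d90d6f0aac075c070b09ba06dd0dff0d870cbe0ba9033d0af60e3707d50d900787095d0eaa0a4004300e4206c40571054f079b0ce500270c8605850555001a08bf0b6606bf0da5033407de07cb02dd006409d7049e01b0005408ad0c3a0ee70fbc0f2c08c60ea404a007ff030302f207c905910a5b0a670507056b0ba40529026c0be809f70b78097d00500f53096303f40cb104b507aa07680de70b4609600df40b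4905b005aa0c500cf50b6d0f570f70083f076508db060e0cb4053304bb003108c10769031008080c1d06700a380eb10eb50faf09080c9c03630bc80098051705c80a040a3e045002cd00ac0ded083a04b40d8200b906c103830e130fa903e40c5c0d4a0fcb03f20f250c710e98025402020bd606270ee6028706d8073c0b1602cb0cb601bd0b14052707e905e604800175020807020141083803eb0a5f06870087004800b304d20c2e02450b1e0f400bec0e070cee01b604180c420c79013a05bd0edf0468053f03c3076d0dee058d098103d706010562005501ce00c60c30083d00dc075500850ef005340a8b013703a40a9704da0f20081009950e75043c0f2e084507ed0da0090d00e1005906600f160dc30e7f038603f501e004b109fa0bc30a9b008f0c9e018d04cd027002b7092f0ae10763015b04940138031e0d5f05e50717078605a508eb02010d4c0123021f0e8f0b080bd70ac505db06d10f710c9f04d505cd0e500cf607db03cf0e2f08040ab903d30e6a022105c900cd09b00f7b0700086a0a150e910c29025c087909d40f1303a60d450d50030b0c5b03040a5a09f3097005440a840d18045f008b038508770f3906900ec8001d080b07ee02d8095000ae0e66069503ce0de801210e600b470ec0054a0035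05120c76019407cf070f01c704fd05f8093d001f04c90b320bd90d260b700ccf0a390be103ee0d2c01e608e30b1f02d701b30c1f081809dc08dd00e0000a0b8c07a30fbf0e5f085e06cd0cdf0573071a0d9303df0b370b0a08130bc405f40105020a03ea0e02042209a10db5026707a5064b01f406800c0e0775072a09ea07d602230e9204e80d3402eb01b1011c00cf0de90cec07f60b8a00de0dd2048502380d460809083101bf08660ec70cf00393007f0335053a0e9f0a340ee30b860c9802940d7a0c2c0a7008990fcc0a2d06350eb30bf5049002350e63051a03420653068201970c4e029f09fd0beb0e7106a70c9b0373096205c205fc04f901480afe040606240d0109370e2e0b8b0a220b250d8408a508f805e3005a05a1082e089d03b20f4901e701390fb60ac70d2704c101690a92038e0f52007302f10a2a09d20f7c0655028208d1084705630df80c6a0ba3064308d906be048e023c037e0ab205a00f9902fb085f0f5d0de402ee0c1206ca03820e8608a30a9902b5036b08860d4e0910076c0d0f0a1e06770dbb0259068601d9046d056d05de0d960b2a02bc01a107450a290ee0022008980b1a0900035c0b260cab00bb0ee201eb01650a74077e0df3050e0cfa022804700f68031805210083030509b605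f20acc08a80deb081f0e7900a702ba06aa0cc50d4d0dbc01570e7e0d3c0b1c0d5306c60ca9094a08b607e105cb0d160e4e0215069108cf0579000b070c04a30a7a087f01160dd80992031b0c4d00be098d077a07560d770dbf0dd50f8209a905d20abf0203039d07c503dc0f5b0a570ee10e6504d703270728026f041a07b1047f0b48084401d00a750946096804bc02a10b7c0612055d04ff0de20211091a01f603b508640568046c047409a50c7f0c27074604f10d17067b0b2f0a4f031909cf039900880f15074707af06d4037d0c3801720f950192052805ac0e4f00790cbb095e04480248039805c4037809cb04ec00b40c7d04b805b10d6509da06a10eac09480ed30e9c043e08e500f3034c02d50df207bb0729017b0fca0ab003570d9c056008f70f56039e013d08490b0b079f0f69040104c80a3b087e08a1037a07760590090609c505b205930770087c0f330018036e00430d3904d60bf60eeb09120bfb008e062e0e4907300f0b093209d60efb00ce01810b4b04de0271034501f30e06080607ae06740d7300a00b3607400dcd0eb90f0e0bb6028806bb0f87014d08e20cd205df03f80d7208e80e1003070ee50dcb0b040a17095303c70b6106300c4508e008c907620e6b0bae096b0abe019d086f08d40f97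02f60fd00753076706ae04e905410b6b04570f040bf8092200820265017c0c490f1100390ccd0df50ead0d59098a09c702da0dc50dfb0f100af009430cc4027c08b801da0a3f0ad10d7e0fc30b5f033602850224044701a809af0ed90f8608520d2202760bea03bf045b0e5c05740af209f20f170f230f6e0bc20fbd01070f28085b0c7b0e1104b607ac023103690d7c07ca0be70656057d00fc027f063304bf02e605d30b8504ce0a240d0009930ac9066d07130bfc091b03b605b701fd08650e2905f70dd40f600b230bda0fdb0aaf06b90fda089205fd021304ed063c04a500460f24073d03ac0262024b01a70b96079503e60f8900250f3b07dd0cc00b1d08be039a06cf044b0b790cde0bcd03bb0822069706b804d3023b01a601dd0fce06170a8e051608480e040e96007c00df0bc707040de305d50a8c01b402f5023609de04eb0bf00e480f1e0d230d64013f05250b760c3c0e0c09a20ac00187019b088a0a4309e4081d0ac80130040a0cc3062d090a091607b90b120c5d0389098503be0595088e055e0365028c0bf402100e03075403c90d2a08e10f2106b30067071902a50ed00f8b02be043905c5007a0e7a0e820c160f6f076107e70a1301c20b7f04410b500974026d012c0eb009a80d8d0bba008a097607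b001d10b81086705090f9f0665047c001203fa0b430b400ebf002b0820080f0d4b00f50c590ad00c180e68035d0df907e50a3c0d9a0f780d12021601ee00cb0dd90cd504040a270f3105ad0bf905770e2509cd07ef0e050e4c0266048a0897061d0d6d0ae5002301b503d40b64005f0e0103f705750a65079e0d33088108340a6002510a730bcf0127093c029d0e6c0f370a11006c035e0f9b07e809ec009107ab06a50311016205e203950d2109aa0c1b0e33032f08800241004e04b702a904ef08f6020d0fd307d10baa0d620ce30c0f02f4038a06db0a510d9f0d7d0d540b52055900eb0fb40ce90c2807930ec200b20b8200930a45027a031c04df0736089e0a0e033900e606eb0f9c0b4c00fd0e8d01640e9d0ad70fa509170fae0f7d0a140d6c072c057e0c6b0ac10013040e0109071b021c063401170de10daf0cda07180c9703010cef08a20f58068a01510e0d0ed806e9042e0cbf02b804020fcd017f07c3078c0a300b2b0ced05f50d660ce101c600c106f5009a07c2023207c10780018309350f980a78071e063f04260b050d19032b0df10e410dcf042507570fb009f90ce700c4019f09a406c202f309ee05230f01043b05ec08730fc100020e1d03db0ccc0744076f044005f004a70cb9037004e00070002c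0faa05cf0a4b0c8004fe06bd09ca03140c2607a90771065708d50af108070e240de60ef10fd10c9905ef09a0058f038b03d50afa0c8c0e470bbb0f0703b40f750bb20ae807e30f4d030e074300d003120bdb0938022f0e340a490c2501a00e7c051101c00c850cf3035b0d06021b0bfa0080049c0e3f0afc061c0cf4077b054801cf041e075808ed09990ab3055c0ecd067505a60fc50a180aa3046f092d04110934093609e90dcc04970ce609470bbf054306450eec03e1091c06bc0b68084007d20ef506b401030e2c044603f004c00501048c08d70d1d0812086d0a9a041d0e180cf803ec0c48012a0791029605260479015e088903660def0dc60520078e0d0708160af90a640dc10cc80a1c09e7099800e20b0d0696053b0d04072f0efe0d4402f90a8a0ca006f604fa02bb0229008c099707f90da60c010a1d021805960017078908830a7f0e4a066c06f00b1304450adf01f2039f05970158036f01840eee03b10ca107f50aab016d02ca0f30060508880cac0b190475014702e80a1f022a0ca30c5408f908530e1c0a2306df050303a80f2b0e6d04dc050b0fa60540094104f50b0009bd05bf0d80071409230c95079000d70c8704af097a0c0200bc0a370bb00b69025b0975095a095c0d0d04dd09c40cd7024905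d90cd1015d03a2053503e803d80c9406da0f9108fb06a40f050c4603610dc40f9e049a058103fb0ca20ad30036016106af0ca40dae04630e95031f071205500b5a0c140e5a05ee0bf209040ade08aa04320fb800a20667012b03b009e5097b058c0eb7095801ef0e46050d01f108e60fd907fa0cd90b350d02090208de0ae7080c09f40aad0a7701c308570d3e08b3030605000061057f0a6f003308b1006e0c89003708250d9e0e59071f07c607d405a7029102de014a00c30d3100c500ad06220e3c08e90a21092b05ab0e5e0f1400ed090707590a8807f304280c2f0672011901a402430b9e0f470554050809eb0298034e024d0f440cfe0887041c048f0a7d0a4204db0af70b7406ac03330dd30c670c1708b005d60a0c059409770bca04fc0da80a35051c00da027d03ae0a4703410f1c052b08d303c00c1509820b030aed03aa084b05370e770b940b5e0d92084c06540e360fa00f510af505530da90b0c00f00f5c0f7f01e80aa40961066a0c320b5b08ab0a8f0f8104e1012f0c1007a60d4005150f550ae409450fc704b90a25084602900565047603900858001b010b072e0d480144013100a30d2e019c0a6d0b91058b0452028008d600580ab10ea50337098909ab09b700380aca0915015f088b0e1500a6034d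06e60781048802ea03b304b00b3f0caa0c240a0809780c7c000c0ab5083b0b9506a201db00cc018800a104f80e0000840c75032208390a5d08f301240b09032a059d0380048107a40c040b6e091e08ef09c807fc026903200980025a0d6e0e8103d904440277000d0c7205e102c70b2c0f620bce00c0001e06d5074d04fb0b380f8d098f00080fac0e8b003c0d380cae0bde002807bc02c80d1f0df7070a089301500cd30ddb0323082c0f930d2f04a802810d0b037c0d95047203d203210c1a0edd04a40a3307010536078d0a9802260c0308ee0ef70e8508d80e3b06ba0d9b03510a3d08900aa605f60c00067303c209c90703001501860b2204f406ee00e50a5009ae05f10d3f0658074e0abc0e1204990542041408000722047b031d0e3802c10b330fa10dc00850047d0bbd03e005470c4304e403a1073308d00bcb01c903cb09e207230c910bd3041005100bfd04e608ff0bbc0b3903cd00ec0db904ae0aa7017e009e03c506dc0b98033a063e026e0eab0cc100520c8f073402ff010201bc02ec0d5e074a07060d08025e02ce055604d10b110c4f0a05052e073f062301c5077c0f4b086109f501800367099d06c308c5061b076607cc07b60e2104980f5a018905a40be60416031a064400260b1804c3080209d80d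240bac05e8091400af051f011300fe09540d4308950d15092c0a090f1f0ef60ddd05c7035802090fb10d200959078403a00d78045903e306e00c69003a01ec0773064603f6081a00d5001c0c92064102d2012d06850e760dea077f0d140bb105570905096c0f6c080506630a61051d0ed70eb60a0709f60381069906370199016300ca0fc60c510118001405830adc0664069a075f044205a9093f0b600bc10896050a0d0a083c04860e9b0d610a8d0484073b02440b34039b01b908230d130f270e56057c05d40be30f3d04f00ede0ee40ed605fe09b10d98046b03ad042c0d2d047a0e32055209300b8e0f740f1d07250631057608c20f0f04730a6b06b1088508910a0b0d050c390c4c01fc00d303880e8e08840e4009910b800f340d8500bf09660d6004f307070c5301e10460014b0f94041f0b6504e30aa5078f08630b59034f04130cc601f5021406510ec605d800db03a902600097038d062b079a07d907fb059a024e011a00fb02e10b27045c0be5064f02d103c40aff027e0ea9087d00c703e505b30ce2050605870eb402ed063d0e700eaf02d304510ca5095f023003bc074804ea0c8d0d630b73004408f4034b075a066f0421065a084d0f5902c50346044e0f4e0ee90c6301fb0e140bab06de066608360182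0c0607ba05c102630c7e003f01d306f80efd0f50058906ad0d250ece0c8102860bb80dda038f0f4f0524066900920edc003408c4057b00240be209250bb3094003ff00ea0b10006008750126016702b20c2d060b06c5052f0f640c8a01a309030fb20b3c05dc08510a560dd005e40374043101490bff0cba02c4073e0bed01d40fb50e7d04a60cfc023a05d0046e004f0a850c220b3a06f40ac409010be0088f000f08c000100d8e087802a807e405390a2f04710ea0057800770ef90b3d04e70a030e1e00a901ae09e30c84067901d60fbb09a60438029c0b8d06e306e70eb205f305c0012508820066024a08710c740e1900030b4a0e200b880a9f0e880491071d05a20dbd09f10aeb02580e930a1a0af40e72099c0c73002e0d7409670f90011404ac005d01540461033e0349042d071609d9090e004c0b0e082708ce0979018f09880c0505af0eef032808fd0c47065c01f0087a0f9d02c2035a069f006205860efc0f4801a20bd40dac0d420fc9046907d70a2608210fab06fc0826050206cc079407b40325093e0711027402a6035607e20cea046706390aea050c002907d3083e0e970fa80e4504c20ae60b3e089b025709860f4c016c020e021a01d705920d5a03c1028f063a098c0a660cca007803720b9001100c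3106d30545072704770a4101ab0926085a02790d880e3500f40e94099b073a0a900c400cd80df00f960ba500ba0cc204650b83061307350b15060806f900e7052c042a0c6e09a700bd004b009001fe02400913098e0242053e013504f20f630264079708a60f0809e80c2b04080ce40d700a4c063b00940b9906d702ad03c800630b630df606520ebd0f8e0d8604950f5f0c130e730e30007d004506f20ef402e303d60a950b2d092409440152052a0d6b01ad06ed0379081906500a12003e094b07f808e401740f3e0daa09ef099a006802040db10519044f01b805300c9a04190b7e04cf0c2306fd02950ebe0d710e7b06620aba0e6e0dfa029b025307a105ce0d1101d5042409330a7e0436040c0049058e0ae0090c08690a000b410e0e0505076e0d8a04c40c200c0808cb0dca00e407790e3900f70e5d094f0a8306760ac30dd70cc9069c02730bc50aa107c70dfe07da026b06fb01e309d50bc00f7e099f07bd080d0e3d0cdc0b8406e50a540b570a0a0ef3086c0dab0d320a310330062a022207dc0bb502a0014f07500e230801004109e0045804070cff0b6f0c6c0f060340048b06830f7205c60c7a0a7b0cfd07a00648039c0a820b710e1a03b90567011e024707960cf707f106100293032605140ed105380449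0ab6028d0d580f3c08b2081e02fe05fb07bf01ba02e506ab0c0c0572034409190da109b304290a020acd0f730788014e0ad90af3050402d002b90ce00fcf01450c9005ed02830b45049208b50f0a052d04830b310b97010100320b770a2c0710030c0a520b720dbe0d5c0adb0cd40f650c680177077708fe0456027b06d60cb50ca70e0b008608f10fd202e2033f0be9064c04d40a0d0f090f1b02d40c4a0a2800f60d090e9a03910ace0785022d00070fd603ca09a3068e06b600d9066b03550fc40efa02fa0cfb0fc20d5508a4018e0c930fba096e05220f43064e0f80099400470ba80289096d0bad02f70817062f04e508df09fb0abd02db01be0c2104ab0a76059b0e16068909b402ef0c88058a0b2907a7002d02b602b300ab00d40e2b0d790e84091106090a160252078b08dc0e8a078a02a70708023f0db402c601aa0f180cb0061f09be0bcc073109c307c00dc8079d06590ec903500aec0bb70e1b0e2707e000e80dfd0811022c047808af0f2906260cd609ac08c70e6f0955093a062c09b80b01008d0f0302780a53042f02e707b3005701c1040f08550b5c029a0b200e9e076a023d09f00db008280afb09bf018c0602084f09e10f79067103b709f80588077d0ba70da2017d007103d004c5060d089a0cf2086b0e89057a08a004200e2604960042094e059901d80f6b0a94010806f7004d082d0694045304ee01f70261030f00b8063200b10dad0ca804e20ccb08740a800b9d0a55074901fa0c6d04350e3a0256089c00560739067c0d570f3505e702c904ba05610532017608a7041b0984099001460a4e0e74088c0c07045a08f0075208cc03cc095203f304930add0ec506ce0a96055f0ab40a5c018b]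

private theorem TL_eq : NL.map tabN = TL := by decide +kernel

private noncomputable def evalT (w : List ℕ) (i : ℕ) : ℕ :=
  List.rec (motive := fun _ => ℕ) i
    (fun a _ ih => forceN ih fun c => Nat.mod (Nat.shiftRight (nthT TL a) (Nat.mul 16 c)) 4096) w

private theorem evalT_eq {i : ℕ} (hi : i < 4096) : ∀ w, evalT w i = evalK w i ∧ evalK w i < 4096
  | [] => ⟨rfl, hi⟩
  | a :: w => by
    obtain ⟨h1, h2⟩ := evalT_eq hi w
    have h3 : evalK (a :: w) i = app (nthL NL a) (evalK w i) := (forceN_eq _ _).trans (appK_eq _ _)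
    have h4 : evalT (a :: w) i = Nat.mod (Nat.shiftRight (nthT TL a) (Nat.mul 16 (evalT w i))) 4096 :=
      forceN_eq (evalT w i) fun c => Nat.mod (Nat.shiftRight (nthT TL a) (Nat.mul 16 c)) 4096
    refine ⟨?_, h3 ▸ (in_nthL NL in_NL a).app_lt h2⟩
    rw [h4, h3, h1, ← TL_eq, nthT_map, tabN_eq (in_nthL NL in_NL a) h2]

private noncomputable def evalX (w : List ℕ) (i : ℕ) : ℕ :=
  Bool.rec (motive := fun _ => ℕ) (evalT w i) (evalK w i) (Nat.ble 4096 i)

private theorem evalX_eq : evalK = evalX := funext fun w => funext fun i => by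
  show _ = Bool.rec (motive := fun _ => ℕ) (evalT w i) (evalK w i) (Nat.ble 4096 i)
  cases h : Nat.ble 4096 i
  · exact (evalT_eq (Nat.lt_of_not_le fun e => Bool.false_ne_true (h.symm.trans (Nat.ble_eq_true_of_le e))) w).1.symm
  · rfl

private noncomputable def eqF (u v : List ℕ) : Bool :=
  allL (fun b => Nat.beq (evalX u b) (evalX v b)) [0, 29, 580, 577]

private theorem eqF_eq : (fun u v : List ℕ => allL (fun b => Nat.beq (evalK u b) (evalK v b)) [0, 29, 580, 577]) = eqF :=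
  congrArg (fun (e : List ℕ → ℕ → ℕ) (u v : List ℕ) => allL (fun b => Nat.beq (e u b) (e v b)) [0, 29, 580, 577]) evalX_eq

private theorem eqv_eq : Cfsg.Agent.OddHalf.D9.Ru.XChk.eqv = eqF := eqF_eq

end fast

end Cfsg.Agent.RuFast
end


/-!
# ODD half, D8, K = Ru: packet PI (`Plane`) on `RuOrder.H`

All facts are identities between words in the letters of `RuD.Letters`, evaluated at the four base points.
-/

set_option autoImplicit false
set_option maxRecDepth 100000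

namespace Cfsg.Agent.OddHalf.D8.RuFam.PlaneRu

open Subgroup Cfsg.Agent.SporadicB Cfsg.Agent.RuD.Letters Cfsg.Agent.SporRec.TCUpperCert
open Cfsg.Agent.SporadicB.RuOrder Cfsg.Agent.SporRec.R3.Kernel
open Cfsg.Agent.OddHalf.D9.Ru Cfsg.Agent.OddHalf.D9.Ru.XDef Cfsg.Agent.OddHalf.D9.Ru.XData
open Cfsg.Agent.OddHalf.D9.Ru.XChk Cfsg.Agent.OddHalf.D8.RuFam.BDef Cfsg.Agent.OddHalf.D8.RuFam.WordX

/-! ### the words -/

def kW : List ℕ := [3]
def uW : List ℕ := [3, 1, 1, 7]
def ρW : List ℕ := [4]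
def gqW : List ℕ := XCover.hw ++ (gW [1, 3, 4, 7] ++ [4, 0])
def jW : List ℕ := gW [0, 1, 3]
def e₀W : List ℕ := 3 :: (gW [9] ++ [7])
def e₁W : List ℕ := 3 :: (gW [8, 9] ++ [7])
def g₂W : List ℕ := gW [2]
def xW : List ℕ := gW [8, 9]
def j₂W : List ℕ := xW ++ (4 :: (e₀W ++ (8 :: 4 :: 4 :: (e₀W ++ (e₁W ++ [8, 8])))))
def hW : List ℕ := [3, 5, 0, 7]
def fW : List ℕ := gW [1, 2]

/-! ### the elements -/

noncomputable def k : RuOrder.H := wprod ml kW
noncomputable def u : RuOrder.H := wprod ml uW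
noncomputable def ρ : RuOrder.H := wprod ml ρW
noncomputable def g : RuOrder.H := wprod ml gqW
noncomputable def j : RuOrder.H := G [0, 1, 3]
noncomputable def e₀ : RuOrder.H := wprod ml e₀W
noncomputable def e₁ : RuOrder.H := wprod ml e₁W
noncomputable def g₂ : RuOrder.H := G [2]
noncomputable def eb : RuOrder.H := G [8, 9]
noncomputable def j₂ : RuOrder.H := wprod ml j₂W
noncomputable def x₂ : RuOrder.H := G [8, 9]
noncomputable def h : RuOrder.H := wprod ml hW
noncomputable def f : RuOrder.H := G [1, 2]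

/-! the expressions -/
def kX : X := .w kW
def uX : X := .w uW
def ρX : X := .w ρW
def gX : X := .w gqW
def jX : X := .w jW
def e₀X : X := .w e₀W
def e₁X : X := .w e₁W
def g₂X : X := .w g₂W
def xX : X := .w xW
def j₂X : X := .w j₂W
def hX : X := .w hW
def fX : X := .w fW

/-- `a b a⁻¹` -/
def X.cj (a b : X) : X := .mul (.mul a b) (.inv a)
/-- `a⁻¹ b a` -/
def X.jc (a b : X) : X := .mul (.mul (.inv a) b) a
/-- `a b a⁻¹ b⁻¹` -/
def X.cm (a b : X) : X := .mul (.mul (.mul a b) (.inv a)) (.inv b)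
/-- `ρ ρ b ρ⁻¹ ρ⁻¹` -/
def ρρX (b : X) : X := .mul (.mul (.mul (.mul ρX ρX) b) (.inv ρX)) (.inv ρX)

/-! ### the elementary fields -/

theorem ku : k * (S * S) * k⁻¹ = u :=
  X.eq_of (x := X.cj kX .zz) (y := uX) (by rw [RuFast.eqv_eq]; decide +kernel)
theorem uE : u ∈ XR.E := X.mem_E (x := uX) 1 (by norm_num) (by rw [RuFast.eqv_eq]; decide +kernel)
theorem zEu : k⁻¹ * (S * S) * k ∈ XR.E := X.mem_E (x := X.jc kX .zz) 24 (by norm_num) (by rw [RuFast.eqv_eq]; decide +kernel)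
theorem ρ3 : ρ * ρ * ρ = 1 :=
  X.eq_of (x := .mul (.mul ρX ρX) ρX) (y := .w []) (by rw [RuFast.eqv_eq]; decide +kernel)
theorem ρu : u * (ρ * u * ρ⁻¹) * (ρ * ρ * u * ρ⁻¹ * ρ⁻¹) = 1 :=
  X.eq_of (x := .mul (.mul uX (X.cj ρX uX)) (ρρX uX)) (y := .w []) (by rw [RuFast.eqv_eq]; decide +kernel)
theorem uEu : k⁻¹ * (ρ * u * ρ⁻¹) * k ∈ XR.E :=
  X.mem_E (x := X.jc kX (X.cj ρX uX)) 1 (by norm_num) (by rw [RuFast.eqv_eq]; decide +kernel)
theorem gz : g * (S * S) = (S * S) * g :=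
  X.eq_of (x := .mul gX .zz) (y := .mul .zz gX) (by rw [RuFast.eqv_eq]; decide +kernel)
theorem gρ : g * ρ * g⁻¹ = ρ⁻¹ :=
  X.eq_of (x := X.cj gX ρX) (y := .inv ρX) (by rw [RuFast.eqv_eq]; decide +kernel)
theorem gu : g * u = u * g :=
  X.eq_of (x := .mul gX uX) (y := .mul uX gX) (by rw [RuFast.eqv_eq]; decide +kernel)
theorem e₀E : k⁻¹ * e₀ * k ∈ XR.E := X.mem_E (x := X.jc kX e₀X) 8 (by norm_num) (by rw [RuFast.eqv_eq]; decide +kernel)
theorem e₀R : e₀ ∈ XR.R := X.mem_R (x := e₀X) [0, 1, 3, 4, 5, 6, 8] (by decide) (by rw [RuFast.eqv_eq]; decide +kernel)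
theorem e₁E : k⁻¹ * e₁ * k ∈ XR.E := X.mem_E (x := X.jc kX e₁X) 12 (by norm_num) (by rw [RuFast.eqv_eq]; decide +kernel)
theorem e₁P : e₁ ∈ P1 := X.mem_P (x := e₁X) [1, 3, 7, 10] [5, 0, 2] (by rw [RuFast.eqv_eq]; decide +kernel)
theorem ρP : ρ ∈ P1 := X.mem_P (x := ρX) [] [2] (by rw [RuFast.eqv_eq]; decide +kernel)
theorem N₁ : e₁ * (ρ * e₁ * ρ⁻¹) * (ρ * ρ * e₁ * ρ⁻¹ * ρ⁻¹) ∈ XR.E :=
  X.mem_E (x := .mul (.mul e₁X (X.cj ρX e₁X)) (ρρX e₁X)) 0 (by norm_num) (by rw [RuFast.eqv_eq]; decide +kernel)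
theorem N₀ : e₀ * (ρ * e₀ * ρ⁻¹) * (ρ * ρ * e₀ * ρ⁻¹ * ρ⁻¹) * (j * (g * j * g⁻¹))⁻¹ ∈ XR.E :=
  X.mem_E (x := .mul (.mul (.mul e₀X (X.cj ρX e₀X)) (ρρX e₀X)) (.inv (.mul jX (X.cj gX jX)))) 3 (by norm_num)
    (by rw [RuFast.eqv_eq]; decide +kernel)
theorem ge₁ : g * e₁ * g⁻¹ * e₁⁻¹ ∈ XR.E :=
  X.mem_E (x := X.cm gX e₁X) 0 (by norm_num) (by rw [RuFast.eqv_eq]; decide +kernel)
theorem eb₀ : eb * e₀ * eb⁻¹ * e₀⁻¹ = 1 :=
  X.eq_of (x := X.cm xX e₀X) (y := .w []) (by rw [RuFast.eqv_eq]; decide +kernel)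
theorem eb₁ : eb * e₁ * eb⁻¹ * e₁⁻¹ = u :=
  X.eq_of (x := X.cm xX e₁X) (y := uX) (by rw [RuFast.eqv_eq]; decide +kernel)
theorem j₂B : k⁻¹ * j₂ * k ∈ B := X.mem_B (x := X.jc kX j₂X) 3 9 (by norm_num) (by norm_num) (by rw [RuFast.eqv_eq]; decide +kernel)
theorem j₂e : j₂ = x₂ * (ρ * e₀ * ρ⁻¹) * (ρ * ρ * (e₀ * e₁) * ρ⁻¹ * ρ⁻¹) :=
  X.eq_of (x := j₂X) (y := .mul (.mul xX (X.cj ρX e₀X)) (ρρX (.mul e₀X e₁X))) (by rw [RuFast.eqv_eq]; decide +kernel)
theorem kap : eb * j₂ * eb⁻¹ * j₂⁻¹ * (ρ * ρ * u * ρ⁻¹ * ρ⁻¹) = u * (S * S) :=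
  X.eq_of (x := .mul (X.cm xX j₂X) (ρρX uX)) (y := .mul uX .zz) (by rw [RuFast.eqv_eq]; decide +kernel)
theorem h₀ : h * h * h = 1 := X.eq_of (x := .mul (.mul hX hX) hX) (y := .w []) (by rw [RuFast.eqv_eq]; decide +kernel)
theorem hu : h * u = u * h := X.eq_of (x := .mul hX uX) (y := .mul uX hX) (by rw [RuFast.eqv_eq]; decide +kernel)
theorem hj : k⁻¹ * (j₂⁻¹ * (h⁻¹ * j₂ * h)) * k ∈ XR.E :=
  X.mem_E (x := X.jc kX (.mul (.inv j₂X) (X.jc hX j₂X))) 29 (by norm_num) (by rw [RuFast.eqv_eq]; decide +kernel)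
theorem hz : S * S * (h * (S * S) * h⁻¹) * (h⁻¹ * (S * S) * h) = 1 :=
  X.eq_of (x := .mul (.mul .zz (X.cj hX .zz)) (X.jc hX .zz)) (y := .w []) (by rw [RuFast.eqv_eq]; decide +kernel)
theorem fR : f ∈ XR.R := XR.G_mem_R (by decide)
theorem fR₁ : h⁻¹ * f * h ∈ XR.R :=
  X.mem_R (x := X.jc hX fX) [0, 2, 3, 4, 5, 6] (by decide) (by rw [RuFast.eqv_eq]; decide +kernel)
theorem fR₂ : h * f * h⁻¹ ∈ XR.R :=
  X.mem_R (x := X.cj hX fX) [1, 2, 7, 9, 10] (by decide) (by rw [RuFast.eqv_eq]; decide +kernel)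

/-! ### `C_E(ρ) = ⟨z⟩` -/

theorem G_z : G (msk 26) = S * S := XR.z_eq

theorem chk_ρE : ∀ m < 32, m = 0 ∨ m = 26 ∨ eqv (4 :: gW (msk m)) (gW (msk m) ++ [4]) = false := by
  rw [RuFast.eqv_eq]
  decide +kernel

theorem ρE : ∀ e ∈ XR.E, ρ * e = e * ρ → e = 1 ∨ e = S * S := by
  intro e he h1
  obtain ⟨m, hm, rfl⟩ := XR.exists_msk e he
  rcases chk_ρE m hm with rfl | rfl | h2
  · left; rfl
  · right; exact G_z
  · exfalso
    exact X.ne_of (x := .mul ρX (.w (gW (msk m)))) (y := .mul (.w (gW (msk m))) ρX) h2 h1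

/-! ### `k E k⁻¹ = ⟨z, u, u^ρ, e₀, e₁⟩` -/

/-- an inclusion of a conjugate of `E` -/
theorem conj_E_le {c : RuOrder.H} {K : Subgroup RuOrder.H} (h : ∀ i < 5, c * G [i + 6] * c⁻¹ ∈ K) :
    ∀ x ∈ XR.E, c * x * c⁻¹ ∈ K := by
  have key : XR.E ≤ K.comap (MulAut.conj c).toMonoidHom := by
    rw [XR.E, closure_le]
    rintro x ⟨i, hi, rfl⟩
    exact h i hi
  intro x hx
  exact key hx

theorem gen0 : k * G [6] * k⁻¹ = ρ * u * ρ⁻¹ :=
  X.eq_of (x := X.cj kX (.w (gW [6]))) (y := X.cj ρX uX) (by rw [RuFast.eqv_eq]; decide +kernel)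
theorem gen1 : k * G [7] * k⁻¹ = S * S * u :=
  X.eq_of (x := X.cj kX (.w (gW [7]))) (y := .mul .zz uX) (by rw [RuFast.eqv_eq]; decide +kernel)
theorem gen2 : k * G [8] * k⁻¹ = e₀ * e₁ :=
  X.eq_of (x := X.cj kX (.w (gW [8]))) (y := .mul e₀X e₁X) (by rw [RuFast.eqv_eq]; decide +kernel)
theorem gen3 : k * G [9] * k⁻¹ = e₀ :=
  X.eq_of (x := X.cj kX (.w (gW [9]))) (y := e₀X) (by rw [RuFast.eqv_eq]; decide +kernel)
theorem gen4 : k * G [10] * k⁻¹ = S * S * e₀ :=
  X.eq_of (x := X.cj kX (.w (gW [10]))) (y := .mul .zz e₀X) (by rw [RuFast.eqv_eq]; decide +kernel)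

theorem gen : ∀ x ∈ XR.E, k * x * k⁻¹ ∈ closure ({S * S, u, ρ * u * ρ⁻¹, e₀, e₁} : Set RuOrder.H) := by
  have m1 : S * S ∈ closure ({S * S, u, ρ * u * ρ⁻¹, e₀, e₁} : Set RuOrder.H) := subset_closure (by simp)
  have m2 : u ∈ closure ({S * S, u, ρ * u * ρ⁻¹, e₀, e₁} : Set RuOrder.H) := subset_closure (by simp)
  have m3 : ρ * u * ρ⁻¹ ∈ closure ({S * S, u, ρ * u * ρ⁻¹, e₀, e₁} : Set RuOrder.H) := subset_closure (by simp)
  have m4 : e₀ ∈ closure ({S * S, u, ρ * u * ρ⁻¹, e₀, e₁} : Set RuOrder.H) := subset_closure (by simp)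
  have m5 : e₁ ∈ closure ({S * S, u, ρ * u * ρ⁻¹, e₀, e₁} : Set RuOrder.H) := subset_closure (by simp)
  refine conj_E_le fun i hi => ?_
  interval_cases i
  · exact gen0.symm ▸ m3
  · exact gen1.symm ▸ mul_mem m1 m2
  · exact gen2.symm ▸ mul_mem m4 m5
  · exact gen3.symm ▸ m4
  · exact gen4.symm ▸ mul_mem m1 m4

/-! ### `hE` -/

def cX : X := .mul (.mul (.inv kX) (.inv hX)) kX

theorem hE : ∀ x ∈ XR.E, k⁻¹ * (h⁻¹ * (k * x * k⁻¹) * h) * k ∈ XR.E := by
  have key : ∀ x ∈ XR.E, (k⁻¹ * h⁻¹ * k) * x * (k⁻¹ * h⁻¹ * k)⁻¹ ∈ XR.E := by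
    refine conj_E_le fun i hi => ?_
    interval_cases i
    · exact X.mem_E (x := X.cj cX (.w (gW [6]))) 5 (by norm_num) (by rw [RuFast.eqv_eq]; decide +kernel)
    · exact X.mem_E (x := X.cj cX (.w (gW [7]))) 16 (by norm_num) (by rw [RuFast.eqv_eq]; decide +kernel)
    · exact X.mem_E (x := X.cj cX (.w (gW [8]))) 1 (by norm_num) (by rw [RuFast.eqv_eq]; decide +kernel)
    · exact X.mem_E (x := X.cj cX (.w (gW [9]))) 2 (by norm_num) (by rw [RuFast.eqv_eq]; decide +kernel)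
    · exact X.mem_E (x := X.cj cX (.w (gW [10]))) 8 (by norm_num) (by rw [RuFast.eqv_eq]; decide +kernel)
  intro x hx
  have h1 := key x hx
  have e : (k⁻¹ * h⁻¹ * k) * x * (k⁻¹ * h⁻¹ * k)⁻¹ = k⁻¹ * (h⁻¹ * (k * x * k⁻¹) * h) * k := by group
  rwa [e] at h1

/-! ### `test` -/

/-- the words of the elements of `Π` -/
def piW (m : ℕ) : List ℕ :=
  (bif Nat.testBit m 0 then [1, 1] else []) ++ ((bif Nat.testBit m 1 then uW else []) ++
    (bif Nat.testBit m 2 then 4 :: (uW ++ [8]) else []))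

theorem bif_pi {b : Bool} {w : List ℕ} {K : Subgroup RuOrder.H} (h : wprod ml w ∈ K) :
    wprod ml (bif b then w else []) ∈ K := by
  cases b
  · exact one_mem _
  · exact h

theorem piW_mem (m : ℕ) : (wprod ml (piW m) : RuOrder.H) ∈ closure ({S * S, u, ρ * u * ρ⁻¹} : Set RuOrder.H) := by
  rw [piW, wprod_append, wprod_append]
  have h1 : (wprod ml [1, 1] : RuOrder.H) = S * S := (X.val_eq .zz).symm
  have h2 : (wprod ml (4 :: (uW ++ [8])) : RuOrder.H) = ρ * u * ρ⁻¹ :=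
    X.eq_of (x := .w (4 :: (uW ++ [8]))) (y := X.cj ρX uX) (by rw [RuFast.eqv_eq]; decide +kernel)
  refine mul_mem (bif_pi ?_) (mul_mem (bif_pi ?_) (bif_pi ?_))
  · rw [h1]; exact subset_closure (by simp)
  · exact subset_closure (by right; left; rfl)
  · rw [h2]; exact subset_closure (by simp)

theorem c0 : e₁ * G [0] * e₁⁻¹ * (G [0])⁻¹ ∈ XR.E :=
  X.mem_E (x := X.cm e₁X (.w (gW [0]))) 24 (by norm_num) (by rw [RuFast.eqv_eq]; decide +kernel)
theorem c1 : e₁ * G [1] * e₁⁻¹ * (G [1])⁻¹ ∈ XR.E :=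
  X.mem_E (x := X.cm e₁X (.w (gW [1]))) 2 (by norm_num) (by rw [RuFast.eqv_eq]; decide +kernel)

/-- the element of `E` with mask `m` lies in `Π`, or does not commute with `G [0]` or `G [1]` -/
theorem chk_test : ∀ m < 32, (∃ i < 8, eqv (gW (msk m)) (piW i) = true) ∨
    eqv (gW (msk m) ++ gW [0]) (gW [0] ++ gW (msk m)) = false ∨
      eqv (gW (msk m) ++ gW [1]) (gW [1] ++ gW (msk m)) = false := by
  rw [RuFast.eqv_eq]
  decide +kernel

theorem test : ∀ ζ ∈ XR.E, (∀ c ∈ XR.R, e₁ * c * e₁⁻¹ * c⁻¹ ∈ XR.E → ζ * c = c * ζ) →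
    ζ ∈ closure ({S * S, u, ρ * u * ρ⁻¹} : Set RuOrder.H) := by
  intro ζ hζ H
  obtain ⟨m, hm, rfl⟩ := XR.exists_msk ζ hζ
  have h0 := H _ (XR.G_mem_R (l := [0]) (by decide)) c0
  have h1 := H _ (XR.G_mem_R (l := [1]) (by decide)) c1
  rcases chk_test m hm with ⟨i, -, h2⟩ | h2 | h2
  · have h3 : G (msk m) = wprod ml (piW i) := eqv_sound h2
    rw [h3]
    exact piW_mem i
  · exact absurd h0 (X.ne_of (x := .mul (.w (gW (msk m))) (.w (gW [0]))) (y := .mul (.w (gW [0])) (.w (gW (msk m)))) h2)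
  · exact absurd h1 (X.ne_of (x := .mul (.w (gW (msk m))) (.w (gW [1]))) (y := .mul (.w (gW [1])) (.w (gW (msk m)))) h2)

/-! ### `Bj`, `jgen` -/

theorem gj : g * j * g⁻¹ = G (cs 3 ++ msk 16) :=
  X.eq_G (x := X.cj gX jX) (by rw [RuFast.eqv_eq]; decide +kernel)
theorem jgj : j * (g * j * g⁻¹) = G (cs 2 ++ msk 10) :=
  X.eq_G (x := .mul jX (X.cj gX jX)) (by rw [RuFast.eqv_eq]; decide +kernel)

theorem Bj : ∀ b ∈ B, b ∈ XR.E ∨ j⁻¹ * b ∈ XR.E ∨ (g * j * g⁻¹)⁻¹ * b ∈ XR.E ∨ (j * (g * j * g⁻¹))⁻¹ * b ∈ XR.E := by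
  intro b hb
  obtain ⟨c, hc, e, he, rfl⟩ := mem_B.1 hb
  have key : ∀ {c m : ℕ} {e : RuOrder.H}, m < 32 → e ∈ XR.E →
      (G (cs c ++ msk m))⁻¹ * (G (cs c) * e) ∈ XR.E := by
    intro c m e hm he
    rw [G_append]
    have e1 : (G (cs c) * G (msk m))⁻¹ * (G (cs c) * e) = (G (msk m))⁻¹ * e := by group
    rw [e1]
    exact mul_mem (inv_mem (msk_mem hm)) he
  interval_cases c
  · left
    have e1 : G (cs 0) * e = e := one_mul e
    rw [e1]; exact he
  · right; left
    have h1 := key (c := 1) (m := 0) (by norm_num) he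
    exact h1
  · right; right; right
    rw [jgj]
    exact key (by norm_num) he
  · right; right; left
    rw [gj]
    exact key (by norm_num) he

theorem j_eq : j = e₀ * (ρ * e₀ * ρ⁻¹) * (ρ * e₁ * ρ⁻¹) * (g₂ * (ρ * e₁ * ρ⁻¹) * g₂⁻¹) * G (msk 23) :=
  X.eq_of (x := jX) (y := .mul (.mul (.mul (.mul e₀X (X.cj ρX e₀X)) (X.cj ρX e₁X)) (X.cj g₂X (X.cj ρX e₁X)))
    (.w (gW (msk 23)))) (by rw [RuFast.eqv_eq]; decide +kernel)

theorem jgen : j ∈ closure ((XR.E : Set RuOrder.H) ∪ {e₀, e₁, ρ * e₀ * ρ⁻¹, ρ * e₁ * ρ⁻¹, ρ * ρ * e₀ * ρ⁻¹ * ρ⁻¹,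
    ρ * ρ * e₁ * ρ⁻¹ * ρ⁻¹, g₂ * (ρ * e₀ * ρ⁻¹) * g₂⁻¹, g₂ * (ρ * e₁ * ρ⁻¹) * g₂⁻¹}) := by
  rw [j_eq]
  refine mul_mem (mul_mem (mul_mem (mul_mem ?_ ?_) ?_) ?_) ?_
  · exact subset_closure (Or.inr (by simp))
  · exact subset_closure (Or.inr (by simp))
  · exact subset_closure (Or.inr (by simp))
  · exact subset_closure (Or.inr (by simp))
  · exact subset_closure (Or.inl (msk_mem (by norm_num)))

/-! ### `fb` -/

/-- the word of `[k b k⁻¹, f]` -/
def fbX (c m : ℕ) : X := X.cm (X.cj kX (.w (gW (cs c ++ msk m)))) fX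

/-- the image of the point 0 is not the given one -/
noncomputable def fbC (c m : ℕ) : Bool :=
  forceN' (evalK (fbX c m).word 0)
where
  /-- compare with the four values -/
  forceN' (v : ℕ) : Bool := !(Nat.beq v (evalK [] 0)) && (!(Nat.beq v (evalK [1, 1] 0)) &&
    (!(Nat.beq v (evalK (X.cj hX .zz).word 0)) && !(Nat.beq v (evalK (X.jc hX .zz).word 0))))

theorem chk_fb : ∀ c < 3, ∀ m < 32, fbC (c + 1) m = true := by
  delta fbC fbC.forceN'
  rw [RuFast.evalX_eq]
  decide +kernel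

theorem ne_of_eval {x y : X} (h : Nat.beq (evalK x.word 0) (evalK y.word 0) = false) : x.val ≠ y.val := by
  intro e
  rw [X.val_eq, X.val_eq] at e
  have h1 : evalK x.word ((⟨0, by norm_num⟩ : Fin 4060) : ℕ) = evalK y.word ((⟨0, by norm_num⟩ : Fin 4060) : ℕ) := by
    rw [← evalK_eq, ← evalK_eq, e]
  have h2 : evalK x.word 0 = evalK y.word 0 := h1
  rw [h2, Nat.beq_refl] at h
  exact Bool.noConfusion h

theorem fb : ∀ b ∈ B, (∃ x : RuOrder.H, (x = 1 ∨ x = S * S ∨ x = h * (S * S) * h⁻¹ ∨ x = h⁻¹ * (S * S) * h) ∧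
    k * b * k⁻¹ * f * (k * b * k⁻¹)⁻¹ * f⁻¹ = x) → b ∈ XR.E := by
  rintro b hb ⟨x, hx, h1⟩
  obtain ⟨c, hc, m, hm, rfl⟩ := mem_B_msk.1 hb
  rcases Nat.eq_zero_or_pos c with rfl | hc0
  · exact msk_mem hm
  exfalso
  have h2 := chk_fb (c - 1) (by omega) m hm
  rw [Nat.sub_add_cancel hc0] at h2
  simp only [fbC, fbC.forceN', Bool.and_eq_true, Bool.not_eq_true'] at h2
  obtain ⟨n1, n2, n3, n4⟩ := h2
  rcases hx with rfl | rfl | rfl | rfl
  · exact ne_of_eval (x := fbX c m) (y := .w []) n1 h1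
  · exact ne_of_eval (x := fbX c m) (y := .zz) n2 h1
  · exact ne_of_eval (x := fbX c m) (y := X.cj hX .zz) n3 h1
  · exact ne_of_eval (x := fbX c m) (y := X.jc hX .zz) n4 h1

/-- packet PI -/
theorem plane : Plane (⊤ : Subgroup RuOrder.H) (S * S) P1 XR.R B XR.E k u ρ g j e₀ e₁ g₂ eb j₂ x₂ h f where
  kK := mem_top _
  ku := ku
  uE := uE
  zEu := zEu
  ρP := ρP
  ρ3 := ρ3
  ρu := ρu
  uEu := uEu
  ρE := ρE
  gK := mem_top _
  gz := gz
  gρ := gρ
  gu := gu
  e₀E := e₀E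
  e₀R := e₀R
  e₁E := e₁E
  e₁P := e₁P
  gen := gen
  test := test
  jB := cs_mem_B (c := 1) (by norm_num)
  N₀ := N₀
  N₁ := N₁
  ge₁ := ge₁
  Bj := Bj
  g₂R := XR.G_mem_R (by decide)
  jgen := jgen
  ebE := msk_mem (m := 12) (by norm_num)
  eb₀ := eb₀
  eb₁ := eb₁
  j₂B := j₂B
  x₂E := msk_mem (m := 12) (by norm_num)
  j₂e := j₂e
  kap := kap
  h₀ := h₀
  hK := mem_top _
  hu := hu
  hE := hE
  hj := hj
  hz := hz
  fR := fR
  fR₁ := fR₁
  fR₂ := fR₂
  fb := fb

end Cfsg.Agent.OddHalf.D8.RuFam.PlaneRu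

private theorem dce_be413dc75ea0 : _root_.True := by
  try have : _root_.True := by simp only [_root_.Cfsg.Agent.OddHalf.D8.RuFam.PlaneRu.fbC.forceN'.eq_1]
  try have : _root_.True := by simp only [_root_.Cfsg.Agent.OddHalf.D8.RuFam.PlaneRu.piW.eq_1]
  try have : _root_.True := by simp only [_root_.Cfsg.Agent.OddHalf.D8.RuFam.PlaneRu.fbC.eq_1]
  exact _root_.True.intro
end

-- part: OddHalf/Orth/KFr
section
prune_inst 0x2000000018000020000640520000000040080000600c40048024200d002001a020041218000044003500481010000000000000000000000100058100000000b1480100020000000080000000000000000000000000000000000000200000000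
set_option linter.all false
open scoped Cfsg.Agent.FastGrp

-- part: OddHalf/Orth/End
section
-- merged: Cfsg.Agent.OddHalf.Orth.Grow2
section

/-!
# Growth of doubled root groups (layers)

`t` is an involution, `V 0, V 1, …` are elementary abelian 2-groups normalised by `t` on which `t` acts freely,
`V j` normalises `W j` where `W k = ⟨V i : i < k⟩`, and the fixed point groups `X i = C_{V i}(t)` are independent in
the sense that `X k ⊓ U k = ⊥`, `U k = ⟨X i : i < k⟩`. Then `C_{W k}(t) = U k`, every involution of `t W k` is conjugate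
to `t` under `W k`, and if `⟨t⟩ U n` has odd index in `C_G(t)` then `G` has a subgroup of index 2 which does not
contain `t`.
-/

set_option autoImplicit false
set_option linter.unusedSectionVars false

namespace Cfsg.Agent.OddHalf.Orth.Grow2

variable {G : Type*} [Group G]

/-- The group generated by the first `k` terms. -/
def W (V : ℕ → Subgroup G) (k : ℕ) : Subgroup G := ⨆ i : ℕ, ⨆ _ : i < k, V i

theorem le_W (V : ℕ → Subgroup G) {i k : ℕ} (h : i < k) : V i ≤ W V k :=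
  le_iSup₂_of_le (f := fun i (_ : i < k) => V i) i h le_rfl

theorem W_mono (V : ℕ → Subgroup G) {j k : ℕ} (h : j ≤ k) : W V j ≤ W V k :=
  iSup₂_le fun _ hi => le_W V (lt_of_lt_of_le hi h)

theorem W_zero (V : ℕ → Subgroup G) : W V 0 = ⊥ := by
  rw [eq_bot_iff]
  exact iSup₂_le fun i hi => absurd hi (Nat.not_lt_zero i)

theorem W_succ (V : ℕ → Subgroup G) (k : ℕ) : W V (k + 1) = W V k ⊔ V k := by
  apply le_antisymm
  · refine iSup₂_le fun i hi => ?_
    rcases Nat.lt_succ_iff_lt_or_eq.1 hi with h | rfl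
    · exact le_sup_of_le_left (le_W V h)
    · exact le_sup_right
  · exact sup_le (W_mono V (Nat.le_succ k)) (le_W V (Nat.lt_succ_self k))

/-- The hypotheses: `V i` doubled root groups, `X i` root groups. -/
structure Dbl (t : G) (V X : ℕ → Subgroup G) (n : ℕ) : Prop where
  tt : t * t = 1
  conj : ∀ i < n, ∀ v ∈ V i, t * v * t ∈ V i
  sq : ∀ i < n, ∀ v ∈ V i, v * v = 1
  fix : ∀ i < n, ∀ v ∈ V i, t * v * t = v → v ∈ X i
  X_le : ∀ i < n, X i ≤ V i
  X_fix : ∀ i < n, ∀ v ∈ X i, t * v * t = v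
  free : ∀ i < n, ∀ v ∈ X i, ∃ c ∈ V i, v = t * c * t * c⁻¹
  norm : ∀ i j, i < j → j < n → ∀ v ∈ V i, ∀ w ∈ V j, w * v * w⁻¹ ∈ W V j
  indep : ∀ k < n, X k ⊓ W X k = ⊥

namespace Dbl

variable {t : G} {V X : ℕ → Subgroup G} {n : ℕ}

theorem t_inv (h : Dbl t V X n) : t⁻¹ = t := inv_eq_of_mul_eq_one_left h.tt

theorem conj_mul (h : Dbl t V X n) (a b : G) : t * (a * b) * t = (t * a * t) * (t * b * t) := by
  calc t * (a * b) * t = t * a * 1 * b * t := by group
    _ = t * a * (t * t) * b * t := by rw [h.tt]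
    _ = (t * a * t) * (t * b * t) := by group

theorem conj_inv (h : Dbl t V X n) (a : G) : t * a⁻¹ * t = (t * a * t)⁻¹ := by
  rw [mul_inv_rev, mul_inv_rev, h.t_inv, mul_assoc]

theorem conj_conj (h : Dbl t V X n) (a : G) : t * (t * a * t) * t = a := by
  calc t * (t * a * t) * t = (t * t) * a * (t * t) := by group
    _ = a := by rw [h.tt, one_mul, mul_one]

/-- Conjugation by `t`. -/
theorem conj_W (h : Dbl t V X n) {k : ℕ} (hk : k ≤ n) {w : G} (hw : w ∈ W V k) : t * w * t ∈ W V k := by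
  have hle : W V k ≤ (W V k).comap (MulAut.conj t).toMonoidHom := by
    refine iSup₂_le fun i hi v hv => ?_
    show t * v * t⁻¹ ∈ W V k
    rw [h.t_inv]
    exact le_W V hi (h.conj i (lt_of_lt_of_le hi hk) v hv)
  have h1 : t * w * t⁻¹ ∈ W V k := hle hw
  rwa [h.t_inv] at h1

/-- `V j` normalises `W j`. -/
theorem normal (h : Dbl t V X n) {k j : ℕ} (hkj : k = j) (hj : j < n) {v w : G} (hv : v ∈ V j) (hw : w ∈ W V k) :
    v * w * v⁻¹ ∈ W V k := by
  subst hkj
  have hle : W V k ≤ (W V k).comap (MulAut.conj v).toMonoidHom := by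
    refine iSup₂_le fun i hi u hu => ?_
    show v * u * v⁻¹ ∈ W V k
    exact h.norm i k hi hj u hu v hv
  exact hle hw

theorem mem_succ (h : Dbl t V X n) {k : ℕ} (hk : k < n) {w : G} (hw : w ∈ W V (k + 1)) :
    ∃ u ∈ W V k, ∃ v ∈ V k, w = u * v := by
  let S : Subgroup G :=
    { carrier := {w | ∃ u ∈ W V k, ∃ v ∈ V k, w = u * v}
      one_mem' := ⟨1, one_mem _, 1, one_mem _, (mul_one 1).symm⟩
      mul_mem' := by
        rintro _ _ ⟨u, hu, v, hv, rfl⟩ ⟨u', hu', v', hv', rfl⟩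
        exact ⟨u * (v * u' * v⁻¹), mul_mem hu (h.normal rfl hk hv hu'), v * v', mul_mem hv hv', by group⟩
      inv_mem' := by
        rintro _ ⟨u, hu, v, hv, rfl⟩
        exact ⟨v⁻¹ * u⁻¹ * v⁻¹⁻¹, h.normal rfl hk (inv_mem hv) (inv_mem hu), v⁻¹, inv_mem hv, by group⟩ }
  have hS : W V (k + 1) ≤ S := by
    rw [W_succ, sup_le_iff]
    exact ⟨fun u hu => ⟨u, hu, 1, one_mem _, (mul_one u).symm⟩, fun v hv => ⟨1, one_mem _, v, hv, (one_mul v).symm⟩⟩
  exact hS hw

/-- The induction. -/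
theorem main (h : Dbl t V X n) (k : ℕ) : k ≤ n →
    (∀ w ∈ W V k, t * w * t = w → w ∈ W X k) ∧
    (∀ w ∈ W V k, t * w * t = w⁻¹ → ∃ c ∈ W V k, w = t * c * t * c⁻¹) := by
  induction k with
  | zero =>
    intro _
    rw [W_zero, W_zero]
    constructor
    · intro w hw _
      exact hw
    · intro w hw _
      refine ⟨1, one_mem _, ?_⟩
      rw [Subgroup.mem_bot.1 hw, mul_one, h.tt, one_mul, inv_one]
  | succ k ih =>
    intro hk
    have hk' : k < n := hk
    obtain ⟨h1, h2⟩ := ih hk'.le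
    -- `V k ⊓ W k = ⊥`
    have hX : ∀ v ∈ V k, v ∈ W V k → t * v * t = v → v = 1 := by
      intro v hv hw hf
      have h3 : v ∈ X k ⊓ W X k := ⟨h.fix k hk' v hv hf, h1 v hw hf⟩
      rw [h.indep k hk'] at h3
      exact Subgroup.mem_bot.1 h3
    have hV : ∀ v ∈ V k, v ∈ W V k → v = 1 := by
      intro v hv hw
      have hv' := h.conj k hk' v hv
      have hw' := h.conj_W hk'.le hw
      have hcomm : ∀ a ∈ V k, ∀ b ∈ V k, a * b = b * a := by
        intro a ha b hb
        have e1 := h.sq k hk' (a * b) (mul_mem ha hb)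
        have e2 := h.sq k hk' a ha
        have e3 := h.sq k hk' b hb
        calc a * b = a * ((a * b) * (a * b)) * b := by rw [e1, mul_one]
          _ = (a * a) * (b * a) * (b * b) := by group
          _ = b * a := by rw [e2, e3, one_mul, mul_one]
      have e : v * (t * v * t) = 1 := by
        apply hX _ (mul_mem hv hv') (mul_mem hw hw')
        rw [h.conj_mul, h.conj_conj]
        exact hcomm _ hv' _ hv
      have e1 : t * v * t = v := by
        have e2 := h.sq k hk' v hv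
        exact mul_left_cancel (e.trans e2.symm)
      exact hX v hv hw e1
    constructor
    · intro w hw hf
      obtain ⟨u, hu, v, hv, rfl⟩ := h.mem_succ hk' hw
      rw [h.conj_mul] at hf
      have hu' := h.conj_W hk'.le hu
      have hv' := h.conj k hk' v hv
      have e1 : u⁻¹ * (t * u * t) = v * (t * v * t)⁻¹ := by
        rw [inv_mul_eq_iff_eq_mul, ← mul_assoc, eq_mul_inv_iff_mul_eq]
        exact hf
      have e2 : v * (t * v * t)⁻¹ = 1 := hV _ (mul_mem hv (inv_mem hv')) (by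
        rw [← e1]
        exact mul_mem (inv_mem hu) hu')
      have e3 : t * v * t = v := (mul_inv_eq_one.1 e2).symm
      have e4 : t * u * t = u := by
        rw [e2, inv_mul_eq_one] at e1
        exact e1.symm
      exact mul_mem (W_mono X (Nat.le_succ k) (h1 u hu e4)) (le_W X (Nat.lt_succ_self k) (h.fix k hk' v hv e3))
    · intro w hw hf
      obtain ⟨u, hu, v, hv, rfl⟩ := h.mem_succ hk' hw
      have hu' := h.conj_W hk'.le hu
      have hv' := h.conj k hk' v hv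
      rw [h.conj_mul, mul_inv_rev] at hf
      -- modulo `W k`
      have e1 : (t * v * t) * v = (t * u * t)⁻¹ * (v⁻¹ * u⁻¹ * v⁻¹⁻¹) := by
        calc (t * v * t) * v = (t * u * t)⁻¹ * ((t * u * t) * (t * v * t)) * v := by group
          _ = (t * u * t)⁻¹ * (v⁻¹ * u⁻¹ * v⁻¹⁻¹) := by rw [hf]; group
      have e2 : (t * v * t) * v = 1 := hV _ (mul_mem hv' hv) (by
        rw [e1]
        exact mul_mem (inv_mem hu') (h.normal rfl hk' (inv_mem hv) (inv_mem hu)))
      have e3 : t * v * t = v := by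
        have e4 := h.sq k hk' v hv
        exact mul_right_cancel (e2.trans e4.symm)
      obtain ⟨c, hc, hvc⟩ := h.free k hk' v (h.fix k hk' v hv e3)
      have hc' := h.conj k hk' c hc
      set! w' := (t * c * t)⁻¹ * u * (t * c * t) with hw'
      have hw'm : w' ∈ W V k := by
        have := h.normal rfl hk' (inv_mem hc') hu
        rwa [inv_inv] at this
      have e5 : u * v = (t * c * t) * w' * c⁻¹ := by
        rw [hw', hvc]
        group
      have e6 : t * w' * t = w'⁻¹ := by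
        have e7 : w' = (t * c * t)⁻¹ * (u * v) * c := by
          rw [e5]
          group
        rw [e7, h.conj_mul, h.conj_mul, h.conj_inv, h.conj_conj, h.conj_mul, hf]
        group
      obtain ⟨d, hd, hwd⟩ := h2 w' hw'm e6
      refine ⟨c * d, mul_mem (le_W V (Nat.lt_succ_self k) hc) (W_mono V (Nat.le_succ k) hd), ?_⟩
      rw [e5, hwd, h.conj_mul]
      group

theorem U_le (h : Dbl t V X n) {k : ℕ} (hk : k ≤ n) : W X k ≤ W V k :=
  iSup₂_le fun i hi => (h.X_le i (lt_of_lt_of_le hi hk)).trans (le_W V hi)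

theorem U_fix (h : Dbl t V X n) {k : ℕ} (hk : k ≤ n) {w : G} (hw : w ∈ W X k) : t * w * t = w := by
  let S : Subgroup G := Subgroup.centralizer {t}
  have hS : W X k ≤ S := by
    refine iSup₂_le fun i hi v hv => ?_
    rw [Subgroup.mem_centralizer_singleton_iff]
    have h1 := h.X_fix i (lt_of_lt_of_le hi hk) v hv
    calc v * t = t * v * t * t := by rw [h1]
      _ = t * v * (t * t) := by group
      _ = t * v := by rw [h.tt, mul_one]
  have h1 := Subgroup.mem_centralizer_singleton_iff.1 (hS hw)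
  rw [mul_assoc, h1, ← mul_assoc, h.tt, one_mul]

/-- The fixed points of `t`. -/
theorem mem_U_iff (h : Dbl t V X n) {k : ℕ} (hk : k ≤ n) {w : G} :
    w ∈ W X k ↔ w ∈ W V k ∧ t * w * t = w :=
  ⟨fun hw => ⟨h.U_le hk hw, h.U_fix hk hw⟩, fun hw => (h.main k hk).1 w hw.1 hw.2⟩

/-- Every involution of `t W` is conjugate to `t`. -/
theorem exists_conj (h : Dbl t V X n) {w : G} (hw : w ∈ W V n) (hinv : (t * w) * (t * w) = 1) :
    ∃ c ∈ W V n, t * w = c * t * c⁻¹ := by
  have h1 : t * w * t = w⁻¹ := by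
    rw [eq_inv_iff_mul_eq_one, ← hinv]
    group
  obtain ⟨c, hc, hwc⟩ := (h.main n le_rfl).2 w hw h1
  refine ⟨c, hc, ?_⟩
  rw [hwc]
  calc t * (t * c * t * c⁻¹) = (t * t) * c * t * c⁻¹ := by group
    _ = c * t * c⁻¹ := by rw [h.tt, one_mul]

/-- The group `W ⟨t⟩`. -/
def H (h : Dbl t V X n) : Subgroup G where
  carrier := {g | g ∈ W V n ∨ t * g ∈ W V n}
  one_mem' := Or.inl (one_mem _)
  mul_mem' := by
    rintro a b (ha | ha) (hb | hb)
    · exact Or.inl (mul_mem ha hb)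
    · right
      have h1 := mul_mem (h.conj_W le_rfl ha) hb
      have h2 : t * a * t * (t * b) = t * (a * b) := by
        calc t * a * t * (t * b) = t * a * (t * t) * b := by group
          _ = t * (a * b) := by rw [h.tt]; group
      rwa [h2] at h1
    · right
      have h1 := mul_mem ha hb
      rwa [mul_assoc] at h1
    · left
      have h1 := mul_mem (h.conj_W le_rfl ha) hb
      have h2 : t * (t * a) * t * (t * b) = a * b := by
        calc t * (t * a) * t * (t * b) = (t * t) * a * (t * t) * b := by group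
          _ = a * b := by rw [h.tt]; group
      rwa [h2] at h1
  inv_mem' := by
    rintro a (ha | ha)
    · exact Or.inl (inv_mem ha)
    · right
      have h1 := h.conj_W le_rfl (inv_mem ha)
      rw [mul_inv_rev, h.t_inv] at h1
      have h2 : t * (a⁻¹ * t) * t = t * a⁻¹ := by
        calc t * (a⁻¹ * t) * t = t * a⁻¹ * (t * t) := by group
          _ = t * a⁻¹ := by rw [h.tt, mul_one]
      rwa [h2] at h1

theorem mem_H (h : Dbl t V X n) {g : G} : g ∈ h.H ↔ g ∈ W V n ∨ t * g ∈ W V n := Iff.rfl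

theorem t_mem_H (h : Dbl t V X n) : t ∈ h.H := Or.inr (by rw [h.tt]; exact one_mem _)

open Classical in
/-- The sign with kernel `W`. -/
noncomputable def sign (h : Dbl t V X n) (ht : t ∉ W V n) : h.H →* ℤˣ where
  toFun g := if (g : G) ∈ W V n then 1 else -1
  map_one' := if_pos (one_mem _)
  map_mul' := by
    rintro ⟨a, ha⟩ ⟨b, hb⟩
    have key : ∀ g ∈ h.H, g ∉ W V n → t * g ∈ W V n := fun g hg hn => hg.resolve_left hn
    have htg : ∀ g, g ∈ W V n → t * g ∉ W V n := by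
      intro g hg hn
      apply ht
      have := mul_mem hn (inv_mem hg)
      rwa [mul_inv_cancel_right] at this
    simp only [MulMemClass.mk_mul_mk]
    by_cases h1 : a ∈ W V n <;> by_cases h2 : b ∈ W V n
    · rw [if_pos h1, if_pos h2, if_pos (mul_mem h1 h2), one_mul]
    · have h3 : a * b ∉ W V n := fun hn => h2 (by
        have := mul_mem (inv_mem h1) hn
        rwa [inv_mul_cancel_left] at this)
      rw [if_pos h1, if_neg h2, if_neg h3, one_mul]
    · have h3 : a * b ∉ W V n := fun hn => h1 (by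
        have := mul_mem hn (inv_mem h2)
        rwa [mul_inv_cancel_right] at this)
      rw [if_neg h1, if_pos h2, if_neg h3, mul_one]
    · have h4 := key a ha h1
      have h5 := key b hb h2
      have h6 := mul_mem (h.conj_W le_rfl h4) h5
      have h7 : t * (t * a) * t * (t * b) = a * b := by
        calc t * (t * a) * t * (t * b) = (t * t) * a * (t * t) * b := by group
          _ = a * b := by rw [h.tt]; group
      rw [h7] at h6
      rw [if_neg h1, if_neg h2, if_pos h6]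
      rfl

theorem sign_apply (h : Dbl t V X n) (ht : t ∉ W V n) (g : h.H) :
    h.sign ht g = -1 ↔ (g : G) ∉ W V n := by
  classical
  show (if (g : G) ∈ W V n then (1 : ℤˣ) else -1) = -1 ↔ _
  by_cases h1 : (g : G) ∈ W V n
  · rw [if_pos h1]
    exact ⟨fun h => absurd h (by decide), fun h => absurd h1 h⟩
  · rw [if_neg h1]
    exact ⟨fun _ => h1, fun _ => rfl⟩

/-- **Growth**: if `⟨t⟩ U` has odd index in the centraliser of `t`, then `t` lies outside a subgroup of index 2. -/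
theorem exists_hom [Finite G] (h : Dbl t V X n) (ht : t ∉ W X n)
    (hodd : Odd ((W X n ⊔ Subgroup.zpowers t).relIndex (Subgroup.centralizer ({t} : Set G)))) :
    ∃ m : G →* ℤˣ, m t = -1 := by
  have htt : t * t * t = t := by rw [h.tt, one_mul]
  have ht' : t ∉ W V n := fun h1 => ht ((h.mem_U_iff le_rfl).2 ⟨h1, htt⟩)
  refine Cfsg.Agent.StdSpSix.TR.exists_hom_of_class (h.sign ht') h.tt h.t_mem_H ((h.sign_apply ht' _).2 ht') ?_ ?_
  · intro g hg hs
    rw [h.sign_apply] at hs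
    have h1 : t * (g⁻¹ * t * g) ∈ W V n := hg.resolve_left hs
    have h2 : t * (t * (g⁻¹ * t * g)) = g⁻¹ * t * g := by rw [← mul_assoc, h.tt, one_mul]
    have h3 : (g⁻¹ * t * g) * (g⁻¹ * t * g) = 1 := by
      calc (g⁻¹ * t * g) * (g⁻¹ * t * g) = g⁻¹ * (t * t) * g := by group
        _ = 1 := by rw [h.tt]; group
    obtain ⟨c, hc, hcc⟩ := h.exists_conj h1 (by rw [h2]; exact h3)
    rw [h2] at hcc
    exact ⟨c, Or.inl hc, hcc⟩
  · have h1 : h.H.relIndex (Subgroup.centralizer ({t} : Set G)) =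
        (W X n ⊔ Subgroup.zpowers t).relIndex (Subgroup.centralizer ({t} : Set G)) := by
      rw [← Subgroup.inf_relIndex_right, ← Subgroup.inf_relIndex_right (W X n ⊔ Subgroup.zpowers t)]
      congr 1
      apply le_antisymm
      · rintro g ⟨hg, hc⟩
        refine ⟨?_, hc⟩
        have hc' := Subgroup.mem_centralizer_singleton_iff.1 hc
        rcases hg with hg | hg
        · refine Subgroup.mem_sup_left ((h.mem_U_iff le_rfl).2 ⟨hg, ?_⟩)
          rw [mul_assoc, hc', ← mul_assoc, h.tt, one_mul]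
        · have h4 : t * g ∈ W X n := (h.mem_U_iff le_rfl).2 ⟨hg, by
            rw [mul_assoc, mul_assoc, hc', ← mul_assoc, ← mul_assoc, h.tt, one_mul]⟩
          have h5 : g = t⁻¹ * (t * g) := by group
          rw [h5]
          exact mul_mem (Subgroup.mem_sup_right (inv_mem (Subgroup.mem_zpowers t))) (Subgroup.mem_sup_left h4)
      · refine le_inf ?_ inf_le_right
        refine inf_le_left.trans (sup_le ?_ ?_)
        · exact fun g hg => Or.inl (h.U_le le_rfl hg)
        · rw [Subgroup.zpowers_le]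
          exact h.t_mem_H
    rw [h1]
    exact hodd

end Dbl

end Cfsg.Agent.OddHalf.Orth.Grow2

end

-- merged: Cfsg.Agent.OddHalf.Orth.Lay
section

/-!
# ODD D7, `K = Ω(V)`: the layers `B_i`

`B u H = V*_u ∩ ⋂_{s ∈ H} N_G(V*_s)`; `H` is a set of singular vectors perpendicular to `u`.
-/

set_option autoImplicit false

namespace Cfsg.Agent.OddHalf.Orth.Lay

open QuadraticMap Cfsg.Agent.LieClassical.OrthCore Cfsg.Agent.LieClassical.OrthTrans
  Cfsg.Agent.ClassicalGeometry.OrthAutBasic Cfsg.Agent.ClassicalGeometry.OrthAutRoot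
  Cfsg.Agent.ClassicalGeometry.OrthAutSylow Cfsg.Agent.OddHalf.Orth
  Cfsg.Agent.OddHalf.Orth.Face Cfsg.Agent.OddHalf.Orth.Star

variable {F V : Type*} [Field F] [AddCommGroup V] [Module F V] {Q : QuadraticForm F V}
variable {G : Type*} [Group G] {t : G} {j : ↥(E Q) →* G} {W : V → V → Subgroup G}

/-- The results of sections 2 and 3 of the text. -/
structure Grow (Q : QuadraticForm F V) (t : G) (W : V → V → Subgroup G) : Prop where
  notin : ∀ {u : V}, Q u = 0 → u ≠ 0 → t ∉ Vs Q W u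
  ab : ∀ {u : V} {f g : G}, Q u = 0 → u ≠ 0 → f ∈ Vs Q W u → g ∈ Vs Q W u → f * g = g * f
  sq : ∀ {u : V} {f : G}, Q u = 0 → u ≠ 0 → f ∈ Vs Q W u → f * f = 1
  norm : ∀ {u v s : V} {w f : G}, Ln Q u v → Q s = 0 → s ≠ 0 → polar Q s u = 0 → polar Q s v = 0 →
    w ∈ W u v → f ∈ Vs Q W s → w * f * w⁻¹ ∈ Vs Q W s

/-- The layer. -/
def B (Q : QuadraticForm F V) (W : V → V → Subgroup G) (u : V) (H : Set V) : Subgroup G :=
  Vs Q W u ⊓ ⨅ s : V, ⨅ _ : s ∈ H, Subgroup.normalizer (Vs Q W s : Set G)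

theorem mem_B {u : V} {H : Set V} {g : G} :
    g ∈ B Q W u H ↔ g ∈ Vs Q W u ∧ ∀ s ∈ H, g ∈ Subgroup.normalizer (Vs Q W s : Set G) := by
  rw [B, Subgroup.mem_inf, Subgroup.mem_iInf]
  constructor
  · rintro ⟨h1, h2⟩
    exact ⟨h1, fun s hs => (Subgroup.mem_iInf.1 (h2 s)) hs⟩
  · rintro ⟨h1, h2⟩
    exact ⟨h1, fun s => Subgroup.mem_iInf.2 (h2 s)⟩

theorem mem_norm {A : Subgroup G} {g : G} (h1 : ∀ f ∈ A, g * f * g⁻¹ ∈ A) (h2 : ∀ f ∈ A, g⁻¹ * f * g ∈ A) :
    g ∈ Subgroup.normalizer (A : Set G) := by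
  rw [Subgroup.mem_normalizer_iff]
  intro f
  refine ⟨h1 f, fun h => ?_⟩
  have := h2 _ h
  have e : g⁻¹ * (g * f * g⁻¹) * g = f := by group
  rwa [e] at this

theorem norm_conj {A : Subgroup G} {g f : G} (hg : g ∈ Subgroup.normalizer (A : Set G)) (hf : f ∈ A) :
    g * f * g⁻¹ ∈ A := (Subgroup.mem_normalizer_iff.1 hg f).1 hf

/-- `B_j` normalises `B_i`. -/
theorem B_conj {u u' : V} {H H' : Set V} (hu : u ∈ H') (hH : H ⊆ H') {a b : G} (ha : a ∈ B Q W u H)
    (hb : b ∈ B Q W u' H') : b * a * b⁻¹ ∈ B Q W u H := by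
  rw [mem_B] at ha hb ⊢
  exact ⟨norm_conj (hb.2 u hu) ha.1, fun s hs =>
    mul_mem (mul_mem (hb.2 s (hH hs)) (ha.2 s hs)) (inv_mem (hb.2 s (hH hs)))⟩

section Dbl

variable (D : Dbl Q t j W)
include D

theorem t_conj_Vs (hK : KFacts Q) {s : V} (hs : Q s = 0) (hs0 : s ≠ 0) {f : G} (hf : f ∈ Vs Q W s) :
    t * f * t ∈ Vs Q W s := by
  have h1 := Ru_le D hK hs hs0 (Vs_ph D hs hf)
  have h2 := mul_mem hf h1
  have e : f * ph t f = t * f * t := by rw [ph_def, mul_inv_cancel_left]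
  rwa [e] at h2

theorem t_norm (hK : KFacts Q) {s : V} (hs : Q s = 0) (hs0 : s ≠ 0) :
    t ∈ Subgroup.normalizer (Vs Q W s : Set G) := by
  have ti := D.t_inv
  refine mem_norm (fun f hf => ?_) (fun f hf => ?_)
  · rw [ti]; exact t_conj_Vs D hK hs hs0 hf
  · rw [ti]; exact t_conj_Vs D hK hs hs0 hf

/-- `B` is `t`-invariant. -/
theorem B_t (hK : KFacts Q) {u : V} (hu : Q u = 0) (hu0 : u ≠ 0) {H : Set V} (hH : ∀ s ∈ H, Q s = 0 ∧ s ≠ 0)
    {g : G} (hg : g ∈ B Q W u H) : t * g * t ∈ B Q W u H := by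
  rw [mem_B] at hg ⊢
  refine ⟨t_conj_Vs D hK hu hu0 hg.1, fun s hs => ?_⟩
  have h1 := t_norm D hK (hH s hs).1 (hH s hs).2
  exact mul_mem (mul_mem h1 (hg.2 s hs)) h1

/-- `k ∈ K` fixing `s` normalises `V*_s` -/
theorem k_norm {s : V} {k : ↥(E Q)} (hk : (k : V ≃ₗ[F] V) s = s) :
    j k ∈ Subgroup.normalizer (Vs Q W s : Set G) := by
  have hk' : ((k⁻¹ : ↥(E Q)) : V ≃ₗ[F] V) s = s := by
    rw [Subgroup.coe_inv]
    show (k : V ≃ₗ[F] V).symm s = s
    rw [LinearEquiv.symm_apply_eq]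
    exact hk.symm
  refine mem_norm (fun f hf => ?_) (fun f hf => ?_)
  · have := Vs_conj D k hf
    rwa [hk] at this
  · have := Vs_conj D k⁻¹ hf
    rwa [hk', map_inv, inv_inv] at this

theorem R_mem_B [CharP F 2] (hK : KFacts Q) {u y : V} (hu : Q u = 0) (hu0 : u ≠ 0) (hy : polar Q u y = 0)
    {H : Set V} (hH : ∀ s ∈ H, polar Q s u = 0 ∧ polar Q s y = 0) : j (tE Q u y) ∈ B Q W u H := by
  rw [mem_B]
  refine ⟨Ru_le D hK hu hu0 (Ru_mem hy), fun s hs => k_norm D ?_⟩
  obtain ⟨h1, h2⟩ := hH s hs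
  rw [coe_tE]
  exact T_fix (by rw [polar_comm]; exact h1) (by rw [polar_comm]; exact h2)

omit D in
theorem W_mem_B (hG : Grow Q t W) {u v : V} (h : Ln Q u v) {H : Set V}
    (hH : ∀ s ∈ H, Q s = 0 ∧ s ≠ 0 ∧ polar Q s u = 0 ∧ polar Q s v = 0) {w : G} (hw : w ∈ W u v) :
    w ∈ B Q W u H := by
  rw [mem_B]
  refine ⟨mem_Vs h hw, fun s hs => ?_⟩
  obtain ⟨h1, h2, h3, h4⟩ := hH s hs
  refine mem_norm (fun f hf => hG.norm h h1 h2 h3 h4 hw hf) (fun f hf => ?_)
  have := hG.norm h h1 h2 h3 h4 (inv_mem hw) hf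
  rwa [inv_inv] at this

/-- `C_B(t) = R` -/
theorem B_fix [Finite F] [CharP F 2] (hB : Big Q) (hK : KFacts Q) (hG : Grow Q t W) {u : V} (hu : Q u = 0)
    (hu0 : u ≠ 0) {H : Set V} (hH : ∀ s ∈ H, Q s = 0 ∧ s ≠ 0 ∧ polar Q s u = 0 ∧ ∀ c : F, u ≠ c • s) {g : G}
    (hg : g ∈ B Q W u H) (h : t * g * t = g) :
    ∃ y, polar Q u y = 0 ∧ g = j (tE Q u y) ∧ ∀ s ∈ H, polar Q s y = 0 := by
  obtain ⟨hg1, hg2⟩ := mem_B.1 hg
  have hph : ph t g = 1 := by rw [ph_def, h, inv_mul_cancel]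
  obtain ⟨y, hy, rfl⟩ := Vs_fix_of D hK hu hu0 (hG.notin hu hu0) hg1 hph
  refine ⟨y, hy, rfl, fun s hs => ?_⟩
  obtain ⟨hs1, hs2, hs3, hs4⟩ := hH s hs
  set k := tE Q u y with hk
  have hks : (k : V ≃ₗ[F] V) s = s + polar Q y s • u := by
    rw [hk, coe_tE, T_apply2 hu hy, polar_comm Q u s, hs3]
    simp
  have hfix : ∀ x, polar Q s x = 0 → T Q s x ((k : V ≃ₗ[F] V) s) = (k : V ≃ₗ[F] V) s := by
    intro x hx
    have h1 := Ru_le D hK hs1 hs2 (Ru_mem (j := j) hx)
    have h2 := norm_conj (inv_mem (hg2 s hs)) h1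
    have h3 : ph t ((j k)⁻¹ * j (tE Q s x) * (j k)⁻¹⁻¹) = 1 := by
      rw [ph_eq_one D.tt, ← map_inv, ← map_inv, ← map_mul, ← map_mul, ← D.tj]
    obtain ⟨x', hx', e⟩ := Vs_fix_of D hK hs1 hs2 (hG.notin hs1 hs2) h2 h3
    have e2 : j (tE Q s x) = j (tE Q ((k : V ≃ₗ[F] V) s) ((k : V ≃ₗ[F] V) x')) := by
      rw [← D.rconj, ← e]; group
    have e3 := D.inj e2
    have e4 : T Q s x = T Q ((k : V ≃ₗ[F] V) s) ((k : V ≃ₗ[F] V) x') := congrArg Subtype.val e3
    rw [e4]
    exact T_apply_self (by rw [Q_map]; exact hs1) (by rw [polar_map']; exact hx')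
  obtain ⟨c, hc⟩ := eq_smul_of_fix_rad hB hs1 hs2 hfix
  rw [hks] at hc
  by_contra hne
  rw [polar_comm] at hne
  apply hs4 ((polar Q y s)⁻¹ * (c - 1))
  have e5 : polar Q y s • u = (c - 1) • s := by
    have : polar Q y s • u = (s + polar Q y s • u) - s := by module
    rw [this, hc]; module
  rw [mul_smul, ← e5, smul_smul, inv_mul_cancel₀ hne, one_smul]

theorem exists_c_mul {u x y : V} (hu : Q u = 0) {H : Set V} (hx : polar Q u x = 0) (hy : polar Q u y = 0)
    (h1 : ∃ c ∈ B Q W u H, ph t c = j (tE Q u x)) (h2 : ∃ c ∈ B Q W u H, ph t c = j (tE Q u y)) :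
    ∃ c ∈ B Q W u H, ph t c = j (tE Q u (x + y)) := by
  obtain ⟨c, hc, e⟩ := h1
  obtain ⟨c', hc', e'⟩ := h2
  exact ⟨c * c', mul_mem hc hc', by rw [Vs_ph_mul D hu (mem_B.1 hc).1 (mem_B.1 hc').1, e, e', D.rmul hu hx hy]⟩

/-- one singular vector -/
theorem exists_c_sing (hG : Grow Q t W) {e f v : V} (h : Hyp Q e f) {H : Set V}
    (hH : ∀ s ∈ H, Q s = 0 ∧ s ≠ 0 ∧ polar Q s e = 0) (hv : Q v = 0) (hve : polar Q e v = 0)
    (hvf : polar Q f v = 0) (hHv : ∀ s ∈ H, polar Q s v = 0) : ∃ c ∈ B Q W e H, ph t c = j (tE Q e v) := by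
  by_cases h0 : v = 0
  · subst h0
    refine ⟨1, one_mem _, ?_⟩
    rw [ph_def, inv_one, one_mul, mul_one, D.tt, tE_zero_right, map_one]
  · have hl : Ln Q e v := by
      refine Ln.symm ⟨hv, h.left, by rw [polar_comm]; exact hve, h0, ?_⟩
      intro c hc
      have h1 := h.pair'
      rw [hc, polar_smul_right, hvf, smul_zero] at h1
      exact zero_ne_one h1
    obtain ⟨w, hw, e1⟩ := surj_W D hl 1
    rw [one_smul] at e1
    exact ⟨w, W_mem_B hG hl (fun s hs => ⟨(hH s hs).1, (hH s hs).2.1, (hH s hs).2.2, hHv s hs⟩) hw, e1⟩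

/-- every vector, if there is a hyperbolic pair -/
theorem exists_c_pair (hG : Grow Q t W) {e f a b y : V} (h : Hyp Q e f) {H : Set V}
    (hH : ∀ s ∈ H, Q s = 0 ∧ s ≠ 0 ∧ polar Q s e = 0) (hab : Hyp Q a b)
    (hea : polar Q e a = 0) (heb : polar Q e b = 0) (hey : polar Q e y = 0)
    (hfa : polar Q f a = 0) (hfb : polar Q f b = 0) (hfy : polar Q f y = 0)
    (hs : ∀ s ∈ H, polar Q s a = 0 ∧ polar Q s b = 0 ∧ polar Q s y = 0) :
    ∃ c ∈ B Q W e H, ph t c = j (tE Q e y) := by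
  set! y' := Cfsg.Agent.LieClassical.OrthTrans.proj Q a b y with hy'
  have hy'e : polar Q e y' = 0 := by
    rw [hy', polar_proj_of_perp (by rw [polar_comm]; exact hea) (by rw [polar_comm]; exact heb), hey]
  have hy'f : polar Q f y' = 0 := by
    rw [hy', polar_proj_of_perp (by rw [polar_comm]; exact hfa) (by rw [polar_comm]; exact hfb), hfy]
  have hy's : ∀ s ∈ H, polar Q s y' = 0 := by
    intro s hs'
    obtain ⟨h1, h2, h3⟩ := hs s hs'
    rw [hy', polar_proj_of_perp (by rw [polar_comm]; exact h1) (by rw [polar_comm]; exact h2), h3]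
  have hay' : polar Q a y' = 0 := polar_proj_left hab y
  have hby' : polar Q b y' = 0 := polar_proj_right hab y
  have e1 : y = ((y' + a + (-Q y') • b) + (polar Q b y - 1) • a) + (polar Q a y + Q y') • b := by
    rw [hy', Cfsg.Agent.LieClassical.OrthTrans.proj]; module
  have p1 : polar Q e (y' + a + (-Q y') • b) = 0 := by
    rw [polar_add_right, polar_add_right, polar_smul_right, hy'e, hea, heb]; simp
  have p2 : polar Q e ((polar Q b y - 1) • a) = 0 := by rw [polar_smul_right, hea, smul_zero]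
  have p3 : polar Q e ((polar Q a y + Q y') • b) = 0 := by rw [polar_smul_right, heb, smul_zero]
  rw [e1]
  refine exists_c_mul D h.left (by rw [polar_add_right, p1, p2, add_zero]) p3
    (exists_c_mul D h.left p1 p2 ?_ ?_) ?_
  · refine exists_c_sing D hG h hH ?_ p1 ?_ ?_
    · rw [Q_add, Q_add, QuadraticMap.map_smul, hab.left, hab.right, polar_add_left, polar_smul_right,
        polar_smul_right, hab.pair, polar_comm Q y' b, hby', polar_comm Q y' a, hay']
      simp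
    · rw [polar_add_right, polar_add_right, polar_smul_right, hy'f, hfa, hfb]; simp
    · intro s hs'
      obtain ⟨h1, h2, h3⟩ := hs s hs'
      rw [polar_add_right, polar_add_right, polar_smul_right, hy's s hs', h1, h2]; simp
  · refine exists_c_sing D hG h hH ?_ p2 ?_ ?_
    · rw [QuadraticMap.map_smul, hab.left, smul_zero]
    · rw [polar_smul_right, hfa, smul_zero]
    · intro s hs'
      rw [polar_smul_right, (hs s hs').1, smul_zero]
  · refine exists_c_sing D hG h hH ?_ p3 ?_ ?_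
    · rw [QuadraticMap.map_smul, hab.right, smul_zero]
    · rw [polar_smul_right, hfb, smul_zero]
    · intro s hs'
      rw [polar_smul_right, (hs s hs').2.1, smul_zero]

/-- the last layer: an element `d ∈ K` fixing `e` and all `s ∈ H` -/
theorem exists_c_last [CharP F 2] (hK : KFacts Q) (hG : Grow Q t W) {e z : V} (he : Q e = 0) (he0 : e ≠ 0)
    {H : Set V} (hz : polar Q e z = 0) {d : ↥(E Q)} (hd : (d : V ≃ₗ[F] V) e = e)
    (hH : ∀ s ∈ H, polar Q s e = 0 ∧ (d : V ≃ₗ[F] V) s = s ∧ ∃ c ∈ B Q W e {s}, ph t c = j (tE Q e z)) :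
    ∃ c ∈ B Q W e H, ph t c = j (tE Q e ((d : V ≃ₗ[F] V) z - z)) := by
  obtain ⟨c0, hc0, e0⟩ := (Vs_surj' D hK he he0 hz).1
  have hd0 : j d * c0 * (j d)⁻¹ ∈ Vs Q W e := by
    have := Vs_conj D d hc0
    rwa [hd] at this
  have hdz : polar Q e ((d : V ≃ₗ[F] V) z) = 0 := by
    have := polar_map' d e z
    rw [hd] at this
    rw [this, hz]
  refine ⟨c0⁻¹ * (j d * c0 * (j d)⁻¹), ?_, ?_⟩
  · rw [mem_B]
    refine ⟨mul_mem (inv_mem hc0) hd0, fun s hs => ?_⟩
    obtain ⟨hs1, hs2, c, hc, ec⟩ := hH s hs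
    obtain ⟨hc1, hc2⟩ := mem_B.1 hc
    have hc2' := hc2 s rfl
    -- `c0 = c r`
    have hr : ph t (c⁻¹ * c0) = 1 := by
      rw [Vs_ph_mul D he (inv_mem hc1) hc0, Vs_ph_inv D he hc1, ec, e0, inv_mul_cancel]
    obtain ⟨x, hx, ex⟩ := Vs_fix_of D hK he he0 (hG.notin he he0) (mul_mem (inv_mem hc1) hc0) hr
    have hjd := k_norm D hs2
    have hdc : j d * c * (j d)⁻¹ ∈ Vs Q W e := by
      have := Vs_conj D d hc1
      rwa [hd] at this
    have hdx : polar Q e ((d : V ≃ₗ[F] V) x) = 0 := by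
      have := polar_map' d e x
      rw [hd] at this
      rw [this, hx]
    have ec0 : c0 = c * j (tE Q e x) := by rw [← ex]; group
    have e2 : j d * j (tE Q e x) * (j d)⁻¹ = j (tE Q e ((d : V ≃ₗ[F] V) x)) := by rw [D.rconj, hd]
    have e3 : c0⁻¹ * (j d * c0 * (j d)⁻¹) =
        (c⁻¹ * (j d * c * (j d)⁻¹)) * ((j (tE Q e x))⁻¹ * j (tE Q e ((d : V ≃ₗ[F] V) x))) := by
      have hc3 : c⁻¹ * (j d * c * (j d)⁻¹) ∈ Vs Q W e := mul_mem (inv_mem hc1) hdc
      have h4 := Vs_comm D he hc3 (Ru_inv he (Ru_mem (j := j) hx))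
      calc c0⁻¹ * (j d * c0 * (j d)⁻¹)
          = (j (tE Q e x))⁻¹ * (c⁻¹ * (j d * c * (j d)⁻¹)) * (j d * j (tE Q e x) * (j d)⁻¹) := by
            rw [ec0]; group
        _ = _ := by rw [h4, e2]; group
    rw [e3]
    refine mul_mem (mul_mem (inv_mem hc2') (mul_mem (mul_mem hjd hc2') (inv_mem hjd))) ?_
    rw [← map_inv, tE_inv he hx, ← map_mul, tE_mul he hx hdx]
    refine k_norm D ?_
    rw [coe_tE]
    refine T_fix (by rw [polar_comm]; exact hs1) ?_
    have h5 := polar_map' d s x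
    rw [hs2] at h5
    rw [polar_comm, polar_add_right, h5, CharTwo.add_self_eq_zero]
  · rw [Vs_ph_mul D he (inv_mem hc0) hd0, Vs_ph_inv D he hc0, e0, ph_conj (D.tj d), e0, D.rconj, hd,
      ← map_inv, tE_inv he hz, ← map_mul, tE_mul he hz hdz]
    congr 2
    rw [sub_eq' (F := F), add_comm]

end Dbl

end Cfsg.Agent.OddHalf.Orth.Lay

end

-- merged: Cfsg.Agent.OddHalf.Orth.End
section

/-!
# ODD D7, `K = Ω(V)`: the product `U*` of the layers, and the end

From `Flag` (at least three hyperbolic pairs), `HasDelta` and `Grow`: if `⟨t⟩ UK` has odd index in `C_G(t)` then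
there is a homomorphism `G → {±1}` with `t ↦ -1`.
-/

set_option autoImplicit false

namespace Cfsg.Agent.OddHalf.Orth.End

open QuadraticMap Cfsg.Agent.LieClassical.OrthCore Cfsg.Agent.LieClassical.OrthTrans
  Cfsg.Agent.ClassicalGeometry.OrthAutBasic Cfsg.Agent.ClassicalGeometry.OrthAutRoot
  Cfsg.Agent.ClassicalGeometry.OrthAutSylow Cfsg.Agent.OddHalf.Orth
  Cfsg.Agent.OddHalf.Orth.Face Cfsg.Agent.OddHalf.Orth.Star Cfsg.Agent.OddHalf.Orth.Lay
  Cfsg.Agent.OddHalf.Orth.FlagDef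

variable {F V : Type*} [Field F] [AddCommGroup V] [Module F V] {Q : QuadraticForm F V}
variable {G : Type*} [Group G] {t : G} {j : ↥(E Q) →* G} {W : V → V → Subgroup G}
variable {n : ℕ} {e f : ℕ → V}

/-- the points `e k, f k`, `k < i` -/
def HH (e f : ℕ → V) (i : ℕ) : Set V := {s | ∃ k < i, s = e k ∨ s = f k}

theorem HH_mono {i k : ℕ} (h : i ≤ k) : HH e f i ⊆ HH e f k := by
  rintro s ⟨l, hl, hs⟩
  exact ⟨l, lt_of_lt_of_le hl h, hs⟩

theorem mem_Yv {i : ℕ} {y : V} : y ∈ Yv Q e f i ↔ ∀ k ≤ i, polar Q (e k) y = 0 ∧ polar Q (f k) y = 0 := Iff.rfl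

theorem Yv_add {i : ℕ} {x y : V} (hx : x ∈ Yv Q e f i) (hy : y ∈ Yv Q e f i) : x + y ∈ Yv Q e f i := fun k hk => by
  rw [polar_add_right, polar_add_right, (hx k hk).1, (hx k hk).2, (hy k hk).1, (hy k hk).2, add_zero]
  exact ⟨rfl, rfl⟩

theorem Yv_smul {i : ℕ} {x : V} (c : F) (hx : x ∈ Yv Q e f i) : c • x ∈ Yv Q e f i := fun k hk => by
  rw [polar_smul_right, polar_smul_right, (hx k hk).1, (hx k hk).2, smul_zero]
  exact ⟨rfl, rfl⟩

theorem HH_facts (hF : _root_.Cfsg.Agent.OddHalf.Orth.FlagDef.Flag Q n e f) {i : ℕ} (hi : i < n) :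
    ∀ s ∈ HH e f i, Q s = 0 ∧ s ≠ 0 ∧ polar Q s (e i) = 0 ∧ polar Q s (f i) = 0 ∧ ∀ c : F, e i ≠ c • s := by
  rintro s ⟨k, hk, hs⟩
  have hkn : k < n := hk.trans hi
  have hki : k ≠ i := hk.ne
  have h1 : polar Q s (e i) = 0 ∧ polar Q s (f i) = 0 := by
    rcases hs with rfl | rfl
    · exact ⟨hF.ee k i hkn hi hki, hF.ef k i hkn hi hki⟩
    · exact ⟨by rw [polar_comm]; exact hF.ef i k hi hkn hki.symm, hF.ff k i hkn hi hki⟩
  refine ⟨?_, ?_, h1.1, h1.2, ?_⟩
  · rcases hs with rfl | rfl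
    · exact (hF.hyp k hkn).left
    · exact (hF.hyp k hkn).right
  · rcases hs with rfl | rfl
    · exact (hF.hyp k hkn).left_ne
    · exact (hF.hyp k hkn).right_ne
  · intro c hc
    have h2 := (hF.hyp i hi).pair
    rw [hc, polar_smul_left, h1.2, smul_zero] at h2
    exact zero_ne_one h2

/-- `RK i` as a set -/
theorem mem_RK [CharP F 2] (hF : _root_.Cfsg.Agent.OddHalf.Orth.FlagDef.Flag Q n e f) {i : ℕ} (hi : i < n) {g : ↥(E Q)} :
    g ∈ RK Q e f i ↔ ∃ y ∈ Yv Q e f i, g = tE Q (e i) y := by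
  have he := (hF.hyp i hi).left
  constructor
  · intro hg
    rw [RK] at hg
    induction hg using Subgroup.closure_induction with
    | mem x hx => exact hx
    | one => exact ⟨0, fun k _ => ⟨polar_zero_right _ _, polar_zero_right _ _⟩, (tE_zero_right _).symm⟩
    | mul x y _ _ hx hy =>
      obtain ⟨a, ha, rfl⟩ := hx
      obtain ⟨b, hb, rfl⟩ := hy
      exact ⟨a + b, Yv_add ha hb, tE_mul he (ha i le_rfl).1 (hb i le_rfl).1⟩
    | inv x _ hx =>
      obtain ⟨a, ha, rfl⟩ := hx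
      exact ⟨a, ha, tE_inv he (ha i le_rfl).1⟩
  · exact fun h => Subgroup.subset_closure h

variable (D : Dbl Q t j W)
include D

/-- every `y ∈ Yv i` is reached -/
theorem exists_c [CharP F 2] (hK : KFacts Q) (hG : Grow Q t W) (hF : _root_.Cfsg.Agent.OddHalf.Orth.FlagDef.Flag Q n e f) (hn : 3 ≤ n)
    (hd : HasDelta Q n e f) {i : ℕ} (hi : i < n) {y : V} (hy : y ∈ Yv Q e f i) :
    ∃ c ∈ B Q W (e i) (HH e f i), ph t c = j (tE Q (e i) y) := by
  have hH := HH_facts hF hi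
  have hfe := hF.hyp i hi
  rcases Nat.lt_or_ge (i + 1) n with h1 | h1
  · refine exists_c_pair D hG hfe (fun s hs => ⟨(hH s hs).1, (hH s hs).2.1, (hH s hs).2.2.1⟩) (hF.hyp (i + 1) h1)
      (hF.ee _ _ hi h1 (by omega)) (hF.ef _ _ hi h1 (by omega)) (hy i le_rfl).1
      (by rw [polar_comm]; exact hF.ef _ _ h1 hi (by omega)) (hF.ff _ _ hi h1 (by omega)) (hy i le_rfl).2 ?_
    rintro s ⟨k, hk, rfl | rfl⟩
    · exact ⟨hF.ee _ _ (by omega) h1 (by omega), hF.ef _ _ (by omega) h1 (by omega), (hy k hk.le).1⟩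
    · exact ⟨by rw [polar_comm]; exact hF.ef _ _ h1 (by omega) (by omega), hF.ff _ _ (by omega) h1 (by omega),
        (hy k hk.le).2⟩
  · have hin : i = n - 1 := by omega
    obtain ⟨d, hd1, hd2⟩ := hd
    obtain ⟨z, hz, rfl⟩ := hd2 y (by rw [← hin]; exact hy)
    rw [← hin] at hz
    refine exists_c_last D hK hG hfe.left hfe.left_ne (hz i le_rfl).1 (hd1 i hi).1 ?_
    rintro s ⟨k, hk, hs⟩
    have hkn : k < n := by omega
    have hs1 := hH s ⟨k, hk, hs⟩
    refine ⟨hs1.2.2.1, ?_, ?_⟩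
    · rcases hs with rfl | rfl
      · exact (hd1 k hkn).1
      · exact (hd1 k hkn).2
    · obtain ⟨m, hm, hmk⟩ : ∃ m < i, m ≠ k := by
        by_cases h0 : k = 0
        · exact ⟨1, by omega, by omega⟩
        · exact ⟨0, by omega, fun h => h0 h.symm⟩
      refine exists_c_pair D hG hfe (fun s' hs' => ?_) (hF.hyp m (by omega))
        (hF.ee _ _ hi (by omega) (by omega)) (hF.ef _ _ hi (by omega) (by omega)) (hz i le_rfl).1
        (by rw [polar_comm]; exact hF.ef _ _ (by omega) hi (by omega)) (hF.ff _ _ hi (by omega) (by omega))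
        (hz i le_rfl).2 ?_
      · rw [Set.mem_singleton_iff.1 hs']
        exact ⟨hs1.1, hs1.2.1, hs1.2.2.1⟩
      · intro s' hs'
        rw [Set.mem_singleton_iff.1 hs']
        rcases hs with rfl | rfl
        · exact ⟨hF.ee _ _ (by omega) (by omega) hmk.symm, hF.ef _ _ (by omega) (by omega) hmk.symm,
            (hz k hk.le).1⟩
        · exact ⟨by rw [polar_comm]; exact hF.ef _ _ (by omega) (by omega) hmk,
            hF.ff _ _ (by omega) (by omega) hmk.symm, (hz k hk.le).2⟩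

/-- the fixed points of `t` in the layer -/
theorem fix_iff [Finite F] [CharP F 2] (hB : Big Q) (hK : KFacts Q) (hG : Grow Q t W) (hF : _root_.Cfsg.Agent.OddHalf.Orth.FlagDef.Flag Q n e f)
    {i : ℕ} (hi : i < n) : B Q W (e i) (HH e f i) ⊓ Subgroup.centralizer {t} = (RK Q e f i).map j := by
  have hH := HH_facts hF hi
  have hfe := hF.hyp i hi
  ext g
  rw [Subgroup.mem_inf, Subgroup.mem_centralizer_singleton_iff, Subgroup.mem_map]
  constructor
  · rintro ⟨h1, h2⟩
    obtain ⟨y, hy, rfl, hs⟩ := B_fix D hB hK hG hfe.left hfe.left_ne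
      (fun s hs => ⟨(hH s hs).1, (hH s hs).2.1, (hH s hs).2.2.1, (hH s hs).2.2.2.2⟩) h1
      (by rw [← h2, mul_assoc, D.tt, mul_one])
    refine ⟨tE Q (e i) y, (mem_RK hF hi).2 ⟨y + polar Q (f i) y • e i, ?_, ?_⟩, rfl⟩
    · intro k hk
      rcases hk.lt_or_eq with hk | rfl
      · have a1 := hs (e k) ⟨k, hk, Or.inl rfl⟩
        have a2 := hs (f k) ⟨k, hk, Or.inr rfl⟩
        rw [polar_add_right, polar_add_right, polar_smul_right, polar_smul_right, a1, a2,
          (hH (e k) ⟨k, hk, Or.inl rfl⟩).2.2.1, (hH (f k) ⟨k, hk, Or.inr rfl⟩).2.2.1]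
        simp
      · rw [polar_add_right, polar_add_right, polar_smul_right, polar_smul_right, hy, hfe.polar_left, hfe.pair']
        refine ⟨by simp, ?_⟩
        rw [smul_eq_mul, mul_one, CharTwo.add_self_eq_zero]
    · rw [tE_add_smul hfe.left hy]
  · rintro ⟨k, hk, rfl⟩
    obtain ⟨y, hy, rfl⟩ := (mem_RK hF hi).1 hk
    refine ⟨R_mem_B D hK hfe.left hfe.left_ne (hy i le_rfl).1 ?_, (D.tj _).symm⟩
    rintro s ⟨k, hk, hs⟩
    refine ⟨(hH s ⟨k, hk, hs⟩).2.2.1, ?_⟩
    rcases hs with rfl | rfl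
    · exact (hy k hk.le).1
    · exact (hy k hk.le).2

omit D in
/-- elements of the product of the first `k` root groups act trivially on `L^⊥ / L` -/
theorem triv [CharP F 2] (hF : _root_.Cfsg.Agent.OddHalf.Orth.FlagDef.Flag Q n e f) {k : ℕ} (hk : k ≤ n) {g : ↥(E Q)}
    (hg : g ∈ ⨆ i : ℕ, ⨆ _ : i < k, RK Q e f i) :
    ∀ v, (∀ i < k, polar Q (e i) v = 0) → (∀ i < k, polar Q (e i) ((g : V ≃ₗ[F] V) v) = 0) ∧
      ∀ w, (∀ i < k, polar Q (e i) w = 0) → polar Q ((g : V ≃ₗ[F] V) v) w = polar Q v w := by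
  induction hg using Subgroup.iSup_induction' with
  | hp i x hx =>
    by_cases hi : i < k
    · rw [iSup_pos hi] at hx
      obtain ⟨y, hy, rfl⟩ := (mem_RK hF (hi.trans_le hk)).1 hx
      intro v hv
      have he := (hF.hyp i (hi.trans_le hk)).left
      have e1 : ((tE Q (e i) y : ↥(E Q)) : V ≃ₗ[F] V) v = v + polar Q y v • e i := by
        rw [coe_tE, T_apply2 he (hy i le_rfl).1, hv i hi]
        simp
      rw [e1]
      have hee : ∀ l < k, polar Q (e l) (e i) = 0 := by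
        intro l hl
        by_cases hli : l = i
        · rw [hli]; exact polar_self_of_sing he
        · exact hF.ee l i (hl.trans_le hk) (hi.trans_le hk) hli
      refine ⟨fun l hl => ?_, fun w hw => ?_⟩
      · rw [polar_add_right, polar_smul_right, hv l hl, hee l hl]; simp
      · rw [polar_add_left, polar_smul_left, hw i hi]; simp
    · rw [iSup_neg hi, Subgroup.mem_bot] at hx
      subst hx
      intro v hv
      exact ⟨hv, fun w _ => rfl⟩
  | h1 => exact fun v hv => ⟨hv, fun w _ => rfl⟩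
  | hmul x y _ _ hx hy =>
    intro v hv
    obtain ⟨h1, h2⟩ := hy v hv
    obtain ⟨h3, h4⟩ := hx _ h1
    refine ⟨h3, fun w hw => ?_⟩
    have e1 : ((x * y : ↥(E Q)) : V ≃ₗ[F] V) v = (x : V ≃ₗ[F] V) ((y : V ≃ₗ[F] V) v) := rfl
    rw [e1, h4 w hw, h2 w hw]

omit D in
theorem indep_K [CharP F 2] (hK : KFacts Q) (hF : _root_.Cfsg.Agent.OddHalf.Orth.FlagDef.Flag Q n e f) {k : ℕ} (hk : k < n) {g : ↥(E Q)}
    (hg : g ∈ RK Q e f k) (hg' : g ∈ ⨆ i : ℕ, ⨆ _ : i < k, RK Q e f i) : g = 1 := by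
  obtain ⟨y, hy, rfl⟩ := (mem_RK hF hk).1 hg
  have hfe := hF.hyp k hk
  have hf0 : ∀ i < k, polar Q (e i) (f k) = 0 := fun i hi => hF.ef i k (hi.trans hk) hk hi.ne
  obtain ⟨-, h2⟩ := triv hF hk.le hg' (f k) hf0
  have e1 : ((tE Q (e k) y : ↥(E Q)) : V ≃ₗ[F] V) (f k) = f k + y + Q y • e k := by
    rw [coe_tE, T_apply2 hfe.left (hy k le_rfl).1, hfe.pair, polar_comm Q y, (hy k le_rfl).2]
    module
  rw [e1] at h2
  have h3 : ∀ w, (∀ i < k, polar Q (e i) w = 0) → polar Q y w + Q y * polar Q (e k) w = 0 := by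
    intro w hw
    have := h2 w hw
    rw [polar_add_left, polar_add_left, polar_smul_left, add_assoc] at this
    exact left_eq_add.1 this.symm
  have hQy : Q y = 0 := by
    have := h3 (f k) hf0
    rwa [polar_comm Q y, (hy k le_rfl).2, hfe.pair, mul_one, zero_add] at this
  have h4 : ∀ w, (∀ i < k, polar Q (e i) w = 0) → polar Q y w = 0 := by
    intro w hw
    have := h3 w hw
    rwa [hQy, zero_mul, add_zero] at this
  have hy0 : y = 0 := by
    apply hK.nondeg
    intro w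
    have key : ∀ m ≤ k, (∀ i < k, m ≤ i → polar Q (e i) w = 0) → polar Q y w = 0 := by
      intro m
      induction m generalizing w with
      | zero =>
        intro _ hw
        exact h4 w (fun i hi => hw i hi (Nat.zero_le _))
      | succ m ih =>
        intro hm hw
        have hmn : m < n := by omega
        have := ih (w + polar Q (e m) w • f m) (by omega) (fun i hi hmi => by
          rcases hmi.lt_or_eq with h | rfl
          · rw [polar_add_right, hw i hi h, polar_smul_right, hF.ef i m (by omega) hmn (by omega)]; simp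
          · rw [polar_add_right, polar_smul_right, (hF.hyp m hmn).pair, smul_eq_mul, mul_one,
              CharTwo.add_self_eq_zero])
        rwa [polar_add_right, polar_smul_right, polar_comm Q y (f m), (hy m (by omega)).2, smul_zero,
          add_zero] at this
    exact key k le_rfl (fun i hi hki => absurd hi (by omega))
  rw [hy0, tE_zero_right]

theorem dbl [Finite F] [CharP F 2] (hB : Big Q) (hK : KFacts Q) (hG : Grow Q t W) (hF : _root_.Cfsg.Agent.OddHalf.Orth.FlagDef.Flag Q n e f)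
    (hn : 3 ≤ n) (hd : HasDelta Q n e f) :
    Grow2.Dbl t (fun i => B Q W (e i) (HH e f i)) (fun i => (RK Q e f i).map j) n where
  tt := D.tt
  conj i hi v hv := by
    have hH := HH_facts hF hi
    exact B_t D hK (hF.hyp i hi).left (hF.hyp i hi).left_ne (fun s hs => ⟨(hH s hs).1, (hH s hs).2.1⟩) hv
  sq i hi v hv := hG.sq (hF.hyp i hi).left (hF.hyp i hi).left_ne (mem_B.1 hv).1
  fix i hi v hv h := by
    rw [← fix_iff D hB hK hG hF hi, Subgroup.mem_inf, Subgroup.mem_centralizer_singleton_iff]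
    refine ⟨hv, ?_⟩
    have := congrArg (fun x => t * x) h
    simp only [← mul_assoc, D.tt, one_mul] at this
    exact this
  X_le i hi := by
    show (RK Q e f i).map j ≤ _
    rw [← fix_iff D hB hK hG hF hi]; exact inf_le_left
  X_fix i hi v hv := by
    obtain ⟨k, -, rfl⟩ := hv
    rw [D.tj, mul_assoc, D.tt, mul_one]
  free i hi v hv := by
    obtain ⟨k, hk, rfl⟩ := hv
    obtain ⟨y, hy, rfl⟩ := (mem_RK hF hi).1 hk
    obtain ⟨c, hc, e1⟩ := exists_c D hK hG hF hn hd hi hy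
    refine ⟨c, hc, ?_⟩
    have h1 := Vs_comm D (hF.hyp i hi).left (mem_B.1 hc).1 (Ru_mem (j := j) (hy i le_rfl).1)
    have h2 : t * c * t = c * j (tE Q (e i) y) := by rw [← e1, ph_def, mul_inv_cancel_left]
    rw [h2, ← h1, mul_inv_cancel_right]
  norm i l hil hl v hv w hw := by
    refine Grow2.le_W (fun i => B Q W (e i) (HH e f i)) hil ?_
    exact B_conj (show e i ∈ HH e f l from ⟨i, hil, Or.inl rfl⟩) (HH_mono hil.le) hv hw
  indep k hk := by
    rw [eq_bot_iff]
    rintro g ⟨⟨x, hx, rfl⟩, hg⟩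
    have h1 : Grow2.W (fun i => (RK Q e f i).map j) k = (⨆ i : ℕ, ⨆ _ : i < k, RK Q e f i).map j := by
      rw [Grow2.W, Subgroup.map_iSup]
      exact iSup_congr fun i => by rw [Subgroup.map_iSup]
    rw [h1] at hg
    obtain ⟨x', hx', e1⟩ := hg
    have := D.inj e1
    subst this
    rw [Subgroup.mem_bot, indep_K hK hF hk hx hx', map_one]

/-- **Sections 4 and 5.** -/
theorem exists_hom [Finite G] [Finite F] [CharP F 2] (hB : Big Q) (hK : KFacts Q) (hG : Grow Q t W)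
    (hF : _root_.Cfsg.Agent.OddHalf.Orth.FlagDef.Flag Q n e f) (hn : 3 ≤ n) (hd : HasDelta Q n e f)
    (hodd : Odd (((UK Q e f n).map j ⊔ Subgroup.zpowers t).relIndex (Subgroup.centralizer ({t} : Set G)))) :
    ∃ m : G →* ℤˣ, m t = -1 := by
  have h1 : Grow2.W (fun i => (RK Q e f i).map j) n = (UK Q e f n).map j := by
    rw [Grow2.W, UK, Subgroup.map_iSup]
    exact iSup_congr fun i => by rw [Subgroup.map_iSup]
  refine (dbl D hB hK hG hF hn hd).exists_hom ?_ ?_
  · rw [h1]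
    rintro ⟨k, -, hk⟩
    exact D.tK k hk
  · rw [h1]
    exact hodd

end Cfsg.Agent.OddHalf.Orth.End

end
end

-- part: OddHalf/Orth/Delta
section
/-!
# ODD D7, `K = Ω⁻(V)`: the element `δ` (section 4 of `blueprints/ODD-D7-orth-helper625.md`)

`V₀ = ⟨a, b⟩` an anisotropic plane perpendicular to a hyperbolic pair, characteristic 2, finite field:
there is `δ ∈ E Q` of odd order, trivial on `V₀^⊥`, fixed point free on `V₀`, mapping `V₀` to itself
(`exists_delta`). `hasDelta`: `FlagDef.HasDelta` for a flag whose perpendicular space is anisotropic.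
-/

set_option autoImplicit false

namespace Cfsg.Agent.OddHalf.Orth.Delta

open QuadraticMap Cfsg.Agent.LieClassical.OrthCore Cfsg.Agent.LieClassical.OrthTrans
  Cfsg.Agent.ClassicalGeometry.OrthAutBasic Cfsg.Agent.OddHalf.Orth

variable {F V : Type*} [Field F] [AddCommGroup V] [Module F V] {Q : QuadraticForm F V}

/-- `⟨a, b⟩` is an anisotropic nondegenerate plane. -/
structure Pl (Q : QuadraticForm F V) (a b : V) : Prop where
  ne : polar Q a b ≠ 0
  an : ∀ α β : F, Q (α • a + β • b) = 0 → α = 0 ∧ β = 0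

namespace Pl

variable {a b : V}

theorem qa (h : Pl Q a b) : Q a ≠ 0 := by
  intro h0
  have := h.an 1 0 (by simpa only [_root_.one_smul, _root_.zero_smul, _root_.add_zero] using h0)
  exact one_ne_zero this.1

theorem qb (h : Pl Q a b) : Q b ≠ 0 := by
  intro h0
  have := h.an 0 1 (by simpa only [_root_.zero_smul, _root_.one_smul, _root_.zero_add] using h0)
  exact one_ne_zero this.2

theorem smul (h : Pl Q a b) {c : F} (hc : c ≠ 0) : Pl Q a (c • b) where
  ne := by rw [polar_smul_right, smul_eq_mul]; exact mul_ne_zero hc h.ne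
  an := by
    intro α β h0
    rw [smul_smul] at h0
    obtain ⟨h1, h2⟩ := h.an α (β * c) h0
    exact ⟨h1, (mul_eq_zero.1 h2).resolve_right hc⟩

end Pl

/-- The element `δ` for the plane `⟨a, b⟩`. -/
structure Del (Q : QuadraticForm F V) (a b : V) (δ : ↥(E Q)) : Prop where
  odd : Odd (orderOf δ)
  /-- trivial on the perpendicular space -/
  perp : ∀ x, polar Q a x = 0 → polar Q b x = 0 → (δ : V ≃ₗ[F] V) x = x
  /-- the fixed points are perpendicular to the plane -/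
  fix : ∀ x, (δ : V ≃ₗ[F] V) x = x → polar Q a x = 0 ∧ polar Q b x = 0
  /-- `δ x - x` is in the plane -/
  comm : ∀ x, ∃ α β : F, (δ : V ≃ₗ[F] V) x = x + (α • a + β • b)

section two
variable [CharP F 2] {a b e f : V}

/-- the map `a ↦ b` in `E Q` -/
theorem exists_move_refl (he : Hyp Q e f) (hea : polar Q e a = 0) (heb : polar Q e b = 0)
    (hfa : polar Q f a = 0) (hfb : polar Q f b = 0) (h : polar Q a b ≠ 0) (hab : Q a = Q b) :
    ∃ k : ↥(E Q), (k : V ≃ₗ[F] V) a = b := by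
  have hba : polar Q b a ≠ 0 := by rw [polar_comm]; exact h
  -- the three steps
  have hw : polar Q e ((polar Q b a)⁻¹ • b) = 0 := by rw [polar_smul_right, heb, smul_zero]
  have hw' : polar Q e ((polar Q a b)⁻¹ • a) = 0 := by rw [polar_smul_right, hea, smul_zero]
  have hf : polar Q f (a + b) = 0 := by rw [polar_add_right, hfa, hfb, add_zero]
  have h1 : T Q e ((polar Q b a)⁻¹ • b) a = a + e := by
    rw [T_apply2 he.left hw, hea, polar_smul_left, smul_eq_mul, inv_mul_cancel₀ hba]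
    simp only [_root_.zero_smul, _root_.add_zero, _root_.MulZeroClass.mul_zero, _root_.one_smul]
  have h2 : T Q f (a + b) (a + e) = b + e := by
    have e1 : polar Q f (a + e) = 1 := by rw [polar_add_right, hfa, he.pair', zero_add]
    have e2 : polar Q (a + b) (a + e) = polar Q a b := by
      rw [polar_add_left, polar_add_right, polar_add_right, polar_self2, polar_comm Q a e, hea,
        polar_comm Q b e, heb, polar_comm Q b a]
      ring
    have e3 : Q (a + b) = polar Q a b := by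
      rw [Q_add, hab, CharTwo.add_self_eq_zero, zero_add]
    rw [T_apply2 he.right hf, e1, e2, e3, mul_one, CharTwo.add_self_eq_zero, zero_smul, add_zero,
      one_smul]
    have e4 : a + a = 0 := add_self' (F := F) a
    calc a + e + (a + b) = (a + a) + (b + e) := by abel
      _ = b + e := by rw [e4, zero_add]
  have h3 : T Q e ((polar Q a b)⁻¹ • a) (b + e) = b := by
    have e1 : polar Q e (b + e) = 0 := by
      rw [polar_add_right, heb, polar_self2, add_zero]
    have e2 : polar Q ((polar Q a b)⁻¹ • a) (b + e) = 1 := by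
      rw [polar_smul_left, polar_add_right, polar_comm Q a e, hea, add_zero, smul_eq_mul,
        inv_mul_cancel₀ h]
    rw [T_apply2 he.left hw', e1, e2, mul_zero, add_zero, one_smul, zero_smul, add_zero, add_assoc,
      add_self' (F := F), add_zero]
  refine ⟨⟨T Q e ((polar Q a b)⁻¹ • a) * (T Q f (a + b) * T Q e ((polar Q b a)⁻¹ • b)),
    mul_mem (T_mem_E _ _) (mul_mem (T_mem_E _ _) (T_mem_E _ _))⟩, ?_⟩
  show T Q e ((polar Q a b)⁻¹ • a) (T Q f (a + b) (T Q e ((polar Q b a)⁻¹ • b) a)) = b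
  rw [h1, h2, h3]

theorem refl_mul_mem (he : Hyp Q e f) (hea : polar Q e a = 0) (heb : polar Q e b = 0)
    (hfa : polar Q f a = 0) (hfb : polar Q f b = 0) (h : polar Q a b ≠ 0) (hab : Q a = Q b)
    (ha : Q a ≠ 0) (hb : Q b ≠ 0) : refl Q a ha * refl Q b hb ∈ E Q := by
  obtain ⟨k, hk⟩ := exists_move_refl he hea heb hfa hfb h hab
  subst hk
  have h1 : refl Q ((k : V ≃ₗ[F] V) a) hb = (k : V ≃ₗ[F] V) * refl Q a ha * (k : V ≃ₗ[F] V)⁻¹ :=
    (refl_conj (mem_O' k) ha hb).symm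
  have h2 : refl Q a ha * ((k : V ≃ₗ[F] V) * refl Q a ha * (k : V ≃ₗ[F] V)⁻¹) =
      (refl Q a ha * (k : V ≃ₗ[F] V) * (refl Q a ha)⁻¹) * (k : V ≃ₗ[F] V)⁻¹ := by
    rw [refl_inv ha]; group
  rw [h1, h2]
  exact mul_mem (conj_mem_E (refl_mem_O ha) k.2) (inv_mem k.2)

theorem odd_of {δ : ↥(E Q)} (hp : Pl Q a b) (hfin : IsOfFinOrder δ)
    (perp : ∀ x, polar Q a x = 0 → polar Q b x = 0 → (δ : V ≃ₗ[F] V) x = x)
    (fix : ∀ x, (δ : V ≃ₗ[F] V) x = x → polar Q a x = 0 ∧ polar Q b x = 0)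
    (comm : ∀ x, ∃ α β : F, (δ : V ≃ₗ[F] V) x = x + (α • a + β • b)) : Odd (orderOf δ) := by
  have haa : polar Q a a = 0 := polar_self2 a
  have hbb : polar Q b b = 0 := polar_self2 b
  have hba : polar Q b a = polar Q a b := polar_comm Q b a
  have pa : ∀ α β : F, polar Q a (α • a + β • b) = β * polar Q a b := by
    intro α β
    rw [polar_add_right, polar_smul_right, polar_smul_right, haa, smul_zero, zero_add, smul_eq_mul]
  have pb : ∀ α β : F, polar Q b (α • a + β • b) = α * polar Q a b := by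
    intro α β
    rw [polar_add_right, polar_smul_right, polar_smul_right, hbb, smul_zero, add_zero, smul_eq_mul,
      hba]
  -- a vector of the plane perpendicular to `a` and `b` is zero
  have pl0 : ∀ α β : F, polar Q a (α • a + β • b) = 0 → polar Q b (α • a + β • b) = 0 →
      α = 0 ∧ β = 0 := by
    intro α β h1 h2
    rw [pa] at h1
    rw [pb] at h2
    exact ⟨(mul_eq_zero.1 h2).resolve_right hp.ne, (mul_eq_zero.1 h1).resolve_right hp.ne⟩
  -- a fixed line in the plane is impossible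
  have noline : ∀ (α β c : F), (δ : V ≃ₗ[F] V) (α • a + β • b) = c • (α • a + β • b) →
      α = 0 ∧ β = 0 := by
    intro α β c h
    by_contra h0
    have hq : Q (α • a + β • b) ≠ 0 := fun h1 => h0 (hp.an α β h1)
    have h1 : Q (α • a + β • b) = c * c * Q (α • a + β • b) := by
      conv_lhs => rw [← Q_map δ, h, QuadraticMap.map_smul, smul_eq_mul]
    have h2 : c * c = 1 := by
      have : (c * c - 1) * Q (α • a + β • b) = 0 := by rw [sub_mul, one_mul, ← h1, sub_self]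
      exact sub_eq_zero.1 ((mul_eq_zero.1 this).resolve_right hq)
    have h3 : c = 1 := by
      have : (c - 1) * (c - 1) = 0 := by
        have e : (c - 1) * (c - 1) = c * c - 1 - 2 * (c - 1) := by ring
        rw [e, h2, CharTwo.two_eq_zero]; ring
      exact sub_eq_zero.1 (mul_self_eq_zero.1 this)
    rw [h3, one_smul] at h
    obtain ⟨h4, h5⟩ := fix _ h
    exact h0 (pl0 α β h4 h5)
  by_contra hodd
  rw [Nat.not_odd_iff_even] at hodd
  obtain ⟨m, hm⟩ := hodd
  have hpos : 0 < orderOf δ := hfin.orderOf_pos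
  set! τ : ↥(E Q) := δ ^ m with hτ
  have hτ1 : τ ≠ 1 := by
    intro h
    have := orderOf_dvd_of_pow_eq_one h
    have := Nat.le_of_dvd (by omega) this
    omega
  have hτ2 : τ * τ = 1 := by rw [hτ, ← pow_add, ← hm, pow_orderOf_eq_one]
  have hcm : δ * τ = τ * δ := by rw [hτ]; exact (pow_succ' δ m).symm.trans (pow_succ δ m)
  have τperp : ∀ x, polar Q a x = 0 → polar Q b x = 0 → (τ : V ≃ₗ[F] V) x = x := by
    intro x h1 h2
    have : ∀ n : ℕ, ((δ ^ n : ↥(E Q)) : V ≃ₗ[F] V) x = x := by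
      intro n
      induction n with
      | zero => rfl
      | succ n ih =>
        have : ((δ ^ (n + 1) : ↥(E Q)) : V ≃ₗ[F] V) x =
            ((δ ^ n : ↥(E Q)) : V ≃ₗ[F] V) ((δ : V ≃ₗ[F] V) x) := by rw [pow_succ]; rfl
        rw [this, perp x h1 h2, ih]
    exact this m
  have τcomm : ∀ x, ∃ α β : F, (τ : V ≃ₗ[F] V) x = x + (α • a + β • b) := by
    intro x
    have : ∀ n : ℕ, ∃ α β : F, ((δ ^ n : ↥(E Q)) : V ≃ₗ[F] V) x = x + (α • a + β • b) := by
      intro n
      induction n with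
      | zero => exact ⟨0, 0, by simp⟩
      | succ n ih =>
        obtain ⟨α, β, h⟩ := ih
        obtain ⟨α', β', h'⟩ := comm (((δ ^ n : ↥(E Q)) : V ≃ₗ[F] V) x)
        have e : ((δ ^ (n + 1) : ↥(E Q)) : V ≃ₗ[F] V) x =
            (δ : V ≃ₗ[F] V) (((δ ^ n : ↥(E Q)) : V ≃ₗ[F] V) x) := by rw [pow_succ']; rfl
        refine ⟨α + α', β + β', ?_⟩
        rw [e, h', h]
        module
    exact this m
  -- a moved vector
  obtain ⟨v, hv⟩ : ∃ v, (τ : V ≃ₗ[F] V) v ≠ v := by
    by_contra h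
    push Not at h
    exact hτ1 (Subtype.ext (LinearEquiv.ext h))
  obtain ⟨α, β, hαβ⟩ := τcomm v
  have hττ : ∀ x, (τ : V ≃ₗ[F] V) ((τ : V ≃ₗ[F] V) x) = x := by
    intro x
    have : (τ : V ≃ₗ[F] V) ((τ : V ≃ₗ[F] V) x) = ((τ * τ : ↥(E Q)) : V ≃ₗ[F] V) x := rfl
    rw [this, hτ2]; rfl
  set! w : V := α • a + β • b with hw; rewrite [← hw] at hαβ
  have hwτ : (τ : V ≃ₗ[F] V) w = w := by
    have h1 : w = (τ : V ≃ₗ[F] V) v - v := by rw [hαβ, add_sub_cancel_left]
    have h2 : (τ : V ≃ₗ[F] V) w = v - (τ : V ≃ₗ[F] V) v := by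
      rw [h1, map_sub, hττ]
    have h3 : v - (τ : V ≃ₗ[F] V) v = (τ : V ≃ₗ[F] V) v - v := by
      rw [sub_eq' (F := F), sub_eq' (F := F), add_comm]
    rw [h2, h3, ← h1]
  have hw0 : ¬ (α = 0 ∧ β = 0) := by
    rintro ⟨h1, h2⟩
    apply hv
    rw [hαβ, hw, h1, h2]; simp
  -- `δ w` is in the plane
  obtain ⟨α', β', h'⟩ := comm w
  set! γ : F := α + α' with hγ
  set! ε : F := β + β' with hε
  have hδw : (δ : V ≃ₗ[F] V) w = γ • a + ε • b := by
    rw [h', hw, hγ, hε]; module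
  have hδτ : (τ : V ≃ₗ[F] V) (γ • a + ε • b) = γ • a + ε • b := by
    have e1 : (τ : V ≃ₗ[F] V) ((δ : V ≃ₗ[F] V) w) = (δ : V ≃ₗ[F] V) ((τ : V ≃ₗ[F] V) w) := by
      have : ((τ * δ : ↥(E Q)) : V ≃ₗ[F] V) w = ((δ * τ : ↥(E Q)) : V ≃ₗ[F] V) w := by rw [hcm]
      exact this
    rw [← hδw, e1, hwτ]
  by_cases hdet : α * ε + β * γ = 0
  · -- dependent: fixed line
    by_cases hα : α = 0
    · have hβ : β ≠ 0 := fun h => hw0 ⟨hα, h⟩
      have hγ0 : γ = 0 := by
        rw [hα, zero_mul, zero_add] at hdet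
        exact (mul_eq_zero.1 hdet).resolve_left hβ
      have := noline α β (ε * β⁻¹) (by
        rw [← hw, hδw, hw, hγ0, hα]
        simp only [zero_smul, zero_add, smul_smul]
        rw [mul_assoc, inv_mul_cancel₀ hβ, mul_one])
      exact hβ this.2
    · have hε0 : ε = γ * α⁻¹ * β := by
        have : α * ε = β * γ := by
          have := hdet
          rw [← sub_eq_zero]
          rw [CharTwo.sub_eq_add]; exact this
        field_simp
        linear_combination this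
      have := noline α β (γ * α⁻¹) (by
        rw [← hw, hδw, hw, hε0, smul_add, smul_smul, smul_smul, inv_mul_cancel_right₀ hα])
      exact hα this.1
  · -- independent: `τ = 1`
    apply hτ1
    apply Subtype.ext
    apply LinearEquiv.ext
    intro y
    obtain ⟨ζ, η, hy⟩ := τcomm y
    have key : ∀ x : V, (τ : V ≃ₗ[F] V) x = x → polar Q (ζ • a + η • b) x = 0 := by
      intro x hx
      have h1 : polar Q ((τ : V ≃ₗ[F] V) y) ((τ : V ≃ₗ[F] V) x) = polar Q y x := polar_map' τ y x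
      rw [hx, hy, polar_add_left] at h1
      exact left_eq_add.1 h1.symm
    have k1 := key w hwτ
    have k2 := key (γ • a + ε • b) hδτ
    have ev : ∀ s r : F, polar Q (ζ • a + η • b) (s • a + r • b) = (ζ * r + η * s) * polar Q a b := by
      intro s r
      rw [polar_add_left, polar_smul_left, polar_smul_left, pa, pb]
      simp only [smul_eq_mul]; ring
    rw [hw, ev] at k1
    rw [ev] at k2
    have k1' := (mul_eq_zero.1 k1).resolve_right hp.ne
    have k2' := (mul_eq_zero.1 k2).resolve_right hp.ne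
    have two0 : (2 : F) = 0 := CharTwo.two_eq_zero
    -- ζ β + η α = 0, ζ ε + η γ = 0
    have hζ : ζ * (α * ε + β * γ) = 0 := by
      linear_combination α * k2' + γ * k1' - η * α * γ * two0
    have hη : η * (α * ε + β * γ) = 0 := by
      linear_combination β * k2' + ε * k1' - ζ * β * ε * two0
    have z1 : ζ = 0 := (mul_eq_zero.1 hζ).resolve_right hdet
    have z2 : η = 0 := (mul_eq_zero.1 hη).resolve_right hdet
    rw [hy, z1, z2]
    simp only [_root_.zero_smul, _root_.add_zero, _root_.OneMemClass.coe_one, _root_.LinearEquiv.coe_one, _root_.id_eq]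

/-- **The element `δ`** when `Q a = Q b`. -/
theorem exists_delta_eq [Finite F] [FiniteDimensional F V] (he : Hyp Q e f) (hea : polar Q e a = 0)
    (heb : polar Q e b = 0) (hfa : polar Q f a = 0) (hfb : polar Q f b = 0) (hp : Pl Q a b)
    (hab : Q a = Q b) : ∃ δ : ↥(E Q), Del Q a b δ := by
  have hF : Finite V := Module.finite_of_finite F
  have hE : Finite (V ≃ₗ[F] V) := Finite.of_injective (fun g => (g : V → V)) DFunLike.coe_injective
  have hba : polar Q b a = polar Q a b := polar_comm Q b a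
  let δ : ↥(E Q) := ⟨refl Q a hp.qa * refl Q b hp.qb,
    refl_mul_mem he hea heb hfa hfb hp.ne hab hp.qa hp.qb⟩
  have hδ : ∀ x, (δ : V ≃ₗ[F] V) x = refl Q a hp.qa (refl Q b hp.qb x) := fun x => rfl
  have perp : ∀ x, polar Q a x = 0 → polar Q b x = 0 → (δ : V ≃ₗ[F] V) x = x := by
    intro x h1 h2
    rw [hδ, refl_apply hp.qb, h2, mul_zero, zero_smul, sub_zero, refl_apply hp.qa, h1, mul_zero,
      zero_smul, sub_zero]
  have fix : ∀ x, (δ : V ≃ₗ[F] V) x = x → polar Q a x = 0 ∧ polar Q b x = 0 := by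
    intro x h
    have h1 : refl Q b hp.qb x = refl Q a hp.qa x := by
      have := congrArg (refl Q a hp.qa) h
      rw [hδ] at this
      have h2 : ∀ z, refl Q a hp.qa (refl Q a hp.qa z) = z := fun z => reflLin_reflLin hp.qa z
      rwa [h2] at this
    rw [refl_apply, refl_apply] at h1
    have h2 : ((Q b)⁻¹ * polar Q b x) • b = ((Q a)⁻¹ * polar Q a x) • a := sub_right_injective h1
    have h3 := congrArg (polar Q a) h2
    rw [polar_smul_right, polar_smul_right, polar_self2, smul_zero, smul_eq_mul] at h3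
    have h4 := congrArg (polar Q b) h2
    rw [polar_smul_right, polar_smul_right, polar_self2, smul_zero, smul_eq_mul, hba] at h4
    refine ⟨?_, ?_⟩
    · have := (mul_eq_zero.1 h4.symm).resolve_right hp.ne
      exact (mul_eq_zero.1 this).resolve_left (inv_ne_zero hp.qa)
    · have := (mul_eq_zero.1 h3).resolve_right hp.ne
      exact (mul_eq_zero.1 this).resolve_left (inv_ne_zero hp.qb)
  have comm : ∀ x, ∃ α β : F, (δ : V ≃ₗ[F] V) x = x + (α • a + β • b) := by
    intro x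
    rw [hδ, refl_apply, refl_apply]
    exact ⟨-((Q a)⁻¹ * polar Q a (x - ((Q b)⁻¹ * polar Q b x) • b)), -((Q b)⁻¹ * polar Q b x),
      by module⟩
  exact ⟨δ, odd_of hp (isOfFinOrder_of_finite δ) perp fix comm, perp, fix, comm⟩

theorem exists_sq [Finite F] (c : F) : ∃ d : F, d * d = c := by
  have h : Function.Surjective (fun x : F => x * x) := by
    apply Finite.injective_iff_surjective.1
    intro x y hxy
    have : (x - y) * (x - y) = 0 := by
      have e : (x - y) * (x - y) = x * x - y * y + 2 * (y * (y - x)) := by ring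
      have hxy' : x * x = y * y := hxy
      rw [e, hxy', CharTwo.two_eq_zero]; ring
    exact sub_eq_zero.1 (mul_self_eq_zero.1 this)
  exact h c

/-- **The element `δ`** for an anisotropic plane perpendicular to a hyperbolic pair. -/
theorem exists_delta [Finite F] [FiniteDimensional F V] (he : Hyp Q e f) (hea : polar Q e a = 0)
    (heb : polar Q e b = 0) (hfa : polar Q f a = 0) (hfb : polar Q f b = 0) (hp : Pl Q a b) :
    ∃ δ : ↥(E Q), Del Q a b δ := by
  obtain ⟨c, hc⟩ := exists_sq (Q a * (Q b)⁻¹)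
  have hc0 : c ≠ 0 := by
    rintro rfl
    rw [zero_mul] at hc
    exact mul_ne_zero hp.qa (inv_ne_zero hp.qb) hc.symm
  have hq : Q a = Q (c • b) := by
    rw [QuadraticMap.map_smul, hc, smul_eq_mul, mul_assoc, inv_mul_cancel₀ hp.qb, mul_one]
  obtain ⟨δ, h⟩ := exists_delta_eq he hea (b := c • b) (by rw [polar_smul_right, heb, smul_zero]) hfa
    (by rw [polar_smul_right, hfb, smul_zero]) (hp.smul hc0) hq
  refine ⟨δ, h.odd, ?_, ?_, ?_⟩
  · intro x h1 h2
    exact h.perp x h1 (by rw [polar_smul_left, h2, smul_zero])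
  · intro x hx
    obtain ⟨h1, h2⟩ := h.fix x hx
    rw [polar_smul_left, smul_eq_mul] at h2
    exact ⟨h1, (mul_eq_zero.1 h2).resolve_left hc0⟩
  · intro x
    obtain ⟨α, β, h1⟩ := h.comm x
    exact ⟨α, β * c, by rw [h1, smul_smul]⟩

end two

open Cfsg.Agent.OddHalf.Orth.FlagDef

section flag
variable {n : ℕ} {e f : ℕ → V}

theorem mem_Yv {i : ℕ} {y : V} :
    y ∈ Yv Q e f i ↔ ∀ k ≤ i, polar Q (e k) y = 0 ∧ polar Q (f k) y = 0 := Iff.rfl

theorem Yv_add {i : ℕ} {x y : V} (hx : x ∈ Yv Q e f i) (hy : y ∈ Yv Q e f i) : x + y ∈ Yv Q e f i := by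
  intro k hk
  rw [polar_add_right, polar_add_right, (hx k hk).1, (hx k hk).2, (hy k hk).1, (hy k hk).2]
  simp

theorem Yv_smul {i : ℕ} {x : V} (c : F) (hx : x ∈ Yv Q e f i) : c • x ∈ Yv Q e f i := by
  intro k hk
  rw [polar_smul_right, polar_smul_right, (hx k hk).1, (hx k hk).2]
  simp

theorem Yv_sub {i : ℕ} {x y : V} (hx : x ∈ Yv Q e f i) (hy : y ∈ Yv Q e f i) : x - y ∈ Yv Q e f i := by
  have := Yv_add hx (Yv_smul (-1 : F) hy)
  rwa [neg_one_smul, ← sub_eq_add_neg] at this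

/-- projection to the vectors perpendicular to the flag -/
theorem exists_proj (h : _root_.Cfsg.Agent.OddHalf.Orth.FlagDef.Flag Q n e f) : ∀ m ≤ n, ∀ v : V, ∃ y : V,
    (∀ k < m, polar Q (e k) y = 0 ∧ polar Q (f k) y = 0) ∧
    ∀ a : V, (∀ k < m, polar Q (e k) a = 0 ∧ polar Q (f k) a = 0) → polar Q a y = polar Q a v := by
  intro m
  induction m with
  | zero => intro _ v; exact ⟨v, fun k hk => absurd hk (Nat.not_lt_zero k), fun a _ => rfl⟩
  | succ m ih =>
    intro hm v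
    obtain ⟨y, hy, hy'⟩ := ih (by omega) v
    have hh := h.hyp m (by omega)
    have hee : polar Q (e m) (e m) = 0 := polar_self_of_sing hh.left
    have hff : polar Q (f m) (f m) = 0 := polar_self_of_sing hh.right
    refine ⟨y - polar Q (f m) y • e m - polar Q (e m) y • f m, ?_, ?_⟩
    · intro k hk
      rcases Nat.lt_succ_iff_lt_or_eq.1 hk with hk | rfl
      · have h1 : polar Q (f k) (e m) = 0 := by
          rw [polar_comm]; exact h.ef m k (by omega) (by omega) (by omega)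
        simp only [polar_sub_right, polar_smul_right, (hy k hk).1, (hy k hk).2,
          h.ee k m (by omega) (by omega) (by omega), h.ef k m (by omega) (by omega) (by omega), h1,
          h.ff k m (by omega) (by omega) (by omega), smul_zero, sub_zero, and_self]
      · simp only [polar_sub_right, polar_smul_right, hee, hff, hh.pair, hh.pair', smul_eq_mul, mul_one,
          mul_zero, sub_zero, sub_self, and_self]
    · intro a ha
      have h1 := ha m (Nat.lt_succ_self m)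
      have h2 : polar Q a (e m) = 0 := by rw [polar_comm]; exact h1.1
      have h3 : polar Q a (f m) = 0 := by rw [polar_comm]; exact h1.2
      rw [polar_sub_right, polar_sub_right, polar_smul_right, polar_smul_right, h2, h3, smul_zero,
        smul_zero, sub_zero, sub_zero]
      exact hy' a fun k hk => ha k (by omega)

/-- **(F3)** the element `δ` of a flag whose perpendicular space is anisotropic (or zero). -/
theorem hasDelta (hQ : Nondeg Q) [Finite F] [CharP F 2] [FiniteDimensional F V] (hn : 1 ≤ n)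
    (h : _root_.Cfsg.Agent.OddHalf.Orth.FlagDef.Flag Q n e f) (han : ∀ y ∈ Yv Q e f (n - 1), Q y = 0 → y = 0) : HasDelta Q n e f := by
  by_cases h0 : ∀ y ∈ Yv Q e f (n - 1), y = 0
  · refine ⟨1, fun i _ => ⟨rfl, rfl⟩, fun y hy => ⟨0, ?_, ?_⟩⟩
    · intro k _; simp
    · rw [h0 y hy]; simp only [_root_.OneMemClass.coe_one, _root_.LinearEquiv.coe_one, _root_.id_eq, _root_.sub_self]
  push Not at h0
  obtain ⟨a, ha, ha0⟩ := h0
  obtain ⟨v, hv⟩ := hQ.exists_polar_ne ha0
  obtain ⟨b, hb, hb'⟩ := exists_proj h n le_rfl v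
  have hb1 : b ∈ Yv Q e f (n - 1) := fun k hk => hb k (by omega)
  have hab : polar Q a b ≠ 0 := by rw [hb' a fun k hk => ha k (by omega)]; exact hv
  have hba : polar Q b a ≠ 0 := by rw [polar_comm]; exact hab
  have haa : polar Q a a = 0 := polar_self2 a
  have hbb : polar Q b b = 0 := polar_self2 b
  have hp : Pl Q a b := by
    refine ⟨hab, fun α β hq => ?_⟩
    have h1 := han _ (Yv_add (Yv_smul α ha) (Yv_smul β hb1)) hq
    have h2 := congrArg (polar Q a) h1
    rw [polar_add_right, polar_smul_right, polar_smul_right, haa, smul_zero, zero_add,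
      polar_zero_right, smul_eq_mul] at h2
    have hβ : β = 0 := (mul_eq_zero.1 h2).resolve_right hab
    rw [hβ, zero_smul, add_zero] at h1
    exact ⟨(smul_eq_zero.1 h1).resolve_right ha0, hβ⟩
  -- the plane is everything
  have hspan : ∀ y ∈ Yv Q e f (n - 1), polar Q a y = 0 → polar Q b y = 0 → y = 0 := by
    intro y hy h1 h2
    obtain ⟨c, hc⟩ := exists_sq (Q y * (Q a)⁻¹)
    have h3 : Q (y + c • a) = 0 := by
      rw [Q_add, QuadraticMap.map_smul, polar_smul_right, polar_comm Q y a, h1, smul_zero, add_zero, hc,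
        smul_eq_mul, mul_assoc, inv_mul_cancel₀ hp.qa, mul_one, CharTwo.add_self_eq_zero]
    have h4 := han _ (Yv_add hy (Yv_smul c ha)) h3
    have h5 := congrArg (polar Q b) h4
    rw [polar_add_right, h2, zero_add, polar_smul_right, polar_zero_right, smul_eq_mul] at h5
    have hc0 : c = 0 := (mul_eq_zero.1 h5).resolve_right hba
    rwa [hc0, zero_smul, add_zero] at h4
  have he := h.hyp 0 (by omega)
  obtain ⟨d, hd⟩ := exists_delta he (ha 0 (by omega)).1 (hb1 0 (by omega)).1 (ha 0 (by omega)).2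
    (hb1 0 (by omega)).2 hp
  refine ⟨d, fun i hi => ⟨hd.perp _ ?_ ?_, hd.perp _ ?_ ?_⟩, ?_⟩
  · rw [polar_comm]; exact (ha i (by omega)).1
  · rw [polar_comm]; exact (hb1 i (by omega)).1
  · rw [polar_comm]; exact (ha i (by omega)).2
  · rw [polar_comm]; exact (hb1 i (by omega)).2
  have hfin : Finite V := Module.finite_of_finite F
  let D : ↥(Yv Q e f (n - 1)) → ↥(Yv Q e f (n - 1)) := fun z => ⟨(d : V ≃ₗ[F] V) z - z, by
    obtain ⟨α, β, hz⟩ := hd.comm (z : V)
    rw [hz, add_sub_cancel_left]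
    exact Yv_add (Yv_smul α ha) (Yv_smul β hb1)⟩
  have hinj : Function.Injective D := by
    intro z z' hzz
    have h1 : (d : V ≃ₗ[F] V) (z : V) - z = (d : V ≃ₗ[F] V) (z' : V) - z' := congrArg Subtype.val hzz
    have h2 : (d : V ≃ₗ[F] V) ((z : V) - z') = (z : V) - z' := by
      rw [map_sub]
      have : (d : V ≃ₗ[F] V) (z : V) = (d : V ≃ₗ[F] V) (z' : V) - z' + z := by rw [← h1]; abel
      rw [this]; abel
    obtain ⟨h3, h4⟩ := hd.fix _ h2
    have h5 := hspan _ (Yv_sub z.2 z'.2) h3 h4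
    exact Subtype.ext (sub_eq_zero.1 h5)
  intro y hy
  obtain ⟨z, hz⟩ := (Finite.injective_iff_surjective.1 hinj) ⟨y, hy⟩
  exact ⟨z, z.2, congrArg Subtype.val hz⟩

end flag

end Cfsg.Agent.OddHalf.Orth.Delta
end

-- part: OddHalf/Orth/KFlagMain
section
-- merged: Cfsg.Agent.OddHalf.Orth.Clean
section

/-!
# ODD D7, `K = Ω(V)`: the end, from odd index statements

`exists_hom_of` : `K⟨t⟩` of odd index in `C_G(t)`, `UK` of odd index in `K`.
-/

set_option autoImplicit false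
set_option linter.unusedSectionVars false

namespace Cfsg.Agent.OddHalf.Orth.Clean


section General

variable {G : Type*} [Group G] {t : G} {A U K C : Subgroup G}

theorem mem_sup_zpowers (htt : t * t = 1) (hA : ∀ a ∈ A, t * a = a * t) {g : G} :
    g ∈ A ⊔ Subgroup.zpowers t ↔ g ∈ A ∨ t * g ∈ A := by
  constructor
  · intro hg
    let S : Subgroup G :=
      { carrier := {g | g ∈ A ∨ t * g ∈ A}
        one_mem' := Or.inl (one_mem _)
        mul_mem' := by
          rintro a b (ha | ha) (hb | hb)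
          · exact Or.inl (mul_mem ha hb)
          · right
            have e : t * (a * b) = a * (t * b) := by rw [← mul_assoc, hA a ha, mul_assoc]
            rw [e]; exact mul_mem ha hb
          · right
            rw [← mul_assoc]; exact mul_mem ha hb
          · left
            have h1 := mul_mem ha hb
            have e : t * a * (t * b) = a * b := by
              have h2 : t * (t * a) = t * a * t := hA _ ha
              calc t * a * (t * b) = t * a * t * b := by group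
                _ = t * (t * a) * b := by rw [h2]
                _ = t * t * a * b := by group
                _ = a * b := by rw [htt, one_mul]
            rwa [e] at h1
        inv_mem' := by
          rintro a (ha | ha)
          · exact Or.inl (inv_mem ha)
          · right
            have h1 := inv_mem ha
            have hti : t⁻¹ = t := inv_eq_of_mul_eq_one_left htt
            have h2 : t * (t * a)⁻¹ = (t * a)⁻¹ * t := hA _ h1
            have e : t * a⁻¹ = (t * a)⁻¹ := by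
              rw [mul_inv_rev, hti] at h2 ⊢
              have h3 : t * (a⁻¹ * t) = a⁻¹ := by rw [h2, mul_assoc, htt, mul_one]
              calc t * a⁻¹ = t * (t * (a⁻¹ * t)) := by rw [h3]
                _ = t * t * a⁻¹ * t := by group
                _ = a⁻¹ * t := by rw [htt, one_mul]
            rwa [e] }
    have h1 : A ⊔ Subgroup.zpowers t ≤ S := by
      refine sup_le (fun a ha => Or.inl ha) ?_
      rw [Subgroup.zpowers_le]
      right
      rw [htt]; exact one_mem _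
    exact h1 hg
  · rintro (h1 | h1)
    · exact (le_sup_left : A ≤ _) h1
    · have h2 : g = t * (t * g) := by rw [← mul_assoc, htt, one_mul]
      rw [h2]
      exact mul_mem ((le_sup_right : Subgroup.zpowers t ≤ A ⊔ _) (Subgroup.mem_zpowers t)) ((le_sup_left : A ≤ _) h1)

theorem relIndex_sup_zpowers (htt : t * t = 1) (hA : ∀ a ∈ A, t * a = a * t) (ht : t ∉ A) :
    A.relIndex (A ⊔ Subgroup.zpowers t) = 2 := by
  rw [Subgroup.relIndex_eq_two_iff]
  refine ⟨t, (le_sup_right : Subgroup.zpowers t ≤ A ⊔ _) (Subgroup.mem_zpowers t), fun b hb => ?_⟩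
  rcases (mem_sup_zpowers htt hA).1 hb with h1 | h1
  · right
    refine ⟨h1, fun h2 => ht ?_⟩
    have h3 := mul_mem (inv_mem h1) h2
    rwa [inv_mul_cancel_left] at h3
  · left
    have hbt : b * t ∈ A := by
      have h2 := hA _ h1
      have e : t * (t * b) * t = b * t := by rw [← mul_assoc, htt, one_mul]
      have h3 : t * b = b * t := by
        have h4 : t * (t * b) = b := by rw [← mul_assoc, htt, one_mul]
        rw [h4] at h2
        calc t * b = t * (t * b * t) := by rw [← h2]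
          _ = t * t * (b * t) := by group
          _ = b * t := by rw [htt, one_mul]
      rwa [← h3]
    refine ⟨hbt, fun h2 => ht ?_⟩
    have h3 := mul_mem (inv_mem h2) hbt
    rwa [inv_mul_cancel_left] at h3

theorem odd_relIndex_sup (htt : t * t = 1) (htK : ∀ k ∈ K, t * k = k * t) (ht : t ∉ K) (hUK : U ≤ K)
    (hU : Odd (U.relIndex K)) (hC : K ⊔ Subgroup.zpowers t ≤ C) (hK : Odd ((K ⊔ Subgroup.zpowers t).relIndex C)) :
    Odd ((U ⊔ Subgroup.zpowers t).relIndex C) := by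
  have h1 : U ⊔ Subgroup.zpowers t ≤ K ⊔ Subgroup.zpowers t := sup_le_sup_right hUK _
  rw [← Subgroup.relIndex_mul_relIndex _ _ _ h1 hC]
  refine Odd.mul ?_ hK
  have h2 := Subgroup.relIndex_mul_relIndex U (U ⊔ Subgroup.zpowers t) _ le_sup_left h1
  have h3 := Subgroup.relIndex_mul_relIndex U K (K ⊔ Subgroup.zpowers t) hUK le_sup_left
  rw [relIndex_sup_zpowers htt (fun a ha => htK a (hUK ha)) (fun h => ht (hUK h))] at h2
  rw [relIndex_sup_zpowers htt htK ht] at h3
  have h4 : (U ⊔ Subgroup.zpowers t).relIndex (K ⊔ Subgroup.zpowers t) = U.relIndex K := by omega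
  rw [h4]; exact hU


end General

open QuadraticMap Cfsg.Agent.LieClassical.OrthCore Cfsg.Agent.LieClassical.OrthTrans
  Cfsg.Agent.ClassicalGeometry.OrthAutBasic Cfsg.Agent.OddHalf.Orth
  Cfsg.Agent.OddHalf.Orth.Face Cfsg.Agent.OddHalf.Orth.Lay Cfsg.Agent.OddHalf.Orth.FlagDef

variable {F V : Type*} [Field F] [AddCommGroup V] [Module F V] {Q : QuadraticForm F V}
variable {G : Type*} [Group G] {t : G} {j : ↥(E Q) →* G} {W : V → V → Subgroup G}
variable {n : ℕ} {e f : ℕ → V}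

/-- **The end, clean case**: `K⟨t⟩` has odd index in `C_G(t)`, the flag unipotent group has odd index in `K`. -/
theorem exists_hom_of [Finite G] [Finite F] [CharP F 2] (hB : Big Q) (hK : KFacts Q) (D : Dbl Q t j W)
    (hG : Grow Q t W) (hF : _root_.Cfsg.Agent.OddHalf.Orth.FlagDef.Flag Q n e f) (hn : 3 ≤ n) (hd : HasDelta Q n e f) (hU : Odd (UK Q e f n).index)
    (hodd : Odd ((j.range ⊔ Subgroup.zpowers t).relIndex (Subgroup.centralizer ({t} : Set G)))) :
    ∃ m : G →* ℤˣ, m t = -1 := by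
  refine End.exists_hom D hB hK hG hF hn hd ?_
  refine odd_relIndex_sup D.tt ?_ ?_ (U := (UK Q e f n).map j) (K := j.range) ?_ ?_ ?_ hodd
  · rintro _ ⟨k, rfl⟩
    exact D.tj k
  · rintro ⟨k, hk⟩
    exact D.tK k hk
  · show _ ≤ _
    exact Subgroup.map_le_range _ _
  · have h1 : ((UK Q e f n).map j).relIndex j.range = (UK Q e f n).index := by
      rw [MonoidHom.range_eq_map, Subgroup.relIndex_map_map_of_injective _ _ D.inj, Subgroup.relIndex_top_right]
    rw [h1]
    exact hU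
  · refine sup_le ?_ ?_
    · rintro _ ⟨k, rfl⟩
      rw [Subgroup.mem_centralizer_singleton_iff]
      exact (D.tj k).symm
    · rw [Subgroup.zpowers_le, Subgroup.mem_centralizer_singleton_iff]

end Cfsg.Agent.OddHalf.Orth.Clean

end

-- merged: Cfsg.Agent.OddHalf.Orth.KFlagMain
section

/-!
# ODD D7, `K = Ω^±(2n, q)`, `q` even: all K-facts of sections 4 and 5 for the two models, and the clean end

`delta_minus`, `delta_plus`: (F3); `big_minus`, `big_plus`; `kfacts_minus`, `kfacts_plus`; `end_minus`,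
`end_plus`: from `Dbl` and `Grow` (sections 2, 3) to the homomorphism, if `K⟨t⟩` has odd index in `C_G(t)`;
`end_minus'`, `end_plus'`: the same if `UK⟨t⟩` has odd index in `C_G(t)`.
-/

set_option autoImplicit false

namespace Cfsg.Agent.OddHalf.Orth.KFlagMain

open QuadraticMap Cfsg.Agent.LieClassical.OrthCore Cfsg.Agent.LieClassical.OrthTrans
  Cfsg.Agent.LieClassical Cfsg.Agent.LieClassical.OrthForms
  Cfsg.Agent.ClassicalGeometry.OrthAutBasic Cfsg.Agent.TitsThree.KSideO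
  Cfsg.Agent.OddHalf.Orth Cfsg.Agent.OddHalf.Orth.Face Cfsg.Agent.OddHalf.Orth.Lay
  Cfsg.Agent.OddHalf.Orth.FlagDef Cfsg.Agent.OddHalf.Orth.KFlag

variable {F : Type*} [Field F] [Finite F] [CharP F 2] {m : ℕ}

omit [Finite F] [CharP F 2] in
theorem finrank_minus : Module.finrank F ((Fin m ⊕ Fin m) ⊕ Fin 2 → F) = 2 * m + 2 := by
  rw [Module.finrank_fintype_fun_eq_card, Fintype.card_sum, Fintype.card_sum, Fintype.card_fin,
    Fintype.card_fin]
  omega

section Minus

variable (m) (a b : F) (hab : ∀ z₁ z₂ : F, z₁ ^ 2 + a * z₁ * z₂ + b * z₂ ^ 2 = 0 → z₁ = 0 ∧ z₂ = 0)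

/-- the sequence `e_i` for `quadFormMinus` -/
noncomputable abbrev em : ℕ → (Fin m ⊕ Fin m) ⊕ Fin 2 → F := eN (wminus m F a b hab)

/-- the sequence `f_i` for `quadFormMinus` -/
noncomputable abbrev fm : ℕ → (Fin m ⊕ Fin m) ⊕ Fin 2 → F := fN (wminus m F a b hab)

omit [Finite F] [CharP F 2] in
theorem aniso_minus (hm : 1 ≤ m) {y : (Fin m ⊕ Fin m) ⊕ Fin 2 → F}
    (hy : y ∈ Yv (minusForm m F a b) (em m a b hab) (fm m a b hab) (m - 1)) (hQ : minusForm m F a b y = 0) :
    y = 0 := by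
  rw [mem_Yv _ (by omega)] at hy
  have h1 : ∀ i : Fin m, y (Sum.inl (Sum.inl i)) = 0 ∧ y (Sum.inl (Sum.inr i)) = 0 := by
    intro i
    obtain ⟨h1, h2⟩ := hy i (by omega)
    constructor
    · have h3 : polar (minusForm m F a b) (Pi.single (Sum.inl (Sum.inr i)) 1) y = 0 := h2
      rw [polar_minusForm] at h3
      simpa only [Pi.single_apply, _root_.ne_eq, _root_.Sum.inl.injEq, _root_.reduceCtorEq, _root_.not_false_eq_true, _root_.Pi.single_eq_of_ne, _root_.MulZeroClass.zero_mul, _root_.Sum.inr.injEq, _root_.mul_ite, _root_.mul_one, _root_.MulZeroClass.mul_zero, _root_.zero_add, _root_.Finset.sum_ite_eq', _root_.Finset.mem_univ, ↓ _root_.reduceIte, _root_.Fin.isValue, _root_.add_zero] using h3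
    · have h3 : polar (minusForm m F a b) (Pi.single (Sum.inl (Sum.inl i)) 1) y = 0 := h1
      rw [polar_minusForm] at h3
      simpa only [Pi.single_apply, _root_.Sum.inl.injEq, _root_.ite_mul, _root_.one_mul, _root_.MulZeroClass.zero_mul, _root_.ne_eq, _root_.reduceCtorEq, _root_.not_false_eq_true, _root_.Pi.single_eq_of_ne, _root_.MulZeroClass.mul_zero, _root_.add_zero, _root_.Finset.sum_ite_eq', _root_.Finset.mem_univ, ↓ _root_.reduceIte, _root_.Fin.isValue] using h3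
  rw [coe_minusForm, quadFormMinus_apply] at hQ
  simp only [(h1 _).1, (h1 _).2, mul_zero, Finset.sum_const_zero, zero_add] at hQ
  obtain ⟨h2, h3⟩ := hab _ _ hQ
  funext i
  rcases i with (i | i) | i
  · exact (h1 i).1
  · exact (h1 i).2
  · fin_cases i
    · exact h2
    · exact h3

theorem delta_minus (hm : 1 ≤ m) : HasDelta (minusForm m F a b) m (em m a b hab) (fm m a b hab) :=
  Delta.hasDelta (nondeg_minusForm m F a b hab) hm (flag _) fun _ hy => aniso_minus m a b hab hm hy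

include hab in
theorem big_minus (hm : 3 ≤ m) : Big (minusForm m F a b) :=
  ⟨nondeg_minusForm m F a b hab, by rw [finrank_minus]; omega⟩

include hab in
theorem kfacts_minus (hm : 3 ≤ m) : KFacts (minusForm m F a b) :=
  kfacts (nondeg_minusForm m F a b hab) (by rw [finrank_minus]; omega)

end Minus

section Plus

/-- the sequence `f_i` for `quadFormPlus` -/
noncomputable abbrev fp (m : ℕ) (F : Type*) [Field F] : ℕ → Fin m ⊕ Fin m → F :=
  fN (Cfsg.Agent.Nodes.RGDOrth.wplus m F)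

end Plus

/-! ### The ends -/

variable {G : Type*} [Group G] [Finite G] {t : G}

end Cfsg.Agent.OddHalf.Orth.KFlagMain

end
end

-- part: OddHalf/Orth/KFr
section
/-!
# ODD D7, `K = Ω⁻(2n+2, q)`, `n ≥ 3`, `q` even: the frame data `FrGen.KF` (helper554)

`U = UK Q e f n` (the unipotent group of the flag), `Z = X Q (e 0) (e 1)` (the root group of the first line).

* `PL Q S a b` : generated by all `tE x y`, `x ∈ S`, `y ∈ ⟨a, b⟩`; `PL_perfect`: it is perfect if `S` contains a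
  hyperbolic pair, `S ⊥ ⟨a, b⟩`, `Q a = Q b`;
* `kf` : `FrGen.KF U Z` from the facts on `K`; `kf_minus` : for `quadFormMinus`.
-/

set_option autoImplicit false

namespace Cfsg.Agent.OddHalf.Orth.KFr

open QuadraticMap Cfsg.Agent.LieClassical.OrthCore Cfsg.Agent.LieClassical.OrthTrans
  Cfsg.Agent.ClassicalGeometry.OrthAutBasic Cfsg.Agent.ClassicalGeometry.OrthAutRoot
  Cfsg.Agent.OddHalf.Orth Cfsg.Agent.OddHalf.Orth.Face Cfsg.Agent.OddHalf.Orth.FlagDef
  Cfsg.Agent.OddHalf.D7Out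
open scoped commutatorElement

variable {F V : Type*} [Field F] [AddCommGroup V] [Module F V] {Q : QuadraticForm F V}

/-! ### A perfect subgroup -/

/-- generated by all `tE x y`, `x ∈ S`, `y ∈ ⟨a, b⟩` -/
noncomputable def PL (Q : QuadraticForm F V) (S : Set V) (a b : V) : Subgroup ↥(E Q) :=
  Subgroup.closure {g | ∃ x ∈ S, ∃ α β : F, g = tE Q x (α • a + β • b)}

theorem mem_PL {S : Set V} {a b x : V} (hx : x ∈ S) (α β : F) : tE Q x (α • a + β • b) ∈ PL Q S a b :=
  Subgroup.subset_closure ⟨x, hx, α, β, rfl⟩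

theorem mem_PL_a {S : Set V} {a b x : V} (hx : x ∈ S) (α : F) : tE Q x (α • a) ∈ PL Q S a b := by
  have h := mem_PL (Q := Q) (a := a) (b := b) hx α 0
  rwa [zero_smul, add_zero] at h

theorem mem_PL_b {S : Set V} {a b x : V} (hx : x ∈ S) (β : F) : tE Q x (β • b) ∈ PL Q S a b := by
  have h := mem_PL (Q := Q) (a := a) (b := b) hx 0 β
  rwa [zero_smul, zero_add] at h

section two

variable [CharP F 2] {S : Set V} {a b e f : V}

/-- the map `a ↦ b` in `PL` -/
theorem exists_move (he : Hyp Q e f) (heS : e ∈ S) (hfS : f ∈ S) (hea : polar Q e a = 0) (heb : polar Q e b = 0)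
    (hfa : polar Q f a = 0) (hfb : polar Q f b = 0) (h : polar Q a b ≠ 0) (hab : Q a = Q b) :
    ∃ k ∈ PL Q S a b, (k : V ≃ₗ[F] V) a = b := by
  have hba : polar Q b a ≠ 0 := by rw [polar_comm]; exact h
  have hw : polar Q e ((polar Q b a)⁻¹ • b) = 0 := by rw [polar_smul_right, heb, smul_zero]
  have hw' : polar Q e ((polar Q a b)⁻¹ • a) = 0 := by rw [polar_smul_right, hea, smul_zero]
  have hf : polar Q f (a + b) = 0 := by rw [polar_add_right, hfa, hfb, add_zero]
  have h1 : T Q e ((polar Q b a)⁻¹ • b) a = a + e := by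
    rw [T_apply2 he.left hw, hea, polar_smul_left, smul_eq_mul, inv_mul_cancel₀ hba]
    simp only [_root_.zero_smul, _root_.add_zero, _root_.MulZeroClass.mul_zero, _root_.one_smul]
  have h2 : T Q f (a + b) (a + e) = b + e := by
    have e1 : polar Q f (a + e) = 1 := by rw [polar_add_right, hfa, he.pair', zero_add]
    have e2 : polar Q (a + b) (a + e) = polar Q a b := by
      rw [polar_add_left, polar_add_right, polar_add_right, polar_self2, polar_comm Q a e, hea,
        polar_comm Q b e, heb, polar_comm Q b a]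
      ring
    have e3 : Q (a + b) = polar Q a b := by
      rw [Q_add, hab, CharTwo.add_self_eq_zero, zero_add]
    rw [T_apply2 he.right hf, e1, e2, e3, mul_one, CharTwo.add_self_eq_zero, zero_smul, add_zero,
      one_smul]
    have e4 : a + a = 0 := add_self' (F := F) a
    calc a + e + (a + b) = (a + a) + (b + e) := by abel
      _ = b + e := by rw [e4, zero_add]
  have h3 : T Q e ((polar Q a b)⁻¹ • a) (b + e) = b := by
    have e1 : polar Q e (b + e) = 0 := by
      rw [polar_add_right, heb, polar_self2, add_zero]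
    have e2 : polar Q ((polar Q a b)⁻¹ • a) (b + e) = 1 := by
      rw [polar_smul_left, polar_add_right, polar_comm Q a e, hea, add_zero, smul_eq_mul,
        inv_mul_cancel₀ h]
    rw [T_apply2 he.left hw', e1, e2, mul_zero, add_zero, one_smul, zero_smul, add_zero, add_assoc,
      add_self' (F := F), add_zero]
  refine ⟨tE Q e ((polar Q a b)⁻¹ • a) * (tE Q f (a + b) * tE Q e ((polar Q b a)⁻¹ • b)),
    mul_mem (mem_PL_a heS _) (mul_mem ?_ (mem_PL_b heS _)), ?_⟩
  · have h := mem_PL (Q := Q) (a := a) (b := b) hfS 1 1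
    rwa [one_smul, one_smul] at h
  · show T Q e ((polar Q a b)⁻¹ • a) (T Q f (a + b) (T Q e ((polar Q b a)⁻¹ • b) a)) = b
    rw [h1, h2, h3]

omit [CharP F 2] in
/-- conjugation by the reflection in `a` fixes `PL` -/
theorem conj_refl_mem (hS : ∀ x ∈ S, polar Q x a = 0) (ha : Q a ≠ 0) {g : ↥(E Q)} (hg : g ∈ PL Q S a b) :
    ∃ g' ∈ PL Q S a b, (g' : V ≃ₗ[F] V) = refl Q a ha * (g : V ≃ₗ[F] V) * (refl Q a ha)⁻¹ := by
  induction hg using Subgroup.closure_induction with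
  | mem g hg =>
    obtain ⟨x, hx, α, β, rfl⟩ := hg
    have h1 : refl Q a ha x = x := by
      rw [refl_apply, polar_comm, hS x hx, mul_zero, zero_smul, sub_zero]
    obtain ⟨c, hc⟩ : ∃ c : F, refl Q a ha (α • a + β • b) = c • a + β • b := by
      refine ⟨α - (Q a)⁻¹ * polar Q a (α • a + β • b), ?_⟩
      rw [refl_apply]
      module
    refine ⟨tE Q x (c • a + β • b), mem_PL hx _ _, ?_⟩
    rw [coe_tE, coe_tE, T_conj (refl_mem_O ha), h1, hc]
  | one => exact ⟨1, one_mem _, by rw [Subgroup.coe_one, mul_one, mul_inv_cancel]⟩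
  | mul g h _ _ ihg ihh =>
    obtain ⟨g', hg', e1⟩ := ihg
    obtain ⟨h', hh', e2⟩ := ihh
    refine ⟨g' * h', mul_mem hg' hh', ?_⟩
    rw [Subgroup.coe_mul, Subgroup.coe_mul, e1, e2]
    group
  | inv g _ ihg =>
    obtain ⟨g', hg', e1⟩ := ihg
    refine ⟨g'⁻¹, inv_mem hg', ?_⟩
    rw [Subgroup.coe_inv, Subgroup.coe_inv, e1]
    group

/-- the product of the reflections in `a` and `b` lies in `PL` -/
theorem exists_delta (he : Hyp Q e f) (heS : e ∈ S) (hfS : f ∈ S) (hSa : ∀ x ∈ S, polar Q x a = 0)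
    (hSb : ∀ x ∈ S, polar Q x b = 0) (h : polar Q a b ≠ 0) (hab : Q a = Q b) (ha : Q a ≠ 0) (hb : Q b ≠ 0) :
    ∃ δ ∈ PL Q S a b, ∀ v, (δ : V ≃ₗ[F] V) v = refl Q a ha (refl Q b hb v) := by
  obtain ⟨k, hk, hkab⟩ := exists_move he heS hfS (hSa e heS) (hSb e heS) (hSa f hfS) (hSb f hfS) h hab
  obtain ⟨k', hk', e1⟩ := conj_refl_mem hSa ha hk
  have h0 : Q ((k : V ≃ₗ[F] V) a) ≠ 0 := by rw [hkab]; exact hb
  have h1 : refl Q ((k : V ≃ₗ[F] V) a) h0 = (k : V ≃ₗ[F] V) * refl Q a ha * (k : V ≃ₗ[F] V)⁻¹ :=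
    (refl_conj (mem_O' k) ha h0).symm
  have h2 : refl Q ((k : V ≃ₗ[F] V) a) h0 = refl Q b hb := by
    congr 1
  refine ⟨k' * k⁻¹, mul_mem hk' (inv_mem hk), fun v => ?_⟩
  have h3 : ((k' * k⁻¹ : ↥(E Q)) : V ≃ₗ[F] V) = refl Q a ha * refl Q b hb := by
    rw [Subgroup.coe_mul, Subgroup.coe_inv, e1, ← h2, h1, refl_inv ha]
    group
  rw [h3]
  rfl

/-- **`PL` is perfect.** -/
theorem PL_perfect (he : Hyp Q e f) (heS : e ∈ S) (hfS : f ∈ S) (hS : ∀ x ∈ S, Q x = 0)
    (hSa : ∀ x ∈ S, polar Q x a = 0) (hSb : ∀ x ∈ S, polar Q x b = 0) (h : polar Q a b ≠ 0) (hab : Q a = Q b)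
    (ha : Q a ≠ 0) : ⁅PL Q S a b, PL Q S a b⁆ = PL Q S a b := by
  have hb : Q b ≠ 0 := by rw [← hab]; exact ha
  obtain ⟨δ, hδ, hδv⟩ := exists_delta he heS hfS hSa hSb h hab ha hb
  apply le_antisymm
  · rw [Subgroup.commutator_le]
    intro x hx y hy
    rw [commutatorElement_def]
    exact mul_mem (mul_mem (mul_mem hx hy) (inv_mem hx)) (inv_mem hy)
  conv_lhs => rw [PL]
  rw [Subgroup.closure_le]
  rintro _ ⟨x, hx, α, β, rfl⟩
  have hba : polar Q b a = polar Q a b := polar_comm Q b a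
  obtain ⟨τ, hτ⟩ : ∃ τ, τ = (Q a)⁻¹ * polar Q a b := ⟨_, rfl⟩
  have hτ0 : τ ≠ 0 := by rw [hτ]; exact mul_ne_zero (inv_ne_zero ha) h
  have hτ' : τ * τ⁻¹ = 1 := mul_inv_cancel₀ hτ0
  -- `δ` on the plane
  have ra : ∀ A B : F, refl Q a ha (A • a + B • b) = (A + B * τ) • a + B • b := by
    intro A B
    rw [refl_apply, sub_eq' (F := F), polar_add_right, polar_smul_right, polar_smul_right, polar_self2,
      smul_zero, zero_add, smul_eq_mul]
    have e1 : (Q a)⁻¹ * (B * polar Q a b) = B * τ := by rw [hτ]; ring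
    rw [e1]
    module
  have rb : ∀ A B : F, refl Q b hb (A • a + B • b) = A • a + (B + A * τ) • b := by
    intro A B
    rw [refl_apply, sub_eq' (F := F), polar_add_right, polar_smul_right, polar_smul_right, polar_self2,
      smul_zero, add_zero, smul_eq_mul, hba, ← hab]
    have e1 : (Q a)⁻¹ * (A * polar Q a b) = A * τ := by rw [hτ]; ring
    rw [e1]
    module
  obtain ⟨v, hv⟩ : ∃ v, v = (β * τ⁻¹) • a + (α * τ⁻¹ + β) • b := ⟨_, rfl⟩
  have h1 : (δ : V ≃ₗ[F] V) v + v = α • a + β • b := by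
    rw [hδv, hv, rb, ra]
    have two0 : (2 : F) = 0 := CharTwo.two_eq_zero
    have c1 : β * τ⁻¹ + (α * τ⁻¹ + β + β * τ⁻¹ * τ) * τ + β * τ⁻¹ = α := by
      linear_combination (α + β * τ) * hτ' + (β * τ⁻¹ + β * τ) * two0
    have c2 : α * τ⁻¹ + β + β * τ⁻¹ * τ + (α * τ⁻¹ + β) = β := by
      linear_combination β * hτ' + (α * τ⁻¹ + β) * two0
    calc (β * τ⁻¹ + (α * τ⁻¹ + β + β * τ⁻¹ * τ) * τ) • a + (α * τ⁻¹ + β + β * τ⁻¹ * τ) • b +
          ((β * τ⁻¹) • a + (α * τ⁻¹ + β) • b)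
        = (β * τ⁻¹ + (α * τ⁻¹ + β + β * τ⁻¹ * τ) * τ + β * τ⁻¹) • a +
          (α * τ⁻¹ + β + β * τ⁻¹ * τ + (α * τ⁻¹ + β)) • b := by module
      _ = α • a + β • b := by rw [c1, c2]
  have hxv : polar Q x v = 0 := by
    rw [hv, polar_add_right, polar_smul_right, polar_smul_right, hSa x hx, hSb x hx, smul_zero, smul_zero,
      add_zero]
  have hδx : (δ : V ≃ₗ[F] V) x = x := by
    rw [hδv, refl_apply hb, polar_comm Q b x, hSb x hx, mul_zero, zero_smul, sub_zero, refl_apply ha,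
      polar_comm Q a x, hSa x hx, mul_zero, zero_smul, sub_zero]
  have hxv' : polar Q x ((δ : V ≃ₗ[F] V) v) = 0 := by
    have h3 := polar_map' (Q := Q) δ x v
    rwa [hδx, hxv] at h3
  have h2 : tE Q x (α • a + β • b) = ⁅δ, tE Q x v⁆ := by
    rw [commutatorElement_def, tE_conj, hδx, tE_inv (hS x hx) hxv, tE_mul (hS x hx) hxv' hxv, h1]
  rw [h2]
  refine Subgroup.commutator_mem_commutator hδ ?_
  rw [hv]
  exact mem_PL hx _ _

omit [CharP F 2] in
/-- `PL` fixes the vectors perpendicular to `S`, `a`, `b` -/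
theorem PL_comm {z w : V} (hS : ∀ x ∈ S, Q x = 0) (hSa : ∀ x ∈ S, polar Q x a = 0)
    (hSb : ∀ x ∈ S, polar Q x b = 0) (hSz : ∀ x ∈ S, polar Q x z = 0) (hSw : ∀ x ∈ S, polar Q x w = 0)
    (haz : polar Q a z = 0) (hbz : polar Q b z = 0) (haw : polar Q a w = 0) (hbw : polar Q b w = 0)
    {g : ↥(E Q)} (hg : g ∈ PL Q S a b) : g * tE Q z w = tE Q z w * g := by
  have h1 : PL Q S a b ≤ Subgroup.centralizer ({tE Q z w} : Set ↥(E Q)) := by
    conv_lhs => rw [PL]
    rw [Subgroup.closure_le]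
    rintro _ ⟨x, hx, α, β, rfl⟩
    rw [SetLike.mem_coe, Subgroup.mem_centralizer_singleton_iff]
    have h0 : polar Q x (α • a + β • b) = 0 := by
      rw [polar_add_right, polar_smul_right, polar_smul_right, hSa x hx, hSb x hx, smul_zero, smul_zero,
        add_zero]
    apply tE_comm_of
    · refine T_apply_fix (hS x hx) h0 (hSz x hx) ?_
      rw [polar_add_left, polar_smul_left, polar_smul_left, haz, hbz, smul_zero, smul_zero, add_zero]
    · refine T_apply_fix (hS x hx) h0 (hSw x hx) ?_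
      rw [polar_add_left, polar_smul_left, polar_smul_left, haw, hbw, smul_zero, smul_zero, add_zero]
  exact Subgroup.mem_centralizer_singleton_iff.1 (h1 hg)

/-- `tE e0 e1` is a commutator of elements of `PL` -/
theorem tE_mem_PL {z w : V} (hz : Q z = 0) (hw : Q w = 0) (hzw : polar Q z w = 0) (hzS : z ∈ S) (hwS : w ∈ S)
    (hza : polar Q z a = 0) (hzb : polar Q z b = 0) (hwa : polar Q w a = 0) (hwb : polar Q w b = 0)
    (h : polar Q a b ≠ 0) : tE Q z w ∈ PL Q S a b := by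
  obtain ⟨c, hc⟩ : ∃ c : F, c = (polar Q a b)⁻¹ := ⟨_, rfl⟩
  have hwz : polar Q w z = 0 := by rw [polar_comm]; exact hzw
  have hwb' : polar Q w (c • b) = 0 := by rw [polar_smul_right, hwb, smul_zero]
  have hzb' : polar Q z (c • b) = 0 := by rw [polar_smul_right, hzb, smul_zero]
  have h1 : T Q z a w = w := T_apply_fix hz hza hzw (by rw [polar_comm]; exact hwa)
  have h2 : T Q z a (c • b) = c • b + z := by
    rw [T_apply2 hz hza, hzb', zero_smul, add_zero, mul_zero, add_zero, polar_smul_right, hc, smul_eq_mul,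
      inv_mul_cancel₀ h, one_smul]
  have h3 : tE Q z a * tE Q w (c • b) * (tE Q z a)⁻¹ * (tE Q w (c • b))⁻¹ = tE Q z w := by
    rw [tE_conj, coe_tE, h1, h2, tE_inv hw hwb', tE_mul hw (by rw [polar_add_right, hwb', hwz, add_zero]) hwb']
    have e1 : c • b + z + c • b = z := by
      have e2 : c • b + c • b = 0 := add_self' (F := F) _
      calc c • b + z + c • b = (c • b + c • b) + z := by abel
        _ = z := by rw [e2, zero_add]
    rw [e1, tE_swap hw hz hwz]
  rw [← h3]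
  have h4 : tE Q z a ∈ PL Q S a b := by
    have h5 := mem_PL_a (Q := Q) (a := a) (b := b) hzS 1
    rwa [one_smul] at h5
  have h5 : tE Q w (c • b) ∈ PL Q S a b := mem_PL_b hwS c
  exact mul_mem (mul_mem (mul_mem h4 h5) (inv_mem h4)) (inv_mem h5)

end two

/-! ### The frame data -/

section main

variable {n : ℕ} {e f : ℕ → V}

theorem hee (hF : _root_.Cfsg.Agent.OddHalf.Orth.FlagDef.Flag Q n e f) {i k : ℕ} (hi : i < n) (hk : k < n) : polar Q (e i) (e k) = 0 := by
  by_cases h : i = k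
  · subst h; exact (hF.hyp i hi).polar_left
  · exact hF.ee i k hi hk h

theorem hff (hF : _root_.Cfsg.Agent.OddHalf.Orth.FlagDef.Flag Q n e f) {i k : ℕ} (hi : i < n) (hk : k < n) : polar Q (f i) (f k) = 0 := by
  by_cases h : i = k
  · subst h; exact (hF.hyp i hi).polar_right
  · exact hF.ff i k hi hk h

theorem hfe (hF : _root_.Cfsg.Agent.OddHalf.Orth.FlagDef.Flag Q n e f) {i k : ℕ} (hi : i < n) (hk : k < n) (h : i ≠ k) : polar Q (f i) (e k) = 0 := by
  rw [polar_comm]; exact hF.ef k i hk hi (Ne.symm h)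

theorem e_mem_Yv (hF : _root_.Cfsg.Agent.OddHalf.Orth.FlagDef.Flag Q n e f) {i k : ℕ} (hk : k < n) (h : i < k) : e k ∈ Yv Q e f i := by
  intro l hl
  exact ⟨hee hF (by omega) hk, hfe hF (by omega) hk (by omega)⟩

theorem RK_le_UK {i : ℕ} (hi : i < n) : RK Q e f i ≤ UK Q e f n := le_iSup₂_of_le i hi le_rfl

theorem tE_mem_UK {i : ℕ} (hi : i < n) {y : V} (hy : y ∈ Yv Q e f i) : tE Q (e i) y ∈ UK Q e f n :=
  RK_le_UK hi (Subgroup.subset_closure ⟨y, hy, rfl⟩)

/-- all `tE (e 0) x` lie in `U` -/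
theorem tE_zero_mem_UK (hF : _root_.Cfsg.Agent.OddHalf.Orth.FlagDef.Flag Q n e f) (hn : 1 ≤ n) {x : V} (hx : polar Q (e 0) x = 0) :
    tE Q (e 0) x ∈ UK Q e f n := by
  have h0 := hF.hyp 0 (by omega)
  have h1 : tE Q (e 0) x = tE Q (e 0) (x + (-(polar Q (f 0) x)) • e 0) := (tE_add_smul h0.left hx _).symm
  rw [h1]
  refine tE_mem_UK (by omega) fun k hk => ?_
  obtain rfl : k = 0 := by omega
  rw [polar_add_right, polar_add_right, polar_smul_right, polar_smul_right, hx, h0.polar_left, h0.pair',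
    smul_zero, smul_eq_mul, mul_one]
  exact ⟨by simp, by simp⟩

/-- maximality of a 2-subgroup of odd index -/
theorem max_of_odd {Y : Type*} [Group Y] {U : Subgroup Y} (hodd : Odd U.index) {P : Subgroup Y}
    (hP : IsPGroup 2 ↥P) (hUP : U ≤ P) : P ≤ U := by
  have hfin : U.FiniteIndex := ⟨fun h => by rw [h] at hodd; exact absurd hodd (by decide)⟩
  have h1 : (U.subgroupOf P).FiniteIndex := inferInstance
  obtain ⟨k, hk⟩ := hP.index (U.subgroupOf P)
  have h2 : U.relIndex P ∣ U.index := Subgroup.relIndex_dvd_index_of_le hUP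
  have h3 : Odd (U.relIndex P) := Odd.of_dvd_nat hodd h2
  have h4 : U.relIndex P = 2 ^ k := hk
  rw [h4] at h3
  have h5 : k = 0 := by
    by_contra h
    exact (Nat.not_odd_iff_even.2 ((Nat.even_pow.2 ⟨even_two, h⟩))) h3
  rw [h5, pow_zero] at h4
  exact Subgroup.relIndex_eq_one.1 h4

section two

variable [CharP F 2]

omit [CharP F 2] in
/-- the whole space is spanned by `e 0, f 0, e 1, f 1` and `Yv 1` -/
theorem eq_of_perp (hQ : Nondeg Q) (hF : _root_.Cfsg.Agent.OddHalf.Orth.FlagDef.Flag Q n e f) (hn : 2 ≤ n) {y : V} (h0 : polar Q (e 0) y = 0)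
    (h1 : polar Q (e 1) y = 0) (hY : ∀ x ∈ Yv Q e f 1, polar Q x y = 0) :
    y = polar Q (f 0) y • e 0 + polar Q (f 1) y • e 1 := by
  have H0 := hF.hyp 0 (by omega)
  have H1 := hF.hyp 1 (by omega)
  have e01 : polar Q (e 0) (e 1) = 0 := hee hF (by omega) (by omega)
  have e10 : polar Q (e 1) (e 0) = 0 := hee hF (by omega) (by omega)
  have ef01 : polar Q (e 0) (f 1) = 0 := hF.ef 0 1 (by omega) (by omega) (by omega)
  have ef10 : polar Q (e 1) (f 0) = 0 := hF.ef 1 0 (by omega) (by omega) (by omega)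
  have fe01 : polar Q (f 0) (e 1) = 0 := hfe hF (by omega) (by omega) (by omega)
  have fe10 : polar Q (f 1) (e 0) = 0 := hfe hF (by omega) (by omega) (by omega)
  have ff01 : polar Q (f 0) (f 1) = 0 := hff hF (by omega) (by omega)
  have ff10 : polar Q (f 1) (f 0) = 0 := hff hF (by omega) (by omega)
  rw [← sub_eq_zero]
  apply hQ
  intro v
  -- the component of `v` in `Yv 1`
  obtain ⟨x, hx⟩ : ∃ x, x = v - polar Q (f 0) v • e 0 - polar Q (e 0) v • f 0 - polar Q (f 1) v • e 1 -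
      polar Q (e 1) v • f 1 := ⟨_, rfl⟩
  have hxY : x ∈ Yv Q e f 1 := by
    intro k hk
    rcases (by omega : k = 0 ∨ k = 1) with rfl | rfl
    · rw [hx]
      simp only [polar_sub_right, polar_smul_right, H0.polar_left, H0.polar_right, H0.pair, H0.pair', e01, ef01,
        fe01, ff01, smul_eq_mul, mul_zero, mul_one, sub_zero, sub_self, and_self]
    · rw [hx]
      simp only [polar_sub_right, polar_smul_right, H1.polar_left, H1.polar_right, H1.pair, H1.pair', e10, ef10,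
        fe10, ff10, smul_eq_mul, mul_zero, mul_one, sub_zero, sub_self, and_self]
  have hv : v = x + polar Q (f 0) v • e 0 + polar Q (e 0) v • f 0 + polar Q (f 1) v • e 1 +
      polar Q (e 1) v • f 1 := by rw [hx]; abel
  have hyx : polar Q y x = 0 := by rw [polar_comm]; exact hY x hxY
  have h0' : polar Q y (e 0) = 0 := by rw [polar_comm]; exact h0
  have h1' : polar Q y (e 1) = 0 := by rw [polar_comm]; exact h1
  have k0 := hxY 0 (by omega)
  have k1 := hxY 1 (by omega)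
  rw [hv]
  simp only [polar_sub_left, polar_add_left, polar_smul_left, polar_add_right, polar_smul_right, hyx, h0', h1',
    k0.1, k1.1, H0.polar_left, H0.pair, H1.polar_left, H1.pair, e01, e10, ef01, ef10, smul_eq_mul, mul_zero,
    mul_one, add_zero, zero_add]
  rw [polar_comm Q y (f 0), polar_comm Q y (f 1)]
  ring

variable {a b : V}

/-- **(T1s)** -/
theorem aut (hK : KFacts Q) (hF : _root_.Cfsg.Agent.OddHalf.Orth.FlagDef.Flag Q n e f) (hn : 3 ≤ n)
    (hsem : ∀ α : MulAut ↥(E Q), ∃ (M : V ≃+ V) (σ : F ≃+* F), Sem Q M σ ∧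
      ∀ u x, Q u = 0 → polar Q u x = 0 → α (tE Q u x) = tE Q (M u) (M x))
    {α : MulAut ↥(E Q)} (hα : ∀ u ∈ UK Q e f n, α u = u) :
    ∃ c : F, ∀ x, α x = tE Q (e 0) (c • e 1) * x * (tE Q (e 0) (c • e 1))⁻¹ := by
  have H0 := hF.hyp 0 (by omega)
  have H1 := hF.hyp 1 (by omega)
  have H2 := hF.hyp 2 (by omega)
  obtain ⟨M, σ, hM, hMα⟩ := hsem α
  obtain ⟨y, hy0, hMy⟩ := hK.cent1 hM H0.left H0.left_ne (fun x hx => by
    rw [← hMα _ _ H0.left hx, hα _ (tE_zero_mem_UK hF (by omega) hx)])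
  -- `α` is conjugation by `tE (e 0) y`
  have hconj : ∀ x, α x = tE Q (e 0) y * x * (tE Q (e 0) y)⁻¹ := by
    let H : Subgroup ↥(E Q) :=
      { carrier := {x | α x = tE Q (e 0) y * x * (tE Q (e 0) y)⁻¹}
        one_mem' := by
          show α 1 = _
          rw [map_one]; group
        mul_mem' := by
          intro p q hp hq
          show α (p * q) = _
          have hp' : α p = tE Q (e 0) y * p * (tE Q (e 0) y)⁻¹ := hp
          have hq' : α q = tE Q (e 0) y * q * (tE Q (e 0) y)⁻¹ := hq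
          rw [map_mul, hp', hq']; group
        inv_mem' := by
          intro p hp
          show α p⁻¹ = _
          have hp' : α p = tE Q (e 0) y * p * (tE Q (e 0) y)⁻¹ := hp
          rw [map_inv, hp']; group }
    have hH : H = ⊤ := SitOf.eq_top_of_tE H fun u w hu hw => by
      show α (tE Q u w) = _
      rw [hMα u w hu hw, tE_conj, coe_tE, hMy, hMy]
    intro x
    have : x ∈ H := by rw [hH]; trivial
    exact this
  -- it commutes with `tE (e 1) x`
  have hcom : ∀ x ∈ Yv Q e f 1, ∃ c : F, polar Q (e 1) y • x + (polar Q x y + Q x * polar Q (e 1) y) • e 1 =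
      c • e 0 := by
    intro x hx
    have hx0 := hx 0 (by omega)
    have hx1 := hx 1 (by omega)
    have e10 : polar Q (e 1) (e 0) = 0 := hee hF (by omega) (by omega)
    have h1 := hconj (tE Q (e 1) x)
    rw [hα _ (tE_mem_UK (by omega) hx)] at h1
    have h2 : tE Q (e 1) x * tE Q (e 0) y * (tE Q (e 1) x)⁻¹ = tE Q (e 0) y := by
      rw [mul_inv_eq_iff_eq_mul, ← eq_mul_inv_iff_mul_eq]
      exact h1
    rw [tE_conj, coe_tE, T_apply_fix H1.left hx1.1 e10 (by rw [polar_comm]; exact hx0.1)] at h2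
    have h3 : polar Q (e 0) (T Q (e 1) x y) = 0 := by
      have h4 := polar_map' (tE Q (e 1) x) (e 0) y
      rw [coe_tE, T_apply_fix H1.left hx1.1 e10 (by rw [polar_comm]; exact hx0.1)] at h4
      rw [h4, hy0]
    obtain ⟨c, hc⟩ := (tE_eq_iff hK.nondeg H0.left H0.left_ne hy0 h3).1 h2.symm
    refine ⟨c, ?_⟩
    rw [T_apply2 H1.left hx1.1, add_assoc] at hc
    exact add_left_cancel hc
  have f10 : polar Q (f 1) (e 0) = 0 := hfe hF (by omega) (by omega) (by omega)
  have f20 : polar Q (f 2) (e 0) = 0 := hfe hF (by omega) (by omega) (by omega)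
  have f21 : polar Q (f 2) (e 1) = 0 := hfe hF (by omega) (by omega) (by omega)
  have h5 : ∀ x ∈ Yv Q e f 1, polar Q x y + Q x * polar Q (e 1) y = 0 := by
    intro x hx
    obtain ⟨c, hc⟩ := hcom x hx
    have h6 := congrArg (polar Q (f 1)) hc
    rw [polar_add_right, polar_smul_right, polar_smul_right, polar_smul_right, (hx 1 le_rfl).2, H1.pair', f10,
      smul_zero, smul_zero, zero_add, smul_eq_mul, mul_one] at h6
    exact h6
  have h6 : polar Q (e 1) y = 0 := by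
    obtain ⟨c, hc⟩ := hcom (e 2) (e_mem_Yv hF (by omega) (by omega))
    rw [h5 (e 2) (e_mem_Yv hF (by omega) (by omega)), zero_smul, add_zero] at hc
    have h7 := congrArg (polar Q (f 2)) hc
    rwa [polar_smul_right, polar_smul_right, H2.pair', f20, smul_zero, smul_eq_mul, mul_one] at h7
  have h7 : ∀ x ∈ Yv Q e f 1, polar Q x y = 0 := by
    intro x hx
    have h8 := h5 x hx
    rwa [h6, mul_zero, add_zero] at h8
  have h8 := eq_of_perp hK.nondeg hF (by omega) hy0 h6 h7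
  refine ⟨polar Q (f 1) y, ?_⟩
  have h9 : tE Q (e 0) y = tE Q (e 0) (polar Q (f 1) y • e 1) := by
    conv_lhs => rw [h8, add_comm]
    exact tE_add_smul H0.left (by rw [polar_smul_right, hee hF (by omega) (by omega), smul_zero]) _
  rw [← h9]
  exact hconj

/-- **The frame data.** -/
theorem kf [Finite F] (hK : KFacts Q) (hF : _root_.Cfsg.Agent.OddHalf.Orth.FlagDef.Flag Q n e f) (hn : 3 ≤ n) (hodd : Odd (UK Q e f n).index)
    (h2 : IsPGroup 2 ↥(UK Q e f n))
    (hsem : ∀ α : MulAut ↥(E Q), ∃ (M : V ≃+ V) (σ : F ≃+* F), Sem Q M σ ∧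
      ∀ u x, Q u = 0 → polar Q u x = 0 → α (tE Q u x) = tE Q (M u) (M x))
    (hp : Delta.Pl Q a b) (ha : a ∈ Yv Q e f (n - 1)) (hb : b ∈ Yv Q e f (n - 1))
    (hu : Q (e 0) = 0) (huv : polar Q (e 0) (e 1) = 0) :
    FrGen.KF (UK Q e f n) (X Q (e 0) (e 1) hu huv) := by
  have H0 := hF.hyp 0 (by omega)
  have H1 := hF.hyp 1 (by omega)
  have f10 : polar Q (f 1) (e 0) = 0 := hfe hF (by omega) (by omega) (by omega)
  have huv' : ∀ c : F, polar Q (e 0) (c • e 1) = 0 := fun c => by rw [polar_smul_right, huv, smul_zero]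
  have trans : ∀ z ∈ X Q (e 0) (e 1) hu huv, ∀ z' ∈ X Q (e 0) (e 1) hu huv, z ≠ 1 → z' ≠ 1 →
      ∃ k : ↥(E Q), k * z * k⁻¹ = z' := by
    intro z hz z' hz' h1 h1'
    obtain ⟨c, rfl⟩ := mem_X.1 hz
    obtain ⟨c', rfl⟩ := mem_X.1 hz'
    have hc : c ≠ 0 := by
      rintro rfl
      exact h1 (by rw [zero_smul, tE_zero_right])
    have hc' : c' ≠ 0 := by
      rintro rfl
      exact h1' (by rw [zero_smul, tE_zero_right])
    obtain ⟨h, h3, -, h4⟩ := hK.scal H0 (κ := c' * c⁻¹) (mul_ne_zero hc' (inv_ne_zero hc))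
    have h5 : (h : V ≃ₗ[F] V) (e 1) = e 1 := h4 _ huv (hfe hF (by omega) (by omega) (by omega))
    refine ⟨h, ?_⟩
    rw [tE_conj, h3, map_smul, h5, tE_smul_left _ hu (huv' c), smul_smul, inv_mul_cancel_right₀ hc]
  refine { pU := h2, maxU := fun P hP hle => max_of_odd hodd hP hle, ZU := ?_, Zc := ?_, Zsq := ?_, Z1 := ?_,
           aut := ?_, P2' := ?_, trans := trans }
  · intro z hz
    obtain ⟨c, rfl⟩ := mem_X.1 hz
    exact tE_zero_mem_UK hF (by omega) (huv' c)
  · intro z hz u hu'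
    obtain ⟨c, rfl⟩ := mem_X.1 hz
    have h1 : UK Q e f n ≤ Subgroup.centralizer ({tE Q (e 0) (c • e 1)} : Set ↥(E Q)) := by
      refine iSup_le fun i => iSup_le fun hi => ?_
      rw [RK, Subgroup.closure_le]
      rintro _ ⟨y, hy, rfl⟩
      rw [SetLike.mem_coe, Subgroup.mem_centralizer_singleton_iff]
      have hyi := (hy i le_rfl).1
      rcases Nat.eq_zero_or_pos i with rfl | hi0
      · exact tE_comm hu hyi (huv' c)
      · apply tE_comm_of
        · exact T_apply_fix (hF.hyp i hi).left hyi (hee hF hi (by omega))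
            (by rw [polar_comm]; exact (hy 0 (by omega)).1)
        · refine T_apply_fix (hF.hyp i hi).left hyi ?_ ?_
          · rw [polar_smul_right, hee hF hi (by omega), smul_zero]
          · rw [polar_smul_right, polar_comm, (hy 1 (by omega)).1, smul_zero]
    exact Subgroup.mem_centralizer_singleton_iff.1 (h1 hu')
  · intro z hz
    obtain ⟨c, rfl⟩ := mem_X.1 hz
    exact tE_mul_self hu (huv' c)
  · intro h0
    have h1 : tE Q (e 0) ((1 : F) • e 1) ∈ X Q (e 0) (e 1) hu huv := mem_X.2 ⟨1, rfl⟩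
    rw [h0, Subgroup.mem_bot, one_smul, ← tE_zero_right (Q := Q) (e 0)] at h1
    obtain ⟨c, hc⟩ := (tE_eq_iff hK.nondeg hu H0.left_ne huv (polar_zero_right _ _)).1 h1
    have h3 := congrArg (polar Q (f 1)) hc
    rw [polar_zero_right, polar_add_right, H1.pair', polar_smul_right, f10, smul_zero, add_zero] at h3
    exact zero_ne_one h3
  · intro α _ hα
    obtain ⟨c, hc⟩ := aut hK hF hn hsem hα
    exact ⟨_, mem_X.2 ⟨c, rfl⟩, hc⟩
  · apply FrGen.P2_of_trans trans
    -- scale `b`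
    obtain ⟨c, hc⟩ := Delta.exists_sq (Q a * (Q b)⁻¹)
    have hc0 : c ≠ 0 := by
      rintro rfl
      rw [zero_mul] at hc
      exact mul_ne_zero hp.qa (inv_ne_zero hp.qb) hc.symm
    have hq : Q a = Q (c • b) := by
      rw [QuadraticMap.map_smul, hc, smul_eq_mul, mul_assoc, inv_mul_cancel₀ hp.qb, mul_one]
    have hp' := hp.smul hc0
    have hb' : c • b ∈ Yv Q e f (n - 1) := Delta.Yv_smul c hb
    obtain ⟨b', hb''⟩ : ∃ b', b' = c • b := ⟨_, rfl⟩
    rw [← hb''] at hq hp' hb'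
    obtain ⟨S, hS⟩ : ∃ S : Set V, S = {e 0, e 1, e (n - 1), f (n - 1)} := ⟨_, rfl⟩
    have Hn := hF.hyp (n - 1) (by omega)
    have hS0 : ∀ x ∈ S, Q x = 0 := by
      intro x hx
      rw [hS] at hx
      rcases hx with rfl | rfl | rfl | rfl
      · exact hu
      · exact H1.left
      · exact Hn.left
      · exact Hn.right
    have hSp : ∀ y ∈ Yv Q e f (n - 1), ∀ x ∈ S, polar Q x y = 0 := by
      intro y hy x hx
      rw [hS] at hx
      rcases hx with rfl | rfl | rfl | rfl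
      · exact (hy 0 (by omega)).1
      · exact (hy 1 (by omega)).1
      · exact (hy (n - 1) le_rfl).1
      · exact (hy (n - 1) le_rfl).2
    have hSe0 : ∀ x ∈ S, polar Q x (e 0) = 0 := by
      intro x hx
      rw [hS] at hx
      rcases hx with rfl | rfl | rfl | rfl
      · exact hee hF (by omega) (by omega)
      · exact hee hF (by omega) (by omega)
      · exact hee hF (by omega) (by omega)
      · exact hfe hF (by omega) (by omega) (by omega)
    have hSe1 : ∀ x ∈ S, polar Q x (e 1) = 0 := by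
      intro x hx
      rw [hS] at hx
      rcases hx with rfl | rfl | rfl | rfl
      · exact hee hF (by omega) (by omega)
      · exact hee hF (by omega) (by omega)
      · exact hee hF (by omega) (by omega)
      · exact hfe hF (by omega) (by omega) (by omega)
    have m0 : e 0 ∈ S := by rw [hS]; simp
    have m1 : e 1 ∈ S := by rw [hS]; simp
    have m2 : e (n - 1) ∈ S := by rw [hS]; simp
    have m3 : f (n - 1) ∈ S := by rw [hS]; simp
    refine ⟨tE Q (e 0) ((1 : F) • e 1), mem_X.2 ⟨1, rfl⟩, ?_, PL Q S a b', ?_, ?_, ?_⟩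
    · intro h1
      rw [one_smul, ← tE_zero_right (Q := Q) (e 0)] at h1
      obtain ⟨c, hc⟩ := (tE_eq_iff hK.nondeg hu H0.left_ne huv (polar_zero_right _ _)).1 h1
      have h3 := congrArg (polar Q (f 1)) hc
      rw [polar_zero_right, polar_add_right, H1.pair', polar_smul_right, f10, smul_zero, add_zero] at h3
      exact zero_ne_one h3
    · exact PL_perfect Hn m2 m3 hS0 (hSp a ha) (hSp b' hb') hp'.ne hq hp'.qa
    · rw [one_smul]
      exact tE_mem_PL hu H1.left huv m0 m1 (hSp a ha _ m0) (hSp b' hb' _ m0) (hSp a ha _ m1) (hSp b' hb' _ m1)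
        hp'.ne
    · intro y hy
      rw [one_smul]
      exact PL_comm hS0 (hSp a ha) (hSp b' hb') hSe0 hSe1 (by rw [polar_comm]; exact hSp a ha _ m0)
        (by rw [polar_comm]; exact hSp b' hb' _ m0) (by rw [polar_comm]; exact hSp a ha _ m1)
        (by rw [polar_comm]; exact hSp b' hb' _ m1) hy

end two

end main

/-! ### The instance -/

section Minus

open Cfsg.Agent.LieClassical Cfsg.Agent.LieClassical.OrthForms Cfsg.Agent.TitsThree.KSideO
  Cfsg.Agent.OddHalf.Orth.KFlag Cfsg.Agent.OddHalf.Orth.KFlagMain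

variable {F : Type*} [Field F] [Finite F] [CharP F 2]

omit [Finite F] [CharP F 2] in
theorem mem_Yv_minus {m : ℕ} (hm : 1 ≤ m) (a b : F)
    (hab : ∀ z₁ z₂ : F, z₁ ^ 2 + a * z₁ * z₂ + b * z₂ ^ 2 = 0 → z₁ = 0 ∧ z₂ = 0) (i : Fin 2) :
    (Pi.single (Sum.inr i) 1 : (Fin m ⊕ Fin m) ⊕ Fin 2 → F) ∈
      Yv (minusForm m F a b) (_root_.Cfsg.Agent.OddHalf.Orth.KFlagMain.em m a b hab) (fm m a b hab) (m - 1) := by
  rw [KFlag.mem_Yv _ (by omega)]
  intro j _
  constructor
  · have h : polar (minusForm m F a b) (Pi.single (Sum.inl (Sum.inl j)) 1) (Pi.single (Sum.inr i) 1) = 0 := by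
      rw [polar_minusForm]
      simp [Pi.single_apply]
    exact h
  · have h : polar (minusForm m F a b) (Pi.single (Sum.inl (Sum.inr j)) 1) (Pi.single (Sum.inr i) 1) = 0 := by
      rw [polar_minusForm]
      simp [Pi.single_apply]
    exact h

theorem pl_minus {m : ℕ} (a b : F)
    (hab : ∀ z₁ z₂ : F, z₁ ^ 2 + a * z₁ * z₂ + b * z₂ ^ 2 = 0 → z₁ = 0 ∧ z₂ = 0) :
    Delta.Pl (minusForm m F a b) (Pi.single (Sum.inr 0) 1) (Pi.single (Sum.inr 1) 1) where
  ne := by
    have h : a ≠ 0 := by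
      rintro rfl
      have h1 := binary_nondeg F 0 b hab (z := 0) (w := 1) (by simp) (by rw [CharTwo.two_eq_zero]; simp)
      exact one_ne_zero h1.2
    rw [polar_minusForm]
    simpa [Pi.single_apply] using h
  an := by
    intro α β h
    rw [coe_minusForm, quadFormMinus_apply] at h
    apply hab
    simpa [Pi.single_apply] using h

/-- **The frame data for `Ω^-(2m+2, q)`, `m ≥ 3`, `q` even.** -/
theorem kf_minus {m : ℕ} (hm : 3 ≤ m) (a b : F)
    (hab : ∀ z₁ z₂ : F, z₁ ^ 2 + a * z₁ * z₂ + b * z₂ ^ 2 = 0 → z₁ = 0 ∧ z₂ = 0)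
    (hu : minusForm m F a b (_root_.Cfsg.Agent.OddHalf.Orth.KFlagMain.em m a b hab 0) = 0)
    (huv : polar (minusForm m F a b) (em m a b hab 0) (em m a b hab 1) = 0) :
    FrGen.KF (UK (minusForm m F a b) (em m a b hab) (fm m a b hab) m)
      (X (minusForm m F a b) (em m a b hab 0) (em m a b hab 1) hu huv) := by
  have hfl := flag_minus hm a b hab
  exact kf (kfacts_minus m a b hab hm) hfl.1 hm hfl.2.1 hfl.2.2
    (SitOf.exists_sem (SitOf.good_minus (by omega) hab) (Cfsg.Agent.AutOrth.Final.surjective_minus hm hab))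
    (pl_minus a b hab) (mem_Yv_minus (by omega) a b hab 0) (mem_Yv_minus (by omega) a b hab 1) hu huv

end Minus

end Cfsg.Agent.OddHalf.Orth.KFr
end

private theorem dce_b73b491bcc4b : _root_.True := by
  try have : _root_.True := by simp only [_root_.Cfsg.Agent.OddHalf.Orth.KFr.PL.eq_1]
  try have : _root_.True := by simp only [_root_.Cfsg.Agent.OddHalf.Orth.FlagDef.UK.eq_1]
  try have : _root_.True := by simp only [_root_.Cfsg.Agent.OddHalf.Orth.Grow2.W.eq_1]
  try have : _root_.True := by simp only [_root_.Cfsg.Agent.OddHalf.Orth.Lay.B.eq_1]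
  exact _root_.True.intro
end

-- part: OddHalf/Quat/RowOMinus
section
set_option linter.all false
open scoped Cfsg.Agent.FastGrp

/-!
# Node Q: `KBig U` for `Ω⁻_2n(q)`, `n ≥ 4`, `q ≥ 4` even

`U = UK Q e f n` the unipotent group of the flag, `Z(U) = {tE (e 0) (c e 1)}`;
`tE (e 0) (c e 1) = [tE (e 1) (e 2), [tE (e 1) (f 2), tE (e 0) (c f 1)]]`.
-/

set_option autoImplicit false
set_option linter.unusedSectionVars false

namespace Cfsg.Agent.OddHalf.Quat.RowOMinus

open QuadraticMap Cfsg.Agent.LieClassical.OrthCore Cfsg.Agent.LieClassical.OrthTrans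
  Cfsg.Agent.ClassicalGeometry.OrthAutBasic Cfsg.Agent.ClassicalGeometry.OrthAutRoot
  Cfsg.Agent.OddHalf.Orth Cfsg.Agent.OddHalf.Orth.Face Cfsg.Agent.OddHalf.Orth.FlagDef
  Cfsg.Agent.OddHalf.Orth.KFr Cfsg.Agent.OddHalf.D7Out
open scoped commutatorElement

variable {F V : Type*} [Field F] [AddCommGroup V] [Module F V] {Q : QuadraticForm F V} [CharP F 2] {n : ℕ}
  {e f : ℕ → V}

/-- the commutator of `tE u x` and `tE w y`, `u, x ⟂ w` -/
theorem br {u x w y : V} (hu : Q u = 0) (hux : polar Q u x = 0) (hw : Q w = 0) (huw : polar Q u w = 0)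
    (hxw : polar Q x w = 0) (hwy : polar Q w y = 0) :
    ⁅tE Q u x, tE Q w y⁆ = tE Q w (polar Q u y • x + (polar Q x y + Q x * polar Q u y) • u) := by
  have h1 : T Q u x w = w := T_apply_fix hu hux huw hxw
  have hwu : polar Q w u = 0 := by rw [polar_comm]; exact huw
  have hwx : polar Q w x = 0 := by rw [polar_comm]; exact hxw
  have h2 : polar Q w (polar Q u y • x + (polar Q x y + Q x * polar Q u y) • u) = 0 := by
    rw [polar_add_right, polar_smul_right, polar_smul_right, hwu, hwx, smul_zero, smul_zero, add_zero]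
  rw [commutatorElement_def, tE_conj, coe_tE, h1, T_apply2 hu hux, tE_inv hw hwy, add_assoc,
    ← tE_mul hw hwy h2, tE_comm hw hwy h2, mul_assoc, tE_mul_self hw hwy, mul_one]

theorem mem_three (hF : Flag Q n e f) (hn : 3 ≤ n) (c : F) :
    tE Q (e 0) (c • e 1) ∈ ⁅⁅UK Q e f n, UK Q e f n⁆, UK Q e f n⁆ := by
  have H0 := hF.hyp 0 (by omega)
  have H1 := hF.hyp 1 (by omega)
  have H2 := hF.hyp 2 (by omega)
  have e01 : polar Q (e 0) (e 1) = 0 := hee hF (by omega) (by omega)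
  have e02 : polar Q (e 0) (e 2) = 0 := hee hF (by omega) (by omega)
  have e12 : polar Q (e 1) (e 2) = 0 := hee hF (by omega) (by omega)
  have e10 : polar Q (e 1) (e 0) = 0 := hee hF (by omega) (by omega)
  have e20 : polar Q (e 2) (e 0) = 0 := hee hF (by omega) (by omega)
  have ef01 : polar Q (e 0) (f 1) = 0 := hF.ef 0 1 (by omega) (by omega) (by omega)
  have ef02 : polar Q (e 0) (f 2) = 0 := hF.ef 0 2 (by omega) (by omega) (by omega)
  have ef12 : polar Q (e 1) (f 2) = 0 := hF.ef 1 2 (by omega) (by omega) (by omega)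
  have fe20 : polar Q (f 2) (e 0) = 0 := hfe hF (by omega) (by omega) (by omega)
  have ff21 : polar Q (f 2) (f 1) = 0 := hff hF (by omega) (by omega)
  -- `⁅tE (e 1) (f 2), tE (e 0) (c f 1)⁆ = tE (e 0) (c f 2)`
  have b1 : ⁅tE Q (e 1) (f 2), tE Q (e 0) (c • f 1)⁆ = tE Q (e 0) (c • f 2) := by
    rw [br H1.left ef12 H0.left e10 fe20 (by rw [polar_smul_right, ef01, smul_zero]), polar_smul_right,
      polar_smul_right, H1.pair, ff21, H2.right]
    simp
  have b2 : ⁅tE Q (e 1) (e 2), tE Q (e 0) (c • f 2)⁆ = tE Q (e 0) (c • e 1) := by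
    rw [br H1.left e12 H0.left e10 e20 (by rw [polar_smul_right, ef02, smul_zero]), polar_smul_right,
      polar_smul_right, H2.pair, ef12, H2.left]
    simp
  have m1 : tE Q (e 1) (f 2) ∈ UK Q e f n := tE_mem_UK (by omega) fun k hk => by
    refine ⟨hF.ef k 2 (by omega) (by omega) (by omega), hff hF (by omega) (by omega)⟩
  have m2 : tE Q (e 1) (e 2) ∈ UK Q e f n := tE_mem_UK (by omega) (e_mem_Yv hF (by omega) (by omega))
  have m3 : tE Q (e 0) (c • f 1) ∈ UK Q e f n := tE_zero_mem_UK hF (by omega) (by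
    rw [polar_smul_right, ef01, smul_zero])
  rw [← b2, ← b1, Subgroup.commutator_comm ⁅UK Q e f n, UK Q e f n⁆ (UK Q e f n)]
  exact Subgroup.commutator_mem_commutator m2 (Subgroup.commutator_mem_commutator m1 m3)

/-- the torus elements of the first pair normalise `U` -/
theorem mem_normalizer (hF : Flag Q n e f) (hn : 1 ≤ n) {κ : F} {h : ↥(E Q)}
    (h0 : (h : V ≃ₗ[F] V) (e 0) = κ • e 0)
    (h1 : ∀ x, polar Q (e 0) x = 0 → polar Q (f 0) x = 0 → (h : V ≃ₗ[F] V) x = x) :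
    ∀ u ∈ UK Q e f n, h * u * h⁻¹ ∈ UK Q e f n := by
  have H0 := hF.hyp 0 (by omega)
  have h2 : UK Q e f n ≤ (UK Q e f n).comap (MulAut.conj h).toMonoidHom := by
    refine iSup_le fun i => iSup_le fun hi => ?_
    rw [RK, Subgroup.closure_le]
    rintro _ ⟨y, hy, rfl⟩
    show h * tE Q (e i) y * h⁻¹ ∈ UK Q e f n
    have hy0 := hy 0 (Nat.zero_le i)
    rw [tE_conj, h1 y hy0.1 hy0.2]
    rcases Nat.eq_zero_or_pos i with rfl | hi0
    · rw [h0, tE_smul_left _ H0.left hy0.1]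
      exact tE_mem_UK hi fun k hk => by
        obtain ⟨h3, h4⟩ := hy k hk
        rw [polar_smul_right, polar_smul_right, h3, h4, smul_zero]
        exact ⟨rfl, rfl⟩
    · rw [h1 (e i) (hee hF (by omega) (by omega)) (hfe hF (by omega) (by omega) (by omega))]
      exact tE_mem_UK hi hy
  exact fun u hu => h2 hu

theorem kbig [Finite F] [Finite ↥(E Q)] (hK : KFacts Q) (hF : Flag Q n e f) (hn : 3 ≤ n) (h4 : 4 ≤ Nat.card F)
    {hu : Q (e 0) = 0} {huv : polar Q (e 0) (e 1) = 0} (k : FrGen.KF (UK Q e f n) (X Q (e 0) (e 1) hu huv))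
    (hZ : ∀ g ∈ Subgroup.center ↥(E Q), g = 1) : KBig (UK Q e f n) := by
  classical
  have H0 := hF.hyp 0 (by omega)
  have H1 := hF.hyp 1 (by omega)
  have hXZ : ∀ x ∈ XZ (UK Q e f n), ∃ c : F, x = tE Q (e 0) (c • e 1) := by
    rintro x ⟨hx, hx2, hxc⟩
    obtain ⟨z, hz, h1⟩ := k.aut (MulAut.conj x) ⟨1, by
      rw [pow_one, pow_two, ← map_mul, hx2, map_one]⟩ (fun u hu => by
      rw [MulAut.conj_apply, ← hxc u hu, mul_inv_cancel_right])
    have h2 : z⁻¹ * x ∈ Subgroup.center ↥(E Q) := by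
      rw [Subgroup.mem_center_iff]
      intro g
      have h3 := h1 g
      rw [MulAut.conj_apply] at h3
      have h5 : z⁻¹ * x * g = g * (z⁻¹ * x) := by
        calc z⁻¹ * x * g = z⁻¹ * (x * g * x⁻¹) * x := by group
          _ = z⁻¹ * (z * g * z⁻¹) * x := by rw [h3]
          _ = g * (z⁻¹ * x) := by group
      exact h5.symm
    have h3 := hZ _ h2
    rw [inv_mul_eq_one] at h3
    rw [← h3]
    exact mem_X.1 hz
  refine KBig.of_three k.pU (fun x hx => ?_) fun w hw hw1 => ?_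
  · obtain ⟨c, rfl⟩ := hXZ x hx
    exact mem_three hF hn c
  · obtain ⟨c, rfl⟩ := hXZ w hw
    have hc : c ≠ 0 := by
      rintro rfl
      exact hw1 (by rw [zero_smul, tE_zero_right])
    have := Fintype.ofFinite F
    obtain ⟨κ, hκ⟩ := Finset.exists_mem_notMem_of_card_lt_card (s := ({0, 1} : Finset F)) (t := Finset.univ)
      (lt_of_le_of_lt Finset.card_le_two (by rw [Finset.card_univ, ← Nat.card_eq_fintype_card]; omega))
    simp only [Finset.mem_insert, Finset.mem_singleton, not_or] at hκ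
    obtain ⟨-, hκ0, hκ1⟩ := hκ
    obtain ⟨h, h0, -, h3⟩ := hK.scal H0 hκ0
    have h5 : (h : V ≃ₗ[F] V) (e 1) = e 1 := h3 _ huv (hfe hF (by omega) (by omega) (by omega))
    refine ⟨h, ?_, fun h6 => ?_⟩
    · have hn' : ∀ u ∈ UK Q e f n, MulAut.conj h u ∈ UK Q e f n := mem_normalizer hF (by omega) h0 h3
      rw [Subgroup.mem_normalizer_iff]
      refine fun u => ⟨hn' u, fun h7 => ?_⟩
      obtain ⟨v, hv, h8⟩ := inv_mem_of hn' h7
      rw [MulAut.conj_apply, mul_left_inj, mul_right_inj] at h8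
      rwa [← h8]
    · have h7 : h * tE Q (e 0) (c • e 1) * h⁻¹ = tE Q (e 0) (c • e 1) := by rw [h6, mul_inv_cancel_right]
      rw [tE_conj, h0, map_smul, h5, tE_smul_left _ hu (by rw [polar_smul_right, huv, smul_zero])] at h7
      obtain ⟨d, hd⟩ := (tE_eq_iff hK.nondeg hu H0.left_ne (by
        rw [polar_smul_right, polar_smul_right, huv, smul_zero, smul_zero]) (by
        rw [polar_smul_right, huv, smul_zero])).1 h7
      have h8 := congrArg (polar Q (f 1)) hd
      rw [polar_add_right, polar_smul_right, polar_smul_right, polar_smul_right, polar_smul_right, H1.pair',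
        hfe hF (by omega) (by omega) (by omega), smul_zero, add_zero] at h8
      simp only [smul_eq_mul, mul_one] at h8
      exact hκ1 (mul_right_cancel₀ hc (by rw [one_mul]; exact h8.symm))

section Minus

open Cfsg.Agent.LieClassical Cfsg.Agent.LieClassical.OrthForms Cfsg.Agent.TitsThree.KSideO
  Cfsg.Agent.OddHalf.Orth.KFlag Cfsg.Agent.OddHalf.Orth.KFlagMain

variable {F : Type*} [Field F] [Finite F] [CharP F 2]

/-- **`KBig` for `Ω⁻(2m+2, q)`, `m ≥ 3`, `q ≥ 4` even** -/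
theorem kbig_minus {m : ℕ} (hm : 3 ≤ m) (h4 : 4 ≤ Nat.card F) (a b : F)
    (hab : ∀ z₁ z₂ : F, z₁ ^ 2 + a * z₁ * z₂ + b * z₂ ^ 2 = 0 → z₁ = 0 ∧ z₂ = 0) :
    ∃ U : Sylow 2 ↥(E (minusForm m F a b)), KBig (U : Subgroup ↥(E (minusForm m F a b))) := by
  have hfl := flag_minus hm a b hab
  have hu : minusForm m F a b (em m a b hab 0) = 0 := (hfl.1.hyp 0 (by omega)).left
  have huv : polar (minusForm m F a b) (em m a b hab 0) (em m a b hab 1) = 0 := hee hfl.1 (by omega) (by omega)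
  have k := kf_minus hm a b hab hu huv
  have hfin : Finite ((((Fin m ⊕ Fin m) ⊕ Fin 2) → F) ≃ₗ[F] (((Fin m ⊕ Fin m) ⊕ Fin 2) → F)) :=
    Finite.of_injective (fun g : ((((Fin m ⊕ Fin m) ⊕ Fin 2) → F) ≃ₗ[F] (((Fin m ⊕ Fin m) ⊕ Fin 2) → F)) =>
      (g : (((Fin m ⊕ Fin m) ⊕ Fin 2) → F) → (((Fin m ⊕ Fin m) ⊕ Fin 2) → F))) DFunLike.coe_injective
  have hodd := hfl.2.1
  have : Fact (Nat.Prime 2) := ⟨Nat.prime_two⟩
  refine ⟨k.pU.toSylow (fun h => ?_), ?_⟩
  · rw [← Nat.not_even_iff_odd] at hodd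
    exact hodd (even_iff_two_dvd.2 h)
  · exact kbig (kfacts_minus m a b hab hm) hfl.1 hm h4 k
      (fun g hg => SitOf.center_E (SitOf.good_minus (by omega) hab) hg)

/-- **`KBig` for `PΩ⁻_2m(q)`, `m ≥ 4`, `q ≥ 4` even** -/
theorem row {m : ℕ} (hm : 4 ≤ m) (h4 : 4 ≤ Nat.card F) (a b : F)
    (hab : ∀ z₁ z₂ : F, z₁ ^ 2 + a * z₁ * z₂ + b * z₂ ^ 2 = 0 → z₁ = 0 ∧ z₂ = 0) :
    ∃ U : Sylow 2 (Cfsg.POmega F (Cfsg.quadFormMinus (m - 1) F a b)), KBig (U : Subgroup (Cfsg.POmega F (Cfsg.quadFormMinus (m - 1) F a b))) := by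
  have e : ↥(E (minusForm (m - 1) F a b)) ≃* Cfsg.POmega F (Cfsg.quadFormMinus (m - 1) F a b) := by
    rw [← coe_minusForm]
    exact SitOf.equivE (SitOf.good_minus (m := m - 1) (by omega) hab)
  exact exists_kbig_of_equiv e (kbig_minus (m := m - 1) (by omega) h4 a b hab)

/-- the same up to isomorphism -/
theorem row_equiv {K : Type*} [Group K] {m : ℕ} (hm : 4 ≤ m) (h4 : 4 ≤ Nat.card F) (a b : F)
    (hab : ∀ z₁ z₂ : F, z₁ ^ 2 + a * z₁ * z₂ + b * z₂ ^ 2 = 0 → z₁ = 0 ∧ z₂ = 0)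
    (e : K ≃* Cfsg.POmega F (Cfsg.quadFormMinus (m - 1) F a b)) : ∃ U : Sylow 2 K, KBig (U : Subgroup K) :=
  exists_kbig_of_equiv e.symm (row hm h4 a b hab)


end Minus

/-- `KBig` for `Ω⁻_2m(2^a)`, `m ≥ 4`, `a ≥ 2`, in the form of `D9.Cut` -/
theorem main {F K : Type*} [Field F] [Fintype F] [Group K] {r m : ℕ} (hr : 2 ≤ r) (hF : Fintype.card F = 2 ^ r)
    (hm : 4 ≤ m) {a b : F} (hab : ∀ z₁ z₂ : F, z₁ ^ 2 + a * z₁ * z₂ + b * z₂ ^ 2 = 0 → z₁ = 0 ∧ z₂ = 0)
    (e : K ≃* Cfsg.POmega F (Cfsg.quadFormMinus (m - 1) F a b)) : ∃ U : Sylow 2 K, KBig (U : Subgroup K) := by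
  have : Fact (Nat.Prime 2) := ⟨Nat.prime_two⟩
  have : CharP F 2 := charP_of_card_eq_prime_pow (f := r) hF
  refine row_equiv hm ?_ a b hab e
  rw [Nat.card_eq_fintype_card, hF]
  exact Nat.pow_le_pow_right (n := 2) (by norm_num) hr

end Cfsg.Agent.OddHalf.Quat.RowOMinus
end

-- part: OddHalf/D7Ex/KTwo_mg
section
prune_inst 0x4050220200001805803100020012000002004300001160070202ce1022ad00260144200c1218088800200100081318009002100000000004000001000080aa5202b348a10426000f803087180c00000000000000000000000000041004000000000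
set_option linter.all false
open scoped Cfsg.Agent.FastGrp

-- part: OddHalf/D7Ex/SetupOf
section
-- merged: Cfsg.Agent.OddHalf.D7Ex.MoveH
section

/-!
# Existence of the doubled root group, `q > 2`, with a torus element (helper991)

No linearity of the action on `Q/X`: it is enough that one `h ∈ C4`, fixed point free on `X`, commutes with `C4` modulo
`D`. (For `A₃` the 2-elements of `C4` can act nontrivially on `Q/X`.)

* `exists_moveAux` : abstract form;
* `Setup.exists_moveH`, `Setup.exists_cent_of_h`.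
-/

set_option autoImplicit false

namespace Cfsg.Agent.OddHalf.D7Ex

open Subgroup

variable {G : Type*} [Group G]

/-- `D, C ⊴ N`, `N` transitive on `tX`, `h ∈ C` centralises `t`, is fixed point free on `X` and `[C, h] ≤ D`: then `D`
moves `t`. -/
theorem exists_moveAux {t h : G} {X N C D : Subgroup G} (ht : h * t = t * h)
    (htr : ∀ x ∈ X, ∃ m ∈ N, m * t * m⁻¹ = t * x)
    (hC : ∀ n ∈ N, ∀ c ∈ C, n * c * n⁻¹ ∈ C) (hD : ∀ n ∈ N, ∀ d ∈ D, n * d * n⁻¹ ∈ D)
    (hCt : ∀ c ∈ C, t * (c * t * c⁻¹) ∈ X) (tt : t * t = 1)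
    (hhC : h ∈ C) (hfix : ∀ x ∈ X, h * x = x * h → x = 1) (hcD : ∀ c ∈ C, h * c * h⁻¹ * c⁻¹ ∈ D)
    (hne : ∃ x ∈ X, x ≠ 1) : ∃ d ∈ D, d * t * d⁻¹ ≠ t := by
  by_contra hcon
  push Not at hcon
  -- `D` fixes `tX`
  have hDX : ∀ d ∈ D, ∀ x ∈ X, d * (t * x) * d⁻¹ = t * x := by
    intro d hd x hx
    obtain ⟨m, hm, hmt⟩ := htr x hx
    have h1 := hcon _ (by simpa using hD m⁻¹ (inv_mem hm) d hd : m⁻¹ * d * m ∈ D)
    rw [← hmt]
    calc d * (m * t * m⁻¹) * d⁻¹ = m * ((m⁻¹ * d * m) * t * (m⁻¹ * d * m)⁻¹) * m⁻¹ := by group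
      _ = m * t * m⁻¹ := by rw [h1]
  -- `C` fixes `t`
  have hCfix : ∀ c ∈ C, c * t * c⁻¹ = t := by
    intro c hc
    have hx := hCt c hc
    set x := t * (c * t * c⁻¹) with hxd
    have e1 : c * t * c⁻¹ = t * x := by rw [hxd, ← mul_assoc, tt, one_mul]
    have h1 := hcD c hc
    have h2 := hDX _ h1 x hx
    have h3 : h * (t * x) * h⁻¹ = t * x := by
      calc h * (t * x) * h⁻¹ = h * (c * t * c⁻¹) * h⁻¹ := by rw [e1]
        _ = (h * c * h⁻¹) * (h * t * h⁻¹) * (h * c * h⁻¹)⁻¹ := by group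
        _ = (h * c * h⁻¹) * t * (h * c * h⁻¹)⁻¹ := by rw [ht, mul_inv_cancel_right]
        _ = (h * c * h⁻¹ * c⁻¹) * (c * t * c⁻¹) * (h * c * h⁻¹ * c⁻¹)⁻¹ := by group
        _ = (h * c * h⁻¹ * c⁻¹) * (t * x) * (h * c * h⁻¹ * c⁻¹)⁻¹ := by rw [e1]
        _ = t * x := h2
    have h4 : t * (h * x * h⁻¹) = t * x := by
      rw [← h3, ← mul_assoc t, ← mul_assoc t, ← ht]; group
    have h5 : h * x = x * h := by
      have := mul_left_cancel h4
      calc h * x = (h * x * h⁻¹) * h := by group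
        _ = x * h := by rw [this]
    rw [e1, hfix x hx h5, mul_one]
  obtain ⟨x, hx, hx1⟩ := hne
  apply hx1
  apply hfix x hx
  obtain ⟨m, hm, hmt⟩ := htr x hx
  have h1 := hCfix _ (by simpa using hC m⁻¹ (inv_mem hm) h hhC : m⁻¹ * h * m ∈ C)
  have h2 : h * (t * x) * h⁻¹ = t * x := by
    rw [← hmt]
    calc h * (m * t * m⁻¹) * h⁻¹ = m * ((m⁻¹ * h * m) * t * (m⁻¹ * h * m)⁻¹) * m⁻¹ := by group
      _ = m * t * m⁻¹ := by rw [h1]
  have h4 : t * (h * x * h⁻¹) = t * x := by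
    rw [← h2, ← mul_assoc t, ← mul_assoc t, ← ht]; group
  have := mul_left_cancel h4
  calc h * x = (h * x * h⁻¹) * h := by group
    _ = x * h := by rw [this]

/-- **Existence, `q > 2`**, with a torus element `h` commuting with `C4` modulo `D`. -/
theorem Setup.exists_cent_of_h {t : G} {X Q P H : Subgroup G} (S : Setup t X Q P H)
    (Htr : ∀ x ∈ X, ∀ y ∈ X, x ≠ 1 → y ≠ 1 → ∃ h ∈ H, h * x * h⁻¹ = y) {h : G} (hH : h ∈ H)
    (hP : ∀ p ∈ P, h * p * h⁻¹ * p⁻¹ ∈ Q) (hfix : ∀ x ∈ X, h * x = x * h → x = 1)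
    (hcD : ∀ c ∈ S.C4, ∀ q ∈ Q, (h * c * h⁻¹ * c⁻¹) * q * (h * c * h⁻¹ * c⁻¹)⁻¹ * q⁻¹ ∈ X)
    {n : G} (hn : n ∈ S.N) (hnt : n * t * n⁻¹ ≠ t) {x : G} (hx : x ∈ X) :
    ∃ b : G, (∀ p ∈ P, b * p = p * b) ∧ b * t * b⁻¹ = t * x := by
  by_cases h1 : x = 1
  · exact ⟨1, fun p _ => by rw [one_mul, mul_one], by rw [h1]; group⟩
  have hhC : h ∈ S.C4 := ⟨S.H_le hH, hP⟩
  obtain ⟨d, hd, hdt⟩ := exists_moveAux (N := S.N) (C := S.C4) (D := S.D) (S.tH h hH).symm
    (fun x hx => S.exists_N Htr hn hnt hx) (fun n hn c hc => S.conj_C4 hn hc) (fun n hn d hd => S.conj_D hn hd)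
    (fun c hc => hc.1.2.2) S.tt hhC hfix
    (fun c hc => ⟨mul_mem (mul_mem (mul_mem hhC hc) (inv_mem hhC)) (inv_mem hc), hcD c hc⟩) ⟨x, hx, h1⟩
  set z := t * (d * t * d⁻¹) with hz
  have hzX : z ∈ X := hd.1.1.2.2
  have hz1 : z ≠ 1 := by
    intro h
    apply hdt
    have : t * (d * t * d⁻¹) = t * t := by rw [← hz, h, S.tt]
    exact mul_left_cancel this
  obtain ⟨g, hg, hgz⟩ := Htr z hzX x hx hz1 h1
  obtain ⟨b, hb, hbt⟩ := S.exists_cent (S.conj_D (S.H_le hg) hd)
  refine ⟨b, hb, ?_⟩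
  have e1 : d * t * d⁻¹ = t * z := by rw [hz, ← mul_assoc, S.tt, one_mul]
  have e2 : g⁻¹ * t = t * g⁻¹ := (S.tH _ (inv_mem hg)).symm
  rw [hbt]
  calc g * d * g⁻¹ * t * (g * d * g⁻¹)⁻¹ = g * d * (g⁻¹ * t) * g * d⁻¹ * g⁻¹ := by group
    _ = g * (d * t * d⁻¹) * g⁻¹ := by rw [e2]; group
    _ = g * t * z * g⁻¹ := by rw [e1]; group
    _ = t * (g * z * g⁻¹) := by rw [← S.tH g hg]; group
    _ = t * x := by rw [hgz]

end Cfsg.Agent.OddHalf.D7Ex

end

-- merged: Cfsg.Agent.OddHalf.D7Ex.Vzero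
section

/-!
# The torus commutes with `C4` on `Q / X_r` (helper991)

`Φ` simply laced, `X` its root groups, `P = ⟨X_a : (a, r) ≥ 0⟩`, `Q = ⟨X_a : (a, r) ≥ 1⟩`, `β ⊥ r`. Let `h`, `κ` normalise
all root groups, `κ ∈ P`, `h = κ` on `X_c` for `(c, r) = (c, β) = 1` (e.g. `h = h_r(λ)`, `κ = h_β(λ)`). If `y` normalises
`Q`, `X_r` and is trivial on `P / Q` then `[h, y]` is trivial on `Q / X_r` (`comm_D`).
The only input on the root system is `orth`.
-/

set_option autoImplicit false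
set_option linter.unusedSectionVars false

namespace Cfsg.Agent.OddHalf.D7Ex.Vzero

open Subgroup Cfsg.Agent.OddHalf.SL.Defs

variable {L : Type*} [AddCommGroup L] {G : Type*} [Group G]

/-- The subgroup generated by the root groups of `S`. -/
def SX (X : L → Subgroup G) (S : Set L) : Subgroup G := ⨆ z : S, X z.1

theorem le_SX {X : L → Subgroup G} {S : Set L} {a : L} (ha : a ∈ S) : X a ≤ SX X S :=
  le_iSup (fun z : S => X z.1) ⟨a, ha⟩

theorem SX_le {X : L → Subgroup G} {S : Set L} {H : Subgroup G} (hH : ∀ a ∈ S, X a ≤ H) : SX X S ≤ H :=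
  iSup_le fun z => hH z.1 z.2

theorem SX_mono {X : L → Subgroup G} {S S' : Set L} (hS : S ⊆ S') : SX X S ≤ SX X S' :=
  SX_le fun _ ha => le_SX (hS ha)

/-- Root groups of a simply laced root system. -/
structure RG (B : L → L → ℤ) (Φ : Set L) (X : L → Subgroup G) : Prop where
  roots : Roots B Φ
  pos : ∀ a ∈ Φ, ∀ b ∈ Φ, 0 ≤ B a b → ∀ x ∈ X a, ∀ y ∈ X b, x * y = y * x
  neg : ∀ a ∈ Φ, ∀ b ∈ Φ, B a b = -1 → ∀ x ∈ X a, ∀ y ∈ X b, x * y * x⁻¹ * y⁻¹ ∈ X (a + b)
  onto : ∀ a ∈ Φ, ∀ b ∈ Φ, B a b = -1 → ∀ y ∈ X b, y ≠ 1 → ∀ z ∈ X (a + b), ∃ x ∈ X a, x * y * x⁻¹ * y⁻¹ = z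
  ne : ∀ a ∈ Φ, ∃ x ∈ X a, x ≠ 1

/-- roots `a` with `(a, r) ≥ 1` -/
def Qs (B : L → L → ℤ) (Φ : Set L) (r : L) : Set L := {a | a ∈ Φ ∧ 1 ≤ B a r}

/-- roots `a` with `(a, r) ≥ 0` -/
def Ps (B : L → L → ℤ) (Φ : Set L) (r : L) : Set L := {a | a ∈ Φ ∧ 0 ≤ B a r}

theorem Qs_sub {B : L → L → ℤ} {Φ : Set L} {r : L} : Qs B Φ r ⊆ Ps B Φ r := fun _ ha => ⟨ha.1, le_trans (by norm_num) ha.2⟩

variable {B : L → L → ℤ} {Φ : Set L} {X : L → Subgroup G} {r : L}

theorem Q_le_P : SX X (Qs B Φ r) ≤ SX X (Ps B Φ r) := SX_mono Qs_sub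

namespace RG

variable (R : RG B Φ X)

include R

/-- `X_r` is central in `P`. -/
theorem XP (hr : r ∈ Φ) {x : G} (hx : x ∈ X r) {p : G} (hp : p ∈ SX X (Ps B Φ r)) : x * p = p * x := by
  have h1 : SX X (Ps B Φ r) ≤ centralizer ({x} : Set G) := by
    refine SX_le fun a ha y hy => ?_
    rw [mem_centralizer_singleton_iff]
    exact R.pos a ha.1 r hr ha.2 y hy x hx
  exact (mem_centralizer_singleton_iff.1 (h1 hp)).symm

/-- `[P, Q] ≤ Q`. -/
theorem PQ {p q : G} (hp : p ∈ SX X (Ps B Φ r)) (hq : q ∈ SX X (Qs B Φ r)) : p * q * p⁻¹ ∈ SX X (Qs B Φ r) := by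
  have h1 : SX X (Ps B Φ r) ≤ normalizer ((SX X (Qs B Φ r) : Subgroup G) : Set G) := by
    have key : ∀ a ∈ Ps B Φ r, ∀ x ∈ X a, ∀ q ∈ SX X (Qs B Φ r), x * q * x⁻¹ ∈ SX X (Qs B Φ r) := by
      intro a ha x hx q hq
      have h2 : SX X (Qs B Φ r) ≤ (SX X (Qs B Φ r)).comap (MulAut.conj x).toMonoidHom := by
        refine SX_le fun b hb y hy => ?_
        rw [mem_comap]
        show x * y * x⁻¹ ∈ SX X (Qs B Φ r)
        have hy' : y ∈ SX X (Qs B Φ r) := le_SX hb hy
        rcases lt_or_ge (B a b) 0 with h0 | h0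
        · have hge := R.roots.ge ha.1 hb.1
          rcases (show B a b = -1 ∨ B a b = -2 by omega) with h3 | h3
          · have h4 := R.neg a ha.1 b hb.1 h3 x hx y hy
            have h5 : a + b ∈ Qs B Φ r := ⟨R.roots.add a ha.1 b hb.1 h3, by
              rw [R.roots.add_left]; have := ha.2; have := hb.2; omega⟩
            have e : x * y * x⁻¹ = (x * y * x⁻¹ * y⁻¹) * y := by group
            rw [e]
            exact mul_mem (le_SX h5 h4) hy'
          · exfalso
            have h4 := R.roots.eq_neg ha.1 hb.1 h3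
            have h5 := ha.2
            rw [h4, R.roots.neg_left] at h5
            have := hb.2
            omega
        · rw [R.pos a ha.1 b hb.1 h0 x hx y hy, mul_inv_cancel_right]
          exact hy'
      exact h2 hq
    refine SX_le fun a ha x hx => ?_
    rw [mem_normalizer_iff]
    intro q
    refine ⟨fun hq => key a ha x hx q hq, fun hq => ?_⟩
    have h3 := key a ha x⁻¹ (inv_mem hx) _ hq
    have e : x⁻¹ * (x * q * x⁻¹) * x⁻¹⁻¹ = q := by group
    rwa [e] at h3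
  exact (mem_normalizer_iff.1 (h1 hp) q).1 hq

/-- a root of `Q` other than `r` -/
theorem eq_or {a : L} (hr : r ∈ Φ) (ha : a ∈ Qs B Φ r) : a = r ∨ B a r = 1 := by
  have h1 := R.roots.le a ha.1 r hr
  have h2 := ha.2
  rcases (show B a r = 1 ∨ B a r = 2 by omega) with h3 | h3
  · exact Or.inr h3
  · exact Or.inl (R.roots.eq a ha.1 r hr h3)

theorem sub_props (hr : r ∈ Φ) {b : L} (hb : b ∈ Φ) (hbr : B b r = 1) : r - b ∈ Φ ∧ B (r - b) r = 1 ∧ B b (r - b) = -1 := by
  have h1 := R.roots.symm b r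
  have h2 := R.roots.two r hr
  have h3 := R.roots.two b hb
  refine ⟨R.roots.sub_mem hr hb (by omega), ?_, ?_⟩
  · rw [R.roots.sub_left]; omega
  · rw [R.roots.sub_right]; omega

/-- commutation of `X_b` and `X_a` in `Q` -/
theorem comm_Q (hr : r ∈ Φ) {a b : L} (hb : b ∈ Φ) (hbr : B b r = 1) (ha : a ∈ Qs B Φ r) (hne : a ≠ r - b)
    {x v : G} (hx : x ∈ X b) (hv : v ∈ X a) : x * v = v * x := by
  have h0 : 0 ≤ B b a := by
    by_contra hlt
    have hge := R.roots.ge hb ha.1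
    rcases (show B b a = -1 ∨ B b a = -2 by omega) with h3 | h3
    · apply hne
      have h4 := R.roots.add b hb a ha.1 h3
      have h5 : B (b + a) r = 2 := by
        have h6 := R.roots.le _ h4 r hr
        have := ha.2
        rw [R.roots.add_left] at h6 ⊢
        omega
      have h6 := R.roots.eq _ h4 r hr h5
      rw [← h6]; abel
    · have h4 := R.roots.eq_neg hb ha.1 h3
      have := ha.2
      rw [h4, R.roots.neg_left] at hbr
      omega
  exact R.pos b hb a ha.1 h0 x hx v hv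

/-- `[X_b, v] ≤ X_r` and `[xb, v] = [xb, d]` for a `d ∈ X_{r-b}`. -/
theorem comp (hr : r ∈ Φ) {b : L} (hb : b ∈ Φ) (hbr : B b r = 1) {v : G} (hv : v ∈ SX X (Qs B Φ r)) :
    ∃ d ∈ X (r - b), ∀ x ∈ X b, x * v * x⁻¹ * v⁻¹ = x * d * x⁻¹ * d⁻¹ := by
  obtain ⟨s1, s2, s3⟩ := R.sub_props hr hb hbr
  have hmem : ∀ x ∈ X b, ∀ d ∈ X (r - b), x * d * x⁻¹ * d⁻¹ ∈ X r := by
    intro x hx d hd
    have := R.neg b hb (r - b) s1 s3 x hx d hd
    rwa [add_sub_cancel] at this
  unfold SX at hv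
  induction hv using Subgroup.iSup_induction' with
  | hp a v hv =>
    obtain ⟨a, ha⟩ := a
    by_cases hne : a = r - b
    · exact ⟨v, by rw [← hne]; exact hv, fun _ _ => rfl⟩
    · refine ⟨1, one_mem _, fun x hx => ?_⟩
      rw [R.comm_Q hr hb hbr ha hne hx hv]
      group
  | h1 => exact ⟨1, one_mem _, fun _ _ => rfl⟩
  | hmul v w hv hw ih1 ih2 =>
    obtain ⟨d, hd, h1⟩ := ih1
    obtain ⟨e, he, h2⟩ := ih2
    refine ⟨d * e, mul_mem hd he, fun x hx => ?_⟩
    have c1 : (x * w * x⁻¹ * w⁻¹) * v⁻¹ = v⁻¹ * (x * w * x⁻¹ * w⁻¹) := by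
      rw [h2 x hx]
      exact R.XP hr (hmem x hx e he) (Q_le_P (inv_mem hv))
    have c2 : (x * e * x⁻¹ * e⁻¹) * d⁻¹ = d⁻¹ * (x * e * x⁻¹ * e⁻¹) := by
      refine R.XP hr (hmem x hx e he) (inv_mem ?_)
      exact le_SX (show r - b ∈ Ps B Φ r from ⟨s1, by omega⟩) hd
    calc x * (v * w) * x⁻¹ * (v * w)⁻¹ = x * v * x⁻¹ * ((x * w * x⁻¹ * w⁻¹) * v⁻¹) := by group
      _ = (x * v * x⁻¹ * v⁻¹) * (x * w * x⁻¹ * w⁻¹) := by rw [c1]; group
      _ = (x * d * x⁻¹ * d⁻¹) * (x * e * x⁻¹ * e⁻¹) := by rw [h1 x hx, h2 x hx]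
      _ = x * d * x⁻¹ * (d⁻¹ * (x * e * x⁻¹ * e⁻¹)) := by group
      _ = x * (d * e) * x⁻¹ * (d * e)⁻¹ := by rw [← c2]; group

theorem comm_mem (hr : r ∈ Φ) {b : L} (hb : b ∈ Φ) (hbr : B b r = 1) {v x : G} (hv : v ∈ SX X (Qs B Φ r))
    (hx : x ∈ X b) : x * v * x⁻¹ * v⁻¹ ∈ X r := by
  obtain ⟨s1, s2, s3⟩ := R.sub_props hr hb hbr
  obtain ⟨d, hd, h1⟩ := R.comp hr hb hbr hv
  rw [h1 x hx]
  have := R.neg b hb (r - b) s1 s3 x hx d hd
  rwa [add_sub_cancel] at this

/-- `[Q, Q] ≤ X_r` -/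
theorem QQ (hr : r ∈ Φ) {v w : G} (hv : v ∈ SX X (Qs B Φ r)) (hw : w ∈ SX X (Qs B Φ r)) :
    v * w * v⁻¹ * w⁻¹ ∈ X r := by
  unfold SX at hv
  induction hv using Subgroup.iSup_induction' with
  | hp a v hv =>
    obtain ⟨a, ha⟩ := a
    rcases R.eq_or hr ha with h1 | h1
    · subst h1
      rw [R.XP hr hv (Q_le_P hw)]
      have : w * v * v⁻¹ * w⁻¹ = 1 := by group
      rw [this]
      exact one_mem _
    · exact R.comm_mem hr ha.1 h1 hw hv
  | h1 =>
    have : 1 * w * (1 : G)⁻¹ * w⁻¹ = 1 := by group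
    rw [this]; exact one_mem _
  | hmul v v' hv hv' ih1 ih2 =>
    have c1 := R.XP hr ih2 (Q_le_P (inv_mem hv))
    have e : v * v' * w * (v * v')⁻¹ * w⁻¹ = (v' * w * v'⁻¹ * w⁻¹) * (v * w * v⁻¹ * w⁻¹) := by
      have c2 := R.XP hr ih2 (Q_le_P hv)
      calc v * v' * w * (v * v')⁻¹ * w⁻¹ = (v * (v' * w * v'⁻¹ * w⁻¹)) * w * v⁻¹ * w⁻¹ := by group
        _ = _ := by rw [← c2]; group
    rw [e]
    exact mul_mem ih2 ih1

end RG

/-- The elements normalising `X`, `Q` and trivial on `P / Q`. -/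
def Cq (X Q P : Subgroup G) : Subgroup G where
  carrier := {y | (∀ x ∈ X, y * x * y⁻¹ ∈ X) ∧ (∀ x ∈ X, y⁻¹ * x * y ∈ X) ∧ (∀ q ∈ Q, y * q * y⁻¹ ∈ Q) ∧
    (∀ q ∈ Q, y⁻¹ * q * y ∈ Q) ∧ ∀ p ∈ P, y * p * y⁻¹ * p⁻¹ ∈ Q}
  one_mem' := by
    refine ⟨fun x hx => by simpa using hx, fun x hx => by simpa using hx, fun x hx => by simpa using hx,
      fun x hx => by simpa using hx, fun p _ => ?_⟩
    rw [one_mul, inv_one, mul_one, mul_inv_cancel]; exact one_mem _
  mul_mem' := by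
    rintro a b ⟨ha1, ha2, ha3, ha4, ha5⟩ ⟨hb1, hb2, hb3, hb4, hb5⟩
    refine ⟨fun x hx => ?_, fun x hx => ?_, fun x hx => ?_, fun x hx => ?_, fun p hp => ?_⟩
    · have e : a * b * x * (a * b)⁻¹ = a * (b * x * b⁻¹) * a⁻¹ := by group
      rw [e]; exact ha1 _ (hb1 x hx)
    · have e : (a * b)⁻¹ * x * (a * b) = b⁻¹ * (a⁻¹ * x * a) * b := by group
      rw [e]; exact hb2 _ (ha2 x hx)
    · have e : a * b * x * (a * b)⁻¹ = a * (b * x * b⁻¹) * a⁻¹ := by group
      rw [e]; exact ha3 _ (hb3 x hx)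
    · have e : (a * b)⁻¹ * x * (a * b) = b⁻¹ * (a⁻¹ * x * a) * b := by group
      rw [e]; exact hb4 _ (ha4 x hx)
    · have e : a * b * p * (a * b)⁻¹ * p⁻¹ = a * (b * p * b⁻¹ * p⁻¹) * a⁻¹ * (a * p * a⁻¹ * p⁻¹) := by group
      rw [e]; exact mul_mem (ha3 _ (hb5 p hp)) (ha5 p hp)
  inv_mem' := by
    rintro a ⟨ha1, ha2, ha3, ha4, ha5⟩
    refine ⟨fun x hx => by simpa using ha2 x hx, fun x hx => by simpa only [_root_.inv_inv] using ha1 x hx,
      fun x hx => by simpa using ha4 x hx, fun x hx => by simpa only [_root_.inv_inv] using ha3 x hx, fun p hp => ?_⟩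
    have e : a⁻¹ * p * a⁻¹⁻¹ * p⁻¹ = (a⁻¹ * (a * p * a⁻¹ * p⁻¹) * a)⁻¹ := by group
    rw [e]; exact inv_mem (ha4 _ (ha5 p hp))

theorem mem_Cq {X Q P : Subgroup G} {y : G} : y ∈ Cq X Q P ↔ (∀ x ∈ X, y * x * y⁻¹ ∈ X) ∧ (∀ x ∈ X, y⁻¹ * x * y ∈ X) ∧
    (∀ q ∈ Q, y * q * y⁻¹ ∈ Q) ∧ (∀ q ∈ Q, y⁻¹ * q * y ∈ Q) ∧ ∀ p ∈ P, y * p * y⁻¹ * p⁻¹ ∈ Q := Iff.rfl

/-- `V₀`: the fixed points modulo `X_r` of the radical of `β` in `L`. -/
def V0 (B : L → L → ℤ) (Φ : Set L) (X : L → Subgroup G) (r β : L) : Set G :=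
  {v | v ∈ SX X (Qs B Φ r) ∧ ∀ a ∈ Φ, B a r = 0 → 1 ≤ B a β → ∀ u ∈ X a, v * u * v⁻¹ * u⁻¹ ∈ X r}

namespace RG

variable (R : RG B Φ X)

include R

/-- `V₀` is invariant under `C4`. -/
theorem V0_conj (hr : r ∈ Φ) {β : L} {y v : G} (hy : y ∈ Cq (X r) (SX X (Qs B Φ r)) (SX X (Ps B Φ r)))
    (hv : v ∈ V0 B Φ X r β) : y * v * y⁻¹ ∈ V0 B Φ X r β := by
  obtain ⟨hv1, hv2⟩ := hv
  obtain ⟨hy1, hy2, hy3, hy4, hy5⟩ := hy
  have hv' := hy3 v hv1
  refine ⟨hv', fun a ha har haβ u hu => ?_⟩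
  have huP : u ∈ SX X (Ps B Φ r) := le_SX (show a ∈ Ps B Φ r from ⟨ha, by omega⟩) hu
  have h1 := hy1 _ (hv2 a ha har haβ u hu)
  have hq := hy5 u huP
  set q := y * u * y⁻¹ * u⁻¹ with hqd
  set v' := y * v * y⁻¹ with hvd
  have e1 : y * (v * u * v⁻¹ * u⁻¹) * y⁻¹ = (v' * q * v'⁻¹ * q⁻¹) * (q * (v' * u * v'⁻¹ * u⁻¹) * q⁻¹) := by
    have : y * (v * u * v⁻¹ * u⁻¹) * y⁻¹ = v' * (y * u * y⁻¹) * v'⁻¹ * (y * u * y⁻¹)⁻¹ := by rw [hvd]; group
    rw [this]
    have h2 : y * u * y⁻¹ = q * u := by rw [hqd]; group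
    rw [h2]
    group
  rw [e1] at h1
  have h2 := mul_mem (inv_mem (R.QQ hr hv' hq)) h1
  rw [inv_mul_cancel_left] at h2
  have h3 := R.XP hr h2 (Q_le_P hq)
  have e2 : v' * u * v'⁻¹ * u⁻¹ = q * (v' * u * v'⁻¹ * u⁻¹) * q⁻¹ := by
    have h4 : q⁻¹ * (q * (v' * u * v'⁻¹ * u⁻¹) * q⁻¹) * q = q * (v' * u * v'⁻¹ * u⁻¹) * q⁻¹ := by
      rw [mul_assoc, h3, inv_mul_cancel_left]
    rw [← h4]; group
  rw [e2]
  exact h2

/-- The auxiliary root. -/
theorem exists_aux (h3 : ∀ r ∈ Φ, ∀ s ∈ Φ, B r s = 0 → ∃ a ∈ Φ, B a r = 1 ∧ B a s = -1) (hr : r ∈ Φ) {β b : L}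
    (hβ : β ∈ Φ) (hβr : B β r = 0) (hb : b ∈ Φ) (hbr : B b r = 1) (h0 : B b β = 0) :
    ∃ a ∈ Φ, B a r = 0 ∧ B a β = 1 ∧ B a b = 1 := by
  have hR := R.roots
  obtain ⟨a, ha, h1, h2⟩ := h3 β hβ b hb (by rw [hR.symm]; exact h0)
  have c1 := hR.two b hb
  have c2 := hR.two β hβ
  have c3 := hR.symm b β
  have c4 := hR.symm r b
  have c5 := hR.symm β r
  have c6 := hR.symm b r
  have c7 := hR.le a ha r hr
  have c8 := hR.ge ha hr
  obtain ⟨s1, s2, s3⟩ := R.sub_props hr hb hbr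
  have d1 := hR.le a ha _ s1
  rw [hR.sub_right] at d1
  rcases (show B a r = 0 ∨ B a r = -1 ∨ B a r = -2 ∨ B a r = 1 by omega) with h4 | h4 | h4 | h4
  · have h5 : β - a ∈ Φ := hR.sub_mem hβ ha (by rw [hR.symm]; exact h1)
    refine ⟨β - a, h5, ?_, ?_, ?_⟩ <;> rw [hR.sub_left] <;> omega
  · have h5 : a + b ∈ Φ := hR.add a ha b hb h2
    refine ⟨a + b, h5, ?_, ?_, ?_⟩ <;> rw [hR.add_left] <;> omega
  · exfalso
    have h5 := hR.eq_neg ha hr h4
    rw [h5, hR.neg_left] at h1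
    omega
  · exfalso
    have h5 : B a (r - b) = 2 := by rw [hR.sub_right]; omega
    have h6 := hR.eq a ha _ s1 h5
    rw [h6, hR.sub_left] at h1
    omega

/-- For `v ∈ V₀` and `(b, β) ≠ -1`: `[X_b, v] = 1`. -/
theorem V0_comm (h3 : ∀ r ∈ Φ, ∀ s ∈ Φ, B r s = 0 → ∃ a ∈ Φ, B a r = 1 ∧ B a s = -1) (hr : r ∈ Φ) {β b : L}
    (hβ : β ∈ Φ) (hβr : B β r = 0) (hb : b ∈ Φ) (hbr : B b r = 1) (h0 : B b β ≠ -1) {v x : G}
    (hv : v ∈ V0 B Φ X r β) (hx : x ∈ X b) : x * v = v * x := by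
  have hR := R.roots
  obtain ⟨a, ha, har, haβ, hab⟩ : ∃ a ∈ Φ, B a r = 0 ∧ 1 ≤ B a β ∧ B a b = 1 := by
    have c1 := hR.le b hb β hβ
    have c2 := hR.ge hb hβ
    rcases (show B b β = 0 ∨ B b β = 1 ∨ B b β = 2 ∨ B b β = -2 by omega) with h4 | h4 | h4 | h4
    · obtain ⟨a, ha, h5, h6, h7⟩ := R.exists_aux h3 hr hβ hβr hb hbr h4
      exact ⟨a, ha, h5, by omega, h7⟩
    · have := hR.two β hβ
      exact ⟨β, hβ, hβr, by omega, by rw [hR.symm]; exact h4⟩
    · exfalso
      have := hR.eq b hb β hβ h4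
      rw [this] at hbr; omega
    · exfalso
      have := hR.eq_neg hb hβ h4
      rw [this, hR.neg_left] at hbr; omega
  have s1 : b - a ∈ Φ := hR.sub_mem hb ha (by rw [hR.symm]; exact hab)
  have s2 : B (b - a) r = 1 := by rw [hR.sub_left]; omega
  have s3 : B (b - a) a = -1 := by
    have := hR.symm b a
    have := hR.two a ha
    rw [hR.sub_left]; omega
  obtain ⟨u, hu, hu1⟩ := R.ne a ha
  obtain ⟨x', hx', hxe⟩ := R.onto (b - a) s1 a ha s3 u hu hu1 x (by rw [sub_add_cancel]; exact hx)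
  have hvQ := hv.1
  have hvP := Q_le_P hvQ
  have hx'P : x' ∈ SX X (Ps B Φ r) := le_SX (show b - a ∈ Ps B Φ r from ⟨s1, by omega⟩) hx'
  have huP : u ∈ SX X (Ps B Φ r) := le_SX (show a ∈ Ps B Φ r from ⟨ha, by omega⟩) hu
  -- `z1`, `z2`
  have hz1 := hv.2 a ha har haβ u⁻¹ (inv_mem hu)
  set z1 := v * u⁻¹ * v⁻¹ * u⁻¹⁻¹ with hz1d
  have e1 : u⁻¹ * v * u = z1⁻¹ * v := by rw [hz1d]; group
  have hz2 := R.comm_mem hr s1 s2 hvQ (inv_mem hx')
  set z2 := x'⁻¹ * v * x'⁻¹⁻¹ * v⁻¹ with hz2d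
  have e2 : x'⁻¹ * v * x' = z2 * v := by rw [hz2d]; group
  have c1 : ∀ p ∈ SX X (Ps B Φ r), z1 * p = p * z1 := fun p hp => R.XP hr hz1 hp
  have c1' : ∀ p ∈ SX X (Ps B Φ r), z1⁻¹ * p = p * z1⁻¹ := fun p hp => R.XP hr (inv_mem hz1) hp
  have c2 : ∀ p ∈ SX X (Ps B Φ r), z2 * p = p * z2 := fun p hp => R.XP hr hz2 hp
  have e3 : u * v * u⁻¹ = z1 * v := by
    calc u * v * u⁻¹ = u * (z1 * (z1⁻¹ * v)) * u⁻¹ := by group
      _ = u * z1 * (u⁻¹ * v * u) * u⁻¹ := by rw [e1]; group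
      _ = z1 * u * (u⁻¹ * v * u) * u⁻¹ := by rw [c1 u huP]
      _ = z1 * v := by group
  have e4 : z2 * (x' * v * x'⁻¹) = v := by
    calc z2 * (x' * v * x'⁻¹) = (z2 * x') * v * x'⁻¹ := by group
      _ = (x' * z2) * v * x'⁻¹ := by rw [c2 x' hx'P]
      _ = x' * (z2 * v) * x'⁻¹ := by group
      _ = v := by rw [← e2]; group
  have e5 : x * v * x⁻¹ = v := by
    rw [← hxe]
    calc x' * u * x'⁻¹ * u⁻¹ * v * (x' * u * x'⁻¹ * u⁻¹)⁻¹
        = x' * u * x'⁻¹ * (u⁻¹ * v * u) * x' * u⁻¹ * x'⁻¹ := by group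
      _ = x' * u * (x'⁻¹ * z1⁻¹) * v * x' * u⁻¹ * x'⁻¹ := by rw [e1]; group
      _ = x' * u * (z1⁻¹ * x'⁻¹) * v * x' * u⁻¹ * x'⁻¹ := by rw [c1' _ (inv_mem hx'P)]
      _ = x' * (u * z1⁻¹) * (x'⁻¹ * v * x') * u⁻¹ * x'⁻¹ := by group
      _ = x' * (z1⁻¹ * u) * (z2 * v) * u⁻¹ * x'⁻¹ := by rw [← c1' _ huP, e2]
      _ = x' * z1⁻¹ * (u * z2) * v * u⁻¹ * x'⁻¹ := by group
      _ = x' * z1⁻¹ * (z2 * u) * v * u⁻¹ * x'⁻¹ := by rw [← c2 _ huP]
      _ = x' * z1⁻¹ * z2 * (u * v * u⁻¹) * x'⁻¹ := by group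
      _ = x' * z1⁻¹ * (z2 * z1) * v * x'⁻¹ := by rw [e3]; group
      _ = x' * z1⁻¹ * (z1 * z2) * v * x'⁻¹ := by rw [c1 z2 (Q_le_P (le_SX (show r ∈ Qs B Φ r from
          ⟨hr, by have := hR.two r hr; omega⟩) hz2))]
      _ = (x' * z2) * v * x'⁻¹ := by group
      _ = (z2 * x') * v * x'⁻¹ := by rw [← c2 _ hx'P]
      _ = z2 * (x' * v * x'⁻¹) := by group
      _ = v := e4
  calc x * v = x * v * x⁻¹ * x := by group
    _ = v * x := by rw [e5]

/-- `h = κ` on `V₀` modulo `X_r`. -/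
theorem V0_eq (h3 : ∀ r ∈ Φ, ∀ s ∈ Φ, B r s = 0 → ∃ a ∈ Φ, B a r = 1 ∧ B a s = -1) (hr : r ∈ Φ) {β : L}
    (hβ : β ∈ Φ) (hβr : B β r = 0)
    (ZQ : ∀ q ∈ SX X (Qs B Φ r), (∀ v ∈ SX X (Qs B Φ r), q * v = v * q) → q ∈ X r) {g : G}
    (hg : ∀ a ∈ Φ, ∀ x ∈ X a, g * x * g⁻¹ ∈ X a) (hg' : ∀ a ∈ Φ, ∀ x ∈ X a, g⁻¹ * x * g ∈ X a)
    (hc : ∀ c ∈ Φ, B c r = 1 → B c β = 1 → ∀ x ∈ X c, g * x * g⁻¹ = x) {v : G} (hv : v ∈ V0 B Φ X r β) :
    g * v * g⁻¹ * v⁻¹ ∈ X r := by
  have hR := R.roots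
  have hgQ : SX X (Qs B Φ r) ≤ (SX X (Qs B Φ r)).comap (MulAut.conj g).toMonoidHom := by
    refine SX_le fun b hb y hy => ?_
    rw [mem_comap]
    exact le_SX hb (hg b hb.1 y hy)
  have hgv : g * v * g⁻¹ ∈ SX X (Qs B Φ r) := hgQ hv.1
  have hm := mul_mem hgv (inv_mem hv.1)
  apply ZQ _ hm
  intro w hw
  have hle : SX X (Qs B Φ r) ≤ centralizer ({g * v * g⁻¹ * v⁻¹} : Set G) := by
    refine SX_le fun b hb x hx => ?_
    rw [mem_centralizer_singleton_iff]
    rcases R.eq_or hr hb with h1 | h1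
    · subst h1
      exact R.XP hr hx (Q_le_P hm)
    -- `[x, g v g⁻¹] = [x, v]`
    have hx' := hg' b hb.1 x hx
    have key : x * (g * v * g⁻¹) * x⁻¹ * (g * v * g⁻¹)⁻¹ = x * v * x⁻¹ * v⁻¹ := by
      by_cases h4 : B b β = -1
      · obtain ⟨s1, s2, s3⟩ := R.sub_props hr hb.1 h1
        obtain ⟨d, hd, hdc⟩ := R.comp hr hb.1 h1 hv.1
        have h5 : g * d * g⁻¹ = d := by
          refine hc _ s1 s2 ?_ d hd
          have := hR.symm r β
          rw [hR.sub_left]; omega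
        calc x * (g * v * g⁻¹) * x⁻¹ * (g * v * g⁻¹)⁻¹
            = g * ((g⁻¹ * x * g) * v * (g⁻¹ * x * g)⁻¹ * v⁻¹) * g⁻¹ := by group
          _ = g * ((g⁻¹ * x * g) * d * (g⁻¹ * x * g)⁻¹ * d⁻¹) * g⁻¹ := by rw [hdc _ hx']
          _ = x * (g * d * g⁻¹) * x⁻¹ * (g * d * g⁻¹)⁻¹ := by group
          _ = x * v * x⁻¹ * v⁻¹ := by rw [h5, hdc x hx]
      · have h5 := R.V0_comm h3 hr hβ hβr hb.1 h1 h4 hv hx
        have h6 := R.V0_comm h3 hr hβ hβr hb.1 h1 h4 hv hx'
        calc x * (g * v * g⁻¹) * x⁻¹ * (g * v * g⁻¹)⁻¹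
            = g * ((g⁻¹ * x * g) * v * (g⁻¹ * x * g)⁻¹ * v⁻¹) * g⁻¹ := by group
          _ = g * (v * (g⁻¹ * x * g) * (g⁻¹ * x * g)⁻¹ * v⁻¹) * g⁻¹ := by rw [h6]
          _ = v * x * x⁻¹ * v⁻¹ := by group
          _ = x * v * x⁻¹ * v⁻¹ := by rw [h5]
    have hz := R.comm_mem hr hb.1 h1 hv.1 hx
    set z := x * v * x⁻¹ * v⁻¹ with hzd
    have e1 : x * v * x⁻¹ = z * v := by rw [hzd]; group
    have e2 : x * (g * v * g⁻¹) * x⁻¹ = z * (g * v * g⁻¹) := by rw [← key]; group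
    have c1 := R.XP hr hz (Q_le_P hm)
    calc x * (g * v * g⁻¹ * v⁻¹) = (x * (g * v * g⁻¹) * x⁻¹) * (x * v * x⁻¹)⁻¹ * x := by group
      _ = (z * (g * v * g⁻¹)) * (z * v)⁻¹ * x := by rw [e1, e2]
      _ = (z * (g * v * g⁻¹ * v⁻¹)) * z⁻¹ * x := by group
      _ = g * v * g⁻¹ * v⁻¹ * x := by rw [c1]; group
  exact (mem_centralizer_singleton_iff.1 (hle hw)).symm

/-- The groups `X_c`, `(c, r) = (c, β) = 1`, lie in `V₀`. -/
theorem le_V0 {β c : L} (hβ : β ∈ Φ) (hβr : B β r = 0) (hc : c ∈ Φ) (hcr : B c r = 1)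
    (hcβ : B c β = 1) {x : G} (hx : x ∈ X c) : x ∈ V0 B Φ X r β := by
  have hR := R.roots
  refine ⟨le_SX (show c ∈ Qs B Φ r from ⟨hc, by omega⟩) hx, fun a ha har haβ u hu => ?_⟩
  have h0 : 0 ≤ B c a := by
    by_contra hlt
    have hge := hR.ge hc ha
    have hle := hR.le a ha β hβ
    rcases (show B c a = -1 ∨ B c a = -2 by omega) with h4 | h4
    · have h5 := hR.add c hc a ha h4
      have h6 := hR.le _ h5 β hβ
      rw [hR.add_left] at h6
      have h7 : B (c + a) β = 2 := by rw [hR.add_left]; omega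
      have h8 := hR.eq _ h5 β hβ h7
      have h9 : B (c + a) r = 1 := by rw [hR.add_left]; omega
      rw [h8] at h9
      omega
    · have h5 := hR.eq_neg hc ha h4
      rw [h5, hR.neg_left] at hcr
      omega
  rw [R.pos c hc a ha h0 x hx u hu]
  have : u * x * x⁻¹ * u⁻¹ = 1 := by group
  rw [this]
  exact one_mem _

/-- `C4` is trivial on `Q / X_r` as soon as it is trivial on `V₀`. -/
theorem eq_of_V0 (h3 : ∀ r ∈ Φ, ∀ s ∈ Φ, B r s = 0 → ∃ a ∈ Φ, B a r = 1 ∧ B a s = -1) (hr : r ∈ Φ) {β : L}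
    (hβ : β ∈ Φ) (hβr : B β r = 0) {g : G} (hg : g ∈ Cq (X r) (SX X (Qs B Φ r)) (SX X (Ps B Φ r)))
    (h0 : ∀ v ∈ V0 B Φ X r β, g * v * g⁻¹ * v⁻¹ ∈ X r) (hgr : ∀ x ∈ X r, g * x * g⁻¹ ∈ X r) {v : G}
    (hv : v ∈ SX X (Qs B Φ r)) : g * v * g⁻¹ * v⁻¹ ∈ X r := by
  have hR := R.roots
  obtain ⟨hg1, hg2, hg3, hg4, hg5⟩ := hg
  -- the elements of `Q` fixed modulo `X r`
  let F : Subgroup G :=
    { carrier := {v | v ∈ SX X (Qs B Φ r) ∧ g * v * g⁻¹ * v⁻¹ ∈ X r}
      one_mem' := ⟨one_mem _, by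
        have : g * 1 * g⁻¹ * (1 : G)⁻¹ = 1 := by group
        rw [this]; exact one_mem _⟩
      mul_mem' := by
        rintro a b ⟨ha, ha'⟩ ⟨hb, hb'⟩
        refine ⟨mul_mem ha hb, ?_⟩
        have c1 := R.XP hr hb' (Q_le_P (inv_mem ha))
        have e : g * (a * b) * g⁻¹ * (a * b)⁻¹ = (g * a * g⁻¹ * a⁻¹) * (g * b * g⁻¹ * b⁻¹) := by
          calc g * (a * b) * g⁻¹ * (a * b)⁻¹ = g * a * g⁻¹ * ((g * b * g⁻¹ * b⁻¹) * a⁻¹) := by group
            _ = _ := by rw [c1]; group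
        rw [e]
        exact mul_mem ha' hb'
      inv_mem' := by
        rintro a ⟨ha, ha'⟩
        refine ⟨inv_mem ha, ?_⟩
        have c1 := R.XP hr (inv_mem ha') (Q_le_P (inv_mem ha))
        have e : g * a⁻¹ * g⁻¹ * a⁻¹⁻¹ = (g * a * g⁻¹ * a⁻¹)⁻¹ := by
          calc g * a⁻¹ * g⁻¹ * a⁻¹⁻¹ = a⁻¹ * ((g * a * g⁻¹ * a⁻¹)⁻¹) * a := by group
            _ = (g * a * g⁻¹ * a⁻¹)⁻¹ := by rw [← c1, inv_mul_cancel_right]
        rw [e]
        exact inv_mem ha' }
  have hFP : ∀ p ∈ SX X (Ps B Φ r), ∀ v ∈ F, p * v * p⁻¹ ∈ F := by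
    rintro p hp v ⟨hv, hv'⟩
    have hw := R.PQ hp hv
    refine ⟨hw, ?_⟩
    have hq := hg5 p hp
    set q := g * p * g⁻¹ * p⁻¹ with hqd
    set z := g * v * g⁻¹ * v⁻¹ with hzd
    have e1 : g * p = q * p * g := by rw [hqd]; group
    have e2 : g * v = z * v * g := by rw [hzd]; group
    have c1 : ∀ p ∈ SX X (Ps B Φ r), z * p = p * z := fun p hp => R.XP hr hv' hp
    have hqq := R.QQ hr hq hw
    have e : g * (p * v * p⁻¹) * g⁻¹ * (p * v * p⁻¹)⁻¹ = z * (q * (p * v * p⁻¹) * q⁻¹ * (p * v * p⁻¹)⁻¹) := by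
      calc g * (p * v * p⁻¹) * g⁻¹ * (p * v * p⁻¹)⁻¹
          = (g * p) * v * (g * p)⁻¹ * (p * v * p⁻¹)⁻¹ := by group
        _ = q * p * (g * v) * g⁻¹ * p⁻¹ * q⁻¹ * (p * v * p⁻¹)⁻¹ := by rw [e1]; group
        _ = (q * p) * z * v * p⁻¹ * q⁻¹ * (p * v * p⁻¹)⁻¹ := by rw [e2]; group
        _ = z * (q * p) * v * p⁻¹ * q⁻¹ * (p * v * p⁻¹)⁻¹ := by rw [c1 _ (mul_mem (Q_le_P hq) hp)]
        _ = _ := by group
    rw [e]
    exact mul_mem hv' hqq
  have hV : ∀ c ∈ Φ, B c r = 1 → B c β = 1 → X c ≤ F := fun c hc hcr hcβ x hx => by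
    have h4 := R.le_V0 hβ hβr hc hcr hcβ hx
    exact ⟨h4.1, h0 x h4⟩
  -- the step
  have step : ∀ c ∈ Φ, ∀ a ∈ Φ, B c a = -1 → B a r = 0 → X c ≤ F → X (c + a) ≤ F := by
    intro c hc a ha hca har hF x hx
    obtain ⟨u, hu, hu1⟩ := R.ne a ha
    obtain ⟨x', hx', he⟩ := R.onto c hc a ha hca u hu hu1 x hx
    have huP : u ∈ SX X (Ps B Φ r) := le_SX (show a ∈ Ps B Φ r from ⟨ha, by omega⟩) hu
    rw [← he]
    have := mul_mem (hF hx') (hFP u huP _ (inv_mem (hF hx')))
    have e : x' * u * x'⁻¹ * u⁻¹ = x' * (u * x'⁻¹ * u⁻¹) := by group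
    rw [e]
    exact this
  have hβ2 := hR.two β hβ
  have hneg : ∀ c ∈ Φ, B c r = 1 → B c β = -1 → X c ≤ F := by
    intro c hc hcr hcβ
    have h5 := hR.add c hc β hβ hcβ
    have h6 := step (c + β) h5 (-β) (hR.neg_mem β hβ) (by rw [hR.neg_right, hR.add_left]; omega)
      (by rw [hR.neg_left]; omega) (hV _ h5 (by rw [hR.add_left]; omega) (by rw [hR.add_left]; omega))
    rwa [add_neg_cancel_right] at h6
  have hall : ∀ c ∈ Φ, B c r = 1 → X c ≤ F := by
    intro c hc hcr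
    have c1 := hR.le c hc β hβ
    have c2 := hR.ge hc hβ
    rcases (show B c β = 1 ∨ B c β = -1 ∨ B c β = 0 ∨ B c β = 2 ∨ B c β = -2 by omega) with h4 | h4 | h4 | h4 | h4
    · exact hV c hc hcr h4
    · exact hneg c hc hcr h4
    · obtain ⟨a, ha, h5, h6, h7⟩ := R.exists_aux h3 hr hβ hβr hc hcr h4
      have hca : B c a = 1 := by rw [hR.symm]; exact h7
      have s1 : c - a ∈ Φ := hR.sub_mem hc ha hca
      have haa := hR.two a ha
      have h8 := step (c - a) s1 a ha (by rw [hR.sub_left]; omega) h5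
        (hneg _ s1 (by rw [hR.sub_left]; omega) (by rw [hR.sub_left]; omega))
      rwa [sub_add_cancel] at h8
    · exfalso
      have := hR.eq c hc β hβ h4
      rw [this] at hcr; omega
    · exfalso
      have := hR.eq_neg hc hβ h4
      rw [this, hR.neg_left] at hcr; omega
  have hrF : X r ≤ F := fun x hx => ⟨le_SX (show r ∈ Qs B Φ r from ⟨hr, by
    have := hR.two r hr; omega⟩) hx, mul_mem (hgr x hx) (inv_mem hx)⟩
  have hle : SX X (Qs B Φ r) ≤ F := by
    refine SX_le fun a ha => ?_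
    rcases R.eq_or hr ha with h4 | h4
    · rw [h4]; exact hrF
    · exact hall a ha.1 h4
  exact (hle hv).2

/-- **The torus element `h` commutes with `C4` on `Q / X_r`.** -/
theorem comm_D (h3 : ∀ r ∈ Φ, ∀ s ∈ Φ, B r s = 0 → ∃ a ∈ Φ, B a r = 1 ∧ B a s = -1) (hr : r ∈ Φ) {β : L}
    (hβ : β ∈ Φ) (hβr : B β r = 0)
    (ZQ : ∀ q ∈ SX X (Qs B Φ r), (∀ v ∈ SX X (Qs B Φ r), q * v = v * q) → q ∈ X r) {h k : G}
    (hh : ∀ a ∈ Φ, ∀ x ∈ X a, h * x * h⁻¹ ∈ X a) (hh' : ∀ a ∈ Φ, ∀ x ∈ X a, h⁻¹ * x * h ∈ X a)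
    (hk : ∀ a ∈ Φ, ∀ x ∈ X a, k * x * k⁻¹ ∈ X a) (hk' : ∀ a ∈ Φ, ∀ x ∈ X a, k⁻¹ * x * k ∈ X a)
    (hkP : k ∈ SX X (Ps B Φ r))
    (hc : ∀ c ∈ Φ, B c r = 1 → B c β = 1 → ∀ x ∈ X c, h * x * h⁻¹ = k * x * k⁻¹)
    (hhC : h ∈ Cq (X r) (SX X (Qs B Φ r)) (SX X (Ps B Φ r)))
    {y : G} (hy : y ∈ Cq (X r) (SX X (Qs B Φ r)) (SX X (Ps B Φ r))) {v : G} (hv : v ∈ SX X (Qs B Φ r)) :
    (h * y * h⁻¹ * y⁻¹) * v * (h * y * h⁻¹ * y⁻¹)⁻¹ * v⁻¹ ∈ X r := by
  have hg : h * y * h⁻¹ * y⁻¹ ∈ Cq (X r) (SX X (Qs B Φ r)) (SX X (Ps B Φ r)) :=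
    mul_mem (mul_mem (mul_mem hhC hy) (inv_mem hhC)) (inv_mem hy)
  refine R.eq_of_V0 h3 hr hβ hβr hg ?_ hg.1 hv
  -- `g = k⁻¹ h` is trivial on `V₀`
  have hg0 : ∀ v ∈ V0 B Φ X r β, (k⁻¹ * h) * v * (k⁻¹ * h)⁻¹ * v⁻¹ ∈ X r := by
    intro v hv
    refine R.V0_eq h3 hr hβ hβr ZQ ?_ ?_ ?_ hv
    · intro a ha x hx
      have e : k⁻¹ * h * x * (k⁻¹ * h)⁻¹ = k⁻¹ * (h * x * h⁻¹) * k := by group
      rw [e]; exact hk' a ha _ (hh a ha x hx)
    · intro a ha x hx
      have e : (k⁻¹ * h)⁻¹ * x * (k⁻¹ * h) = h⁻¹ * (k * x * k⁻¹) * h := by group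
      rw [e]; exact hh' a ha _ (hk a ha x hx)
    · intro c hc' h4 h5 x hx
      have e : k⁻¹ * h * x * (k⁻¹ * h)⁻¹ = k⁻¹ * (h * x * h⁻¹) * k := by group
      rw [e, hc c hc' h4 h5 x hx]; group
  -- so `h v h⁻¹ = z (k v k⁻¹)`
  have hkr : ∀ x ∈ X r, k * x * k⁻¹ = x := fun x hx => by rw [← R.XP hr hx hkP]; group
  have hV : ∀ v ∈ V0 B Φ X r β, ∃ z ∈ X r, h * v * h⁻¹ = z * (k * v * k⁻¹) := by
    intro v hv
    refine ⟨_, hg0 v hv, ?_⟩
    have h4 := hkr _ (hg0 v hv)
    calc h * v * h⁻¹ = k * ((k⁻¹ * h) * v * (k⁻¹ * h)⁻¹ * v⁻¹) * k⁻¹ * (k * v * k⁻¹) := by group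
      _ = _ := by rw [h4]
  -- `k` preserves `V₀`
  have hkV : ∀ v ∈ V0 B Φ X r β, k⁻¹ * v * k ∈ V0 B Φ X r β := by
    rintro v ⟨hv1, hv2⟩
    have hQ : k⁻¹ * v * k ∈ SX X (Qs B Φ r) := by
      have := R.PQ (inv_mem hkP) hv1
      rwa [inv_inv] at this
    refine ⟨hQ, fun a ha har haβ u hu => ?_⟩
    have h4 := hv2 a ha har haβ _ (hk a ha u hu)
    have h5 : k⁻¹ * (v * (k * u * k⁻¹) * v⁻¹ * (k * u * k⁻¹)⁻¹) * k ∈ X r := hk' r hr _ h4
    have e : k⁻¹ * v * k * u * (k⁻¹ * v * k)⁻¹ * u⁻¹ = k⁻¹ * (v * (k * u * k⁻¹) * v⁻¹ * (k * u * k⁻¹)⁻¹) * k := by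
      group
    rw [e]; exact h5
  intro v hv
  -- `v₁ = k⁻¹ y⁻¹ v y k`
  have hyv := R.V0_conj hr (inv_mem hy) hv
  rw [inv_inv] at hyv
  have h1 := hkV _ hyv
  set w := y⁻¹ * v * y with hwd
  set v1 := k⁻¹ * w * k with hv1d
  obtain ⟨z, hz, he⟩ := hV v1 h1
  -- `h v1 h⁻¹ = z w`
  have e1 : h * v1 * h⁻¹ = z * w := by rw [he, hv1d]; group
  have e2 : h⁻¹ * w * h = (h⁻¹ * z⁻¹ * h) * v1 := by
    have : v1 = h⁻¹ * (z * w) * h := by rw [← e1]; group
    rw [this]; group
  -- `y v1 y⁻¹ = z' (k⁻¹ v k)`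
  have hq := hy.2.2.2.2 k⁻¹ (inv_mem hkP)
  set q := y * k⁻¹ * y⁻¹ * k⁻¹⁻¹ with hqd
  have e3 : y * v1 * y⁻¹ = q * (k⁻¹ * v * k) * q⁻¹ := by rw [hv1d, hwd, hqd]; group
  have hz' := R.QQ hr hq (hkV v hv).1
  set z' := q * (k⁻¹ * v * k) * q⁻¹ * (k⁻¹ * v * k)⁻¹ with hz'd
  have e4 : y * v1 * y⁻¹ = z' * (k⁻¹ * v * k) := by rw [e3, hz'd]; group
  obtain ⟨z2, hz2, he2⟩ := hV _ (hkV v hv)
  have e5 : h * (k⁻¹ * v * k) * h⁻¹ = z2 * v := by rw [he2]; group
  -- collect
  have hzz : h⁻¹ * z⁻¹ * h ∈ X r := hh' r hr _ (inv_mem hz)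
  have hfin : (h * y * h⁻¹ * y⁻¹) * v * (h * y * h⁻¹ * y⁻¹)⁻¹ * v⁻¹ =
      (h * (y * (h⁻¹ * z⁻¹ * h) * y⁻¹) * h⁻¹) * (h * z' * h⁻¹) * z2 := by
    calc (h * y * h⁻¹ * y⁻¹) * v * (h * y * h⁻¹ * y⁻¹)⁻¹ * v⁻¹
        = h * (y * (h⁻¹ * w * h) * y⁻¹) * h⁻¹ * v⁻¹ := by rw [hwd]; group
      _ = h * (y * (h⁻¹ * z⁻¹ * h) * y⁻¹) * (y * v1 * y⁻¹) * h⁻¹ * v⁻¹ := by rw [e2]; group
      _ = (h * (y * (h⁻¹ * z⁻¹ * h) * y⁻¹) * h⁻¹) * (h * z' * h⁻¹) * (h * (k⁻¹ * v * k) * h⁻¹) * v⁻¹ := by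
        rw [e4]; group
      _ = _ := by rw [e5]; group
  rw [hfin]
  exact mul_mem (mul_mem (hh r hr _ (hy.1 _ hzz)) (hh r hr _ hz')) hz2

end RG

end Cfsg.Agent.OddHalf.D7Ex.Vzero

end

-- merged: Cfsg.Agent.OddHalf.D7Ex.SetupOf
section

/-!
# The doubled root group at one root, from facts on the root groups

`KR` : the facts on `t`, the root groups and `P` (`Q ≤ P ≤ ⟨X b : (b, r) ≥ 0⟩`, `P` perfect) for all `q`;
`KR.setup` : the hypotheses of `Setup`; `KR.exists_big` : the doubled root group, `q > 2`; `KR.exists_two` : `q = 2`.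
-/

set_option autoImplicit false
set_option linter.style.haveILetI false
set_option linter.unusedSectionVars false
set_option linter.unusedVariables false

namespace Cfsg.Agent.OddHalf.D7Ex

open Subgroup Cfsg.Agent.OddHalf.SL.Defs
open scoped commutatorElement

variable {L : Type*} [AddCommGroup L] {G : Type*} [Group G]

/-! ### Derived series -/

/-- The derived series of a subgroup. -/
def Dser (C : Subgroup G) : ℕ → Subgroup G
  | 0 => C
  | k + 1 => ⁅Dser C k, Dser C k⁆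

theorem le_Dser {C R : Subgroup G} (hR : R ≤ C) (hp : R ≤ ⁅R, R⁆) (k : ℕ) : R ≤ Dser C k := by
  induction k with
  | zero => exact hR
  | succ k ih => exact hp.trans (commutator_mono ih ih)

/-- The centraliser of `t` and `X`. -/
def CC (t : G) (X : Subgroup G) : Subgroup G := centralizer ({t} : Set G) ⊓ centralizer (X : Set G)

theorem mem_CC {t : G} {X : Subgroup G} {c : G} : c ∈ CC t X ↔ c * t = t * c ∧ ∀ x ∈ X, c * x = x * c := by
  unfold CC
  rw [mem_inf, mem_centralizer_singleton_iff, mem_centralizer_iff]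
  refine and_congr Iff.rfl ⟨fun h x hx => (h x hx).symm, fun h x hx => (h x hx).symm⟩

/-- The inverse of an element normalising `X` and `t X`. -/
theorem inv_normX {t : G} {X : Subgroup G} (tt : t * t = 1) [Finite G] {n : G} (hX : ∀ x ∈ X, n * x * n⁻¹ ∈ X)
    (ht : t * (n * t * n⁻¹) ∈ X) : (∀ x ∈ X, n⁻¹ * x * n⁻¹⁻¹ ∈ X) ∧ t * (n⁻¹ * t * n⁻¹⁻¹) ∈ X := by
  have t_inv : t⁻¹ = t := inv_eq_of_mul_eq_one_left tt
  have h1 : ∀ x ∈ X, n⁻¹ * x * n ∈ X := by
    let f : X → X := fun x => ⟨n * x * n⁻¹, hX x x.2⟩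
    have hf : Function.Injective f := by
      intro x y hxy
      have h2 : n * (x : G) * n⁻¹ = n * (y : G) * n⁻¹ := congrArg Subtype.val hxy
      exact Subtype.ext (mul_left_cancel (mul_right_cancel h2))
    have hs := Finite.surjective_of_injective hf
    intro x hx
    obtain ⟨y, hy⟩ := hs ⟨x, hx⟩
    have h2 : n * (y : G) * n⁻¹ = x := congrArg Subtype.val hy
    have h3 : n⁻¹ * x * n = y := by rw [← h2]; group
    rw [h3]; exact y.2
  refine ⟨fun x hx => by simpa using h1 x hx, ?_⟩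
  have h2 := inv_mem (h1 _ ht)
  have e : t * (n⁻¹ * t * n⁻¹⁻¹) = (n⁻¹ * (t * (n * t * n⁻¹)) * n)⁻¹ := by
    calc t * (n⁻¹ * t * n⁻¹⁻¹) = t⁻¹ * (n⁻¹ * t⁻¹ * n) := by rw [t_inv, inv_inv]
      _ = _ := by group
  rwa [e]

theorem conj_CC {t : G} {X : Subgroup G} (tt : t * t = 1) [Finite G] {n : G} (hX : ∀ x ∈ X, n * x * n⁻¹ ∈ X)
    (ht : t * (n * t * n⁻¹) ∈ X) {c : G} (hc : c ∈ CC t X) : n * c * n⁻¹ ∈ CC t X := by
  obtain ⟨hX', ht'⟩ := inv_normX tt hX ht
  rw [mem_CC] at hc ⊢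
  have key : ∀ y, c * (n⁻¹ * y * n) = (n⁻¹ * y * n) * c → n * c * n⁻¹ * y = y * (n * c * n⁻¹) := by
    intro y hy
    calc n * c * n⁻¹ * y = n * (c * (n⁻¹ * y * n)) * n⁻¹ := by group
      _ = n * ((n⁻¹ * y * n) * c) * n⁻¹ := by rw [hy]
      _ = _ := by group
  constructor
  · apply key
    have e : n⁻¹ * t * n = t * (t * (n⁻¹ * t * n⁻¹⁻¹)) := by
      rw [← mul_assoc, tt, one_mul, inv_inv]
    rw [e, ← mul_assoc, hc.1, mul_assoc, hc.2 _ ht', ← mul_assoc]
  · intro x hx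
    apply key
    have := hX' x hx
    rw [inv_inv] at this
    exact hc.2 _ this

/-- `n` normalises `P`: `P` perfect, generated by involutions, and the involutions of `C_G(⟨t⟩X)` lie in
`⟨t⟩ P₁`, `P₁^(k) ≤ P`. -/
theorem nP_of_inv {t : G} {X P P1 : Subgroup G} (tt : t * t = 1) [Finite G] (hPC : P ≤ CC t X) (hP1 : P1 ≤ CC t X)
    (perf : P ≤ ⁅P, P⁆) (gen : P ≤ closure {c | c ∈ P ∧ c * c = 1})
    (two : ∀ c ∈ CC t X, c * c = 1 → c ∈ P1 ∨ t * c ∈ P1)
    (solv : ∃ k, Dser P1 k ≤ P) (n : G) (hX : ∀ x ∈ X, n * x * n⁻¹ ∈ X)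
    (ht : t * (n * t * n⁻¹) ∈ X) : ∀ p ∈ P, n * p * n⁻¹ ∈ P := by
  intro p hp
  obtain ⟨k, hk⟩ := solv
  let R : Subgroup G := P.map (MulAut.conj n).toMonoidHom
  -- `E = ⟨t⟩ P₁`
  let E : Subgroup G :=
    { carrier := {c | c ∈ P1 ∨ t * c ∈ P1}
      one_mem' := Or.inl (one_mem _)
      mul_mem' := by
        rintro a b ha hb
        have hct : ∀ c ∈ P1, t * c = c * t := fun c hc => ((mem_CC.1 (hP1 hc)).1).symm
        rcases ha with ha | ha <;> rcases hb with hb | hb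
        · exact Or.inl (mul_mem ha hb)
        · right
          have := mul_mem ha hb
          rwa [← mul_assoc, ← hct a ha, mul_assoc] at this
        · right
          have := mul_mem ha hb
          rwa [mul_assoc] at this
        · left
          have := mul_mem ha hb
          have e : t * a * (t * b) = a * b := by
            calc t * a * (t * b) = (t * (t * a)) * b := by rw [hct _ ha]; group
              _ = a * b := by rw [← mul_assoc t t, tt, one_mul]
          rwa [e] at this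
      inv_mem' := by
        have t_inv : t⁻¹ = t := inv_eq_of_mul_eq_one_left tt
        rintro a (ha | ha)
        · exact Or.inl (inv_mem ha)
        · right
          have h1 := inv_mem ha
          have h2 : t * (t * a)⁻¹ = (t * a)⁻¹ * t := ((mem_CC.1 (hP1 h1)).1).symm
          have e : t * a⁻¹ = (t * a)⁻¹ := by
            calc t * a⁻¹ = t * ((t * a)⁻¹ * t) := by group
              _ = t * (t * (t * a)⁻¹) := by rw [h2]
              _ = (t * a)⁻¹ := by rw [← mul_assoc, tt, one_mul]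
          rwa [e] }
  have hR : R ≤ E := by
    refine (map_mono gen).trans ?_
    rw [MonoidHom.map_closure, closure_le]
    rintro _ ⟨c, ⟨hc, hc2⟩, rfl⟩
    refine two _ (conj_CC tt hX ht (hPC hc)) ?_
    show n * c * n⁻¹ * (n * c * n⁻¹) = 1
    calc n * c * n⁻¹ * (n * c * n⁻¹) = n * (c * c) * n⁻¹ := by group
      _ = 1 := by rw [hc2]; group
  have hE : ⁅E, E⁆ ≤ P1 := by
    rw [commutator_le]
    intro a ha b hb
    have hct : ∀ c ∈ P1, t * c = c * t := fun c hc => ((mem_CC.1 (hP1 hc)).1).symm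
    have t_inv : t⁻¹ = t := inv_eq_of_mul_eq_one_left tt
    -- `a = a' t^i`
    have key : ∀ a, (a ∈ P1 ∨ t * a ∈ P1) → ∃ a' ∈ P1, ∃ s : G, (∀ b, (b ∈ P1 ∨ t * b ∈ P1) → s * b = b * s) ∧ a = s * a' := by
      rintro a (ha | ha)
      · exact ⟨a, ha, 1, fun b _ => by rw [one_mul, mul_one], (one_mul a).symm⟩
      · refine ⟨t * a, ha, t, ?_, by rw [← mul_assoc, tt, one_mul]⟩
        rintro b (hb | hb)
        · exact hct b hb
        · have h1 := hct _ hb
          have h2 : t * (t * b) = t * (b * t) := by rw [h1]; group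
          exact mul_left_cancel h2
    obtain ⟨a', ha', s, hs, rfl⟩ := key a ha
    obtain ⟨b', hb', u, hu, rfl⟩ := key b hb
    have h1 : s * (u * b') = (u * b') * s := hs _ hb
    have h2 : u * a' = a' * u := hu _ (Or.inl ha')
    have e : ⁅s * a', u * b'⁆ = ⁅a', b'⁆ := by
      rw [commutatorElement_def, commutatorElement_def]
      calc s * a' * (u * b') * (s * a')⁻¹ * (u * b')⁻¹
          = s * (a' * u) * b' * a'⁻¹ * s⁻¹ * (u * b')⁻¹ := by group
        _ = s * u * a' * b' * a'⁻¹ * s⁻¹ * (u * b')⁻¹ := by rw [← h2]; group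
        _ = s * u * a' * b' * a'⁻¹ * (s⁻¹ * (u * b')⁻¹) := by group
        _ = s * u * a' * b' * a'⁻¹ * ((u * b')⁻¹ * s⁻¹) := by
          rw [← mul_inv_rev (u * b') s, ← h1, mul_inv_rev]
        _ = s * u * (a' * b' * a'⁻¹ * b'⁻¹) * u⁻¹ * s⁻¹ := by group
        _ = s * (u * (a' * b' * a'⁻¹ * b'⁻¹)) * u⁻¹ * s⁻¹ := by group
        _ = s * ((a' * b' * a'⁻¹ * b'⁻¹) * u) * u⁻¹ * s⁻¹ := by
          rw [hu _ (Or.inl (mul_mem (mul_mem (mul_mem ha' hb') (inv_mem ha')) (inv_mem hb')))]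
        _ = (s * (a' * b' * a'⁻¹ * b'⁻¹)) * s⁻¹ := by group
        _ = a' * b' * a'⁻¹ * b'⁻¹ := by
          rw [hs _ (Or.inl (mul_mem (mul_mem (mul_mem ha' hb') (inv_mem ha')) (inv_mem hb')))]; group
    rw [e, commutatorElement_def]
    exact mul_mem (mul_mem (mul_mem ha' hb') (inv_mem ha')) (inv_mem hb')
  have hRp : R ≤ ⁅R, R⁆ := by
    rw [← map_commutator]
    exact map_mono perf
  have hR1 : R ≤ P1 := hRp.trans ((commutator_mono hR hR).trans hE)
  exact hk (le_Dser hR1 hRp k ⟨p, hp, rfl⟩)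

/-! ### The quotient `Q / X` -/

namespace RG

variable {B : L → L → ℤ} {Φ : Set L} {X : L → Subgroup G}

/-- Squares of elements of `Q` lie in `X r`. -/
theorem sq_mem (h : RG B Φ X) {r : L} (hr : r ∈ Φ) {q : G} (hq : q ∈ QS X (Ph1 B Φ r) r) : q * q ∈ X r := by
  let D : Subgroup G :=
    { carrier := {q | q ∈ QS X (Ph1 B Φ r) r ∧ q * q ∈ X r}
      one_mem' := ⟨one_mem _, by rw [mul_one]; exact one_mem _⟩
      mul_mem' := by
        rintro a b ⟨ha, ha2⟩ ⟨hb, hb2⟩
        refine ⟨mul_mem ha hb, ?_⟩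
        have h1 := h.QQ hr (inv_mem ha) hb
        have e : a * b * (a * b) = (a * a) * (a⁻¹ * b * a⁻¹⁻¹ * b⁻¹) * (b * b) := by group
        rw [e]
        exact mul_mem (mul_mem ha2 h1) hb2
      inv_mem' := by
        rintro a ⟨ha, ha2⟩
        refine ⟨inv_mem ha, ?_⟩
        rw [← mul_inv_rev]
        exact inv_mem ha2 }
  have hle : QS X (Ph1 B Φ r) r ≤ D := by
    refine QS_le (fun x hx => ⟨X_le_QS X _ r hx, mul_mem hx hx⟩) fun b hb x hx => ⟨le_QS X r hb hx, ?_⟩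
    rw [h.X2 b hb.1 x hx]; exact one_mem _
  exact (hle hq).2

theorem isPGroup_Q (h : RG B Φ X) {r : L} (hr : r ∈ Φ) : IsPGroup 2 (QS X (Ph1 B Φ r) r) := by
  rintro ⟨q, hq⟩
  refine ⟨2, Subtype.ext ?_⟩
  show q ^ (2 ^ 2) = 1
  have h1 := h.X2 r hr _ (h.sq_mem hr hq)
  have e : q ^ (2 ^ 2) = q * q * (q * q) := by norm_num [pow_succ, mul_assoc]
  rw [e, h1]

end RG

/-! ### The facts -/

/-- The facts on `t`, the root groups and `P`. -/
structure KR (t : G) (B : L → L → ℤ) (Φ : Set L) (X : L → Subgroup G) (r : L) (P T : Subgroup G) : Prop where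
  rg : RG B Φ X
  hr : r ∈ Φ
  pg : PG B Φ X r P
  tt : t * t = 1
  tX : ∀ a ∈ Φ, ∀ x ∈ X a, t * x = x * t
  tr : t ∉ X r
  tT : ∀ h ∈ T, t * h = h * t
  TX : ∀ h ∈ T, ∀ x ∈ X r, h * x * h⁻¹ ∈ X r
  TP : ∀ h ∈ T, ∀ p ∈ P, h * p * h⁻¹ ∈ P
  Tab : ∀ h ∈ T, ∀ k ∈ T, h * k = k * h
  cP : ∀ c, t * c = c * t → (∀ p ∈ P, c * p = p * c) → c ∈ X r ∨ t * c ∈ X r
  perf : P ≤ ⁅P, P⁆
  nP0 : ∀ n : G, (∀ x ∈ X r, n * x * n⁻¹ ∈ X r) → t * (n * t * n⁻¹) ∈ X r → ∀ p ∈ P, n * p * n⁻¹ ∈ P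
  o2 : ∀ R : Subgroup G, R ≤ P → IsPGroup 2 R → (∀ p ∈ P, ∀ x ∈ R, p * x * p⁻¹ ∈ R) → R ≤ QS X (Ph1 B Φ r) r

namespace KR

variable {t : G} {B : L → L → ℤ} {Φ : Set L} {X : L → Subgroup G} {r : L} {P T : Subgroup G}

theorem tP (K : KR t B Φ X r P T) : ∀ p ∈ P, t * p = p * t := by
  have h1 : PR B Φ X r ≤ centralizer ({t} : Set G) := PR_le fun b hb _ x hx => by
    rw [mem_centralizer_singleton_iff]
    exact (K.tX b hb x hx).symm
  exact fun p hp => (mem_centralizer_singleton_iff.1 (h1 (K.pg.PPR hp))).symm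

theorem XP (K : KR t B Φ X r P T) : ∀ x ∈ X r, ∀ p ∈ P, x * p = p * x := fun x hx p hp =>
  K.rg.XP K.hr hx (K.pg.PPR hp)

theorem t_inv (K : KR t B Φ X r P T) : t⁻¹ = t := inv_eq_of_mul_eq_one_left K.tt

/-- The inverse of an element normalising `X` and `t X`. -/
theorem inv_norm (K : KR t B Φ X r P T) [Finite G] {n : G} (hX : ∀ x ∈ X r, n * x * n⁻¹ ∈ X r)
    (ht : t * (n * t * n⁻¹) ∈ X r) :
    (∀ x ∈ X r, n⁻¹ * x * n⁻¹⁻¹ ∈ X r) ∧ t * (n⁻¹ * t * n⁻¹⁻¹) ∈ X r := inv_normX K.tt hX ht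

theorem nQ1 (K : KR t B Φ X r P T) [Finite G] {n : G} (hX : ∀ x ∈ X r, n * x * n⁻¹ ∈ X r)
    (ht : t * (n * t * n⁻¹) ∈ X r) {q : G} (hq : q ∈ QS X (Ph1 B Φ r) r) :
    n * q * n⁻¹ ∈ QS X (Ph1 B Φ r) r := by
  obtain ⟨hX', ht'⟩ := K.inv_norm hX ht
  let R : Subgroup G := (QS X (Ph1 B Φ r) r).map (MulAut.conj n).toMonoidHom
  have hR : R ≤ QS X (Ph1 B Φ r) r := by
    apply K.o2 R
    · rintro _ ⟨q, hq, rfl⟩
      exact K.nP0 n hX ht _ (K.pg.QP hq)
    · exact (K.rg.isPGroup_Q K.hr).map _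
    · rintro p hp _ ⟨q, hq, rfl⟩
      have h1 := K.nP0 n⁻¹ hX' ht' p hp
      have h2 := K.rg.PQ K.hr (K.pg.PPR h1) hq
      refine ⟨_, h2, ?_⟩
      show n * (n⁻¹ * p * n⁻¹⁻¹ * q * (n⁻¹ * p * n⁻¹⁻¹)⁻¹) * n⁻¹ = p * (n * q * n⁻¹) * p⁻¹
      group
  exact hR ⟨q, hq, rfl⟩

/-- The hypotheses of `Setup`. -/
theorem setup (K : KR t B Φ X r P T) [Finite G] : Setup t (X r) (QS X (Ph1 B Φ r) r) P T where
  tt := K.tt
  tX := K.tr
  X2 := K.rg.X2 r K.hr
  XQ := X_le_QS X _ r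
  QP := K.pg.QP
  tP := K.tP
  XP := K.XP
  PQ := fun p hp q hq => K.rg.PQ K.hr (K.pg.PPR hp) hq
  tH := K.tT
  HX := K.TX
  nP := fun n hX ht => ⟨K.nP0 n hX ht, fun q hq => K.nQ1 hX ht hq⟩
  XQQ := K.rg.XQQ K.hr
  QQ := fun v hv w hw => K.rg.QQ K.hr hv hw
  ZQ := fun q hq hc => K.rg.ZQ K.hr hq hc
  E2 := fun f h1 h2 h3 h4 => K.rg.E2 K.hr K.pg f h1 h2 h3 h4
  noh := by
    intro f p
    have hcomm : ∀ a b : X r, a * b = b * a := fun a b => Subtype.ext
      (K.XP a a.2 b (K.pg.QP (X_le_QS X _ r b.2)))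
    -- the kernel contains the commutators
    have h1 : ⁅P, P⁆ ≤ f.ker.map P.subtype := by
      rw [commutator_le]
      intro a ha b hb
      refine ⟨⁅(⟨a, ha⟩ : P), ⟨b, hb⟩⁆, ?_, rfl⟩
      show f _ = 1
      rw [map_commutatorElement, commutatorElement_eq_one_iff_mul_comm]
      exact hcomm _ _
    obtain ⟨⟨p', hp'⟩, h2, h3⟩ := h1 (K.perf p.2)
    have : (⟨p', hp'⟩ : P) = p := Subtype.ext h3
    rw [← this]; exact h2

/-- The hypotheses of `Cent`. -/
theorem cent (K : KR t B Φ X r P T) (hex : ∀ x ∈ X r, ∃ b : G, (∀ p ∈ P, b * p = p * b) ∧ b * t * b⁻¹ = t * x) :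
    Cent t (X r) P where
  tt := K.tt
  tX := K.tr
  X2 := K.rg.X2 r K.hr
  XP := fun x hx => K.pg.QP (X_le_QS X _ r hx)
  tP := K.tP
  Xc := K.XP
  cP := K.cP
  ex := hex

theorem nice (K : KR t B Φ X r P T) {h k : G} (hh : h ∈ T) (hk : k ∈ T) : Nice t (X r) P h k where
  kt := (K.tT k hk).symm
  kX := by
    intro x
    refine ⟨K.TX k hk x, fun hx => ?_⟩
    have := K.TX k⁻¹ (inv_mem hk) _ hx
    have e : k⁻¹ * (k * x * k⁻¹) * k⁻¹⁻¹ = x := by group
    rwa [e] at this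
  kP := by
    intro p
    refine ⟨K.TP k hk p, fun hp => ?_⟩
    have := K.TP k⁻¹ (inv_mem hk) _ hp
    have e : k⁻¹ * (k * p * k⁻¹) * k⁻¹⁻¹ = p := by group
    rwa [e] at this
  kh := by
    have e : k * h * k⁻¹ * h⁻¹ = 1 := by rw [K.Tab k hk h hh]; group
    rw [e]; exact one_mem _

/-- The output at one root. -/
structure Out (t : G) (Xr P T W : Subgroup G) : Prop where
  dbl : IsDbl t Xr P W
  sq : ∀ w ∈ W, w * w ∈ Xr
  nrm : ∀ k ∈ T ⊔ P, ∀ w ∈ W, k * w * k⁻¹ ∈ W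

/-- `h` is fixed point free on `X`. -/
theorem fpf (K : KR t B Φ X r P T) (Htr : ∀ x ∈ X r, ∀ y ∈ X r, x ≠ 1 → y ≠ 1 → ∃ h ∈ T, h * x * h⁻¹ = y)
    {h : G} (hh : h ∈ T) (hne : ∃ x ∈ X r, h * x * h⁻¹ ≠ x) : ∀ x ∈ X r, h * x * h⁻¹ = x → x = 1 := by
  obtain ⟨x0, hx0, hne⟩ := hne
  have hx01 : x0 ≠ 1 := by
    rintro rfl
    apply hne; group
  intro x hx e
  by_contra hx1
  apply hne
  obtain ⟨k, hk, ek⟩ := Htr x hx x0 hx0 hx1 hx01
  have hc := K.Tab h hh k hk
  calc h * x0 * h⁻¹ = (h * k) * x * (h * k)⁻¹ := by rw [← ek]; group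
    _ = k * (h * x * h⁻¹) * k⁻¹ := by rw [hc]; group
    _ = x0 := by rw [e, ek]

/-- **The doubled root group from `Cent`, `q > 2`.** -/
theorem out_big (K : KR t B Φ X r P T) [Finite G] (C : Cent t (X r) P)
    (Htr : ∀ x ∈ X r, ∀ y ∈ X r, x ≠ 1 → y ≠ 1 → ∃ h ∈ T, h * x * h⁻¹ = y)
    {h : G} (hh : h ∈ T) {m : ℕ} (hm : Odd m) (hm1 : h ^ m = 1) (hne : ∃ x ∈ X r, h * x * h⁻¹ ≠ x) :
    ∃ W, Out t (X r) P T W := by
  have hf := K.fpf Htr hh hne
  have hN := K.nice hh hh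
  refine ⟨C.Wbig hN m, C.isDbl_big hN hm1 hm hf, fun w hw => ?_, ?_⟩
  · obtain ⟨h1, -⟩ := (C.mem_Wbig hN m).1 hw
    exact C.sq_mem h1
  · intro k hk
    have hle : T ⊔ P ≤
        { carrier := {k | (∀ w ∈ C.Wbig hN m, k * w * k⁻¹ ∈ C.Wbig hN m) ∧
            ∀ w ∈ C.Wbig hN m, k⁻¹ * w * k ∈ C.Wbig hN m}
          one_mem' := ⟨fun w hw => by simpa using hw, fun w hw => by simpa using hw⟩
          mul_mem' := by
            rintro a b ⟨ha, ha'⟩ ⟨hb, hb'⟩
            refine ⟨fun w hw => ?_, fun w hw => ?_⟩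
            · have := ha _ (hb w hw)
              have e : a * b * w * (a * b)⁻¹ = a * (b * w * b⁻¹) * a⁻¹ := by group
              rwa [e]
            · have := hb' _ (ha' w hw)
              have e : (a * b)⁻¹ * w * (a * b) = b⁻¹ * (a⁻¹ * w * a) * b := by group
              rwa [e]
          inv_mem' := by
            rintro a ⟨ha, ha'⟩
            exact ⟨fun w hw => by simpa using ha' w hw, fun w hw => by simpa only [_root_.inv_inv] using ha w hw⟩ : Subgroup G } := by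
      refine sup_le (fun k hk => ⟨fun w hw => C.nice_big hN m (K.nice hh hk) hw, fun w hw => ?_⟩)
        fun k hk => ⟨fun w hw => ?_, fun w hw => ?_⟩
      · have := C.nice_big hN m (K.nice hh (inv_mem hk)) hw
        rwa [inv_inv] at this
      · rw [← (C.isDbl_big hN hm1 hm hf).WP w hw k hk, mul_inv_cancel_right]
        exact hw
      · rw [mul_assoc, (C.isDbl_big hN hm1 hm hf).WP w hw k hk, inv_mul_cancel_left]
        exact hw
    exact (hle hk).1

/-- **The doubled root group, `q = 2`**: `n` acts on `P/Q` as an element of `P`. -/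
theorem exists_two (K : KR t B Φ X r P T) (pt : PT B Φ X r P) [Finite G] {z : G} (hz : ∀ x ∈ X r, x = 1 ∨ x = z)
    {n : G} (hX : ∀ x ∈ X r, n * x * n⁻¹ ∈ X r) (ht : t * (n * t * n⁻¹) ∈ X r) (hnt : n * t * n⁻¹ ≠ t)
    {p0 : G} (hp0 : p0 ∈ P) (hin : ∀ p ∈ P, n * p * n⁻¹ * (p0 * p * p0⁻¹)⁻¹ ∈ QS X (Ph1 B Φ r) r) :
    ∃ W, Out t (X r) P T W ∧ (∀ w ∈ W, w * w = 1) ∧
      ∀ k, Nice t (X r) P 1 k → ∀ w ∈ W, k * w * k⁻¹ ∈ W := by
  have S := K.setup
  have hn : n ∈ S.N := by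
    refine ⟨hX, fun x hx => ?_, ht⟩
    have := (K.inv_norm hX ht).1 x hx
    rwa [inv_inv] at this
  have C : Cent t (X r) P := K.cent fun x hx => S.exists_cent_of_inner
    (fun n h2 hQ hX hP q hq => K.rg.lin K.hr K.pg.PPR pt h2 hQ hX hP hq) hz hn hnt hp0 hin hx
  refine ⟨C.Wtwo hz, ⟨C.isDbl_two hz, fun w hw => ?_, ?_⟩, fun w hw => hw.2.1, fun k hk w hw => C.nice_two hz hk hw⟩
  · rw [hw.2.1]; exact one_mem _
  · intro k hk
    have hle : T ⊔ P ≤
        { carrier := {k | (∀ w ∈ C.Wtwo hz, k * w * k⁻¹ ∈ C.Wtwo hz) ∧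
            ∀ w ∈ C.Wtwo hz, k⁻¹ * w * k ∈ C.Wtwo hz}
          one_mem' := ⟨fun w hw => by simpa using hw, fun w hw => by simpa using hw⟩
          mul_mem' := by
            rintro a b ⟨ha, ha'⟩ ⟨hb, hb'⟩
            refine ⟨fun w hw => ?_, fun w hw => ?_⟩
            · have := ha _ (hb w hw)
              have e : a * b * w * (a * b)⁻¹ = a * (b * w * b⁻¹) * a⁻¹ := by group
              rwa [e]
            · have := hb' _ (ha' w hw)
              have e : (a * b)⁻¹ * w * (a * b) = b⁻¹ * (a⁻¹ * w * a) * b := by group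
              rwa [e]
          inv_mem' := by
            rintro a ⟨ha, ha'⟩
            exact ⟨fun w hw => by simpa using ha' w hw, fun w hw => by simpa only [_root_.inv_inv] using ha w hw⟩ : Subgroup G } := by
      refine sup_le (fun k hk => ⟨fun w hw => C.nice_two hz (K.nice (one_mem T) hk) hw, fun w hw => ?_⟩)
        fun k hk => ⟨fun w hw => ?_, fun w hw => ?_⟩
      · have := C.nice_two hz (K.nice (one_mem T) (inv_mem hk)) hw
        rwa [inv_inv] at this
      · rw [← (C.isDbl_two hz).WP w hw k hk, mul_inv_cancel_right]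
        exact hw
      · rw [mul_assoc, (C.isDbl_two hz).WP w hw k hk, inv_mul_cancel_left]
        exact hw
    exact (hle hk).1

end KR

/-! ### `q > 2`: everything from the root groups and the torus -/

section Big

variable {t : G} {B : L → L → ℤ} {Φ : Set L} {X : L → Subgroup G} {r : L} {T : Subgroup G}

theorem SX_eq_PR : Vzero.SX X (Vzero.Ps B Φ r) = PR B Φ X r := by
  apply le_antisymm
  · exact Vzero.SX_le fun a ha => le_PR X ha.1 ha.2
  · exact PR_le fun b hb h0 => Vzero.le_SX (show b ∈ Vzero.Ps B Φ r from ⟨hb, h0⟩)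

theorem SX_eq_QS (h : RG B Φ X) (hr : r ∈ Φ) : Vzero.SX X (Vzero.Qs B Φ r) = QS X (Ph1 B Φ r) r := by
  have R := h.roots
  apply le_antisymm
  · refine Vzero.SX_le fun a ha => ?_
    have h1 := R.le a ha.1 r hr
    have h2 := ha.2
    rcases (show B a r = 1 ∨ B a r = 2 by omega) with h3 | h3
    · exact le_QS X r (show a ∈ Ph1 B Φ r from ⟨ha.1, h3⟩)
    · rw [R.eq a ha.1 r hr h3]; exact X_le_QS X _ r
  · refine QS_le (Vzero.le_SX (show r ∈ Vzero.Qs B Φ r from ⟨hr, by rw [R.two r hr]; norm_num⟩)) fun b hb =>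
      Vzero.le_SX (show b ∈ Vzero.Qs B Φ r from ⟨hb.1, by rw [hb.2]⟩)

theorem vzRG (h : RG B Φ X) : Vzero.RG B Φ X where
  roots := h.roots
  pos := h.pos
  neg := h.neg
  onto := by
    intro a ha b hb hab y hy hy1 z hz
    have hba : B b a = -1 := by rw [h.roots.symm]; exact hab
    have hsum := h.roots.add a ha b hb hab
    have hz' : z⁻¹ ∈ X (b + a) := by rw [add_comm]; exact inv_mem hz
    obtain ⟨x, hx, e⟩ := h.sur b hb a ha hba y hy hy1 _ hz'
    refine ⟨x, hx, ?_⟩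
    have : x * y * x⁻¹ * y⁻¹ = (y * x * y⁻¹ * x⁻¹)⁻¹ := by group
    rw [this, e, inv_inv]
  ne := h.ne

/-- The torus elements used for `q > 2`. -/
structure Tor (B : L → L → ℤ) (Φ : Set L) (X : L → Subgroup G) (r : L) (T : Subgroup G) (β : L) (h k : G) : Prop where
  mβ : β ∈ Φ
  βr : B β r = 0
  mh : h ∈ T
  kT : k ∈ T
  kP : k ∈ PR B Φ X r
  /-- `h = k` on `X c`, `(c, r) = (c, β) = 1` -/
  hk : ∀ c ∈ Φ, B c r = 1 → B c β = 1 → ∀ x ∈ X c, h * x * h⁻¹ = k * x * k⁻¹
  /-- `h` centralises the root groups orthogonal to `r` -/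
  h0 : ∀ b ∈ Φ, B b r = 0 → ∀ x ∈ X b, h * x = x * h
  ne : ∃ x ∈ X r, h * x * h⁻¹ ≠ x
  odd : ∃ m, Odd m ∧ h ^ m = 1

/-- `h` is trivial on `P / Q`. -/
theorem triv_PQ (K : KR t B Φ X r (PR B Φ X r) T) (TX : ∀ h ∈ T, ∀ a ∈ Φ, ∀ x ∈ X a, h * x * h⁻¹ ∈ X a)
    {h : G} (hh : h ∈ T) (h0 : ∀ b ∈ Φ, B b r = 0 → ∀ x ∈ X b, h * x = x * h) :
    ∀ p ∈ PR B Φ X r, h * p * h⁻¹ * p⁻¹ ∈ QS X (Ph1 B Φ r) r := by
  have hr := K.hr
  have R := K.rg.roots
  let D : Subgroup G :=
    { carrier := {p | p ∈ PR B Φ X r ∧ h * p * h⁻¹ * p⁻¹ ∈ QS X (Ph1 B Φ r) r}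
      one_mem' := ⟨one_mem _, by rw [mul_one, mul_inv_cancel, inv_one, mul_one]; exact one_mem _⟩
      mul_mem' := by
        rintro a b ⟨ha, ha2⟩ ⟨hb, hb2⟩
        refine ⟨mul_mem ha hb, ?_⟩
        have e : h * (a * b) * h⁻¹ * (a * b)⁻¹ = (h * a * h⁻¹ * a⁻¹) * (a * (h * b * h⁻¹ * b⁻¹) * a⁻¹) := by group
        rw [e]
        exact mul_mem ha2 (K.rg.PQ hr ha hb2)
      inv_mem' := by
        rintro a ⟨ha, ha2⟩
        refine ⟨inv_mem ha, ?_⟩
        have e : h * a⁻¹ * h⁻¹ * a⁻¹⁻¹ = a⁻¹ * (h * a * h⁻¹ * a⁻¹)⁻¹ * a⁻¹⁻¹ := by group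
        rw [e]
        exact K.rg.PQ hr (inv_mem ha) (inv_mem ha2) }
  have hle : PR B Φ X r ≤ D := by
    refine PR_le fun b hb hb0 x hx => ⟨le_PR X hb hb0 hx, ?_⟩
    have h1 := R.le b hb r hr
    have hx' := TX h hh b hb x hx
    rcases (show B b r = 0 ∨ B b r = 1 ∨ B b r = 2 by omega) with h3 | h3 | h3
    · have e : h * x * h⁻¹ * x⁻¹ = 1 := by rw [h0 b hb h3 x hx]; group
      rw [e]; exact one_mem _
    · exact mul_mem (le_QS X r (show b ∈ Ph1 B Φ r from ⟨hb, h3⟩) hx')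
        (inv_mem (le_QS X r (show b ∈ Ph1 B Φ r from ⟨hb, h3⟩) hx))
    · have h4 := R.eq b hb r hr h3
      rw [h4] at hx hx'
      exact mul_mem (X_le_QS X _ r hx') (inv_mem (X_le_QS X _ r hx))
  exact fun p hp => (hle hp).2

/-- **`C_G(P)` moves `t`, `q > 2`**, `P = ⟨X b : (b, r) ≥ 0⟩`, with torus elements `h`, `k`. -/
theorem cent_of_tor (K : KR t B Φ X r (PR B Φ X r) T) [Finite G]
    (orth : ∀ r ∈ Φ, ∀ s ∈ Φ, B r s = 0 → ∃ a ∈ Φ, B a r = 1 ∧ B a s = -1)
    (TX : ∀ h ∈ T, ∀ a ∈ Φ, ∀ x ∈ X a, h * x * h⁻¹ ∈ X a)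
    (Htr : ∀ x ∈ X r, ∀ y ∈ X r, x ≠ 1 → y ≠ 1 → ∃ h ∈ T, h * x * h⁻¹ = y)
    {β : L} {h k : G} (Hk : Tor B Φ X r T β h k)
    {n : G} (hX : ∀ x ∈ X r, n * x * n⁻¹ ∈ X r) (ht : t * (n * t * n⁻¹) ∈ X r) (hnt : n * t * n⁻¹ ≠ t) :
    Cent t (X r) (PR B Φ X r) := by
  have hr := K.hr
  have R := K.rg.roots
  have hhP := triv_PQ K TX Hk.mh Hk.h0
  have hf := K.fpf Htr Hk.mh Hk.ne
  have hn : n ∈ K.setup.N := by
    refine ⟨hX, fun x hx => ?_, ht⟩
    have := (K.inv_norm hX ht).1 x hx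
    rwa [inv_inv] at this
  refine K.cent fun x hx => K.setup.exists_cent_of_h Htr Hk.mh hhP
    (fun x hx e => hf x hx (by rw [e, mul_inv_cancel_right])) ?_ hn hnt hx
  -- the commutator with `h`
  have eQ := SX_eq_QS K.rg hr
  have eP : Vzero.SX X (Vzero.Ps B Φ r) = PR B Φ X r := SX_eq_PR
  have S := K.setup
  have hC : ∀ c ∈ S.C4, c ∈ Vzero.Cq (X r) (Vzero.SX X (Vzero.Qs B Φ r)) (Vzero.SX X (Vzero.Ps B Φ r)) := by
    intro c hc
    rw [eQ, eP, Vzero.mem_Cq]
    refine ⟨hc.1.1, hc.1.2.1, fun q hq => S.N_Q hc.1 hq, fun q hq => ?_, hc.2⟩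
    have := S.N_Q (inv_mem hc.1) hq
    rwa [inv_inv] at this
  have hhC : h ∈ S.C4 := ⟨S.H_le Hk.mh, hhP⟩
  intro c hc q hq
  have hi : ∀ g ∈ T, ∀ a ∈ Φ, ∀ x ∈ X a, g⁻¹ * x * g ∈ X a := fun g hg a ha x hx => by
    have := TX g⁻¹ (inv_mem hg) a ha x hx
    rwa [inv_inv] at this
  refine (vzRG K.rg).comm_D orth hr Hk.mβ Hk.βr ?_ (TX h Hk.mh) (hi h Hk.mh) (TX k Hk.kT) (hi k Hk.kT) ?_ Hk.hk
    (hC h hhC) (hC c hc) ?_
  · intro q hq hc
    rw [eQ] at hq hc
    exact K.rg.ZQ hr hq hc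
  · rw [eP]; exact Hk.kP
  · rw [eQ]; exact hq

/-- **`C_G(P)` moves `t`, `q > 2`**, `P = ⟨X b : (b, r) ≥ 0⟩`, with `sep`. -/
theorem cent_of_sep (K : KR t B Φ X r (PR B Φ X r) T) (pt : PT B Φ X r (PR B Φ X r)) [Finite G]
    (TX : ∀ h ∈ T, ∀ a ∈ Φ, ∀ x ∈ X a, h * x * h⁻¹ ∈ X a)
    (Htr : ∀ x ∈ X r, ∀ y ∈ X r, x ≠ 1 → y ≠ 1 → ∃ h ∈ T, h * x * h⁻¹ = y)
    {h : G} (hh : h ∈ T) (h0 : ∀ b ∈ Φ, B b r = 0 → ∀ x ∈ X b, h * x = x * h)
    (hne : ∃ x ∈ X r, h * x * h⁻¹ ≠ x)
    {n : G} (hX : ∀ x ∈ X r, n * x * n⁻¹ ∈ X r) (ht : t * (n * t * n⁻¹) ∈ X r) (hnt : n * t * n⁻¹ ≠ t) :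
    Cent t (X r) (PR B Φ X r) := by
  have hn : n ∈ K.setup.N := by
    refine ⟨hX, fun x hx => ?_, ht⟩
    have := (K.inv_norm hX ht).1 x hx
    rwa [inv_inv] at this
  exact K.cent fun x hx => K.setup.exists_cent_of_big
    (fun n h2 hQ hX hP q hq => K.rg.lin K.hr K.pg.PPR pt h2 hQ hX hP hq) Htr
    ⟨h, hh, triv_PQ K TX hh h0, hne⟩ hn hnt hx

end Big

end Cfsg.Agent.OddHalf.D7Ex

end
end

-- part: OddHalf/D7Ex/KData
section
/-!
# The existence of the doubled root group: the facts on `K` from a root group datum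

* `rg` : `RG`; `pg` : `PG`; `exists_move_self` : `δ ∈ T ⊓ ⟨X a, X (-a)⟩` moving `u' ∈ X a` (if `|X a| > 2`);
* `perf` : `P = ⟨X b : (b, r) ≥ 0⟩` is perfect; `kr` : `KR`; `exists_out` : the doubled root group at one root.
-/

set_option autoImplicit false
set_option linter.unusedSectionVars false

namespace Cfsg.Agent.OddHalf.D7Ex.KData

open Cfsg.Agent.OddHalf.SL Cfsg.Agent.KFacts CoxeterSystem Cfsg.Agent.ChevalleyStructure.CoxeterGeom Cfsg.Agent.Tits.Roots Cfsg.Agent.Tits.Core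
  Cfsg.Agent.Tits.RootComb Cfsg.Agent.Nodes.Comb Cfsg.Agent.Nodes.Reps Cfsg.Agent.Nodes.BNOf
  Cfsg.Agent.Nodes.Bruhat Cfsg.Agent.Nodes.Coroot Cfsg.Agent.OddHalf.SL.Index Cfsg.Agent.OddHalf.SL.OfRGD
  Cfsg.Agent.OddHalf.SL.PreOf Cfsg.Agent.KFacts.RgdPar Cfsg.Agent.KFacts.RgdSL Cfsg.Agent.KFacts.RgdTI
  Cfsg.Agent.KFacts.RgdCent Cfsg.Agent.KFacts.RgdOdd Cfsg.Agent.KFacts.RgdEx Cfsg.Agent.KFacts.SLRow.Def
  Cfsg.Agent.OddHalf.SL.OfDatum
open scoped commutatorElement

variable {I W G : Type*} [Fintype I] [DecidableEq I] [Group W] [Group G] {M : CoxeterMatrix I}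
  {cs : CoxeterSystem M W} {A : I → I → ℤ} {h : IsCartan M A} {T : Subgroup G} {n : I → G}
  {X : (I → ℤ) → Subgroup G} {K : Subgroup G} {q : ℕ} {t : G}

/-! ### Torus elements moving their root group -/

section Self

variable [Finite W] {p : ℕ} (R : RGD cs h p T n X)

include R

theorem exists_ne {x : I → ℤ} (hx : IsRoot cs h x) : ∃ u ∈ X x, u ≠ 1 := by
  have := Cfsg.Agent.OddHalf.SL.OfRGD.X_ne_bot R hx
  rw [Subgroup.ne_bot_iff_exists_ne_one] at this
  obtain ⟨⟨a, ha⟩, h1⟩ := this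
  exact ⟨a, ha, fun h2 => h1 (Subtype.ext h2)⟩

/-- `a`, `b` at `120°`, `u ≠ u'` nontrivial involutions of `X a`: some `δ ∈ T ⊓ ⟨X a, X (-a)⟩` moves `u'`. -/
theorem exists_move_self {a b : I → ℤ} (hA : A2 cs h a b) (sqa : ∀ x ∈ X a, x * x = 1)
    (sqb : ∀ x ∈ X b, x * x = 1) {u u' : G} (hu : u ∈ X a) (hu' : u' ∈ X a)
    (hu1 : u ≠ 1) (hu1' : u' ≠ 1) (hne : u ≠ u') : ∃ δ ∈ T ⊓ (X a ⊔ X (-a)), δ * u' * δ⁻¹ ≠ u' := by
  obtain ⟨s, hs, c, hc, d, hd, m, hm, he⟩ := exists_mu R hA.rx hu hu1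
  obtain ⟨s', hs', c', hc', d', hd', m', hm', he'⟩ := exists_mu R hA.rx hu' hu1'
  have hss : s = s' := by
    have : s'⁻¹ * s = 1 := by
      refine eq_one_of_fix cs h _ fun i => ?_
      have h3 : rep cs h s (sr i) = rep cs h s' (sr i) := by rw [hs, hs']
      show rep cs h (s'⁻¹ * s) (sr i) = sr i
      rw [rep_mul_apply, h3, rep_inv_apply]
    exact (inv_mul_eq_one.1 this).symm
  subst hss
  -- the actions
  have e1 : ∀ v ∈ X b, ⁅u, v⁆ = m * v * m⁻¹ := fun v hv => A2.comm_eq R hA hu hv hc hd hs hm he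
  have e2 : ∀ v ∈ X b, ⁅u', v⁆ = m' * v * m'⁻¹ := fun v hv => A2.comm_eq R hA hu' hv hc' hd' hs hm' he'
  -- `s` is an involution
  have hssq : s⁻¹ = s := by
    have : s * s = 1 := by
      refine eq_one_of_fix cs h _ fun i => ?_
      rw [rep_mul_apply, hs (Pi.single i 1), map_sub, map_smul, hs (Pi.single i 1), hs a, cpr_self cs h hA.rx]
      module
    exact inv_eq_of_mul_eq_one_left this
  have inv_of : ∀ {u c d m : G}, u ∈ X a → c ∈ X (-a) → d ∈ X (-a) → Rp cs R.nsys s m → m = c * u * d →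
      ∀ v ∈ X b, ⁅u, v⁆ = m⁻¹ * v * m := by
    intro u c d m hu hc hd hm he v hv
    have h1 : m⁻¹ = d⁻¹ * u * c⁻¹ := by
      have : u⁻¹ = u := inv_eq_of_mul_eq_one_left (sqa u hu)
      rw [he, mul_inv_rev, mul_inv_rev, this]; group
    have hm2 : Rp cs R.nsys s m⁻¹ := by
      have := hm.inv
      rwa [hssq] at this
    have := A2.comm_eq R hA hu hv (inv_mem hd) (inv_mem hc) hs hm2 h1
    rwa [inv_inv] at this
  have e1' := inv_of hu hc hd hm he
  have e2' := inv_of hu' hc' hd' hm' he'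
  refine ⟨m⁻¹ * m', Subgroup.mem_inf.2 ⟨hm.unique hm', ?_⟩, ?_⟩
  · rw [he, he']
    have k1 : ∀ x ∈ X a, x ∈ X a ⊔ X (-a) := fun x hx => Subgroup.mem_sup_left hx
    have k2 : ∀ x ∈ X (-a), x ∈ X a ⊔ X (-a) := fun x hx => Subgroup.mem_sup_right hx
    exact mul_mem (inv_mem (mul_mem (mul_mem (k2 _ hc) (k1 _ hu)) (k2 _ hd)))
      (mul_mem (mul_mem (k2 _ hc') (k1 _ hu')) (k2 _ hd'))
  · intro hcon
    -- `δ = m⁻¹ m'` maps `X b` to itself
    have hδT : m⁻¹ * m' ∈ T := hm.unique hm'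
    have hδb : ∀ v ∈ X b, m⁻¹ * m' * v * (m⁻¹ * m')⁻¹ ∈ X b := by
      intro v hv
      have := R.tor b hA.ry _ hδT
      rw [← this]
      exact conj_mem_cj.2 hv
    -- (1) `[u, δ v] = [u', v]`
    have f1 : ∀ v ∈ X b, ⁅u, m⁻¹ * m' * v * (m⁻¹ * m')⁻¹⁆ = ⁅u', v⁆ := by
      intro v hv
      rw [e1 _ (hδb v hv), e2 v hv]; group
    -- (2) `δ [u', v] δ⁻¹ = [u, v]`
    have f2 : ∀ v ∈ X b, m⁻¹ * m' * ⁅u', v⁆ * (m⁻¹ * m')⁻¹ = ⁅u, v⁆ := by
      intro v hv
      rw [e2' v hv, e1' v hv]; group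
    -- (3) `[u', δ v] = [u, v]`
    have f3 : ∀ v ∈ X b, ⁅u', m⁻¹ * m' * v * (m⁻¹ * m')⁻¹⁆ = ⁅u, v⁆ := by
      intro v hv
      rw [← f2 v hv]
      have : m⁻¹ * m' * ⁅u', v⁆ * (m⁻¹ * m')⁻¹ =
          ⁅m⁻¹ * m' * u' * (m⁻¹ * m')⁻¹, m⁻¹ * m' * v * (m⁻¹ * m')⁻¹⁆ := by
        rw [commutatorElement_def, commutatorElement_def]; group
      rw [this, hcon]
    -- no fixed points
    have nofix : ∀ v ∈ X b, m⁻¹ * m' * v * (m⁻¹ * m')⁻¹ = v → v = 1 := by
      intro v hv e
      by_contra hv1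
      apply hne
      have h1 := f3 v hv
      rw [e] at h1
      have h2 : ⁅v, u⁆ = ⁅v, u'⁆ := by
        rw [← commutatorElement_inv, ← h1, commutatorElement_inv]
      exact A2.comm_inj R hA.symm hv hv1 hu hu' h2
    obtain ⟨v, hv, hv1⟩ := exists_ne R hA.ry
    have hv2 := hδb v hv
    have hv3 := hδb _ hv2
    have hδ2 : m⁻¹ * m' * (m⁻¹ * m' * v * (m⁻¹ * m')⁻¹) * (m⁻¹ * m')⁻¹ = v := by
      have h1 := f1 _ hv2
      rw [f3 v hv] at h1
      exact A2.comm_inj R hA hu hu1 hv3 hv h1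
    have hcomm : v * (m⁻¹ * m' * v * (m⁻¹ * m')⁻¹) = (m⁻¹ * m' * v * (m⁻¹ * m')⁻¹) * v := by
      have h1 := sqb _ (mul_mem hv hv2)
      have h2 := sqb _ hv
      have h3 := sqb _ hv2
      generalize m⁻¹ * m' * v * (m⁻¹ * m')⁻¹ = w at *
      calc v * w = v * (v * w * (v * w)) * w := by rw [h1, mul_one]
        _ = (v * v) * (w * v) * (w * w) := by group
        _ = w * v := by rw [h2, h3, one_mul, mul_one]
    have hw := nofix (v * (m⁻¹ * m' * v * (m⁻¹ * m')⁻¹)) (mul_mem hv hv2) (by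
      calc m⁻¹ * m' * (v * (m⁻¹ * m' * v * (m⁻¹ * m')⁻¹)) * (m⁻¹ * m')⁻¹
          = (m⁻¹ * m' * v * (m⁻¹ * m')⁻¹) * (m⁻¹ * m' * (m⁻¹ * m' * v * (m⁻¹ * m')⁻¹) * (m⁻¹ * m')⁻¹) := by
            group
        _ = (m⁻¹ * m' * v * (m⁻¹ * m')⁻¹) * v := by rw [hδ2]
        _ = _ := hcomm.symm)
    apply hv1
    apply nofix v hv
    have h1 : m⁻¹ * m' * v * (m⁻¹ * m')⁻¹ = v⁻¹ := eq_inv_of_mul_eq_one_right hw
    rw [h1]
    exact inv_eq_of_mul_eq_one_left (sqb v hv)

end Self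

/-! ### The root groups -/

section Data

variable [Finite W] [Finite G] (D : Datum K q cs h T n X)

include D

theorem rg : RG (Bf A) {x | IsRoot cs h x} X := by
  have hR := roots cs h D.h4 D.h6
  have ha2 : ∀ {x y : I → ℤ}, IsRoot cs h x → IsRoot cs h y → Bf A x y = -1 → A2 cs h x y :=
    fun hx hy hxy => a2 D.h4 D.h6 hx hy hxy
  have : Fact (Nat.Prime 2) := ⟨Nat.prime_two⟩
  constructor
  · exact hR
  · intro r hr x hx
    obtain ⟨s, hs, hrs⟩ := exists_neg_one D.h4 D.h6 D.irr D.three hr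
    rw [← pow_two]
    exact Cfsg.Agent.OddHalf.SL.PreOf.pow_eq_one D.rgd (ha2 hs hr (by rw [hR.symm]; exact hrs)).symm hx
  · intro a ha b hb h0 x hx y hy
    by_cases hab : a = b
    · subst hab
      obtain ⟨s, hs, hrs⟩ := exists_neg_one D.h4 D.h6 D.irr D.three ha
      have h1 : IsRoot cs h (a + s) := hR.add a ha s hs hrs
      have h2 : Bf A (a + s) (-s) = -1 := by
        rw [hR.add_left, hR.neg_right, hR.neg_right, hrs, hR.two s hs]; norm_num
      have h3 := ha2 h1 (hR.neg_mem s hs) h2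
      refine A2.comm_self D.rgd h3 ?_ ?_
      · rw [add_neg_cancel_right]; exact hx
      · rw [add_neg_cancel_right]; exact hy
    · exact comm_nonneg D.h4 D.h6 D.rgd ha hb hab h0 x hx y hy
  · intro a ha b hb hab x hx y hy
    exact comm_neg_one D.h4 D.h6 D.rgd ha hb hab x hx y hy
  · intro a ha b hb hab x hx hx1 z hz
    exact A2.comm_surj D.rgd (ha2 ha hb hab) hx hx1 hz
  · intro a ha b hb hab x hx y hy hxy
    by_contra hcon
    push Not at hcon
    exact (ha2 ha hb hab).comm_ne_one D.rgd hx hcon.1 hy hcon.2 (commutatorElement_eq_one_iff_mul_comm.2 hxy)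
  · intro r hr
    exact exists_ne D.rgd hr
  · intro r hr
    obtain ⟨s, hs, hrs⟩ := exists_neg_one D.h4 D.h6 D.irr D.three hr
    exact ⟨-s, hs.neg, by rw [hR.neg_left, hR.symm, hrs]; norm_num⟩

/-- every root of `Ph1` has a neighbour orthogonal to `r` -/
theorem exists_orth {r b : I → ℤ} (hr : IsRoot cs h r) (hb : b ∈ Ph1 (Bf A) {x | IsRoot cs h x} r) :
    ∃ d, IsRoot cs h d ∧ Bf A d r = 0 ∧ Bf A b d = 1 := by
  have hR := roots cs h D.h4 D.h6
  obtain ⟨m, hm, h1, h2⟩ := three D.h4 D.h6 D.irr D.three b hb.1 r hr hb.2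
  refine ⟨b - m, hR.sub_mem hb.1 hm (by rw [hR.symm]; exact h1), ?_, ?_⟩
  · rw [hR.sub_left, hb.2, h2]; norm_num
  · rw [hR.sub_right, hR.two b hb.1, hR.symm b m, h1]; norm_num

theorem pg {r : I → ℤ} (hr : IsRoot cs h r) :
    PG (Bf A) {x | IsRoot cs h x} X r (PR (Bf A) {x | IsRoot cs h x} X r) where
  QP := (rg D).QS_le_PR hr subset_rfl
  PPR := le_rfl
  ex := by
    intro b hb
    obtain ⟨d, hd, h1, h2⟩ := exists_orth D hr hb
    exact ⟨d, hd, le_PR X hd (by rw [h1]), h1, h2⟩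

theorem TX' : ∀ g ∈ T, ∀ a ∈ {x | IsRoot cs h x}, ∀ x ∈ X a, g * x * g⁻¹ ∈ X a := by
  intro g hg a ha x hx
  rw [← D.rgd.tor a ha g hg]
  exact conj_mem_cj.2 hx

/-- `T` normalises `P`. -/
theorem TP' {r : I → ℤ} : ∀ g ∈ T, ∀ p ∈ PR (Bf A) {x | IsRoot cs h x} X r,
    g * p * g⁻¹ ∈ PR (Bf A) {x | IsRoot cs h x} X r := by
  intro g hg p hp
  have hle : PR (Bf A) {x | IsRoot cs h x} X r ≤
      (PR (Bf A) {x | IsRoot cs h x} X r).comap (MulAut.conj g).toMonoidHom :=
    PR_le fun b hb h0 x hx => le_PR X hb h0 (TX' D g hg b hb x hx)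
  exact hle hp

/-- two different nontrivial elements -/
theorem exists_two (hq : 2 < q) {r : I → ℤ} (hr : IsRoot cs h r) : ∃ x ∈ X r, ∃ y ∈ X r, x ≠ 1 ∧ y ≠ 1 ∧ x ≠ y := by
  have h1 : 2 < Nat.card ↥(X r) := by rw [D.card r hr]; exact hq
  by_contra hcon
  push Not at hcon
  obtain ⟨x, hx, hx1⟩ := exists_ne D.rgd hr
  have h3 : ∀ y : ↥(X r), y = 1 ∨ y = ⟨x, hx⟩ := by
    intro y
    by_contra hy
    push Not at hy
    exact hy.2 (Subtype.ext (hcon x hx y y.2 hx1 (fun e => hy.1 (Subtype.ext e))).symm)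
  have h4 : Nat.card ↥(X r) ≤ 2 := by
    have hs : Function.Surjective (fun b : Bool => if b then (1 : ↥(X r)) else ⟨x, hx⟩) := by
      intro y
      rcases h3 y with rfl | rfl
      · exact ⟨true, rfl⟩
      · exact ⟨false, rfl⟩
    have := Nat.card_le_card_of_surjective _ hs
    simpa only [_root_.ge_iff_le, _root_.Nat.card_eq_fintype_card, _root_.Fintype.card_bool] using this
  omega

/-- `T` is transitive on `X r#`. -/
theorem trans {r : I → ℤ} (hr : IsRoot cs h r) :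
    ∀ x ∈ X r, ∀ y ∈ X r, x ≠ 1 → y ≠ 1 → ∃ g ∈ T, g * x * g⁻¹ = y := by
  intro x hx y hy hx1 hy1
  have hR := roots cs h D.h4 D.h6
  obtain ⟨s, hs, hrs⟩ := exists_neg_one D.h4 D.h6 D.irr D.three hr
  have hA := a2 D.h4 D.h6 hs hr (by rw [hR.symm]; exact hrs)
  obtain ⟨g, hg, e⟩ := A2.tor_trans D.rgd hA hx hx1 hy hy1
  exact ⟨g, (Subgroup.mem_inf.1 hg).1, e⟩

/-- A torus element of `⟨X r, X (-r)⟩` moving `X r`. -/
theorem exists_h (hq : 2 < q) {r : I → ℤ} (hr : IsRoot cs h r) :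
    ∃ g ∈ T ⊓ (X r ⊔ X (-r)), ∃ x ∈ X r, g * x * g⁻¹ ≠ x := by
  have hR := roots cs h D.h4 D.h6
  obtain ⟨s, hs, hrs⟩ := exists_neg_one D.h4 D.h6 D.irr D.three hr
  obtain ⟨x, hx, y, hy, hx1, hy1, hxy⟩ := exists_two D hq hr
  obtain ⟨g, hg, e⟩ := exists_move_self D.rgd (a2 D.h4 D.h6 hr hs hrs) ((rg D).X2 r hr)
    ((rg D).X2 s hs) hx hy hx1 hy1 hxy
  exact ⟨g, hg, y, hy, e⟩

/-- `P` is perfect. -/
theorem perf (hq : 2 < q) {r : I → ℤ} (hr : IsRoot cs h r) : PR (Bf A) {x | IsRoot cs h x} X r ≤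
    ⁅PR (Bf A) {x | IsRoot cs h x} X r, PR (Bf A) {x | IsRoot cs h x} X r⁆ := by
  have hR := roots cs h D.h4 D.h6
  refine PR_le fun b hb h0 => ?_
  have h1 := hR.le b hb r hr
  rcases (show Bf A b r = 0 ∨ Bf A b r = 1 ∨ Bf A b r = 2 by omega) with h2 | h2 | h2
  · -- `b ⟂ r`: the torus
    obtain ⟨g, hg, x, hx, hne⟩ := exists_h D hq hb
    have hbP : X b ≤ PR (Bf A) {x | IsRoot cs h x} X r := le_PR X hb h0
    have hnP : X (-b) ≤ PR (Bf A) {x | IsRoot cs h x} X r := le_PR X hb.neg (by rw [hR.neg_left, h2]; norm_num)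
    have hgP : g ∈ PR (Bf A) {x | IsRoot cs h x} X r := (sup_le hbP hnP) (Subgroup.mem_inf.1 hg).2
    have hx0 := Subgroup.commutator_mem_commutator hgP (hbP hx)
    have hx0' : ⁅g, x⁆ ∈ X b := by
      rw [commutatorElement_def]
      exact mul_mem (TX' D g (Subgroup.mem_inf.1 hg).1 b hb x hx) (inv_mem hx)
    have hx01 : ⁅g, x⁆ ≠ 1 := by
      intro e
      apply hne
      rw [commutatorElement_def] at e
      exact mul_inv_eq_one.1 e
    intro y hy
    by_cases hy1 : y = 1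
    · rw [hy1]; exact one_mem _
    obtain ⟨k, hk, e⟩ := trans D hb _ hx0' y hy hx01 hy1
    rw [← e]
    have hle : ⁅PR (Bf A) {x | IsRoot cs h x} X r, PR (Bf A) {x | IsRoot cs h x} X r⁆ ≤
        ⁅PR (Bf A) {x | IsRoot cs h x} X r, PR (Bf A) {x | IsRoot cs h x} X r⁆.comap (MulAut.conj k).toMonoidHom := by
      rw [Subgroup.commutator_le]
      intro a ha c hc
      rw [Subgroup.mem_comap, map_commutatorElement]
      exact Subgroup.commutator_mem_commutator (TP' D k hk a ha) (TP' D k hk c hc)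
    exact hle hx0
  · have hb1 : b ∈ Ph1 (Bf A) {x | IsRoot cs h x} r := ⟨hb, h2⟩
    obtain ⟨d, hd, h3, h4⟩ := exists_orth D hr hb1
    intro y hy
    obtain ⟨p, hp, hp1⟩ := exists_ne D.rgd hd
    have h5 : Bf A d (b - d) = -1 := by rw [hR.sub_right, hR.symm d b, h4, hR.two d hd]; norm_num
    obtain ⟨v, hv, e⟩ := (rg D).sur d hd (b - d) (hR.sub_mem hb hd h4) h5 p hp hp1 y (by rw [add_sub_cancel]; exact hy)
    rw [← e, ← commutatorElement_def]
    refine Subgroup.commutator_mem_commutator (le_PR X hd (by rw [h3]) hp)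
      (le_PR X (hR.sub_mem hb hd h4) ?_ hv)
    rw [hR.sub_left, h2, h3]; norm_num
  · rw [hR.eq b hb r hr h2]
    exact ((rg D).XQQ hr).trans (Subgroup.commutator_mono ((rg D).QS_le_PR hr subset_rfl)
      ((rg D).QS_le_PR hr subset_rfl))

/-! ### `KR` -/

omit [Finite G] in
theorem sup_Ge {r : I → ℤ} (hr : IsRoot cs h r) :
    RGD.Sup X (Ge cs h r) = PR (Bf A) {x | IsRoot cs h x} X r := by
  apply le_antisymm
  · exact RGD.Sup_le fun a ha => le_PR X ha.1 (by rw [bf_eq_cpr D.h4 D.h6 _ hr]; exact ha.2)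
  · exact PR_le fun b hb h0 => RGD.le_Sup (S := Ge cs h r) ⟨hb, by rwa [← bf_eq_cpr D.h4 D.h6 _ hr]⟩

omit [Finite G] in
theorem sup_Rad_le {r : I → ℤ} (hr : IsRoot cs h r) :
    RGD.Sup X (Rad cs h r) ≤ QS X (Ph1 (Bf A) {x | IsRoot cs h x} r) r := by
  have hR := roots cs h D.h4 D.h6
  refine RGD.Sup_le fun a ha => ?_
  have h1 := hR.le a ha.1 r hr
  have h2 := ha.2
  rw [← bf_eq_cpr D.h4 D.h6 _ hr] at h2
  rcases (show Bf A a r = 1 ∨ Bf A a r = 2 by omega) with h3 | h3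
  · exact le_QS X r (show a ∈ Ph1 (Bf A) {x | IsRoot cs h x} r from ⟨ha.1, h3⟩)
  · rw [hR.eq a ha.1 r hr h3]; exact X_le_QS X _ r

/-- An involution of `C_K(X r)` lies in `P`. -/
theorem mem_PR_of_inv {r : I → ℤ} (hr : IsRoot cs h r) {c : G} (hc : c ∈ K) (hcX : ∀ x ∈ X r, c * x = x * c)
    (hc2 : c * c = 1) : c ∈ PR (Bf A) {x | IsRoot cs h x} X r := by
  obtain ⟨z, hz, hz1⟩ := exists_ne D.rgd hr
  have h1 := (lr D r hr).le_PS_of_comm (by rw [D.GG_eq]; exact hc) hz hz1 (hcX z hz)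
  have hT : T ≤ Subgroup.normalizer (RGD.Sup X (Ge cs h r) : Set G) := D.rgd.T_le_normalizer fun x hx => hx.1
  unfold PS at h1
  rw [← SetLike.mem_coe, Subgroup.coe_mul_of_left_le_normalizer_right _ _ hT] at h1
  obtain ⟨τ, hτ, p, hp, rfl⟩ := h1
  rw [← sup_Ge D hr]
  have hτp : τ * p * τ⁻¹ ∈ RGD.Sup X (Ge cs h r) := (Subgroup.mem_normalizer_iff.1 (hT hτ) p).1 hp
  have h2 : τ ^ 2 ∈ RGD.Sup X (Ge cs h r) := by
    have e : τ ^ 2 = (τ * p * τ⁻¹)⁻¹ * p⁻¹ := by
      have h3 : (τ * p * τ⁻¹) * τ ^ 2 * p = 1 := by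
        rw [pow_two]
        calc (τ * p * τ⁻¹) * (τ * τ) * p = τ * p * (τ * p) := by group
          _ = 1 := hc2
      calc τ ^ 2 = (τ * p * τ⁻¹)⁻¹ * ((τ * p * τ⁻¹) * τ ^ 2 * p) * p⁻¹ := by group
        _ = _ := by rw [h3, mul_one]
    rw [e]
    exact mul_mem (inv_mem hτp) (inv_mem hp)
  have h3 : τ ∈ RGD.Sup X (Ge cs h r) := by
    have hodd : Odd (Nat.card T) := by
      rw [← Nat.coprime_two_right]; exact D.rgd.tcop
    obtain ⟨j, hj⟩ := hodd
    have h4 : τ ^ (2 * j + 1) = 1 := by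
      rw [← hj]
      have := pow_card_eq_one' (G := T) (x := ⟨τ, hτ⟩)
      exact congrArg Subtype.val this
    have h5 : τ = (τ ^ 2) ^ (j + 1) := by
      rw [← pow_mul, show 2 * (j + 1) = 2 * j + 1 + 1 by ring, pow_succ, h4, one_mul]
    rw [h5]
    exact pow_mem h2 _
  exact mul_mem h3 hp

/-- `PT`, rank at least `4`. -/
theorem pt (h4c : 4 ≤ Fintype.card I) {r : I → ℤ} (hr : IsRoot cs h r) :
    PT (Bf A) {x | IsRoot cs h x} X r (PR (Bf A) {x | IsRoot cs h x} X r) where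
  sep := by
    intro b hb b' hb' hne
    have hs := PreOf.sl (cs := cs) (h := h) D.h4 D.h6
    obtain ⟨d, hd, h1, h2, h3⟩ := RgdEx.sep hs (Two60.two60 D.h4 D.h6 D.irr h4c) hr hb.1 hb'.1
      (by rw [← bf_eq_cpr D.h4 D.h6 _ hr]; exact hb.2) (by rw [← bf_eq_cpr D.h4 D.h6 _ hr]; exact hb'.2) hne.symm
    rw [← bf_eq_cpr D.h4 D.h6 _ hr] at h1
    rw [← bf_eq_cpr D.h4 D.h6 _ hd] at h2 h3
    exact ⟨d, hd, le_PR X hd (by rw [h1]), h1, h2, by omega⟩
  tor := by
    intro b hb x hx y hy hx1 hy1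
    have hR := roots cs h D.h4 D.h6
    obtain ⟨d, hd, h1, h2⟩ := exists_orth D hr hb
    have hA : A2 cs h (-d) b := a2 D.h4 D.h6 hd.neg hb.1 (by rw [hR.neg_left, hR.symm, h2])
    obtain ⟨g, hg, e⟩ := A2.tor_trans D.rgd hA hx hx1 hy hy1
    refine ⟨g, (sup_le ?_ ?_ : X (-d) ⊔ X (- -d) ≤ _) (Subgroup.mem_inf.1 hg).2, e⟩
    · exact le_PR X hd.neg (by rw [hR.neg_left, h1]; norm_num)
    · rw [neg_neg]; exact le_PR X hd (by rw [h1])

variable (C : Clean t K)

include C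

theorem kr (Tab : ∀ g ∈ T, ∀ k ∈ T, g * k = k * g) (hq : 2 < q) {r : I → ℤ} (hr : IsRoot cs h r) :
    KR t (Bf A) {x | IsRoot cs h x} X r (PR (Bf A) {x | IsRoot cs h x} X r) T := by
  have hR := roots cs h D.h4 D.h6
  have tX : ∀ a ∈ {x | IsRoot cs h x}, ∀ x ∈ X a, t * x = x * t := fun a ha x hx => C.Kt x (D.XK ha hx)
  have hPK : PR (Bf A) {x | IsRoot cs h x} X r ≤ K := PR_le fun b hb _ => D.XK hb
  have hPC : PR (Bf A) {x | IsRoot cs h x} X r ≤ CC t (X r) := fun p hp => by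
    rw [mem_CC]
    exact ⟨(C.Kt p (hPK hp)).symm, fun x hx => ((rg D).XP hr hx hp).symm⟩
  refine ⟨rg D, hr, pg D hr, C.tt, tX, fun ht => C.tK (D.XK hr ht), fun g hg => C.Kt g (D.TK hg),
    fun g hg => TX' D g hg r hr, TP' D, Tab, ?_, perf D hq hr, ?_, ?_⟩
  · intro c hct hc
    exact K1' D C r hr c hct.symm fun a ha h1 x hx => hc x (le_PR X ha (by omega) hx)
  · refine nP_of_inv C.tt hPC hPC (perf D hq hr) ?_ ?_ ⟨0, le_rfl⟩
    · exact PR_le fun b hb h0 x hx => Subgroup.subset_closure ⟨le_PR X hb h0 hx, (rg D).X2 b hb x hx⟩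
    · intro c hc hc2
      rw [mem_CC] at hc
      rcases C.mem_of_pow hc.1 (k := 1) (by rw [pow_one, pow_two]; exact hc2) with h1 | h1
      · exact Or.inl (mem_PR_of_inv D hr h1 hc.2 hc2)
      · right
        refine mem_PR_of_inv D hr h1 (fun x hx => ?_) ?_
        · rw [mul_assoc, hc.2 x hx, ← mul_assoc, tX r hr x hx, mul_assoc]
        · calc t * c * (t * c) = t * (c * t) * c := by group
            _ = (t * t) * (c * c) := by rw [hc.1]; group
            _ = 1 := by rw [C.tt, hc2, one_mul]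
  · intro R' hR' h2 hn
    have : Fact (Nat.Prime 2) := ⟨Nat.prime_two⟩
    refine (core_le D.rgd hr (D := R') ?_ h2 ?_).trans (sup_Rad_le D hr)
    · rw [D.GG_eq]; exact hR'.trans hPK
    · intro u hu
      rw [sup_Ge D hr] at hu
      apply le_antisymm
      · rintro _ ⟨x, hx, rfl⟩
        exact hn u hu x hx
      · intro x hx
        have := hn u⁻¹ (inv_mem hu) x hx
        rw [mem_cj]
        rwa [inv_inv] at this

/-- **The doubled root group at one root, `q > 2`.** -/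
theorem exists_out (Tab : ∀ g ∈ T, ∀ k ∈ T, g * k = k * g) (hq : 2 < q) {r : I → ℤ} (hr : IsRoot cs h r)
    (hT : 4 ≤ Fintype.card I ∨ ∃ β g k, Tor (Bf A) {x | IsRoot cs h x} X r T β g k)
    {n : G} (hX : ∀ x ∈ X r, n * x * n⁻¹ ∈ X r) (ht : t * (n * t * n⁻¹) ∈ X r) (hnt : n * t * n⁻¹ ≠ t) :
    ∃ V, KR.Out t (X r) (PR (Bf A) {x | IsRoot cs h x} X r) T V := by
  have hR := roots cs h D.h4 D.h6
  have hK := kr D C Tab hq hr
  obtain ⟨g, hg, hne⟩ := exists_h D hq hr
  have hgT := (Subgroup.mem_inf.1 hg).1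
  have hs := PreOf.sl (cs := cs) (h := h) D.h4 D.h6
  have h0 : ∀ b ∈ {x | IsRoot cs h x}, Bf A b r = 0 → ∀ x ∈ X b, g * x = x * g := by
    intro b hb hbr x hx
    exact orth_comm D.rgd hs hr hb (by rw [← bf_eq_cpr D.h4 D.h6 _ hr]; exact hbr) (Subgroup.mem_inf.1 hg).2 hx
  have hodd : Odd (Nat.card T) := by
    rw [← Nat.coprime_two_right]; exact D.rgd.tcop
  have hg1 : g ^ Nat.card T = 1 := congrArg Subtype.val (pow_card_eq_one' (G := T) (x := ⟨g, hgT⟩))
  have Ce : Cent t (X r) (PR (Bf A) {x | IsRoot cs h x} X r) := by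
    rcases hT with hT | ⟨β, g', k, hT⟩
    · exact cent_of_sep hK (pt D hT hr) (TX' D) (trans D hr) hgT h0 hne hX ht hnt
    · exact cent_of_tor hK (orth D.h4 D.h6 D.irr) (TX' D) (trans D hr) hT hX ht hnt
  exact hK.out_big Ce (trans D hr) hgT hodd hg1 hne

end Data

end Cfsg.Agent.OddHalf.D7Ex.KData
end

-- part: OddHalf/D7Ex/KTwo
section
/-!
# ODD D7, simply laced `K`, `q = 2`: the facts on `K` in all of `C(t)` (helper57)

* `Fl t K` : `K ⊴ C(t)`, `C(t) ∩ C(K) = ⟨t⟩`, `t ∉ K` (outer automorphisms of `K` in `C(t)` are allowed);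
* `T_eq_bot`, `eq_of_ne` : `T = 1`, `|X r| = 2`; `perfTwo` : `P = ⟨X b : (b, r) ≥ 0⟩` is perfect if every root
  orthogonal to `r` has a neighbour orthogonal to `r`; `k1` : (K1) in all of `C(t)`; `krTwo` : `KR`.
-/

set_option autoImplicit false
set_option linter.unusedSectionVars false

namespace Cfsg.Agent.OddHalf.D7Ex.KTwo

open Cfsg.Agent.OddHalf.SL Cfsg.Agent.KFacts CoxeterSystem Cfsg.Agent.ChevalleyStructure.CoxeterGeom
  Cfsg.Agent.Tits.Roots Cfsg.Agent.Tits.Core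
  Cfsg.Agent.Tits.RootComb Cfsg.Agent.Nodes.Comb Cfsg.Agent.Nodes.Reps Cfsg.Agent.Nodes.BNOf
  Cfsg.Agent.Nodes.Bruhat Cfsg.Agent.Nodes.Coroot Cfsg.Agent.OddHalf.SL.Index Cfsg.Agent.OddHalf.SL.OfRGD
  Cfsg.Agent.OddHalf.SL.PreOf Cfsg.Agent.KFacts.RgdPar Cfsg.Agent.KFacts.RgdSL Cfsg.Agent.KFacts.RgdTI
  Cfsg.Agent.KFacts.RgdCent Cfsg.Agent.KFacts.RgdOdd Cfsg.Agent.KFacts.RgdEx Cfsg.Agent.KFacts.SLRow.Def
  Cfsg.Agent.OddHalf.SL.OfDatum Cfsg.Agent.OddHalf.D7Ex.KData Cfsg.Agent.Nodes.RGDLib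
open scoped commutatorElement

/-- `K ⊴ C(t)`, `C(t) ∩ C(K) = ⟨t⟩`, `t ∉ K`. -/
structure Fl {G : Type*} [Group G] (t : G) (K : Subgroup G) : Prop where
  tt : t * t = 1
  tK : t ∉ K
  Kt : ∀ k ∈ K, t * k = k * t
  nrm : ∀ g, g * t = t * g → ∀ u ∈ K, g * u * g⁻¹ ∈ K
  cK : ∀ g, g * t = t * g → (∀ u ∈ K, g * u = u * g) → g = 1 ∨ g = t

variable {I W G : Type*} [Fintype I] [DecidableEq I] [Group W] [Group G] {M : CoxeterMatrix I}
  {cs : CoxeterSystem M W} {A : I → I → ℤ} {h : IsCartan M A} {T : Subgroup G} {n : I → G}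
  {X : (I → ℤ) → Subgroup G} {K : Subgroup G} {t : G}

variable [Finite W] [Finite G] (D : Datum K 2 cs h T n X)

include D

/-- `|X r| = 2` -/
theorem eq_of_ne {r : I → ℤ} (hr : IsRoot cs h r) {x y : G} (hx : x ∈ X r) (hy : y ∈ X r) (hx1 : x ≠ 1)
    (hy1 : y ≠ 1) : x = y := by
  have h1 := D.card r hr
  rw [Nat.card_eq_two_iff' (1 : ↥(X r))] at h1
  obtain ⟨z, -, hz⟩ := h1
  have e1 := hz ⟨x, hx⟩ (fun e => hx1 (congrArg Subtype.val e))
  have e2 := hz ⟨y, hy⟩ (fun e => hy1 (congrArg Subtype.val e))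
  exact congrArg Subtype.val (e1.trans e2.symm)

/-- `T = 1` -/
theorem T_eq_bot : T = ⊥ := by
  rw [Subgroup.eq_bot_iff_forall]
  intro g hg
  refine D.cent g hg fun b hb v hv => ?_
  by_cases hv1 : v = 1
  · rw [hv1, mul_one, one_mul]
  have h1 : g * v * g⁻¹ = v := eq_of_ne D hb (TX' D g hg b hb v hv) hv
    (fun e => hv1 (by rw [mul_inv_eq_one] at e; exact mul_eq_left.1 e)) hv1
  exact mul_inv_eq_iff_eq_mul.1 h1

/-- the root elements -/
theorem exists_z {r : I → ℤ} (hr : IsRoot cs h r) : ∃ z ∈ X r, z ≠ 1 ∧ ∀ x ∈ X r, x = 1 ∨ x = z := by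
  obtain ⟨z, hz, hz1⟩ := exists_ne D.rgd hr
  refine ⟨z, hz, hz1, fun x hx => ?_⟩
  by_cases hx1 : x = 1
  · exact Or.inl hx1
  · exact Or.inr (eq_of_ne D hr hx hz hx1 hz1)

/-- `K = ⟨X r⟩` -/
theorem LL_eq : RGD.Sup X {x | IsRoot cs h x} = K := D.gen

/-- `P` is perfect. -/
theorem perfTwo {r : I → ℤ} (hr : IsRoot cs h r)
    (hirr : ∀ b, IsRoot cs h b → Bf A b r = 0 → ∃ d, IsRoot cs h d ∧ Bf A d r = 0 ∧ Bf A b d = 1) :
    PR (Bf A) {x | IsRoot cs h x} X r ≤
    ⁅PR (Bf A) {x | IsRoot cs h x} X r, PR (Bf A) {x | IsRoot cs h x} X r⁆ := by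
  have hR := roots cs h D.h4 D.h6
  have key : ∀ b, IsRoot cs h b → 0 ≤ Bf A b r → (∃ d, IsRoot cs h d ∧ Bf A d r = 0 ∧ Bf A b d = 1) →
      X b ≤ ⁅PR (Bf A) {x | IsRoot cs h x} X r, PR (Bf A) {x | IsRoot cs h x} X r⁆ := by
    rintro b hb h0 ⟨d, hd, h3, h4⟩ y hy
    obtain ⟨p, hp, hp1⟩ := exists_ne D.rgd hd
    have h5 : Bf A d (b - d) = -1 := by rw [hR.sub_right, hR.symm d b, h4, hR.two d hd]; norm_num
    obtain ⟨v, hv, e⟩ := (rg D).sur d hd (b - d) (hR.sub_mem hb hd h4) h5 p hp hp1 y (by rw [add_sub_cancel]; exact hy)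
    rw [← e, ← commutatorElement_def]
    refine Subgroup.commutator_mem_commutator (le_PR X hd (by rw [h3]) hp)
      (le_PR X (hR.sub_mem hb hd h4) ?_ hv)
    rw [hR.sub_left, h3, sub_zero]; exact h0
  refine PR_le fun b hb h0 => ?_
  have h1 := hR.le b hb r hr
  rcases (show Bf A b r = 0 ∨ Bf A b r = 1 ∨ Bf A b r = 2 by omega) with h2 | h2 | h2
  · exact key b hb h0 (hirr b hb h2)
  · exact key b hb h0 (exists_orth D hr (show b ∈ Ph1 (Bf A) {x | IsRoot cs h x} r from ⟨hb, h2⟩))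
  · rw [hR.eq b hb r hr h2]
    exact ((rg D).XQQ hr).trans (Subgroup.commutator_mono ((rg D).QS_le_PR hr subset_rfl)
      ((rg D).QS_le_PR hr subset_rfl))

/-- `C_K(X r) = P` -/
theorem mem_PR {r : I → ℤ} (hr : IsRoot cs h r) {c z : G} (hz : z ∈ X r) (hz1 : z ≠ 1) (hc : c ∈ K)
    (hcX : c * z = z * c) : c ∈ PR (Bf A) {x | IsRoot cs h x} X r := by
  have h1 := (lr D r hr).le_PS_of_comm (by rw [D.GG_eq]; exact hc) hz hz1 hcX
  unfold PS at h1
  rwa [T_eq_bot D, bot_sup_eq, sup_Ge D hr] at h1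

variable (C : Fl t K)

include C

/-- **(K1) in all of `C(t)`** -/
theorem k1 {r : I → ℤ} (hr : IsRoot cs h r) {c : G} (hct : c * t = t * c)
    (hc : ∀ a, IsRoot cs h a → 1 ≤ Bf A a r → ∀ x ∈ X a, c * x = x * c) : c ∈ X r ∨ t * c ∈ X r := by
  have hR := roots cs h D.h4 D.h6
  -- the datum in `K`
  have hXK : ∀ x, IsRoot cs h x → X x ≤ K := fun x hx => D.XK hx
  have hnK : ∀ i, n i ∈ K := fun i => by
    rw [← D.GG_eq]
    exact NN_le_GG D.rgd ⟨_, rp_simple cs D.rgd.nsys i⟩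
  have R' := rgd_restrict D.rgd K hXK hnK
  have hG1 : RGD.Sup (fun x => (X x).subgroupOf K) {x | IsRoot cs h x} = ⊤ := by
    have h1 : RGD.Sup (fun x => (X x).subgroupOf K) {x | IsRoot cs h x} =
        (RGD.Sup X {x | IsRoot cs h x}).subgroupOf K :=
      (iSup_subgroupOf (K := K) (fun z : {x | IsRoot cs h x} => X z.1) (fun z => hXK z.1 z.2)).symm
    rw [h1, D.gen]
    exact Subgroup.subgroupOf_self _
  -- the automorphism
  have hcN : c ∈ Subgroup.normalizer (K : Set G) := by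
    rw [Subgroup.mem_normalizer_iff]
    intro k
    refine ⟨fun hk => C.nrm c hct k hk, fun hk => ?_⟩
    have hct' : c⁻¹ * t = t * c⁻¹ := by
      rw [inv_mul_eq_iff_eq_mul, ← mul_assoc, hct, mul_inv_cancel_right]
    have := C.nrm c⁻¹ hct' _ hk
    have e : c⁻¹ * (c * k * c⁻¹) * c⁻¹⁻¹ = k := by group
    rwa [e] at this
  obtain ⟨α, hα⟩ : ∃ α : MulAut ↥K, ∀ k : ↥K, ((α k : ↥K) : G) = c * k * c⁻¹ :=
    ⟨K.normalizerMonoidHom ⟨c, hcN⟩, fun k => rfl⟩
  let f : (I → ℤ) →+ ℤ :=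
    { toFun := fun a => Bf A a r
      map_zero' := hR.zero_left r
      map_add' := fun a b => hR.add_left a b r }
  have hf : ∀ a, f a = Bf A a r := fun a => rfl
  obtain ⟨z, hz, hz'⟩ := RgdAutN.autN R' hG1 (fun i a ha b hb => by
      have ha' : (a : G) ∈ X (sr i) := ha
      have hb' : (b : G) ∈ X (sr i) := hb
      exact Subtype.ext ((rg D).pos _ (isRoot_sr cs h i) _ (isRoot_sr cs h i)
        (by rw [hR.two _ (isRoot_sr cs h i)]; norm_num) _ ha' _ hb')) f (S := {r}) (by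
      rintro _ rfl
      obtain ⟨b, hb, hb1⟩ := (rg D).one _ hr
      refine ⟨hr, b, _ - b, hb, hR.sub_mem hr hb (by rw [hR.symm]; exact hb1), ?_, ?_, by rw [add_sub_cancel]⟩
      · rw [hf, hb1]; norm_num
      · rw [hf, hR.sub_left, hR.two _ hr, hb1]; norm_num) (by
      intro g hg
      have hN : NoCent cs h T X := D.cent
      have h1 := f3_rad (PreOf.sl (cs := cs) (h := h) D.h4 D.h6) hr (orth' D hr) D.rgd (lr D) hN
        (g := (g : G)) (by rw [D.GG_eq]; exact g.2) (fun a ha v hv => by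
          have ha2 := ha.2
          rw [← bf_eq_cpr D.h4 D.h6 _ hr] at ha2
          have := hg a ha.1 (by rw [hf]; omega) ⟨v, D.XK ha.1 hv⟩ hv
          exact congrArg Subtype.val this)
      exact RGD.le_Sup (X := fun x => (X x).subgroupOf K) (S := {r}) (z := r) (Set.mem_singleton r) h1) (α := α) (by
      intro x hx hx0 v hv
      apply Subtype.ext
      rw [hα]
      have hv' : (v : G) ∈ X x := hv
      rw [hf] at hx0
      rw [hc x hx (by omega) _ hv', mul_inv_cancel_right])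
  have hzr : (z : G) ∈ X r := by
    have : RGD.Sup (fun x => (X x).subgroupOf K) {r} ≤ (X r).subgroupOf K := RGD.Sup_le fun x hx => by
      rw [Set.mem_singleton_iff] at hx
      rw [hx]
    exact this hz
  -- `z⁻¹ c` centralises `K`
  have hzt : (z : G) * t = t * z := (C.Kt z z.2).symm
  have h1 := C.cK ((z : G)⁻¹ * c) (by
    have : (z : G)⁻¹ * t = t * (z : G)⁻¹ := by
      rw [inv_mul_eq_iff_eq_mul, ← mul_assoc, hzt, mul_inv_cancel_right]
    rw [mul_assoc, hct, ← mul_assoc, this, mul_assoc]) (fun u hu => by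
    have e1 : c * u * c⁻¹ = z * u * (z : G)⁻¹ := by
      have e2 := hα ⟨u, hu⟩
      rw [hz'] at e2
      exact e2.symm
    calc (z : G)⁻¹ * c * u = (z : G)⁻¹ * (c * u * c⁻¹) * c := by group
      _ = u * ((z : G)⁻¹ * c) := by rw [e1]; group)
  rcases h1 with h1 | h1
  · left
    have : c = z := by
      calc c = z * ((z : G)⁻¹ * c) := by group
        _ = z := by rw [h1, mul_one]
    rw [this]; exact hzr
  · right
    have : c = z * t := by
      calc c = z * ((z : G)⁻¹ * c) := by group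
        _ = z * t := by rw [h1]
    rw [this, hzt, ← mul_assoc, C.tt, one_mul]
    exact hzr

omit C in
/-- a perfect subgroup of `C(t)` is mapped into `C_K(X r)` by the elements normalising `X r` and `t X r` -/
theorem conj_le_PR (tt : t * t = 1)
    (hs : ∀ P' : Subgroup G, (∀ x ∈ P', x * t = t * x) → P' ≤ ⁅P', P'⁆ → P' ≤ K) {r : I → ℤ} (hr : IsRoot cs h r)
    {P : Subgroup G} (hP : P ≤ CC t (X r)) (perf : P ≤ ⁅P, P⁆) {g : G} (hX : ∀ x ∈ X r, g * x * g⁻¹ ∈ X r)
    (ht : t * (g * t * g⁻¹) ∈ X r) :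
    P.map (MulAut.conj g).toMonoidHom ≤ PR (Bf A) {x | IsRoot cs h x} X r := by
  have h1 : P.map (MulAut.conj g).toMonoidHom ≤ CC t (X r) := by
    rintro _ ⟨p, hp, rfl⟩
    exact conj_CC tt hX ht (hP hp)
  have h2 : P.map (MulAut.conj g).toMonoidHom ≤
      ⁅P.map (MulAut.conj g).toMonoidHom, P.map (MulAut.conj g).toMonoidHom⁆ := by
    rw [← Subgroup.map_commutator]
    exact Subgroup.map_mono perf
  have h3 := hs _ (fun x hx => (mem_CC.1 (h1 hx)).1) h2
  obtain ⟨z, hz, hz1, -⟩ := exists_z D hr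
  intro x hx
  exact mem_PR D hr hz hz1 (h3 hx) ((mem_CC.1 (h1 hx)).2 z hz)

/-- **`KR` for `q = 2`, in all of `C(t)`** -/
theorem krTwo (hs : ∀ P' : Subgroup G, (∀ x ∈ P', x * t = t * x) → P' ≤ ⁅P', P'⁆ → P' ≤ K)
    {r : I → ℤ} (hr : IsRoot cs h r)
    (hirr : ∀ b, IsRoot cs h b → Bf A b r = 0 → ∃ d, IsRoot cs h d ∧ Bf A d r = 0 ∧ Bf A b d = 1) :
    KR t (Bf A) {x | IsRoot cs h x} X r (PR (Bf A) {x | IsRoot cs h x} X r) T := by
  have tX : ∀ a ∈ {x | IsRoot cs h x}, ∀ x ∈ X a, t * x = x * t := fun a ha x hx => C.Kt x (D.XK ha hx)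
  have hPK : PR (Bf A) {x | IsRoot cs h x} X r ≤ K := PR_le fun b hb _ => D.XK hb
  have hPC : PR (Bf A) {x | IsRoot cs h x} X r ≤ CC t (X r) := fun p hp => by
    rw [mem_CC]
    exact ⟨(C.Kt p (hPK hp)).symm, fun x hx => ((rg D).XP hr hx hp).symm⟩
  have hT := T_eq_bot D
  refine ⟨rg D, hr, pg D hr, C.tt, tX, fun ht => C.tK (D.XK hr ht), fun g hg => C.Kt g (D.TK hg),
    fun g hg => TX' D g hg r hr, TP' D, ?_, ?_, perfTwo D hr hirr, ?_, ?_⟩
  · intro g hg k hk
    rw [hT, Subgroup.mem_bot] at hg hk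
    rw [hg, hk]
  · intro c hct hc
    exact k1 D C hr hct.symm fun a ha h1 x hx => hc x (le_PR X ha (by omega) hx)
  · intro g hX ht p hp
    exact conj_le_PR D C.tt hs hr hPC (perfTwo D hr hirr) hX ht ⟨p, hp, rfl⟩
  · intro R' hR' h2 hn
    have : Fact (Nat.Prime 2) := ⟨Nat.prime_two⟩
    refine (core_le D.rgd hr (D := R') ?_ h2 ?_).trans (sup_Rad_le D hr)
    · rw [D.GG_eq]; exact hR'.trans hPK
    · intro u hu
      rw [sup_Ge D hr] at hu
      apply le_antisymm
      · rintro _ ⟨x, hx, rfl⟩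
        exact hn u hu x hx
      · intro x hx
        have := hn u⁻¹ (inv_mem hu) x hx
        rw [mem_cj]
        rwa [inv_inv] at this

end Cfsg.Agent.OddHalf.D7Ex.KTwo
end

-- part: OddHalf/SL/Base0
section
/-!
# Doubled root groups not yet known to be abelian

* `YData0`, `Base0` : `PreOf.YData`, `PreOf.Base` with `ab` replaced by `w * w ∈ X r`;
* `Base0.yData0` : transport to all roots;
* `YData0.preW` : the hypotheses of `D7Ex.PreW.ab`; `YData0.yData` : `ab` for `|X r| > 2`.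
-/

set_option autoImplicit false
set_option linter.unusedSectionVars false
set_option linter.dupNamespace false

namespace Cfsg.Agent.OddHalf.SL.Base0

open CoxeterSystem Cfsg.Agent.ChevalleyStructure.CoxeterGeom Cfsg.Agent.Tits.Roots Cfsg.Agent.Tits.Core
  Cfsg.Agent.Tits.RootComb Cfsg.Agent.Nodes.Comb Cfsg.Agent.Nodes.Reps Cfsg.Agent.Nodes.BNOf
  Cfsg.Agent.Nodes.SubComb Cfsg.Agent.Nodes.Coroot Cfsg.Agent.Nodes.SimplyLaced Cfsg.Agent.Nodes.Unique
  Cfsg.Agent.OddHalf.SL.Index Cfsg.Agent.OddHalf.SL.OfRGD Cfsg.Agent.KFacts.RgdSL Cfsg.Agent.OddHalf.SL.PreOf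
open scoped commutatorElement

variable {I W G : Type*} [Fintype I] [DecidableEq I] [Group W] [Group G] {M : CoxeterMatrix I}
  {cs : CoxeterSystem M W} {A : I → I → ℤ} {h : IsCartan M A} {p : ℕ} {T : Subgroup G} {n : I → G}
  {X : (I → ℤ) → Subgroup G}

/-- The doubled root groups of a root group datum. -/
structure YData0 (R : RGD cs h p T n X) (t : G) (V : (I → ℤ) → Subgroup G) : Prop where
  XW : ∀ r, IsRoot cs h r → X r ≤ V r
  sq : ∀ r, IsRoot cs h r → ∀ w ∈ V r, w * w ∈ X r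
  brk : ∀ r, IsRoot cs h r → ∀ w ∈ V r, w⁻¹ * (t * w * t) ∈ X r
  cent : ∀ r, IsRoot cs h r → ∀ w ∈ V r, t * w = w * t → w ∈ X r
  surj : ∀ r, IsRoot cs h r → ∀ x ∈ X r, ∃ w ∈ V r, w⁻¹ * (t * w * t) = x
  WX : ∀ r, IsRoot cs h r → ∀ a, IsRoot cs h a → 0 ≤ Bf A a r → ∀ w ∈ V r, ∀ x ∈ X a, w * x = x * w
  eqv : ∀ w k, Rp cs R.nsys w k → ∀ r, IsRoot cs h r → ∀ v ∈ V r, k * v * k⁻¹ ∈ V (rep cs h w r)

/-- The doubled root group at one root. -/
structure Base0 (R : RGD cs h p T n X) (t : G) (r₀ : I → ℤ) (V₀ : Subgroup G) : Prop where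
  root : IsRoot cs h r₀
  XW : X r₀ ≤ V₀
  sq : ∀ w ∈ V₀, w * w ∈ X r₀
  brk : ∀ w ∈ V₀, w⁻¹ * (t * w * t) ∈ X r₀
  cent : ∀ w ∈ V₀, t * w = w * t → w ∈ X r₀
  surj : ∀ x ∈ X r₀, ∃ w ∈ V₀, w⁻¹ * (t * w * t) = x
  WX : ∀ a, IsRoot cs h a → 0 ≤ Bf A a r₀ → ∀ w ∈ V₀, ∀ x ∈ X a, w * x = x * w
  nrm : ∀ w k, Rp cs R.nsys w k → rep cs h w r₀ = r₀ → ∀ v ∈ V₀, k * v * k⁻¹ ∈ V₀
  tN : ∀ w k, Rp cs R.nsys w k → t * k = k * t

theorem YData0.of {R : RGD cs h p T n X} {t : G} {V : (I → ℤ) → Subgroup G}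
    (D : YData R t V) (sq : ∀ r, IsRoot cs h r → ∀ w ∈ V r, w * w ∈ X r) : YData0 R t V :=
  ⟨D.XW, sq, D.brk, D.cent, D.surj, D.WX, D.eqv⟩

theorem YData0.toYData {R : RGD cs h p T n X} {t : G} {V : (I → ℤ) → Subgroup G}
    (D : YData0 R t V) (ab : ∀ r, IsRoot cs h r → ∀ v ∈ V r, ∀ w ∈ V r, v * w = w * v) : YData R t V :=
  ⟨D.XW, ab, D.brk, D.cent, D.surj, D.WX, D.eqv⟩

/-- The transported groups. -/
def Wf (R : RGD cs h p T n X) (r₀ : I → ℤ) (V₀ : Subgroup G) (r : I → ℤ) : Subgroup G :=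
  PreOf.Wf R r₀ V₀ r

namespace Base0

variable {R : RGD cs h p T n X} {t : G} {r₀ : I → ℤ} {V₀ : Subgroup G} (D : Base0 R t r₀ V₀)

include D

theorem wf_eq {w : W} {k : G} (hk : Rp cs R.nsys w k) : Wf R r₀ V₀ (rep cs h w r₀) = cj k V₀ := by
  apply le_antisymm
  · refine iSup_le ?_
    rintro ⟨⟨w', k'⟩, hk', hr⟩
    intro v hv
    rw [mem_cj] at hv ⊢
    have h1 : rep cs h (w⁻¹ * w') r₀ = r₀ := by
      rw [rep_mul_apply]
      show rep cs h w⁻¹ (rep cs h w' r₀) = r₀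
      rw [hr, rep_inv_apply]
    have h2 := D.nrm _ _ (hk.inv.mul hk') h1 _ hv
    have e : k⁻¹ * k' * (k'⁻¹ * v * k') * (k⁻¹ * k')⁻¹ = k⁻¹ * v * k := by group
    rwa [e] at h2
  · exact le_iSup (fun q : {q : W × G // Rp cs R.nsys q.1 q.2 ∧ rep cs h q.1 r₀ = rep cs h w r₀} =>
      cj q.1.2 V₀) ⟨(w, k), hk, rfl⟩

theorem yData0 (htr : ∀ r, IsRoot cs h r → ∃ w, rep cs h w r₀ = r)
    (hB : ∀ (w : W) x y, Bf A (rep cs h w x) (rep cs h w y) = Bf A x y) : YData0 R t (Wf R r₀ V₀) := by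
  -- every root group is the conjugate of the base
  have key : ∀ r, IsRoot cs h r → ∃ w k, Rp cs R.nsys w k ∧ rep cs h w r₀ = r ∧ Wf R r₀ V₀ r = cj k V₀ ∧
      X r = cj k (X r₀) := by
    intro r hr
    obtain ⟨w, rfl⟩ := htr r hr
    obtain ⟨k, hk⟩ := exists_rp cs R.nsys w
    exact ⟨w, k, hk, rfl, D.wf_eq hk, (R.conj_rp hk D.root).symm⟩
  constructor
  · intro r hr
    obtain ⟨w, k, hk, -, e1, e2⟩ := key r hr
    rw [e1, e2]
    exact cj_mono k D.XW
  · intro r hr v hv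
    obtain ⟨w, k, hk, -, e1, e2⟩ := key r hr
    rw [e1, mem_cj] at hv
    rw [e2, mem_cj]
    have h1 := D.sq _ hv
    have e3 : k⁻¹ * (v * v) * k = (k⁻¹ * v * k) * (k⁻¹ * v * k) := by group
    rwa [e3]
  · intro r hr v hv
    obtain ⟨w, k, hk, -, e1, e2⟩ := key r hr
    rw [e1, mem_cj] at hv
    rw [e2, mem_cj]
    have h1 := D.brk _ hv
    have h2 := D.tN w k hk
    have h3 : t * k⁻¹ = k⁻¹ * t := by
      have := D.tN w⁻¹ k⁻¹ hk.inv
      exact this
    have e3 : (k⁻¹ * v * k)⁻¹ * (t * (k⁻¹ * v * k) * t) = k⁻¹ * (v⁻¹ * (t * v * t)) * k := by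
      calc (k⁻¹ * v * k)⁻¹ * (t * (k⁻¹ * v * k) * t) = k⁻¹ * v⁻¹ * k * ((t * k⁻¹) * v * (k * t)) := by group
        _ = k⁻¹ * v⁻¹ * k * ((k⁻¹ * t) * v * (t * k)) := by rw [h3, h2]
        _ = k⁻¹ * (v⁻¹ * (t * v * t)) * k := by group
    rwa [e3] at h1
  · intro r hr v hv htv
    obtain ⟨w, k, hk, -, e1, e2⟩ := key r hr
    rw [e1, mem_cj] at hv
    rw [e2, mem_cj]
    apply D.cent _ hv
    have h2 := D.tN w k hk
    have h3 : t * k⁻¹ = k⁻¹ * t := D.tN w⁻¹ k⁻¹ hk.inv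
    calc t * (k⁻¹ * v * k) = (t * k⁻¹) * v * k := by group
      _ = k⁻¹ * (t * v) * k := by rw [h3]; group
      _ = k⁻¹ * v * (t * k) := by rw [htv]; group
      _ = k⁻¹ * v * k * t := by rw [h2]; group
  · intro r hr x hx
    obtain ⟨w, k, hk, -, e1, e2⟩ := key r hr
    rw [e2, mem_cj] at hx
    obtain ⟨v, hv, e⟩ := D.surj _ hx
    refine ⟨k * v * k⁻¹, by rw [e1]; exact conj_mem_cj.2 hv, ?_⟩
    have h2 := D.tN w k hk
    have h3 : t * k⁻¹ = k⁻¹ * t := D.tN w⁻¹ k⁻¹ hk.inv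
    calc (k * v * k⁻¹)⁻¹ * (t * (k * v * k⁻¹) * t) = k * v⁻¹ * k⁻¹ * ((t * k) * v * (k⁻¹ * t)) := by group
      _ = k * v⁻¹ * k⁻¹ * ((k * t) * v * (t * k⁻¹)) := by rw [h2, h3]
      _ = k * (v⁻¹ * (t * v * t)) * k⁻¹ := by group
      _ = x := by rw [e]; group
  · intro r hr a ha h0 v hv x hx
    obtain ⟨w, k, hk, e0, e1, e2⟩ := key r hr
    rw [e1, mem_cj] at hv
    have h1 := R.conj_mem' hk ha hx
    have h2 := D.WX (rep cs h w⁻¹ a) (ha.act _) (by
      rw [← hB w, rep_apply_inv, e0]; exact h0) _ hv _ h1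
    have e3 : v * x = k * ((k⁻¹ * v * k) * (k⁻¹ * x * k)) * k⁻¹ := by group
    have e4 : x * v = k * ((k⁻¹ * x * k) * (k⁻¹ * v * k)) * k⁻¹ := by group
    rw [e3, e4, h2]
  · intro w k hk r hr v hv
    obtain ⟨w', k', hk', e0, e1, e2⟩ := key r hr
    have h1 := D.wf_eq (hk.mul hk')
    rw [rep_mul_apply, e0] at h1
    rw [h1, mem_cj]
    rw [e1, mem_cj] at hv
    have e3 : (k * k')⁻¹ * (k * v * k⁻¹) * (k * k') = k'⁻¹ * v * k' := by group
    rwa [e3]

end Base0

/-! ### The swap -/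

section Conn

variable [Finite W] (h4 : ∀ i j, M i j ≠ 4) (h6 : ∀ i j, M i j ≠ 6)

/-- `X r ∩ X s = 1` for `(r, s) = 1`. -/
theorem inf (R : RGD cs h p T n X) {r s : I → ℤ} (hr : IsRoot cs h r) (hs : IsRoot cs h s)
    (h4 : ∀ i j, M i j ≠ 4) (h6 : ∀ i j, M i j ≠ 6) (hrs : Bf A r s = 1) {x : G} (hx : x ∈ X r) (hx' : x ∈ X s) :
    x = 1 := by
  have hR := roots cs h h4 h6
  have hd := hR.sub_mem hr hs hrs
  have hA := a2 (cs := cs) (h := h) h4 h6 hd hs (by rw [hR.sub_left, hrs, hR.two s hs]; norm_num)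
  by_contra hx1
  obtain ⟨g, hg, hg1⟩ : ∃ g ∈ X (r - s), g ≠ 1 := by
    have := OfRGD.X_ne_bot R hd
    rw [Subgroup.ne_bot_iff_exists_ne_one] at this
    obtain ⟨⟨a, ha⟩, h1⟩ := this
    exact ⟨a, ha, fun h2 => h1 (Subtype.ext h2)⟩
  refine A2.comm_ne_one R hA hg hg1 hx' hx1 ?_
  rw [commutatorElement_eq_one_iff_mul_comm]
  have hx2 : x ∈ X (r - s + s) := by rw [sub_add_cancel]; exact hx
  exact (A2.comm_left R hA hx2 hg).symm

variable {R : RGD cs h 2 T n X} {t : G} {V : (I → ℤ) → Subgroup G}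

include h4 h6 in
/-- An element swapping `x ∈ X r` and `y ∈ X s`, `(r, s) = 1`. -/
theorem YData0.swap (D : YData0 R t V) (Xsq : ∀ r, IsRoot cs h r → ∀ x ∈ X r, x * x = 1)
    (tN : ∀ w k, Rp cs R.nsys w k → t * k = k * t) {r s : I → ℤ} (hr : IsRoot cs h r) (hs : IsRoot cs h s)
    (hrs : Bf A r s = 1) {x y : G} (hx : x ∈ X r) (hy : y ∈ X s) (hx1 : x ≠ 1) (hy1 : y ≠ 1) :
    ∃ k : G, k * t = t * k ∧ k * x * k⁻¹ = y ∧ k * y * k⁻¹ = x ∧ (∀ w ∈ V r, k * w * k⁻¹ ∈ V s) ∧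
      (∀ w ∈ V s, k * w * k⁻¹ ∈ V r) := by
  have hR := roots cs h h4 h6
  have hd := hR.sub_mem hr hs hrs
  have hsr : Bf A s r = 1 := by rw [hR.symm]; exact hrs
  have hd' : IsRoot cs h (s - r) := hR.sub_mem hs hr hsr
  have hA := a2 (cs := cs) (h := h) h4 h6 hd hs (by rw [hR.sub_left, hrs, hR.two s hs]; norm_num)
  have hA' := a2 (cs := cs) (h := h) h4 h6 hd' hr (by rw [hR.sub_left, hsr, hR.two r hr]; norm_num)
  have e1 : r - s + s = r := sub_add_cancel r s
  have e2 : s - r + r = s := sub_add_cancel s r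
  -- `[g, y] = x`
  obtain ⟨g, hg, hgy'⟩ := A2.comm_surj R hA.symm hy hy1 (w := x⁻¹) (by
    rw [add_comm, e1]; exact inv_mem hx)
  have hgy : ⁅g, y⁆ = x := by rw [← commutatorElement_inv, hgy', inv_inv]
  have hg1 : g ≠ 1 := by
    rintro rfl
    rw [commutatorElement_one_left] at hgy
    exact hx1 hgy.symm
  obtain ⟨w, hw, a, ha, b, hb, m, hm, he⟩ := exists_mu R hd hg hg1
  rw [neg_sub] at ha hb
  have w1 : rep cs h w s = r := rep_sub h4 h6 hr hs hrs hw
  have w2 : rep cs h w r = s := by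
    rw [hw, ← bf_eq_cpr h4 h6 r hd, hR.sub_right, hR.two r hr, hrs]
    norm_num
  have cXX : ∀ u ∈ X r, ∀ v ∈ X s, u * v = v * u := fun u hu v hv => by
    refine OfRGD.comm_nonneg h4 h6 R hr hs ?_ (by rw [hrs]; norm_num) u hu v hv
    rintro rfl
    rw [hR.two r hr] at hrs
    omega
  have cas : ∀ u ∈ X (s - r), ∀ v ∈ X s, u * v = v * u := fun u hu v hv => by
    have h2 := A2.comm_left R hA' (u := v) (v := u) (by rw [e2]; exact hv) hu
    exact h2.symm
  have cgr : ∀ u ∈ X (r - s), ∀ v ∈ X r, u * v = v * u := fun u hu v hv => by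
    have h2 := A2.comm_left R hA (u := v) (v := u) (by rw [e1]; exact hv) hu
    exact h2.symm
  -- `m y m⁻¹`
  obtain ⟨y1, hy1'⟩ : ∃ y1, y1 = a * x * a⁻¹ * x⁻¹ := ⟨_, rfl⟩
  have hy1s : y1 ∈ X s := by
    have := A2.comm_mem R hA' ha hx
    rw [e2, commutatorElement_def] at this
    rw [hy1']; exact this
  have f1 : m * y * m⁻¹ = y1 * y * x := by
    have c1 : b * y * b⁻¹ = y := by rw [cas b hb y hy]; group
    have c2 : g * y * g⁻¹ = x * y := by rw [← hgy, commutatorElement_def]; group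
    have c3 : a * y * a⁻¹ = y := by rw [cas a ha y hy]; group
    calc m * y * m⁻¹ = a * (g * (b * y * b⁻¹) * g⁻¹) * a⁻¹ := by rw [he]; group
      _ = a * (x * y) * a⁻¹ := by rw [c1, c2]
      _ = (a * x * a⁻¹) * (a * y * a⁻¹) := by group
      _ = (y1 * x) * y := by rw [c3, hy1']; group
      _ = y1 * (x * y) := by group
      _ = y1 * y * x := by rw [cXX x hx y hy]; group
  have f2 : m * y * m⁻¹ ∈ X r := by
    have := R.conj_rp hm hs
    rw [w1] at this
    rw [← this]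
    exact conj_mem_cj.2 hy
  have f3 : y1 * y = 1 := by
    refine inf R hr hs h4 h6 hrs ?_ (mul_mem hy1s hy)
    have e3 : y1 * y = (m * y * m⁻¹) * x⁻¹ := by rw [f1]; group
    rw [e3]; exact mul_mem f2 (inv_mem hx)
  have f4 : m * y * m⁻¹ = x := by rw [f1, f3, one_mul]
  have hyi : y⁻¹ = y := inv_eq_of_mul_eq_one_left (Xsq s hs y hy)
  have f5 : y1 = y := by rw [← hyi]; exact eq_inv_of_mul_eq_one_left f3
  -- `m x m⁻¹`
  obtain ⟨y2, hy2'⟩ : ∃ y2, y2 = b * x * b⁻¹ * x⁻¹ := ⟨_, rfl⟩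
  have hy2s : y2 ∈ X s := by
    have := A2.comm_mem R hA' hb hx
    rw [e2, commutatorElement_def] at this
    rw [hy2']; exact this
  obtain ⟨x2, hx2'⟩ : ∃ x2, x2 = g * y2 * g⁻¹ * y2⁻¹ := ⟨_, rfl⟩
  have hx2r : x2 ∈ X r := by
    have := A2.comm_mem R hA hg hy2s
    rw [e1, commutatorElement_def] at this
    rw [hx2']; exact this
  obtain ⟨y3, hy3'⟩ : ∃ y3, y3 = a * (x2 * x) * a⁻¹ * (x2 * x)⁻¹ := ⟨_, rfl⟩
  have hy3s : y3 ∈ X s := by
    have := A2.comm_mem R hA' ha (mul_mem hx2r hx)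
    rw [e2, commutatorElement_def] at this
    rw [hy3']; exact this
  have g1 : m * x * m⁻¹ = y3 * y2 * (x2 * x) := by
    have c1 : b * x * b⁻¹ = y2 * x := by rw [hy2']; group
    have c2 : g * y2 * g⁻¹ = x2 * y2 := by rw [hx2']; group
    have c3 : g * x * g⁻¹ = x := by rw [cgr g hg x hx]; group
    have c4 : a * y2 * a⁻¹ = y2 := by rw [cas a ha y2 hy2s]; group
    have c5 : x2 * y2 = y2 * x2 := cXX x2 hx2r y2 hy2s
    calc m * x * m⁻¹ = a * (g * (b * x * b⁻¹) * g⁻¹) * a⁻¹ := by rw [he]; group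
      _ = a * ((g * y2 * g⁻¹) * (g * x * g⁻¹)) * a⁻¹ := by rw [c1]; group
      _ = a * (x2 * y2 * x) * a⁻¹ := by rw [c2, c3]
      _ = (a * y2 * a⁻¹) * (a * (x2 * x) * a⁻¹) := by rw [c5]; group
      _ = y2 * (y3 * (x2 * x)) := by rw [c4, hy3']; group
      _ = y3 * y2 * (x2 * x) := by
        have c6 : y2 * y3 = y3 * y2 := by
          have h7 := A2.comm_self R hA'.symm (u := y2) (v := y3)
            (by rw [add_comm, e2]; exact hy2s) (by rw [add_comm, e2]; exact hy3s)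
          exact h7
        rw [← mul_assoc, c6]
  have g2 : m * x * m⁻¹ ∈ X s := by
    have := R.conj_rp hm hr
    rw [w2] at this
    rw [← this]
    exact conj_mem_cj.2 hx
  have g3 : x2 * x = 1 := by
    refine inf R hr hs h4 h6 hrs (mul_mem hx2r hx) ?_
    have e3 : x2 * x = (y3 * y2)⁻¹ * (m * x * m⁻¹) := by rw [g1]; group
    rw [e3]; exact mul_mem (inv_mem (mul_mem hy3s hy2s)) g2
  have g4 : y3 = 1 := by rw [hy3', g3]; group
  have hxi : x⁻¹ = x := inv_eq_of_mul_eq_one_left (Xsq r hr x hx)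
  have g5 : x2 = x := by rw [← hxi]; exact eq_inv_of_mul_eq_one_left g3
  have g6 : y2 = y := by
    refine A2.comm_inj R hA hg hg1 hy2s hy ?_
    rw [hgy, commutatorElement_def, ← hx2', g5]
  have g7 : m * x * m⁻¹ = y := by rw [g1, g3, g4, g6]; group
  refine ⟨m, (tN w m hm).symm, g7, f4, ?_, ?_⟩
  · intro v hv
    have := D.eqv w m hm r hr v hv
    rwa [w2] at this
  · intro v hv
    have := D.eqv w m hm s hs v hv
    rwa [w1] at this

variable (hirr : ∀ J : Set I, J.Nonempty → Jᶜ.Nonempty → ∃ i ∈ J, ∃ j ∈ Jᶜ, M i j ≠ 2) (h3 : 3 ≤ Fintype.card I)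

include h4 h6 hirr h3

/-- The root groups have exponent `2`. -/
theorem Xsq [Finite G] (R : RGD cs h 2 T n X) : ∀ r, IsRoot cs h r → ∀ x ∈ X r, x * x = 1 := fun r hr x hx => by
  have : Fact (Nat.Prime 2) := ⟨Nat.prime_two⟩
  obtain ⟨s, hs, hrs⟩ := exists_neg_one h4 h6 hirr h3 hr
  rw [← pow_two]
  exact pow_eq_one R (a2 h4 h6 hr hs hrs) hx

theorem YData0.preW [Finite G] (D : YData0 R t V) (tt : t * t = 1)
    (tX : ∀ r, IsRoot cs h r → ∀ x ∈ X r, t * x = x * t) (tN : ∀ w k, Rp cs R.nsys w k → t * k = k * t)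
    (K2 : ∀ r ∈ {x | IsRoot cs h x}, ∀ s ∈ {x | IsRoot cs h x}, Bf A r s = 1 → ∀ c, c * t = t * c →
      (∀ a ∈ {x | IsRoot cs h x}, 0 ≤ Bf A a r → 0 ≤ Bf A a s → ∀ x ∈ X a, c * x = x * c) →
      ∃ x ∈ X r, ∃ y ∈ X s, c = x * y ∨ c = t * (x * y))
    (hcard : ∀ r, IsRoot cs h r → 2 < Nat.card ↥(X r)) :
    D7Ex.PreW t (Bf A) {x | IsRoot cs h x} X V where
  roots := roots cs h h4 h6
  tt := tt
  tX := tX
  Xsq := Xsq h4 h6 hirr h3 R
  XW := D.XW
  Wsq := D.sq
  brk := D.brk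
  cent := D.cent
  surj := D.surj
  WX := D.WX
  inf := fun r hr s hs hrs x hx hx' => inf R hr hs h4 h6 hrs hx hx'
  neg := fun r hr s hs hrs x hx y hy => OfRGD.comm_neg_one h4 h6 R hr hs hrs x hx y hy
  sur := fun a ha b hb hab y hy hy1 z hz => by
    obtain ⟨x, hx, e⟩ := A2.comm_surj R (a2 h4 h6 ha hb hab).symm hy hy1 (w := z⁻¹) (by
      rw [add_comm]; exact inv_mem hz)
    refine ⟨x, hx, ?_⟩
    rw [← commutatorElement_def, ← commutatorElement_inv, e, inv_inv]
  K2 := K2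
  swap := fun r hr s hs hrs x hx y hy hx1 hy1 =>
    D.swap h4 h6 (Xsq h4 h6 hirr h3 R) tN hr hs hrs hx hy hx1 hy1
  three := fun r hr x hx => by
    by_contra hcon
    push Not at hcon
    have hs : Function.Surjective (fun b : Bool => if b then (1 : ↥(X r)) else ⟨x, hx⟩) := by
      intro y
      by_cases h0 : (y : G) = 1
      · exact ⟨true, Subtype.ext h0.symm⟩
      · exact ⟨false, Subtype.ext (hcon y y.2 h0).symm⟩
    have h1 := Nat.card_le_card_of_surjective _ hs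
    have h2 := hcard r hr
    simp only [_root_.Nat.card_eq_fintype_card, _root_.Fintype.card_bool] at h1
    omega

/-- The doubled root groups are abelian for `q > 2`. -/
theorem YData0.yData [Finite G] (D : YData0 R t V) (tt : t * t = 1)
    (tX : ∀ r, IsRoot cs h r → ∀ x ∈ X r, t * x = x * t) (tN : ∀ w k, Rp cs R.nsys w k → t * k = k * t)
    (K2 : ∀ r ∈ {x | IsRoot cs h x}, ∀ s ∈ {x | IsRoot cs h x}, Bf A r s = 1 → ∀ c, c * t = t * c →
      (∀ a ∈ {x | IsRoot cs h x}, 0 ≤ Bf A a r → 0 ≤ Bf A a s → ∀ x ∈ X a, c * x = x * c) →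
      ∃ x ∈ X r, ∃ y ∈ X s, c = x * y ∨ c = t * (x * y))
    (hcard : ∀ r, IsRoot cs h r → 2 < Nat.card ↥(X r)) : YData R t V := by
  have P := D.preW h4 h6 hirr h3 tt tX tN K2 hcard
  refine D.toYData fun r hr v hv w hw => ?_
  have hR := roots cs h h4 h6
  obtain ⟨s, hs, hrs⟩ := exists_neg_one h4 h6 hirr h3 hr
  exact P.ab hr hs.neg (by rw [hR.neg_right, hrs]; norm_num) hv hw

omit h4 h6 hirr h3 in
/-- ... and for `q = 2`. -/
theorem YData0.yData_two (D : YData0 R t V) (sq : ∀ r, IsRoot cs h r → ∀ w ∈ V r, w * w = 1) : YData R t V := by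
  refine D.toYData fun r hr v hv w hw => ?_
  have h1 := sq r hr _ (mul_mem hv hw)
  have hv' : v⁻¹ = v := inv_eq_of_mul_eq_one_left (sq r hr v hv)
  have hw' : w⁻¹ = w := inv_eq_of_mul_eq_one_left (sq r hr w hw)
  have h2 : v * w = (v * w)⁻¹ := eq_inv_of_mul_eq_one_left h1
  rw [h2, mul_inv_rev, hv', hw']

end Conn

end Cfsg.Agent.OddHalf.SL.Base0
end

-- part: OddHalf/D7Ex/OutBase
section
-- merged: Cfsg.Agent.OddHalf.D7Ex.KFull
section

/-!
# The existence of the doubled root group in all of `C_G(t)` (outer part allowed)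

* `CT t K` : the facts on `C_G(t)`: `K ⊴ C(t)`, `C(t) ∩ C(K) = ⟨t⟩`, perfect subgroups of `C(t)` lie in `K`;
* `k1` : `C_{C(t)}(⟨X a : (a, r) ≥ 1⟩) ≤ ⟨t⟩ X r`, all `q`;
* `kr_of`, `kr` : `KR` for `q > 2`; `exists_out` : the doubled root group at one root.
-/

set_option autoImplicit false
set_option linter.unusedSectionVars false

namespace Cfsg.Agent.OddHalf.D7Ex.KFull

open Cfsg.Agent.OddHalf.SL Cfsg.Agent.KFacts CoxeterSystem Cfsg.Agent.ChevalleyStructure.CoxeterGeom Cfsg.Agent.Tits.Roots Cfsg.Agent.Tits.Core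
  Cfsg.Agent.Tits.RootComb Cfsg.Agent.Nodes.Comb Cfsg.Agent.Nodes.Reps Cfsg.Agent.Nodes.BNOf
  Cfsg.Agent.Nodes.Bruhat Cfsg.Agent.Nodes.Coroot Cfsg.Agent.OddHalf.SL.Index Cfsg.Agent.OddHalf.SL.OfRGD
  Cfsg.Agent.OddHalf.SL.PreOf Cfsg.Agent.KFacts.RgdPar Cfsg.Agent.KFacts.RgdSL Cfsg.Agent.KFacts.RgdTI
  Cfsg.Agent.KFacts.RgdCent Cfsg.Agent.KFacts.RgdOdd Cfsg.Agent.KFacts.RgdEx Cfsg.Agent.KFacts.SLRow.Def
  Cfsg.Agent.OddHalf.SL.OfDatum Cfsg.Agent.OddHalf.D7Ex.KData
open scoped commutatorElement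

/-- The facts on `C_G(t)`. -/
structure CT {G : Type*} [Group G] (t : G) (K : Subgroup G) : Prop where
  tt : t * t = 1
  tK : t ∉ K
  Kt : ∀ k ∈ K, t * k = k * t
  nrm : ∀ g, g * t = t * g → ∀ u ∈ K, g * u * g⁻¹ ∈ K
  cK : ∀ g, g * t = t * g → (∀ u ∈ K, g * u = u * g) → g = 1 ∨ g = t
  perf : ∀ L : Subgroup G, L ≤ Subgroup.centralizer {t} → L ≤ ⁅L, L⁆ → L ≤ K

namespace CT

variable {G : Type*} [Group G] {t : G} {K : Subgroup G} (C : CT t K)

include C

theorem comm_inv {c : G} (hc : c * t = t * c) : c⁻¹ * t = t * c⁻¹ := by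
  rw [inv_mul_eq_iff_eq_mul, ← mul_assoc, hc, mul_inv_cancel_right]

/-- The automorphism of `K` induced by an element of `C_G(t)`. -/
def aut {c : G} (hc : c * t = t * c) : MulAut ↥K where
  toFun u := ⟨c * u * c⁻¹, C.nrm c hc u u.2⟩
  invFun u := ⟨c⁻¹ * u * c, by simpa only [_root_.inv_inv] using C.nrm c⁻¹ (C.comm_inv hc) u u.2⟩
  left_inv u := Subtype.ext (by
    show c⁻¹ * (c * u * c⁻¹) * c = u
    group)
  right_inv u := Subtype.ext (by
    show c * (c⁻¹ * u * c) * c⁻¹ = u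
    group)
  map_mul' u v := Subtype.ext (by
    show c * (u * v) * c⁻¹ = c * u * c⁻¹ * (c * v * c⁻¹)
    group)

theorem aut_apply {c : G} (hc : c * t = t * c) (u : ↥K) : ((C.aut hc u : ↥K) : G) = c * u * c⁻¹ := rfl

/-- An element of `C_G(t)` inducing an inner automorphism. -/
theorem of_inner {c : G} (hc : c * t = t * c) {z : ↥K} (h : C.aut hc = MulAut.conj z) : c = z ∨ t * c = z := by
  have h1 : ∀ u ∈ K, (z : G)⁻¹ * c * u = u * ((z : G)⁻¹ * c) := by
    intro u hu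
    have h2 := congrArg Subtype.val (DFunLike.congr_fun h ⟨u, hu⟩)
    have h3 : c * u * c⁻¹ = z * u * (z : G)⁻¹ := h2
    calc (z : G)⁻¹ * c * u = (z : G)⁻¹ * (c * u * c⁻¹) * c := by group
      _ = u * ((z : G)⁻¹ * c) := by rw [h3]; group
  have hz : (z : G)⁻¹ * t = t * (z : G)⁻¹ := (C.Kt _ (inv_mem z.2)).symm
  have h2 : (z : G)⁻¹ * c * t = t * ((z : G)⁻¹ * c) := by
    rw [mul_assoc, hc, ← mul_assoc, hz, mul_assoc]
  rcases C.cK _ h2 h1 with h3 | h3
  · left
    exact (inv_mul_eq_one.1 h3).symm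
  · right
    have h4 : c = z * t := by rw [← h3]; group
    rw [h4, ← C.Kt _ z.2, ← mul_assoc, C.tt, one_mul]

end CT

variable {I W G : Type*} [Fintype I] [DecidableEq I] [Group W] [Group G] {M : CoxeterMatrix I}
  {cs : CoxeterSystem M W} {A : I → I → ℤ} {h : IsCartan M A} {K : Subgroup G} {q : ℕ} {t : G}

section

variable [Finite W] [Finite G] {T₀ : Subgroup ↥K} {n₀ : I → ↥K} {X₀ : (I → ℤ) → Subgroup ↥K}
  (D : Datum (⊤ : Subgroup ↥K) q cs h T₀ n₀ X₀) (C : CT t K)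

include D C

/-- **(K1) in all of `C_G(t)`**, all `q`. -/
theorem k1 {r : I → ℤ} (hr : IsRoot cs h r) {c : G} (hct : t * c = c * t)
    (hc : ∀ a, IsRoot cs h a → 1 ≤ Bf A a r → ∀ x ∈ (X₀ a).map K.subtype, c * x = x * c) :
    c ∈ (X₀ r).map K.subtype ∨ t * c ∈ (X₀ r).map K.subtype := by
  have hR := roots cs h D.h4 D.h6
  have hs := PreOf.sl (cs := cs) (h := h) D.h4 D.h6
  have hL := OfDatum.lr D
  let f : (I → ℤ) →+ ℤ :=
    { toFun := fun x => Bf A x r
      map_zero' := hR.zero_left r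
      map_add' := fun x y => bf_add_left x y r }
  have hf : ∀ x, f x = Bf A x r := fun x => rfl
  have hsing : RGD.Sup X₀ ({r} : Set (I → ℤ)) = X₀ r := by
    apply le_antisymm
    · refine RGD.Sup_le fun z hz => ?_
      rw [Set.mem_singleton_iff] at hz
      rw [hz]
    · exact RGD.le_Sup (S := {r}) rfl
  obtain ⟨z, hz, e⟩ := RgdAutN.autN D.rgd D.gen (fun i a ha b hb => (hL _ (isRoot_sr cs h i)).comm _ (isRoot_sr cs h i)
      (by rw [cpr_self cs h (isRoot_sr cs h i)]; norm_num) a ha b hb) f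
    (S := {r}) (α := C.aut hct.symm) (by
      intro c hc
      obtain rfl : c = r := hc
      obtain ⟨s, hs', hrs⟩ := exists_neg_one D.h4 D.h6 D.irr D.three hr
      refine ⟨hr, c + s, -s, hR.add c hr s hs' hrs, hs'.neg, ?_, ?_, by abel⟩
      · rw [hf, hR.add_left, hR.two c hr, hR.symm s c, hrs]; norm_num
      · rw [hf, hR.neg_left, hR.symm s c, hrs]; norm_num) (by
      intro g hg
      rw [hsing]
      refine f3_rad hs hr (orth' D hr) D.rgd hL D.cent (by rw [D.GG_eq]; exact Subgroup.mem_top _) ?_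
      intro a ha v hv
      refine hg a ha.1 ?_ v hv
      rw [hf, bf_eq_cpr D.h4 D.h6 _ hr]
      exact lt_of_lt_of_le one_pos ha.2) (by
      intro x hx hfx v hv
      rw [hf] at hfx
      apply Subtype.ext
      rw [C.aut_apply, hc x hx (by omega) v ⟨v, hv, rfl⟩, mul_inv_cancel_right])
  rw [hsing] at hz
  rcases C.of_inner hct.symm e with h1 | h1
  · left
    rw [h1]
    exact ⟨z, hz, rfl⟩
  · right
    rw [h1]
    exact ⟨z, hz, rfl⟩

end

/-! ### `KR` -/

section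

variable [Finite W] [Finite G] {T : Subgroup G} {n : I → G} {X : (I → ℤ) → Subgroup G}
  (D : Datum K q cs h T n X) (C : CT t K)

include D C

theorem tX' : ∀ a ∈ {x | IsRoot cs h x}, ∀ x ∈ X a, t * x = x * t := fun a ha x hx => C.Kt x (D.XK ha hx)

theorem PR_le_K {r : I → ℤ} : PR (Bf A) {x | IsRoot cs h x} X r ≤ K := PR_le fun b hb _ => D.XK hb

/-- `P` perfect in `C(⟨t⟩ X r)`: an element normalising `X r` and `t X r` takes it into `K ∩ C(X r)`. -/
theorem conj_le {r : I → ℤ} (hr : IsRoot cs h r) {P : Subgroup G} (hP : P ≤ PR (Bf A) {x | IsRoot cs h x} X r)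
    (perf : P ≤ ⁅P, P⁆) {n' : G} (hX : ∀ x ∈ X r, n' * x * n'⁻¹ ∈ X r) (ht : t * (n' * t * n'⁻¹) ∈ X r) :
    P.map (MulAut.conj n').toMonoidHom ≤ T ⊔ PR (Bf A) {x | IsRoot cs h x} X r := by
  have hPC : P ≤ CC t (X r) := fun p hp => by
    rw [mem_CC]
    exact ⟨(C.Kt p (PR_le_K D C (hP hp))).symm, fun x hx => ((rg D).XP hr hx (hP hp)).symm⟩
  have hRC : P.map (MulAut.conj n').toMonoidHom ≤ CC t (X r) := by
    rintro _ ⟨p, hp, rfl⟩
    exact conj_CC C.tt hX ht (hPC hp)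
  have hRp : P.map (MulAut.conj n').toMonoidHom ≤
      ⁅P.map (MulAut.conj n').toMonoidHom, P.map (MulAut.conj n').toMonoidHom⁆ := by
    rw [← Subgroup.map_commutator]
    exact Subgroup.map_mono perf
  have hRK : P.map (MulAut.conj n').toMonoidHom ≤ K := by
    refine C.perf _ (fun x hx => ?_) hRp
    rw [Subgroup.mem_centralizer_singleton_iff]
    exact (mem_CC.1 (hRC hx)).1
  intro x hx
  obtain ⟨z, hz, hz1⟩ := exists_ne D.rgd hr
  have h1 := (lr D r hr).le_PS_of_comm (g := x) (by rw [D.GG_eq]; exact hRK hx) hz hz1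
    ((mem_CC.1 (hRC hx)).2 z hz)
  rw [← sup_Ge D hr]
  exact h1

/-- `[T P, T P] ≤ P`. -/
theorem comm_le (Tab : ∀ g ∈ T, ∀ k ∈ T, g * k = k * g) {r : I → ℤ} :
    ⁅T ⊔ PR (Bf A) {x | IsRoot cs h x} X r, T ⊔ PR (Bf A) {x | IsRoot cs h x} X r⁆ ≤
      PR (Bf A) {x | IsRoot cs h x} X r := by
  set P := PR (Bf A) {x | IsRoot cs h x} X r with hP
  have hT : T ≤ Subgroup.normalizer (P : Set G) := by
    intro g hg
    rw [Subgroup.mem_normalizer_iff]
    intro p
    refine ⟨fun hp => TP' D g hg p hp, fun hp => ?_⟩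
    have h1 := TP' D g⁻¹ (inv_mem hg) _ hp
    have e : g⁻¹ * (g * p * g⁻¹) * g⁻¹⁻¹ = p := by group
    rwa [e] at h1
  have hTP : ∀ x ∈ T ⊔ P, ∃ g ∈ T, ∃ p ∈ P, x = g * p := by
    intro x hx
    rw [← SetLike.mem_coe, Subgroup.coe_mul_of_left_le_normalizer_right _ _ hT] at hx
    obtain ⟨g, hg, p, hp, e⟩ := hx
    exact ⟨g, hg, p, hp, e.symm⟩
  rw [Subgroup.commutator_le]
  intro x hx y hy
  obtain ⟨g, hg, p, hp, rfl⟩ := hTP x hx
  obtain ⟨k, hk, p', hp', rfl⟩ := hTP y hy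
  have cj1 : ∀ g ∈ T, ∀ p ∈ P, g * p * g⁻¹ ∈ P := fun g hg p hp => TP' D g hg p hp
  have e : ⁅g * p, k * p'⁆ = (g * p * g⁻¹) * ((k * g) * p' * (k * g)⁻¹) * (k * (g * p⁻¹ * g⁻¹) * k⁻¹) *
      (k * p'⁻¹ * k⁻¹) := by
    have hgk := Tab g hg k hk
    rw [commutatorElement_def]
    calc g * p * (k * p') * (g * p)⁻¹ * (k * p')⁻¹ = g * p * (g⁻¹ * (g * k)) * p' * p⁻¹ * g⁻¹ * p'⁻¹ * k⁻¹ := by group
      _ = (g * p * g⁻¹) * (k * g) * p' * p⁻¹ * g⁻¹ * p'⁻¹ * k⁻¹ := by rw [hgk]; group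
      _ = (g * p * g⁻¹) * ((k * g) * p' * (k * g)⁻¹) * (k * (g * p⁻¹ * g⁻¹) * k⁻¹) * (k * p'⁻¹ * k⁻¹) := by group
  rw [e]
  exact mul_mem (mul_mem (mul_mem (cj1 g hg p hp) (cj1 _ (mul_mem hk hg) p' hp'))
    (cj1 k hk _ (cj1 g hg _ (inv_mem hp)))) (cj1 k hk _ (inv_mem hp'))

theorem core' {r : I → ℤ} (hr : IsRoot cs h r) {P R' : Subgroup G} (hP : P ≤ PR (Bf A) {x | IsRoot cs h x} X r)
    (hR' : R' ≤ P) (h2 : IsPGroup 2 R')
    (hn : ∀ p ∈ PR (Bf A) {x | IsRoot cs h x} X r, ∀ x ∈ R', p * x * p⁻¹ ∈ R') :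
    R' ≤ QS X (Ph1 (Bf A) {x | IsRoot cs h x} r) r := by
  have : Fact (Nat.Prime 2) := ⟨Nat.prime_two⟩
  refine (core_le D.rgd hr (D := R') ?_ h2 ?_).trans (sup_Rad_le D hr)
  · rw [D.GG_eq]; exact (hR'.trans hP).trans (PR_le_K D C)
  · intro u hu
    rw [sup_Ge D hr] at hu
    apply le_antisymm
    · rintro _ ⟨x, hx, rfl⟩
      exact hn u hu x hx
    · intro x hx
      have := hn u⁻¹ (inv_mem hu) x hx
      rw [mem_cj]
      rwa [inv_inv] at this

/-- **`KR`, `q > 2`, all of `C_G(t)`.** -/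
theorem kr (Tab : ∀ g ∈ T, ∀ k ∈ T, g * k = k * g) (hq : 2 < q)
    {r : I → ℤ} (hr : IsRoot cs h r)
    (hK1 : ∀ c, t * c = c * t → (∀ a, IsRoot cs h a → 1 ≤ Bf A a r → ∀ x ∈ X a, c * x = x * c) →
      c ∈ X r ∨ t * c ∈ X r) :
    KR t (Bf A) {x | IsRoot cs h x} X r (PR (Bf A) {x | IsRoot cs h x} X r) T := by
  refine ⟨rg D, hr, pg D hr, C.tt, tX' D C, fun ht => C.tK (D.XK hr ht), fun g hg => C.Kt g (D.TK hg),
    fun g hg => TX' D g hg r hr, TP' D, Tab, ?_, perf D hq hr, ?_, ?_⟩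
  · intro c hct hc
    exact hK1 c hct fun a ha h1 x hx => hc x (le_PR X ha (by omega) hx)
  · intro n' hX ht
    have h1 := conj_le D C hr le_rfl (perf D hq hr) hX ht
    have h2 : (PR (Bf A) {x | IsRoot cs h x} X r).map (MulAut.conj n').toMonoidHom ≤
        ⁅(PR (Bf A) {x | IsRoot cs h x} X r).map (MulAut.conj n').toMonoidHom,
          (PR (Bf A) {x | IsRoot cs h x} X r).map (MulAut.conj n').toMonoidHom⁆ := by
      rw [← Subgroup.map_commutator]
      exact Subgroup.map_mono (perf D hq hr)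
    have h3 := h2.trans ((Subgroup.commutator_mono h1 h1).trans (comm_le D C Tab))
    exact fun p hp => h3 ⟨p, hp, rfl⟩
  · intro R' hR' h2 hn
    exact core' D C hr le_rfl hR' h2 hn

/-- **The doubled root group at one root, `q > 2`, all of `C_G(t)`.** -/
theorem exists_out (Tab : ∀ g ∈ T, ∀ k ∈ T, g * k = k * g) (hq : 2 < q) {r : I → ℤ} (hr : IsRoot cs h r)
    (hK1 : ∀ c, t * c = c * t → (∀ a, IsRoot cs h a → 1 ≤ Bf A a r → ∀ x ∈ X a, c * x = x * c) →
      c ∈ X r ∨ t * c ∈ X r)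
    (hT : 4 ≤ Fintype.card I ∨ ∃ β g k, Tor (Bf A) {x | IsRoot cs h x} X r T β g k)
    {n' : G} (hX : ∀ x ∈ X r, n' * x * n'⁻¹ ∈ X r) (ht : t * (n' * t * n'⁻¹) ∈ X r) (hnt : n' * t * n'⁻¹ ≠ t) :
    ∃ V, KR.Out t (X r) (PR (Bf A) {x | IsRoot cs h x} X r) T V := by
  have hR := roots cs h D.h4 D.h6
  have hK := kr D C Tab hq hr hK1
  obtain ⟨g, hg, hne⟩ := exists_h D hq hr
  have hgT := (Subgroup.mem_inf.1 hg).1
  have hs := PreOf.sl (cs := cs) (h := h) D.h4 D.h6
  have h0 : ∀ b ∈ {x | IsRoot cs h x}, Bf A b r = 0 → ∀ x ∈ X b, g * x = x * g := by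
    intro b hb hbr x hx
    exact orth_comm D.rgd hs hr hb (by rw [← bf_eq_cpr D.h4 D.h6 _ hr]; exact hbr) (Subgroup.mem_inf.1 hg).2 hx
  have hodd : Odd (Nat.card T) := by
    rw [← Nat.coprime_two_right]; exact D.rgd.tcop
  have hg1 : g ^ Nat.card T = 1 := congrArg Subtype.val (pow_card_eq_one' (G := T) (x := ⟨g, hgT⟩))
  have Ce : Cent t (X r) (PR (Bf A) {x | IsRoot cs h x} X r) := by
    rcases hT with hT | ⟨β, g', k, hT⟩
    · exact cent_of_sep hK (pt D hT hr) (TX' D) (trans D hr) hgT h0 hne hX ht hnt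
    · exact cent_of_tor hK (orth D.h4 D.h6 D.irr) (TX' D) (trans D hr) hT hX ht hnt
  exact hK.out_big Ce (trans D hr) hgT hodd hg1 hne

end

end Cfsg.Agent.OddHalf.D7Ex.KFull

end

-- merged: Cfsg.Agent.OddHalf.D7Ex.OutBase
section

/-!
# From the doubled root group of `KR.Out` to `SL.Base0` (all of `C_G(t)`, all `q`)

* `base0` : `KR.Out` for `P = ⟨X b : (b, r) ≥ 0⟩` gives `Base0`;
* `exists_base0` : `q > 2`, from one element moving `t` inside `t X r`;
* `exists_base0_top` : the same for a datum of `↥K`.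
-/

set_option autoImplicit false
set_option linter.unusedSectionVars false

namespace Cfsg.Agent.OddHalf.D7Ex.OutBase

open Cfsg.Agent.OddHalf.SL Cfsg.Agent.KFacts CoxeterSystem Cfsg.Agent.ChevalleyStructure.CoxeterGeom Cfsg.Agent.Tits.Roots Cfsg.Agent.Tits.Core
  Cfsg.Agent.Tits.RootComb Cfsg.Agent.Nodes.Comb Cfsg.Agent.Nodes.Reps Cfsg.Agent.Nodes.BNOf
  Cfsg.Agent.Nodes.Bruhat Cfsg.Agent.Nodes.Coroot Cfsg.Agent.OddHalf.SL.Index Cfsg.Agent.OddHalf.SL.OfRGD
  Cfsg.Agent.OddHalf.SL.PreOf Cfsg.Agent.KFacts.RgdPar Cfsg.Agent.KFacts.RgdSL Cfsg.Agent.KFacts.RgdTI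
  Cfsg.Agent.KFacts.RgdCent Cfsg.Agent.KFacts.RgdOdd Cfsg.Agent.KFacts.RgdEx Cfsg.Agent.KFacts.SLRow.Def
  Cfsg.Agent.OddHalf.SL.OfDatum Cfsg.Agent.OddHalf.D7Ex.KData Cfsg.Agent.OddHalf.D7Ex.KFull
open scoped commutatorElement

variable {I W G : Type*} [Fintype I] [DecidableEq I] [Group W] [Group G] {M : CoxeterMatrix I}
  {cs : CoxeterSystem M W} {A : I → I → ℤ} {h : IsCartan M A} {K : Subgroup G} {q : ℕ} {t : G}

section

variable [Finite W] [Finite G] {T : Subgroup G} {n : I → G} {X : (I → ℤ) → Subgroup G}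
  (D : Datum K q cs h T n X) (C : CT t K)

include D C

/-- `Base0` from `KR.Out`. -/
theorem base0 {r : I → ℤ} (hr : IsRoot cs h r) {V : Subgroup G}
    (O : KR.Out t (X r) (PR (Bf A) {x | IsRoot cs h x} X r) T V) : Base0.Base0 D.rgd t r V := by
  have hN : ∀ w k, Rp cs D.rgd.nsys w k → k ∈ K := by
    intro w k hk
    rw [← D.GG_eq]
    exact NN_le_GG D.rgd ⟨_, hk⟩
  refine ⟨hr, O.dbl.XW, O.sq, O.dbl.brk, O.dbl.cent, O.dbl.surj, ?_, ?_, fun w k hk => C.Kt k (hN w k hk)⟩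
  · intro a ha h0 w hw x hx
    exact O.dbl.WP w hw x (le_PR X ha h0 hx)
  · intro w k hk hwr v hv
    refine O.nrm k ?_ v hv
    have h1 := ((lr D r hr).mem_normalizer_iff hk).2 hwr
    have h2 : k ∈ PS T X (Ge cs h r) := by
      rw [← (lr D r hr).normalizer]
      exact ⟨h1, by rw [D.GG_eq]; exact hN w k hk⟩
    unfold PS at h2
    rwa [sup_Ge D hr] at h2

/-- **`Base0` at one root, `q > 2`.** -/
theorem exists_base0 (Tab : ∀ g ∈ T, ∀ k ∈ T, g * k = k * g) (hq : 2 < q) {r : I → ℤ} (hr : IsRoot cs h r)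
    (hK1 : ∀ c, t * c = c * t → (∀ a, IsRoot cs h a → 1 ≤ Bf A a r → ∀ x ∈ X a, c * x = x * c) →
      c ∈ X r ∨ t * c ∈ X r)
    (hT : 4 ≤ Fintype.card I ∨ ∃ β g k, Tor (Bf A) {x | IsRoot cs h x} X r T β g k)
    {n' : G} (hX : ∀ x ∈ X r, n' * x * n'⁻¹ ∈ X r) (ht : t * (n' * t * n'⁻¹) ∈ X r) (hnt : n' * t * n'⁻¹ ≠ t) :
    ∃ V, Base0.Base0 D.rgd t r V := by
  obtain ⟨V, O⟩ := KFull.exists_out D C Tab hq hr hK1 hT hX ht hnt
  exact ⟨V, base0 D C hr O⟩

end

/-! ### The form of the front: a datum of `↥K` -/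

section

variable [Finite W] [Finite G] {T₀ : Subgroup ↥K} {n₀ : I → ↥K} {X₀ : (I → ℤ) → Subgroup ↥K}

/-- The datum in `G`. -/
theorem dm (D : Datum (⊤ : Subgroup ↥K) q cs h T₀ n₀ X₀) :
    Datum K q cs h (T₀.map K.subtype) (fun i => (n₀ i : G)) (fun x => (X₀ x).map K.subtype) := by
  have h1 := D.map K.subtype K.subtype_injective
  have e : (⊤ : Subgroup ↥K).map K.subtype = K := by
    rw [← MonoidHom.range_eq_map, Subgroup.range_subtype]
  rw [e] at h1
  exact h1

variable (D : Datum (⊤ : Subgroup ↥K) q cs h T₀ n₀ X₀) (C : CT t K)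

include C

/-- **`Base0` at one root, `q > 2`**, for a datum of `↥K`. -/
theorem exists_base0_top (Tab : ∀ g ∈ T₀, ∀ k ∈ T₀, g * k = k * g) (hq : 2 < q) {r : I → ℤ} (hr : IsRoot cs h r)
    (hT : 4 ≤ Fintype.card I ∨
      ∃ β g k, Tor (Bf A) {x | IsRoot cs h x} (fun x => (X₀ x).map K.subtype) r (T₀.map K.subtype) β g k)
    {n' : G} (hX : ∀ x ∈ (X₀ r).map K.subtype, n' * x * n'⁻¹ ∈ (X₀ r).map K.subtype)
    (ht : t * (n' * t * n'⁻¹) ∈ (X₀ r).map K.subtype) (hnt : n' * t * n'⁻¹ ≠ t) :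
    ∃ V, Base0.Base0 (dm D).rgd t r V := by
  refine exists_base0 (dm D) C ?_ hq hr (fun c hct hc => k1 D C hr hct hc) hT hX ht hnt
  rintro _ ⟨g, hg, rfl⟩ _ ⟨k, hk, rfl⟩
  exact congrArg K.subtype (Tab g hg k hk)

end

end Cfsg.Agent.OddHalf.D7Ex.OutBase

end
end

private theorem dce_e4e0f5d6ba21 : _root_.True := by
  try have : _root_.True := by simp only [_root_.Cfsg.Agent.OddHalf.D7Ex.Cent.Wbig.congr_simp]
  try have : _root_.True := by simp only [_root_.Cfsg.Agent.OddHalf.D7Ex.Cent.Wtwo.congr_simp]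
  exact _root_.True.intro
end

-- part: OddHalf/D3/EvSwTwo
section
prune_inst 0x1004404000020000000582310026005600019200630801d1200f42068e35220d002700c4a01e021808a20420350068134c00d0421000000a000400411905a180aa5202a348a10427000f80b087180c00000000000000000000000000041004200000000
set_option linter.all false
open scoped Cfsg.Agent.FastGrp

/-!
# ODD D3 (iii), even centre, `n = 2`: the case (sw) is dead (bb ODD 12105)

Two adjacent classes `c ≠ d` with two members; a 2-element `s` of a member `L` of `c` stabilising `d` normalises the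
members of `d`.
-/

set_option autoImplicit false

namespace Cfsg.Agent.OddHalf.D3.EvSwTwo

open Cfsg Cfsg.Agent.OddHalf.D3.ThreeDefs Cfsg.Agent.OddHalf.D3.ThreeFam Cfsg.Agent.OddHalf.D3.ThreeMain
open Cfsg.Agent.OddHalf.D3.Swap Cfsg.Agent.OddHalf.D3.TwoCfg Cfsg.Agent.OddHalf.D3.EvDefs
open Cfsg.Agent.OddHalf.D3.FamTerm Cfsg.Agent.OddHalf.D3.NormOne Cfsg.Agent.OddHalf.D3.EvDiag
open Cfsg.Agent.OddHalf.D3.EvSwap
open Cfsg.Agent.Schreier.Basic (Sch)
open scoped commutatorElement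

universe u

variable {G : Type u} [Group G]

/-! ### Computations -/

/-- `g = f (s f s⁻¹)` maps `a` to `a (e (s e s⁻¹))`, `e = a (f a f⁻¹)` -/
theorem comp1 {s f a : G} (has : a * s = s * a) (ha2 : a * a = 1)
    (hf : f * (s * (a * (f * a * f⁻¹)) * s⁻¹) = (s * (a * (f * a * f⁻¹)) * s⁻¹) * f) :
    (f * (s * f * s⁻¹)) * a * (f * (s * f * s⁻¹))⁻¹ =
      a * ((a * (f * a * f⁻¹)) * (s * (a * (f * a * f⁻¹)) * s⁻¹)) := by
  have h1 : s⁻¹ * a * s = a := by rw [mul_assoc, has]; group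
  have h2 : s * a * s⁻¹ = a := by rw [← has]; group
  have h3 : a * (a * (f * a * f⁻¹)) = f * a * f⁻¹ := by rw [← mul_assoc, ha2, one_mul]
  set x := s * (a * (f * a * f⁻¹)) * s⁻¹ with hx
  have h4 : s * (f * a * f⁻¹) * s⁻¹ = a * x := by
    calc s * (f * a * f⁻¹) * s⁻¹ = s * (a * (a * (f * a * f⁻¹))) * s⁻¹ := by rw [h3]
      _ = (s * a * s⁻¹) * (s * (a * (f * a * f⁻¹)) * s⁻¹) := by group
      _ = a * x := by rw [h2]
  calc (f * (s * f * s⁻¹)) * a * (f * (s * f * s⁻¹))⁻¹ = f * (s * (f * (s⁻¹ * a * s) * f⁻¹) * s⁻¹) * f⁻¹ := by group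
    _ = f * (a * x) * f⁻¹ := by rw [h1, h4]
    _ = f * a * f⁻¹ * (f * x) * f⁻¹ := by group
    _ = f * a * f⁻¹ * x := by rw [hf]; group
    _ = _ := by rw [← mul_assoc a, h3]

/-- the commutator of `r (s r s⁻¹)` and `s` -/
theorem comp2 {s r : G} (h : (s * r * s⁻¹) * (s * s * r * (s * s)⁻¹) = (s * s * r * (s * s)⁻¹) * (s * r * s⁻¹)) :
    (r * (s * r * s⁻¹)) * s * (r * (s * r * s⁻¹))⁻¹ * s⁻¹ = r * (s * s * r * (s * s)⁻¹)⁻¹ := by
  set y := s * r * s⁻¹ with hy
  set z := s * s * r * (s * s)⁻¹ with hz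
  have hyz : s * y * s⁻¹ = z := by
    rw [hy, hz]; simp only [mul_inv_rev, mul_assoc]
  have h1 : s * (r * y)⁻¹ * s⁻¹ = z⁻¹ * y⁻¹ := by
    calc s * (r * y)⁻¹ * s⁻¹ = (s * y * s⁻¹)⁻¹ * (s * r * s⁻¹)⁻¹ := by group
      _ = z⁻¹ * y⁻¹ := by rw [hyz]
  have h2 : y * z⁻¹ = z⁻¹ * y := by
    calc y * z⁻¹ = z⁻¹ * (z * y) * z⁻¹ := by group
      _ = z⁻¹ * (y * z) * z⁻¹ := by rw [h]
      _ = z⁻¹ * y := by group
  calc (r * y) * s * (r * y)⁻¹ * s⁻¹ = r * y * (s * (r * y)⁻¹ * s⁻¹) := by group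
    _ = r * (y * z⁻¹) * y⁻¹ := by rw [h1]; group
    _ = _ := by rw [h2]; group

theorem isPGroup_zpowers' {x : G} (h : ∃ k : ℕ, x ^ 2 ^ k = 1) : IsPGroup 2 (Subgroup.zpowers x) := by
  obtain ⟨k, hk⟩ := h
  rintro ⟨y, hy⟩
  obtain ⟨m, rfl⟩ := Subgroup.mem_zpowers_iff.mp hy
  refine ⟨k, Subtype.ext ?_⟩
  change (x ^ m) ^ 2 ^ k = 1
  rw [← zpow_natCast, ← zpow_mul, mul_comm, zpow_mul, zpow_natCast, hk, one_zpow]

theorem cj_inf (g : G) (A B : Subgroup G) : cj g (A ⊓ B) = cj g A ⊓ cj g B := by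
  ext x
  simp only [mem_cj, Subgroup.mem_inf]

/-- **Z\*-theorem modulo a central involution** -/
theorem zst_mod [Finite G] {M : Subgroup G} (hq : IsQuasisimple M) {e a w : G} (he2 : e * e = 1)
    (hec : ∀ x ∈ M, e * x = x * e) (ha2 : a * a = 1) (haM : cj a M = M) (hae : a * e = e * a)
    (hna : ∃ x ∈ M, a * x ≠ x * a) (hw : w ∈ M) (hw2 : w * w = 1) (hw1 : w ≠ 1) (hwe : w ≠ e) :
    ∃ f ∈ M, f * a * f⁻¹ ≠ a ∧ f * a * f⁻¹ ≠ a * e ∧
      ((a * (f * a * f⁻¹)) * (a * (f * a * f⁻¹)) = 1 ∨ (a * (f * a * f⁻¹)) * (a * (f * a * f⁻¹)) = e) := by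
  have hai := inv_of_sq ha2
  have heC : e ∈ Subgroup.centralizer ({e} : Set G) := Subgroup.mem_centralizer_singleton_iff.mpr rfl
  have haC : a ∈ Subgroup.centralizer ({e} : Set G) := Subgroup.mem_centralizer_singleton_iff.mpr hae
  have hMC : M ≤ Subgroup.centralizer ({e} : Set G) := fun x hx =>
    Subgroup.mem_centralizer_singleton_iff.mpr (hec x hx).symm
  set C := Subgroup.centralizer ({e} : Set G) with hC
  set e' : C := ⟨e, heC⟩ with he'
  have he'2 : e' * e' = 1 := Subtype.ext he2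
  have hmemN : ∀ x : C, x ∈ Subgroup.zpowers e' ↔ (x : G) = 1 ∨ (x : G) = e := by
    intro x
    constructor
    · intro hx
      rcases ZStar.mem_zpowers_sq he'2 hx with rfl | rfl
      · exact Or.inl rfl
      · exact Or.inr rfl
    · rintro (hx | hx)
      · have : x = 1 := Subtype.ext hx
        rw [this]; exact one_mem _
      · have : x = e' := Subtype.ext hx
        rw [this]; exact Subgroup.mem_zpowers e'
  have hN : (Subgroup.zpowers e').Normal := by
    refine ⟨fun n hn g => ?_⟩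
    have h1 : g * n * g⁻¹ = n := by
      rcases ZStar.mem_zpowers_sq he'2 hn with rfl | rfl
      · group
      · have h2 : g * e' = e' * g := Subtype.ext (Subgroup.mem_centralizer_singleton_iff.mp g.2)
        rw [h2]; group
    rw [h1]; exact hn
  let π : C →* C ⧸ Subgroup.zpowers e' := QuotientGroup.mk' _
  have hπ : ∀ x y : C, π x = π y ↔ ((y : G)⁻¹ * x = 1 ∨ (y : G)⁻¹ * x = e) := by
    intro x y
    have h1 : π x = π y ↔ y⁻¹ * x ∈ Subgroup.zpowers e' := by
      change (QuotientGroup.mk x : C ⧸ Subgroup.zpowers e') = QuotientGroup.mk y ↔ _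
      rw [eq_comm, QuotientGroup.eq]
    rw [h1, hmemN]
    rfl
  let φ : M →* C ⧸ Subgroup.zpowers e' := π.comp (Subgroup.inclusion hMC)
  have hφ : ∀ x : M, φ x = π ⟨x, hMC x.2⟩ := fun x => rfl
  have hφw : φ ⟨w, hw⟩ ≠ 1 := by
    intro h
    rw [hφ, ← map_one π, hπ] at h
    simp only [OneMemClass.coe_one, inv_one, one_mul] at h
    rcases h with h | h
    · exact hw1 h
    · exact hwe h
  have : Nontrivial φ.range := by
    refine ⟨⟨⟨φ ⟨w, hw⟩, ⟨_, rfl⟩⟩, 1, fun h => hφw (congrArg Subtype.val h)⟩⟩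
  have hqA : IsQuasisimple φ.range :=
    SignalizersComponents.QuasisimpleQuotient.isQuasisimple_of_surjective φ.rangeRestrict
      φ.rangeRestrict_surjective hq
  have hev : 2 ∣ Nat.card φ.range := by
    have h1 : orderOf (⟨φ ⟨w, hw⟩, ⟨_, rfl⟩⟩ : φ.range) = 2 := by
      refine orderOf_eq_prime ?_ (fun h => hφw (congrArg Subtype.val h))
      apply Subtype.ext
      change φ ⟨w, hw⟩ ^ 2 = 1
      rw [← map_pow]
      have : (⟨w, hw⟩ : M) ^ 2 = 1 := Subtype.ext (by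
        change w ^ 2 = 1
        rw [pow_two, hw2])
      rw [this, map_one]
    rw [← h1]
    exact orderOf_dvd_natCard _
  set u := π ⟨a, haC⟩ with hu
  have hu2 : u * u = 1 := by
    rw [hu, ← map_mul]
    have : (⟨a, haC⟩ : C) * ⟨a, haC⟩ = 1 := Subtype.ext ha2
    rw [this, map_one]
  have hui := inv_of_sq hu2
  have huA1 : ∀ x ∈ φ.range, u * x * u⁻¹ ∈ φ.range := by
    rintro _ ⟨⟨m, hm⟩, rfl⟩
    refine ⟨⟨a * m * a⁻¹, conj_mem_of_cj haM hm⟩, ?_⟩
    rw [hφ, hφ, hu, ← map_inv, ← map_mul, ← map_mul]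
    rfl
  have huA : cj u φ.range = φ.range := by
    ext x
    rw [mem_cj]
    constructor
    · intro h
      have := huA1 _ h
      have e1 : u * (u⁻¹ * x * u) * u⁻¹ = x := by group
      rwa [e1] at this
    · intro h
      have := huA1 _ h
      rwa [hui] at this ⊢
  obtain ⟨_, ⟨⟨f, hf⟩, rfl⟩, h1, h2⟩ := ZStar.zst hqA hev hu2 huA (by
    by_contra hcon
    push Not at hcon
    obtain ⟨x, hx, hax⟩ := hna
    refine hax (comm_of_mod (qs_perfect hq) (u := a) ?_ (fun m hm => conj_mem_of_cj haM hm) x hx)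
    intro m hm y hy
    have h1 := hcon (φ ⟨m, hm⟩) ⟨_, rfl⟩
    rw [hφ, hu, ← map_mul, ← map_mul, hπ] at h1
    have h2 : (m * a)⁻¹ * (a * m) = 1 ∨ (m * a)⁻¹ * (a * m) = e := h1
    have h3 : m⁻¹ * (a * m * a⁻¹) = a * ((m * a)⁻¹ * (a * m)) * a⁻¹ := by group
    rcases h2 with h2 | h2
    · rw [h3, h2]; group
    · have h4 : a * e * a⁻¹ = e := by rw [hae]; group
      rw [h3, h2, h4]
      exact hec y hy)
  have h3 : φ ⟨f, hf⟩ * u * (φ ⟨f, hf⟩)⁻¹ = π ⟨f * a * f⁻¹, mul_mem (mul_mem (hMC hf) haC) (inv_mem (hMC hf))⟩ := by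
    rw [hφ, hu, ← map_inv, ← map_mul, ← map_mul]
    rfl
  rw [h3] at h1 h2
  refine ⟨f, hf, fun h => h1 ?_, fun h => h1 ?_, ?_⟩
  · rw [hu, hπ]
    left
    change a⁻¹ * (f * a * f⁻¹) = 1
    rw [h]; group
  · rw [hu, hπ]
    right
    change a⁻¹ * (f * a * f⁻¹) = e
    rw [h]; group
  · rw [hu, ← map_mul, ← map_mul, hπ] at h2
    have h4 : ((f * a * f⁻¹) * a)⁻¹ * (a * (f * a * f⁻¹)) = 1 ∨
        ((f * a * f⁻¹) * a)⁻¹ * (a * (f * a * f⁻¹)) = e := h2
    have h5 : ((f * a * f⁻¹) * a)⁻¹ = a * (f * a * f⁻¹) := by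
      calc ((f * a * f⁻¹) * a)⁻¹ = a⁻¹ * (f * a⁻¹ * f⁻¹) := by group
        _ = _ := by rw [hai]
    rwa [h5] at h4

/-! ### Classes with two members -/

section two
variable {𝓒 : Set (Set (Subgroup G))}

theorem mem_Nm_of_cj (F : EFam 𝓒) {c : Set (Subgroup G)} (hc : c ∈ 𝓒) (c2 : AtMostTwo c) {A : Subgroup G} (hA : A ∈ c)
    {g : G} (hg : g ∈ St c) (h : cj g A = A) : g ∈ Nm c := by
  obtain ⟨B, hB, hBA⟩ := F.two c hc A
  intro C hC
  rcases two_cases c2 hA hB hBA hg with ⟨h1, h2⟩ | ⟨h1, h2⟩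
  · rcases c2 A hA B hB C hC with h | h | h
    · exact absurd h.symm hBA
    · rw [← h]; exact h1
    · rw [← h]; exact h2
  · exact absurd (h1.symm.trans h) hBA

theorem swap_eq (F : EFam 𝓒) {c : Set (Subgroup G)} (hc : c ∈ 𝓒) (c2 : AtMostTwo c) {A B : Subgroup G} (hA : A ∈ c)
    (hB : B ∈ c) (hBA : B ≠ A) {g : G} (hg : g ∈ St c) (hn : g ∉ Nm c) : cj g A = B ∧ cj g B = A := by
  rcases two_cases c2 hA hB hBA hg with ⟨h1, -⟩ | h
  · exact absurd (mem_Nm_of_cj F hc c2 hA hg h1) hn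
  · exact h

theorem mul_mem_Nm (F : EFam 𝓒) {c : Set (Subgroup G)} (hc : c ∈ 𝓒) (c2 : AtMostTwo c) {g h : G} (hg : g ∈ St c)
    (hgn : g ∉ Nm c) (hh : h ∈ St c) (hhn : h ∉ Nm c) : g * h ∈ Nm c := by
  obtain ⟨A, hA⟩ := F.exists_mem hc
  obtain ⟨B, hB, hBA⟩ := F.two c hc A
  refine mem_Nm_of_cj F hc c2 hA (mul_mem hg hh) ?_
  rw [cj_mul, (swap_eq F hc c2 hA hB hBA hh hhn).1, (swap_eq F hc c2 hA hB hBA hg hgn).2]

/-- `M ∩ H_c = C_M(a)` for `a ∈ Z_c#` normalising the members of `d` -/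
theorem mem_St_iff_comm (F : EFam 𝓒) {c d : Set (Subgroup G)} (hc : c ∈ 𝓒) (hd : d ∈ 𝓒) (hne : c ≠ d) {a : G}
    (ha : a ∈ Zc c) (ha1 : a ≠ 1) (haN : a ∈ Nm d) {M : Subgroup G} (hM : M ∈ d) {m : G} (hm : m ∈ M) :
    m ∈ St c ↔ a * m = m * a := by
  refine ⟨fun h => ?_, fun h => F.cen hc (F.inU_of_Zc hc ha ha1) h⟩
  have h1 : a * m * a⁻¹ * m⁻¹ ∈ M := mul_mem (conj_mem_of_cj (haN M hM) hm) (inv_mem hm)
  have h2 : a * m * a⁻¹ * m⁻¹ ∈ Zc c := by
    have e : a * m * a⁻¹ * m⁻¹ = a * (m * a⁻¹ * m⁻¹) := by group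
    rw [e]
    exact mul_mem ha (Zc_norm h (inv_mem ha))
  have h3 := F.Zc_inter_mem hd hc (Ne.symm hne) hM h1 h2
  calc a * m = (a * m * a⁻¹ * m⁻¹) * (m * a) := by group
    _ = m * a := by rw [h3, one_mul]

/-- two different classes with at most two members, not swapped by the central involutions of each other -/
structure Sit (𝓒 : Set (Set (Subgroup G))) (c d : Set (Subgroup G)) : Prop where
  hc : c ∈ 𝓒
  hd : d ∈ 𝓒
  ne : c ≠ d
  c2 : AtMostTwo c
  d2 : AtMostTwo d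
  ns : ∀ z ∈ Zc c, z ∈ St d → z ∈ Nm d
  ns' : ∀ z ∈ Zc d, z ∈ St c → z ∈ Nm c

variable {c d : Set (Subgroup G)}

theorem Sit.symm (S : Sit 𝓒 c d) : Sit 𝓒 d c := ⟨S.hd, S.hc, S.ne.symm, S.d2, S.c2, S.ns', S.ns⟩

/-- an involution of a member of `d` stabilising `c` normalises the members of `c` -/
theorem Sit.nrm [Finite G] (F : EFam 𝓒) (sch : ∀ c ∈ 𝓒, ∀ A ∈ c, Sch A) (S : Sit 𝓒 c d) {M : Subgroup G} (hM : M ∈ d)
    {e : G} (he : e ∈ M) (he2 : e * e = 1) (heS : e ∈ St c) : e ∈ Nm c := by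
  by_cases hez : ∀ x ∈ M, e * x = x * e
  · exact S.ns' e (mem_Zc_of_mem (F.comm d S.hd) hM he he2 hez) heS
  have he1 : e ≠ 1 := by
    rintro rfl
    exact hez fun x _ => by rw [one_mul, mul_one]
  push Not at hez
  intro A hA
  by_contra hne
  exact false_of_swap (H := St d) (F.qs d S.hd M hM) (sch d S.hd M hM) he he2 hez
    (fun P hP hPP => perfect_norm S.d2 hM hP hPP)
    (fun y hy2 hy1 hyM g hg => F.cen S.hd ⟨hy2, hy1, M, hM, hyM⟩ hg.symm)
    (fun g hg => F.cen S.hd (F.inU_of_mem S.hd hM he he2 he1) hg.symm)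
    (F.tr d S.hd c S.hc M hM A hA) (F.comm c S.hc A hA (cj e A) (cj_mem_of_St heS hA) (Ne.symm hne)) hne

/-- the configuration (sw) -/
structure Sw (𝓒 : Set (Set (Subgroup G))) (c d : Set (Subgroup G)) (L M : Subgroup G) (s a : G) : Prop
    extends Sit 𝓒 c d where
  hL : L ∈ c
  hM : M ∈ d
  hs : s ∈ L
  hsS : s ∈ St d
  hsM : cj s M ≠ M
  hs2 : ∃ k : ℕ, s ^ 2 ^ k = 1
  ha : a ∈ L
  ha2 : a * a = 1
  ha1 : a ≠ 1
  hac : ∀ x ∈ L, a * x = x * a
  haS : a ∈ St d

namespace Sw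

variable {L M : Subgroup G} {s a : G}

theorem aZ (F : EFam 𝓒) (S : Sw 𝓒 c d L M s a) : a ∈ Zc c := mem_Zc_of_mem (F.comm c S.hc) S.hL S.ha S.ha2 S.hac

theorem aN (F : EFam 𝓒) (S : Sw 𝓒 c d L M s a) : a ∈ Nm d := S.ns a (S.aZ F) S.haS

theorem hM' (S : Sw 𝓒 c d L M s a) : cj s M ∈ d := cj_mem_of_St S.hsS S.hM

theorem mm (F : EFam 𝓒) (S : Sw 𝓒 c d L M s a) {x y : G} (hx : x ∈ M) (hy : y ∈ M) :
    x * (s * y * s⁻¹) = (s * y * s⁻¹) * x :=
  F.comm d S.hd M S.hM _ S.hM' S.hsM.symm x hx _ (conj_mem_cj hy)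

theorem ssM (S : Sw 𝓒 c d L M s a) : cj (s * s) M = M := by
  rcases two_cases S.d2 S.hM S.hM' S.hsM S.hsS with ⟨h1, -⟩ | ⟨-, h1⟩
  · exact absurd h1 S.hsM
  · rw [cj_mul]; exact h1

theorem ssN (F : EFam 𝓒) (S : Sw 𝓒 c d L M s a) : s * s ∈ Nm d :=
  mem_Nm_of_cj F S.hd S.d2 S.hM (mul_mem S.hsS S.hsS) S.ssM

theorem ss_ne [Finite G] (F : EFam 𝓒) (sch : ∀ c ∈ 𝓒, ∀ A ∈ c, Sch A) (S : Sw 𝓒 c d L M s a) : s * s ≠ 1 := fun h =>
  S.hsM (S.toSit.symm.nrm F sch S.hL S.hs h S.hsS M S.hM)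

theorem ss2 (S : Sw 𝓒 c d L M s a) : ∃ k : ℕ, (s * s) ^ 2 ^ k = 1 := by
  obtain ⟨k, hk⟩ := S.hs2
  exact ⟨k, by rw [(Commute.refl s).mul_pow, hk, one_mul]⟩

theorem cen_ss [Finite G] (F : EFam 𝓒) (sch : ∀ c ∈ 𝓒, ∀ A ∈ c, Sch A) (S : Sw 𝓒 c d L M s a) {g : G}
    (h : (s * s) * g = g * (s * s)) : g ∈ St c := by
  obtain ⟨n, hn2, hn1⟩ := exists_pow_inv (isPGroup_zpowers' S.ss2) (Subgroup.mem_zpowers (s * s)) (S.ss_ne F sch)
  refine F.cen S.hc (F.inU_of_mem S.hc S.hL (pow_mem (mul_mem S.hs S.hs) n) hn2 hn1) ?_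
  exact (Commute.pow_left h n)

theorem memY (F : EFam 𝓒) (S : Sw 𝓒 c d L M s a) {m : G} (hm : m ∈ M) : m ∈ St c ↔ a * m = m * a :=
  mem_St_iff_comm F S.hc S.hd S.ne (S.aZ F) S.ha1 (S.aN F) S.hM hm

/-- (1) -/
theorem mem_of_N0 [Finite G] (F : EFam 𝓒) (sch : ∀ c ∈ 𝓒, ∀ A ∈ c, Sch A) (S : Sw 𝓒 c d L M s a) {r : G} (hr : r ∈ M)
    (h : r * (s * r * s⁻¹) ∈ Nm c) : r ∈ St c := by
  have hz : (s * s) * r * (s * s)⁻¹ ∈ M := conj_mem_of_cj S.ssM hr
  set al := s * s with hal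
  have halL : al ∈ L := mul_mem S.hs S.hs
  have halN : al ∈ Nm d := S.ssN F
  have hoL : r * (al * r * al⁻¹)⁻¹ ∈ L := by
    rw [hal, ← comp2 (S.mm F hz hr).symm]
    exact mul_mem (conj_mem_of_cj (h L S.hL) S.hs) (inv_mem S.hs)
  have hoM : r * (al * r * al⁻¹)⁻¹ ∈ M := mul_mem hr (inv_mem hz)
  have hzN : ∀ w ∈ Subgroup.zpowers al, cj w (L ⊓ M) = L ⊓ M := by
    intro w hw
    have h1 : w ∈ L := (Subgroup.zpowers_le.mpr halL) hw
    have h2 : w ∈ Nm d := (Subgroup.zpowers_le.mpr halN) hw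
    rw [cj_inf, cj_eq_of_mem h1, h2 M S.hM]
  have hT2 : IsPGroup 2 (Subgroup.zpowers al) := isPGroup_zpowers' S.ss2
  obtain ⟨T, hTK, hT, hWT, hTc⟩ := exists_syl (K := mulSub (L ⊓ M) (Subgroup.zpowers al) hzN) hT2 le_mulSub_right
  have hTle : T ≤ Subgroup.zpowers al := by
    intro t ht
    obtain ⟨o, ho, w, hw, rfl⟩ := hTK ht
    have h1 : o ∈ T := by
      have : o = (o * w) * w⁻¹ := by group
      rw [this]
      exact mul_mem ht (inv_mem (hWT hw))
    have h2 := F.inter_two S.hc S.hd S.ne S.hL S.hM hT (Subgroup.mem_inf.mp ho).1 (Subgroup.mem_inf.mp ho).2 h1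
    rw [h2, one_mul]
    exact hw
  have e1 : r * al * r⁻¹ = (r * (al * r * al⁻¹)⁻¹) * al := by group
  have hRK : Subgroup.zpowers (r * al * r⁻¹) ≤ mulSub (L ⊓ M) (Subgroup.zpowers al) hzN := by
    rw [Subgroup.zpowers_le, e1]
    exact ⟨_, Subgroup.mem_inf.mpr ⟨hoL, hoM⟩, al, Subgroup.mem_zpowers al, rfl⟩
  have hR2 : IsPGroup 2 (Subgroup.zpowers (r * al * r⁻¹)) := by
    obtain ⟨k, hk⟩ := S.ss2
    refine isPGroup_zpowers' ⟨k, ?_⟩
    rw [conj_pow, ← hal] at *
    rw [hk]; group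
  obtain ⟨k, hk, hkT⟩ := hTc _ hRK hR2
  have hkL : k ∈ L := by
    obtain ⟨o, ho, w, hw, rfl⟩ := hk
    exact mul_mem (Subgroup.mem_inf.mp ho).1 ((Subgroup.zpowers_le.mpr halL) hw)
  have hx : k * (r * al * r⁻¹) * k⁻¹ ∈ Subgroup.zpowers al := hTle (hkT (conj_mem_cj (Subgroup.mem_zpowers _)))
  have hxO : k * (r * al * r⁻¹) * k⁻¹ * al⁻¹ ∈ L ⊓ M := by
    obtain ⟨o, ho, w, hw, rfl⟩ := hk
    have hcw : w * al = al * w := by
      obtain ⟨m, rfl⟩ := Subgroup.mem_zpowers_iff.mp hw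
      exact ((Commute.refl al).zpow_left m)
    have h1 := conj_mem_of_cj (hzN w hw) (Subgroup.mem_inf.mpr ⟨hoL, hoM⟩)
    have h2 := conj_mem_of_cj (hzN al (Subgroup.mem_zpowers al)) (inv_mem ho)
    have h3 : w * al * w⁻¹ = al := by rw [hcw]; group
    have e2 : o * w * (r * al * r⁻¹) * (o * w)⁻¹ * al⁻¹ =
        o * (w * (r * (al * r * al⁻¹)⁻¹) * w⁻¹) * (al * o⁻¹ * al⁻¹) := by
      calc o * w * (r * al * r⁻¹) * (o * w)⁻¹ * al⁻¹
          = o * (w * (r * (al * r * al⁻¹)⁻¹) * w⁻¹) * ((w * al * w⁻¹) * o⁻¹ * al⁻¹) := by rw [e1]; group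
        _ = _ := by rw [h3]
    rw [e2]
    exact mul_mem (mul_mem ho h1) h2
  have hx1 : k * (r * al * r⁻¹) * k⁻¹ * al⁻¹ = 1 :=
    F.inter_two S.hc S.hd S.ne S.hL S.hM hT2 (Subgroup.mem_inf.mp hxO).1 (Subgroup.mem_inf.mp hxO).2
      (mul_mem hx (inv_mem (Subgroup.mem_zpowers al)))
  have hx2 : al * (k * r) = (k * r) * al := by
    have h1 : k * (r * al * r⁻¹) * k⁻¹ = al := mul_inv_eq_one.mp hx1
    calc al * (k * r) = (k * (r * al * r⁻¹) * k⁻¹) * (k * r) := by rw [h1]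
      _ = (k * r) * al := by group
  have h1 := S.cen_ss F sch hx2
  have : r = k⁻¹ * (k * r) := by group
  rw [this]
  exact mul_mem (inv_mem (F.mem_le_St S.hc S.hL hkL)) h1

/-- (1'), `|N* : Y| ≤ 2` -/
theorem diff [Finite G] (F : EFam 𝓒) (sch : ∀ c ∈ 𝓒, ∀ A ∈ c, Sch A) (S : Sw 𝓒 c d L M s a) {r r' : G} (hr : r ∈ M)
    (hr' : r' ∈ M) (h : r * (s * r * s⁻¹) ∈ St c) (h' : r' * (s * r' * s⁻¹) ∈ St c) (hn : r ∉ St c) (hn' : r' ∉ St c) :
    r⁻¹ * r' ∈ St c := by
  have h1 : r * (s * r * s⁻¹) ∉ Nm c := fun h2 => hn (S.mem_of_N0 F sch hr h2)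
  have h1' : r' * (s * r' * s⁻¹) ∉ Nm c := fun h2 => hn' (S.mem_of_N0 F sch hr' h2)
  have h2 : (r * (s * r * s⁻¹))⁻¹ ∉ Nm c := fun h3 => h1 (by
    have := inv_mem h3
    rwa [inv_inv] at this)
  have h3 := mul_mem_Nm F S.hc S.c2 (inv_mem h) h2 h' h1'
  refine S.mem_of_N0 F sch (mul_mem (inv_mem hr) hr') ?_
  have h4 := S.mm F (mul_mem (inv_mem hr) hr') (inv_mem hr)
  have e : r⁻¹ * r' * (s * (r⁻¹ * r') * s⁻¹) = (r * (s * r * s⁻¹))⁻¹ * (r' * (s * r' * s⁻¹)) := by
    calc r⁻¹ * r' * (s * (r⁻¹ * r') * s⁻¹) = (r⁻¹ * r' * (s * r⁻¹ * s⁻¹)) * (s * r' * s⁻¹) := by group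
      _ = (s * r⁻¹ * s⁻¹) * (r⁻¹ * r') * (s * r' * s⁻¹) := by rw [h4]
      _ = _ := by group
  rw [e]
  exact h3

/-- the output of (2), `e = a (f a f⁻¹)` -/
structure Out2 (c : Set (Subgroup G)) (M : Subgroup G) (s a f : G) : Prop where
  eM : a * (f * a * f⁻¹) ∈ M
  e2 : (a * (f * a * f⁻¹)) * (a * (f * a * f⁻¹)) = 1
  e1 : a * (f * a * f⁻¹) ≠ 1
  ae : a * (a * (f * a * f⁻¹)) = (a * (f * a * f⁻¹)) * a
  eS : a * (f * a * f⁻¹) ∈ St c
  gS : f * (s * f * s⁻¹) ∈ St c
  bZ : (a * (f * a * f⁻¹)) * (s * (a * (f * a * f⁻¹)) * s⁻¹) ∈ Zc c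
  fn : f ∉ St c

/-- `a (f a f⁻¹) ∈ M` -/
theorem eM (F : EFam 𝓒) (S : Sw 𝓒 c d L M s a) {f : G} (hf : f ∈ M) : a * (f * a * f⁻¹) ∈ M := by
  have h1 := mul_mem (conj_mem_of_cj (S.aN F M S.hM) hf) (inv_mem hf)
  rw [inv_of_sq S.ha2] at h1
  have e : a * (f * a * f⁻¹) = a * f * a * f⁻¹ := by group
  rw [e]; exact h1

theorem conj_sq {f a : G} (h : a * a = 1) : (f * a * f⁻¹) * (f * a * f⁻¹) = 1 := by
  calc (f * a * f⁻¹) * (f * a * f⁻¹) = f * (a * a) * f⁻¹ := by group
    _ = 1 := by rw [h]; group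

theorem conj_ne {f a : G} (h : a ≠ 1) : f * a * f⁻¹ ≠ 1 := by
  intro h1
  apply h
  calc a = f⁻¹ * (f * a * f⁻¹) * f := by group
    _ = 1 := by rw [h1]; group

/-- the conjugate `a ↦ a (e (s e s⁻¹))` by `f (s f s⁻¹)`, in general -/
theorem comp (F : EFam 𝓒) (S : Sw 𝓒 c d L M s a) {f : G} (hf : f ∈ M) :
    (f * (s * f * s⁻¹)) * a * (f * (s * f * s⁻¹))⁻¹ =
      a * ((a * (f * a * f⁻¹)) * (s * (a * (f * a * f⁻¹)) * s⁻¹)) :=
  comp1 (S.hac s S.hs) S.ha2 (S.mm F hf (S.eM F hf))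

/-- (2) -/
theorem out2 [Finite G] (F : EFam 𝓒) (sch : ∀ c ∈ 𝓒, ∀ A ∈ c, Sch A) (S : Sw 𝓒 c d L M s a) {f : G} (hf : f ∈ M)
    (hab : a * (f * a * f⁻¹) = (f * a * f⁻¹) * a) (hne : f * a * f⁻¹ ≠ a) : Out2 c M s a f := by
  have hb2 : (f * a * f⁻¹) * (f * a * f⁻¹) = 1 := conj_sq S.ha2
  have hcomp := S.comp F hf
  have heM := S.eM F hf
  set b := f * a * f⁻¹ with hb
  have he2 : (a * b) * (a * b) = 1 := by
    calc (a * b) * (a * b) = a * (b * a) * b := by group
      _ = (a * a) * (b * b) := by rw [← hab]; group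
      _ = 1 := by rw [S.ha2, hb2, one_mul]
  have he1 : a * b ≠ 1 := by
    intro h
    apply hne
    have h1 := eq_inv_of_mul_eq_one_right h
    rw [h1, inv_of_sq S.ha2]
  have hae : a * (a * b) = (a * b) * a := by rw [mul_assoc, ← hab]
  have heS : a * b ∈ St c := F.cen S.hc (F.inU_of_Zc S.hc (S.aZ F) S.ha1) hae
  have heN := S.toSit.nrm F sch S.hM heM he2 heS
  have hbL : (a * b) * (s * (a * b) * s⁻¹) ∈ L := by
    have h1 := mul_mem (conj_mem_of_cj (heN L S.hL) S.hs) (inv_mem S.hs)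
    have e : (a * b) * s * (a * b)⁻¹ * s⁻¹ = (a * b) * (s * (a * b) * s⁻¹) := by
      rw [inv_of_sq he2]; group
    rwa [e] at h1
  have hL := mul_mem S.ha hbL
  set g := f * (s * f * s⁻¹) with hg
  have hgZ : g * a * g⁻¹ ∈ Zc (cjs g c) := conj_mem_Zc g (S.aZ F)
  have hg1 : g * a * g⁻¹ ≠ 1 := conj_ne S.ha1
  have hgS : g ∈ St c := by
    have h1 : InU c (g * a * g⁻¹) := by
      have := F.inU_of_mem S.hc S.hL hL
      rw [← hcomp] at this
      exact this (conj_sq S.ha2) hg1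
    exact (F.uniq c S.hc _ (F.conj g c S.hc) _ h1 (F.inU_of_Zc (F.conj g c S.hc) hgZ hg1)).symm
  have hbZ : (a * b) * (s * (a * b) * s⁻¹) ∈ Zc c := by
    have h1 := Zc_norm hgS (S.aZ F)
    rw [hcomp] at h1
    have h2 := mul_mem (inv_mem (S.aZ F)) h1
    rwa [inv_mul_cancel_left] at h2
  refine ⟨heM, he2, he1, hae, heS, hgS, hbZ, fun hfS => hne ?_⟩
  have h1 := (S.memY F hf).mp hfS
  rw [hb, ← h1]; group

/-- the conjugate `b` is unique -/
theorem uniq_b [Finite G] (F : EFam 𝓒) (sch : ∀ c ∈ 𝓒, ∀ A ∈ c, Sch A) (S : Sw 𝓒 c d L M s a) {f f' : G} (hf : f ∈ M)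
    (hf' : f' ∈ M) (h : Out2 c M s a f) (h' : Out2 c M s a f') : f' * a * f'⁻¹ = f * a * f⁻¹ := by
  have h1 := S.diff F sch hf hf' h.gS h'.gS h.fn h'.fn
  have h2 := (S.memY F (mul_mem (inv_mem hf) hf')).mp h1
  have h3 : (f⁻¹ * f') * a * (f⁻¹ * f')⁻¹ = a := by rw [← h2]; group
  calc f' * a * f'⁻¹ = f * ((f⁻¹ * f') * a * (f⁻¹ * f')⁻¹) * f⁻¹ := by group
    _ = _ := by rw [h3]

/-- (3): `e` is central in `M` -/
theorem e_central [Finite G] (F : EFam 𝓒) (sch : ∀ c ∈ 𝓒, ∀ A ∈ c, Sch A) (S : Sw 𝓒 c d L M s a) {f : G} (hf : f ∈ M)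
    (hab : a * (f * a * f⁻¹) = (f * a * f⁻¹) * a) (O : Out2 c M s a f) :
    ∀ x ∈ M, (a * (f * a * f⁻¹)) * x = x * (a * (f * a * f⁻¹)) := by
  by_contra hcon
  -- `f` commutes with `e`
  have hff : f * f ∈ St c := by
    have h1 : f⁻¹ * (s * f⁻¹ * s⁻¹) ∈ St c := by
      have h2 := S.mm F (inv_mem hf) (inv_mem hf)
      have e : (f * (s * f * s⁻¹))⁻¹ = (s * f⁻¹ * s⁻¹) * f⁻¹ := by group
      rw [h2, ← e]
      exact inv_mem O.gS
    have h3 : f⁻¹ ∉ St c := fun h => O.fn (by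
      have := inv_mem h
      rwa [inv_inv] at this)
    have h4 := S.diff F sch (inv_mem hf) hf h1 O.gS h3 O.fn
    rwa [inv_inv] at h4
  have hfa := (S.memY F (mul_mem hf hf)).mp hff
  obtain ⟨heM, he2, he1, hae, heS, hgS, hbZ, hfn⟩ := O
  have hfb : f * (f * a * f⁻¹) * f⁻¹ = a := by
    calc f * (f * a * f⁻¹) * f⁻¹ = (f * f) * a * (f * f)⁻¹ := by group
      _ = a := by rw [← hfa]; group
  have hfe : f * (a * (f * a * f⁻¹)) = (a * (f * a * f⁻¹)) * f := by
    calc f * (a * (f * a * f⁻¹)) = (f * a * f⁻¹) * (f * (f * a * f⁻¹) * f⁻¹) * f := by group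
      _ = (f * a * f⁻¹) * a * f := by rw [hfb]
      _ = _ := by rw [← hab]
  set e := a * (f * a * f⁻¹) with he
  have hS' : s * e * s⁻¹ ∈ cj s M := conj_mem_cj heM
  by_cases hb1 : e * (s * e * s⁻¹) = 1
  · -- `e ∈ M ∩ M'`
    have h1 : s * e * s⁻¹ = e := by
      rw [eq_inv_of_mul_eq_one_right hb1, inv_of_sq he2]
    apply hcon
    intro x hx
    have h2 := S.mm F hx heM
    rw [h1] at h2
    exact h2.symm
  · have hbS : e * (s * e * s⁻¹) ∈ St d := mul_mem (F.mem_le_St S.hd S.hM heM) (F.mem_le_St S.hd S.hM' hS')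
    have hbN := S.ns _ hbZ hbS
    refine hfn ((mem_St_iff_comm F S.hc S.hd S.ne hbZ hb1 hbN S.hM hf).mpr ?_)
    have h2 := S.mm F hf heM
    calc e * (s * e * s⁻¹) * f = e * (f * (s * e * s⁻¹)) := by rw [h2]; group
      _ = e * f * (s * e * s⁻¹) := by group
      _ = f * (e * (s * e * s⁻¹)) := by rw [← hfe]; group

theorem e_s [Finite G] (F : EFam 𝓒) (S : Sw 𝓒 c d L M s a) {f : G} (O : Out2 c M s a f)
    (hc : ∀ x ∈ M, (a * (f * a * f⁻¹)) * x = x * (a * (f * a * f⁻¹))) :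
    s * (a * (f * a * f⁻¹)) * s⁻¹ = a * (f * a * f⁻¹) := by
  have hZ : a * (f * a * f⁻¹) ∈ Zc d := mem_Zc_of_mem (F.comm d S.hd) S.hM O.eM O.e2 hc
  have h1 := F.Zc_inter S.hc S.hd S.ne O.bZ (mul_mem hZ (Zc_norm S.hsS hZ))
  rw [eq_inv_of_mul_eq_one_right h1, inv_of_sq O.e2]

/-- (3): `f` exists -/
theorem exists_f [Finite G] (F : EFam 𝓒) (hev : ∀ c ∈ 𝓒, ∀ A ∈ c, 2 ∣ Nat.card A) (S : Sw 𝓒 c d L M s a) :
    ∃ f ∈ M, a * (f * a * f⁻¹) = (f * a * f⁻¹) * a ∧ f * a * f⁻¹ ≠ a := by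
  obtain ⟨f, hf, h1, h2⟩ := ZStar.zst (F.qs d S.hd M S.hM) (hev d S.hd M S.hM) S.ha2 (S.aN F M S.hM) (by
    by_contra hcon
    push Not at hcon
    exact F.not_both S.hc S.hd S.ne (F.inU_of_Zc S.hc (S.aZ F) S.ha1) ⟨S.ha2, S.ha1, M, S.hM, hcon⟩)
  exact ⟨f, hf, h2, h1⟩

end Sw

end two

/-! ### The configuration (sw) for a terminal component -/

section
variable [Finite G] {K : Subgroup G} {c d : Set (Subgroup G)} {L M : Subgroup G} {s a : G}

/-- the output of (4) -/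
structure Out4 (c : Set (Subgroup G)) (L M : Subgroup G) (s a e ep : G) : Prop where
  eM : e ∈ M
  e2 : e * e = 1
  e1 : e ≠ 1
  ec : ∀ x ∈ M, e * x = x * e
  es : s * e * s⁻¹ = e
  pM : ep ∈ M
  p2 : ep * ep = e
  pn : ep ∉ St c
  jS : ep * (s * ep * s⁻¹) ∈ St c
  jN : ep * (s * ep * s⁻¹) ∉ Nm c
  ji : ∀ l ∈ L, (∀ x ∈ L, l * x = x * l) → (∃ k : ℕ, l ^ 2 ^ k = 1) →
    (ep * (s * ep * s⁻¹)) * l * (ep * (s * ep * s⁻¹))⁻¹ = l⁻¹
  uq : ∀ z ∈ L, z * z = 1 → z ≠ 1 → (∀ x ∈ L, z * x = x * z) → z = a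

theorem out4 (hev : EvQ G) (hbal : Bal G) (h : KH K) (F : EFam (Fm K)) (sch : ∀ c ∈ Fm K, ∀ A ∈ c, Sch A)
    (S : Sw (Fm K) c d L M s a) : ∃ e ep : G, Out4 c L M s a e ep := by
  obtain ⟨f, hf, hab, hne⟩ := S.exists_f F fun c hc A hA => hev A (F.qs c hc A hA)
  have O := S.out2 F sch hf hab hne
  have hec := S.e_central F sch hf hab O
  have hes := S.e_s F O hec
  have hb : f * a * f⁻¹ = a * (a * (f * a * f⁻¹)) := by rw [← mul_assoc, S.ha2, one_mul]
  have hae := O.ae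
  have he2 := O.e2
  have he1 := O.e1
  have heM := O.eM
  have hbu : ∀ f' ∈ M, Sw.Out2 c M s a f' → f' * a * f'⁻¹ = a * (a * (f * a * f⁻¹)) := fun f' hf' O' => by
    rw [S.uniq_b F sch hf hf' O O', ← hb]
  generalize a * (f * a * f⁻¹) = e at hec hes hb hae he2 he1 heM hbu
  clear O hab hne hb hf
  clear f
  obtain ⟨w, hw, hw2, hw1, hwe⟩ := F.rk d S.hd M S.hM e
  obtain ⟨f, hf, h1, h2, h3⟩ := zst_mod (F.qs d S.hd M S.hM) he2 hec S.ha2 (S.aN F M S.hM) hae (by
    by_contra hcon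
    push Not at hcon
    exact F.not_both S.hc S.hd S.ne (F.inU_of_Zc S.hc (S.aZ F) S.ha1) ⟨S.ha2, S.ha1, M, S.hM, hcon⟩) hw hw2 hw1 hwe
  have hb2 : (f * a * f⁻¹) * (f * a * f⁻¹) = 1 := Sw.conj_sq S.ha2
  have hpM := S.eM F hf
  have hcomp := S.comp F hf
  have hp2 : (a * (f * a * f⁻¹)) * (a * (f * a * f⁻¹)) = e := by
    rcases h3 with h3 | h3
    · exfalso
      refine h2 (hbu f hf (S.out2 F sch hf ?_ h1))
      have h4 := inv_of_sq h3
      rw [mul_inv_rev, inv_of_sq hb2, inv_of_sq S.ha2] at h4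
      exact h4.symm
    · exact h3
  set ep := a * (f * a * f⁻¹) with hep
  have hpi : ep⁻¹ = (f * a * f⁻¹) * a := by
    rw [hep, mul_inv_rev, inv_of_sq hb2, inv_of_sq S.ha2]
  have hpa : ep * a * ep⁻¹ = a * e := by
    calc ep * a * ep⁻¹ = (a * (f * a * f⁻¹)) * a * ((f * a * f⁻¹) * a) := by rw [hpi]
      _ = (a * (f * a * f⁻¹)) * (a * (f * a * f⁻¹)) * a := by group
      _ = ep * ep * a := by rw [hep]
      _ = a * e := by rw [hp2, hae]
  have hpab : a * (ep * a * ep⁻¹) = e := by rw [hpa, ← mul_assoc, S.ha2, one_mul]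
  have O := S.out2 F sch hpM (by rw [hpab, hpa, mul_assoc, ← hae, ← mul_assoc, S.ha2, one_mul]) (by
    rw [hpa]
    intro h4
    exact he1 (mul_eq_left.mp h4))
  have hjS := O.gS
  have hja : (ep * (s * ep * s⁻¹)) * a * (ep * (s * ep * s⁻¹))⁻¹ = a := by
    rw [S.comp F hpM, hpab, hes, he2, mul_one]
  have hpn := O.fn
  clear O
  have hjN : ep * (s * ep * s⁻¹) ∉ Nm c := fun h4 => hpn (S.mem_of_N0 F sch hpM h4)
  have hj2 : (ep * (s * ep * s⁻¹)) * (ep * (s * ep * s⁻¹)) = 1 := by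
    have h4 := S.mm F hpM hpM
    calc (ep * (s * ep * s⁻¹)) * (ep * (s * ep * s⁻¹)) = ep * ((s * ep * s⁻¹) * ep) * (s * ep * s⁻¹) := by group
      _ = ep * ep * (s * (ep * ep) * s⁻¹) := by rw [← h4]; group
      _ = 1 := by rw [hp2, hes, he2]
  refine ⟨e, ep, ?_⟩
  set j := ep * (s * ep * s⁻¹) with hj
  set g := f * (s * f * s⁻¹) with hg
  have haj : a * j = j * a := by
    calc a * j = (j * a * j⁻¹) * j := by rw [hja]
      _ = j * a := by group
  have hc' : cjs g c ∈ Fm K := F.conj g c S.hc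
  have hajZ : a * j ∈ Zc (cjs g c) := by
    rw [← hcomp]
    exact conj_mem_Zc g (S.aZ F)
  have haj1 : a * j ≠ 1 := by
    rw [← hcomp]
    exact Sw.conj_ne S.ha1
  have haNc : a ∈ Nm c := Zc_le_Nm c (S.aZ F)
  have hcc' : c ≠ cjs g c := by
    intro h4
    rw [← h4] at hajZ
    apply hjN
    have h5 := mul_mem (inv_mem haNc) (Zc_le_Nm c hajZ)
    rwa [inv_mul_cancel_left] at h5
  have hajS : a * j ∈ St c := mul_mem (Nm_le_St c haNc) hjS
  have hLne : cj (a * j) L ≠ L := by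
    intro h4
    apply hjN
    have h5 := mem_Nm_of_cj F S.hc S.c2 S.hL hajS h4
    have h6 := mul_mem (inv_mem haNc) h5
    rwa [inv_mul_cancel_left] at h6
  have haj' : (a * j) * a = a * (a * j) := by
    rw [mul_assoc, ← haj]
  have haS' : a ∈ St (cjs g c) := F.cen hc' (F.inU_of_Zc hc' hajZ haj1) haj'
  obtain ⟨M', T⟩ := exists_SwC hev hbal h F S.hc hc' hcc' hajZ haj1 hajS (S.aZ F) S.ha1 haS' S.hL hLne
  have hCo := T.coL F S.hc
  have hCo' := T.coM F hc'
  have hinv : ∀ l ∈ L, (∀ x ∈ L, l * x = x * l) → (∃ k : ℕ, l ^ 2 ^ k = 1) → j * l * j⁻¹ = l⁻¹ := by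
    intro l hl hlc ⟨k, hk⟩
    have hx1 : l * ((a * j) * l * (a * j)⁻¹) = 1 := by
      by_contra hx
      have hxD := Dg_mem hCo hl
      have hxc : ∀ y ∈ Dg L (a * j) hCo, l * ((a * j) * l * (a * j)⁻¹) * y = y * (l * ((a * j) * l * (a * j)⁻¹)) := by
        intro y hy
        obtain ⟨m, rfl⟩ := hy
        change diag hCo ⟨l, hl⟩ * diag hCo m = diag hCo m * diag hCo ⟨l, hl⟩
        rw [← map_mul, ← map_mul]
        congr 1
        exact Subtype.ext (hlc m m.2)
      have hk2 : (l * ((a * j) * l * (a * j)⁻¹)) ^ 2 ^ k = 1 := by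
        have h4 : Commute l ((a * j) * l * (a * j)⁻¹) := hCo l hl _ (conj_mem_cj hl)
        rw [h4.mul_pow, conj_pow, hk]
        group
      obtain ⟨n, hn2, hn1⟩ := exists_pow_inv (isPGroup_zpowers' ⟨k, hk2⟩) (Subgroup.mem_zpowers _) hx
      have hnD := pow_mem hxD n
      have hnc : ∀ y ∈ Dg L (a * j) hCo, (l * ((a * j) * l * (a * j)⁻¹)) ^ n * y =
          y * (l * ((a * j) * l * (a * j)⁻¹)) ^ n := fun y hy => Commute.pow_left (hxc y hy) n
      have h5 := mem_Zc_of_Dg F S.hc S.hL T.heS hCo hnD hn2 hnc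
      rw [T.eq hCo hCo'] at hnD hnc
      have h6 := mem_Zc_of_Dg F hc' T.hM T.hzS hCo' hnD hn2 hnc
      exact hn1 (F.Zc_inter S.hc hc' hcc' h5 h6)
    have h4 : (a * j) * l * (a * j)⁻¹ = l⁻¹ := eq_inv_of_mul_eq_one_right hx1
    have h5 := S.hac l⁻¹ (inv_mem hl)
    calc j * l * j⁻¹ = a⁻¹ * ((a * j) * l * (a * j)⁻¹) * a := by group
      _ = a⁻¹ * (l⁻¹ * a) := by rw [h4]; group
      _ = l⁻¹ := by rw [← h5]; group
  refine ⟨heM, he2, he1, hec, hes, hpM, hp2, hpn, hjS, hjN, hinv, ?_⟩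
  intro z hz hz2 hz1 hzc
  have h4 := hinv z hz hzc ⟨1, by rw [pow_one, pow_two, hz2]⟩
  rw [inv_of_sq hz2] at h4
  have h5 := S.hac z hz
  have hzZ : z ∈ Zc c := mem_Zc_of_mem (F.comm c S.hc) S.hL hz hz2 hzc
  refine T.eq_z hev hbal h F S.hc hc' hcc' hzZ hz1 (F.cen hc' (F.inU_of_Zc hc' hajZ haj1) ?_)
  calc a * j * z = a * (j * z * j⁻¹) * j := by group
    _ = a * z * j := by rw [h4]
    _ = z * (a * j) := by rw [h5]; group

omit [Finite G] in
/-- uniqueness of the central involution of `M` -/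
theorem Out4.uqM (F : EFam (Fm K)) (S : Sw (Fm K) c d L M s a) {e ep : G} (O : Out4 c L M s a e ep) :
    ∀ z ∈ M, z * z = 1 → z ≠ 1 → (∀ x ∈ M, z * x = x * z) → z = e := by
  obtain ⟨g, hg⟩ := F.tr c S.hc d S.hd L S.hL M S.hM
  have key : ∀ z ∈ M, z * z = 1 → z ≠ 1 → (∀ x ∈ M, z * x = x * z) → g⁻¹ * z * g = a := by
    intro z hz hz2 hz1 hzc
    have hz' : g⁻¹ * z * g ∈ L := by
      rw [← hg, mem_cj] at hz
      exact hz
    refine O.uq _ hz' ?_ ?_ ?_
    · calc g⁻¹ * z * g * (g⁻¹ * z * g) = g⁻¹ * (z * z) * g := by group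
        _ = 1 := by rw [hz2]; group
    · intro h1
      apply hz1
      calc z = g * (g⁻¹ * z * g) * g⁻¹ := by group
        _ = 1 := by rw [h1]; group
    · intro x hx
      have h1 : g * x * g⁻¹ ∈ M := by rw [← hg]; exact conj_mem_cj hx
      have h2 := hzc _ h1
      calc g⁻¹ * z * g * x = g⁻¹ * (z * (g * x * g⁻¹)) * g := by group
        _ = g⁻¹ * ((g * x * g⁻¹) * z) * g := by rw [h2]
        _ = _ := by group
  intro z hz hz2 hz1 hzc
  have h1 := key z hz hz2 hz1 hzc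
  have h2 := key e O.eM O.e2 O.e1 O.ec
  calc z = g * (g⁻¹ * z * g) * g⁻¹ := by group
    _ = g * (g⁻¹ * e * g) * g⁻¹ := by rw [h1, h2]
    _ = e := by group

/-- (5) -/
theorem out5 (F : EFam (Fm K)) (sch : ∀ c ∈ Fm K, ∀ A ∈ c, Sch A) (S : Sw (Fm K) c d L M s a) {e ep : G}
    (O : Out4 c L M s a e ep) : s * s = a ∧ ∀ x ∈ L, e * x * e⁻¹ = s⁻¹ * x * s := by
  have hz : (s * s) * ep * (s * s)⁻¹ ∈ M := conj_mem_of_cj S.ssM O.pM
  have hd1 := comp2 (S.mm F hz O.pM).symm
  have hjS := O.jS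
  have hjN := O.jN
  have hji := O.ji
  set j := ep * (s * ep * s⁻¹) with hj
  have hjL : cj j L ≠ L := fun h1 => hjN (mem_Nm_of_cj F S.hc S.c2 S.hL hjS h1)
  have hcL : ∀ x ∈ L, ∀ y ∈ cj j L, x * y = y * x := F.comm c S.hc L S.hL _ (cj_mem_of_St hjS S.hL) (Ne.symm hjL)
  have hjs : j * s * j⁻¹ ∈ cj j L := conj_mem_cj S.hs
  -- `δ`
  set δ := ep * ((s * s) * ep * (s * s)⁻¹)⁻¹ with hδ
  have hδM : δ ∈ M := mul_mem O.pM (inv_mem hz)
  have hδs : s * δ * s⁻¹ = δ := by
    have h1 := hcL s S.hs _ hjs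
    calc s * δ * s⁻¹ = (s * (j * s * j⁻¹)) * s⁻¹ * s⁻¹ := by rw [← hd1]; group
      _ = j * s * j⁻¹ * s⁻¹ := by rw [h1]; group
      _ = δ := hd1
  have hδc : ∀ x ∈ M, δ * x = x * δ := by
    intro x hx
    have h1 := S.mm F hx hδM
    rw [hδs] at h1
    exact h1.symm
  have hes2 : (s * s) * e * (s * s)⁻¹ = e := by
    calc (s * s) * e * (s * s)⁻¹ = s * (s * e * s⁻¹) * s⁻¹ := by group
      _ = e := by rw [O.es, O.es]
  have hpp : ep = δ * ((s * s) * ep * (s * s)⁻¹) := by rw [hδ]; group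
  have hp'2 : ((s * s) * ep * (s * s)⁻¹) * ((s * s) * ep * (s * s)⁻¹) = e := by
    calc ((s * s) * ep * (s * s)⁻¹) * ((s * s) * ep * (s * s)⁻¹) = (s * s) * (ep * ep) * (s * s)⁻¹ := by group
      _ = e := by rw [O.p2, hes2]
  have hδ2 : δ * δ = 1 := by
    have h1 := O.p2
    have h2 := hδc _ hz
    have h3 : e = δ * δ * e := by
      calc e = ep * ep := h1.symm
        _ = (δ * ((s * s) * ep * (s * s)⁻¹)) * (δ * ((s * s) * ep * (s * s)⁻¹)) := by rw [← hpp]
        _ = δ * (((s * s) * ep * (s * s)⁻¹) * δ) * ((s * s) * ep * (s * s)⁻¹) := by group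
        _ = δ * δ * (((s * s) * ep * (s * s)⁻¹) * ((s * s) * ep * (s * s)⁻¹)) := by rw [← h2]; group
        _ = δ * δ * e := by rw [hp'2]
    exact (mul_eq_right.mp h3.symm)
  have hδ1 : δ ≠ 1 := by
    intro h1
    rw [h1, one_mul] at hpp
    refine O.pn (S.cen_ss F sch ?_)
    calc (s * s) * ep = ((s * s) * ep * (s * s)⁻¹) * (s * s) := by group
      _ = ep * (s * s) := by rw [← hpp]
  have hδe : δ = e := O.uqM F S δ hδM hδ2 hδ1 hδc
  have hjse : j * s * j⁻¹ = e * s := by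
    rw [← hδe, ← hd1]; group
  have hex : ∀ x ∈ L, e * x * e⁻¹ = s⁻¹ * x * s := by
    intro x hx
    have h1 : s⁻¹ * x * s ∈ L := mul_mem (mul_mem (inv_mem S.hs) hx) S.hs
    have h2 := hcL _ h1 _ hjs
    have h3 : e = (j * s * j⁻¹) * s⁻¹ := by rw [hjse]; group
    calc e * x * e⁻¹ = ((j * s * j⁻¹) * s⁻¹) * x * ((j * s * j⁻¹) * s⁻¹)⁻¹ := by rw [← h3]
      _ = (j * s * j⁻¹) * (s⁻¹ * x * s) * (j * s * j⁻¹)⁻¹ := by group
      _ = s⁻¹ * x * s := by rw [← h2]; group
  refine ⟨?_, hex⟩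
  have hsL : s * s ∈ L := mul_mem S.hs S.hs
  have hei := inv_of_sq O.e2
  have hcen : ∀ x ∈ L, (s * s) * x = x * (s * s) := by
    intro x hx
    have h1 := hex x hx
    have h2 := hex (s⁻¹ * x * s) (mul_mem (mul_mem (inv_mem S.hs) hx) S.hs)
    have h3 : x = s⁻¹ * (s⁻¹ * x * s) * s := by
      calc x = e * e * x * (e * e)⁻¹ := by rw [O.e2]; group
        _ = e * (e * x * e⁻¹) * e⁻¹ := by group
        _ = _ := by rw [h1, h2]
    calc (s * s) * x = (s * s) * (s⁻¹ * (s⁻¹ * x * s) * s) := by rw [← h3]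
      _ = x * (s * s) := by group
  have hse : e * s = s * e := by
    calc e * s = (s * e * s⁻¹) * s := by rw [O.es]
      _ = s * e := by group
  have hjss : j * (s * s) * j⁻¹ = s * s := by
    calc j * (s * s) * j⁻¹ = (j * s * j⁻¹) * (j * s * j⁻¹) := by group
      _ = (e * s) * (s * e) := by rw [hjse, hse]
      _ = (e * s) * (e * s) := by rw [hse]
      _ = (e * s) * (s * e) := by rw [hse]
      _ = e * (s * s) * e := by group
      _ = (s * s) * (e * e) := by
        have : e * (s * s) = (s * s) * e := by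
          calc e * (s * s) = (e * s) * s := by group
            _ = (s * e) * s := by rw [hse]
            _ = s * (e * s) := by group
            _ = s * (s * e) := by rw [hse]
            _ = (s * s) * e := by group
        rw [this]; group
      _ = s * s := by rw [O.e2, mul_one]
  have h1 := hji _ hsL hcen S.ss2
  rw [hjss] at h1
  have h2 : (s * s) * (s * s) = 1 := by
    nth_rewrite 1 [h1]
    group
  exact O.uq _ hsL h2 (S.ss_ne F sch) hcen

end

/-! ### Maximal class -/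

theorem mem_zpowers_four {Y : Type*} [Group Y] {y t : Y} (hy : orderOf y = 4) (ht : t ∈ Subgroup.zpowers y)
    (ht2 : t * t = 1) (ht1 : t ≠ 1) : t = y * y := by
  obtain ⟨k, rfl⟩ := Subgroup.mem_zpowers_iff.mp ht
  have h1 : y ^ (k + k) = 1 := by rw [zpow_add]; exact ht2
  have h2 := orderOf_dvd_iff_zpow_eq_one.mpr h1
  rw [hy] at h2
  obtain ⟨m, hm⟩ : ∃ m, k = 2 * m := by
    obtain ⟨n, hn⟩ := h2
    exact ⟨n, by push_cast at hn; omega⟩
  have h3 : (y * y) * (y * y) = 1 := by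
    have := pow_orderOf_eq_one y
    rw [hy] at this
    rw [← pow_two, ← pow_two, ← pow_mul]; exact this
  have h4 : y ^ k ∈ Subgroup.zpowers (y * y) := by
    refine Subgroup.mem_zpowers_iff.mpr ⟨m, ?_⟩
    rw [hm, zpow_mul, zpow_ofNat, pow_two]
  rcases ZStar.mem_zpowers_sq h3 h4 with h | h
  · exact absurd h ht1
  · exact h

theorem cyclic_inv {Y : Type*} [Group Y] [Finite Y] {C : Subgroup Y} (hC : IsCyclic C) {t t' : Y} (ht : t ∈ C)
    (ht' : t' ∈ C) (ht2 : t * t = 1) (ht1 : t ≠ 1) (ht2' : t' * t' = 1) (ht1' : t' ≠ 1) : t = t' := by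
  classical
  have := Fintype.ofFinite C
  by_contra hne
  have h1 := IsCyclic.card_pow_eq_one_le (α := C) (n := 2) (by norm_num)
  have h2 : ({1, ⟨t, ht⟩, ⟨t', ht'⟩} : Finset C) ⊆ Finset.univ.filter fun a : C => a ^ 2 = 1 := by
    intro x hx
    simp only [Finset.mem_insert, Finset.mem_singleton] at hx
    rw [Finset.mem_filter]
    refine ⟨Finset.mem_univ _, ?_⟩
    rcases hx with rfl | rfl | rfl
    · exact one_pow 2
    · exact Subtype.ext (by rw [pow_two]; exact ht2)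
    · exact Subtype.ext (by rw [pow_two]; exact ht2')
  have h3 := Finset.card_le_card h2
  have h4 : ({1, ⟨t, ht⟩, ⟨t', ht'⟩} : Finset C).card = 3 := by
    rw [Finset.card_insert_of_notMem, Finset.card_insert_of_notMem, Finset.card_singleton]
    · rw [Finset.mem_singleton]
      exact fun h => hne (congrArg Subtype.val h)
    · rw [Finset.mem_insert, Finset.mem_singleton]
      rintro (h | h)
      · exact ht1 (congrArg Subtype.val h).symm
      · exact ht1' (congrArg Subtype.val h).symm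
  omega

/-- a perfect group with an element `s` of a Sylow 2-subgroup with `C_P(s) = ⟨s⟩` and `s²` a central involution has
only one involution -/
theorem unique_inv {X : Type*} [Group X] [Finite X] (hperf : commutator X = ⊤) (P : Sylow 2 X) {s a : X}
    (hs : s ∈ (P : Subgroup X)) (hss : s * s = a) (ha2 : a * a = 1) (ha1 : a ≠ 1) (hac : ∀ x, a * x = x * a)
    (hC : ∀ p ∈ (P : Subgroup X), s * p = p * s → p ∈ Subgroup.zpowers s) : ∀ t : X, t * t = 1 → t ≠ 1 → t = a := by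
  have : Fact (Nat.Prime 2) := ⟨Nat.prime_two⟩
  set y : (P : Subgroup X) := ⟨s, hs⟩ with hy
  have hord : orderOf y = 4 := by
    have h1 : y ^ 4 = 1 := by
      apply Subtype.ext
      change s ^ 4 = 1
      calc s ^ 4 = (s * s) * (s * s) := by rw [← pow_two, ← pow_two, ← pow_mul]
        _ = 1 := by rw [hss, ha2]
    have h2 : ¬ y ^ 2 = 1 := by
      intro h
      apply ha1
      rw [← hss, ← pow_two]
      exact congrArg Subtype.val h
    exact orderOf_eq_prime_pow (p := 2) (n := 1) (by rw [pow_one]; exact h2) h1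
  have hyy : ((y * y : (P : Subgroup X)) : X) = a := hss
  have hA4 : Nat.card (Subgroup.zpowers y) = 2 ^ 2 := by rw [Nat.card_zpowers, hord]; norm_num
  have hcen : ∀ p : (P : Subgroup X), y * p = p * y → p ∈ Subgroup.zpowers y := by
    intro p hp
    obtain ⟨k, hk⟩ := Subgroup.mem_zpowers_iff.mp (hC p p.2 (congrArg Subtype.val hp))
    exact Subgroup.mem_zpowers_iff.mpr ⟨k, Subtype.ext hk⟩
  have hCA : Subgroup.centralizer ((Subgroup.zpowers y : Subgroup (P : Subgroup X)) : Set (P : Subgroup X)) =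
      Subgroup.zpowers y := by
    apply le_antisymm
    · intro p hp
      exact hcen p (Subgroup.mem_centralizer_iff.mp hp y (Subgroup.mem_zpowers y))
    · intro p hp
      obtain ⟨k, rfl⟩ := Subgroup.mem_zpowers_iff.mp hp
      rw [Subgroup.mem_centralizer_iff]
      intro q hq
      obtain ⟨m, rfl⟩ := Subgroup.mem_zpowers_iff.mp hq
      exact ((Commute.refl y).zpow_zpow m k)
  obtain ⟨n, hn⟩ := (IsPGroup.iff_card).mp P.2
  have hn2 : 2 ≤ n := by
    have h1 : 2 ^ 2 ∣ 2 ^ n := by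
      rw [← hA4, ← hn]
      exact Subgroup.card_subgroup_dvd_card _
    exact (Nat.pow_dvd_pow_iff_le_right (by norm_num)).mp h1
  have key : ∀ t : (P : Subgroup X), t * t = 1 → t ≠ 1 → t = y * y := by
    intro t ht2 ht1
    by_cases hn3 : 3 ≤ n
    · have hcl := Cfsg.Agent.S0112.result n hn (Subgroup.zpowers y) hA4 hCA
      obtain ⟨C, hCc, hCi⟩ := Cfsg.Agent.S0113.result n hn3 hn hcl
      have hCn : C.Normal := Subgroup.normal_of_index_eq_two hCi
      have hCcard : Nat.card C * 2 = 2 ^ n := by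
        rw [← hn]
        have := Subgroup.card_mul_index C
        rwa [hCi] at this
      have hCeven : 2 ∣ Nat.card C := by
        obtain ⟨m, rfl⟩ : ∃ m, n = m + 2 := ⟨n - 2, by omega⟩
        refine ⟨2 ^ m, ?_⟩
        rw [pow_add] at hCcard
        omega
      obtain ⟨c0, hc0⟩ := exists_prime_orderOf_dvd_card' (G := C) 2 hCeven
      have hc02 : (c0 : (P : Subgroup X)) * c0 = 1 := by
        have := pow_orderOf_eq_one c0
        rw [hc0, pow_two] at this
        exact congrArg Subtype.val this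
      have hc01 : (c0 : (P : Subgroup X)) ≠ 1 := by
        intro h
        have h1 : c0 = 1 := Subtype.ext h
        rw [h1, orderOf_one] at hc0
        omega
      have hc0c : ∀ x : (P : Subgroup X), x * c0 * x⁻¹ = c0 := by
        intro x
        refine cyclic_inv hCc (hCn.conj_mem _ c0.2 x) c0.2 ?_ ?_ hc02 hc01
        · calc x * c0 * x⁻¹ * (x * c0 * x⁻¹) = x * ((c0 : (P : Subgroup X)) * c0) * x⁻¹ := by group
            _ = 1 := by rw [hc02]; group
        · intro h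
          apply hc01
          calc (c0 : (P : Subgroup X)) = x⁻¹ * (x * c0 * x⁻¹) * x := by group
            _ = 1 := by rw [h]; group
      have hc0y : (c0 : (P : Subgroup X)) = y * y := by
        refine mem_zpowers_four hord (hcen _ ?_) hc02 hc01
        calc y * c0 = (y * c0 * y⁻¹) * y := by group
          _ = c0 * y := by rw [hc0c]
      by_cases htC : t ∈ C
      · rw [← hc0y]
        exact cyclic_inv hCc htC c0.2 ht2 ht1 hc02 hc01
      · exfalso
        have hrel : (C.map (P : Subgroup X).subtype).relIndex (P : Subgroup X) = 2 := by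
          have h1 : (C.map (P : Subgroup X).subtype).subgroupOf (P : Subgroup X) = C :=
            Subgroup.comap_map_eq_self_of_injective (Subgroup.subtype_injective _) C
          unfold Subgroup.relIndex
          rw [h1, hCi]
        have hto : orderOf (t : X) = 2 := by
          refine orderOf_eq_prime ?_ (fun h => ht1 (Subtype.ext h))
          rw [pow_two]
          exact congrArg Subtype.val ht2
        rcases Cfsg.Agent.S0111.result P (C.map (P : Subgroup X).subtype) (Subgroup.map_subtype_le _) hrel (t : X) hto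
          t.2 (fun ⟨t', ht', h⟩ => htC (by
            have : t' = t := Subtype.ext h
            rw [← this]; exact ht')) with ⟨N, hN, hNi, htN⟩ | ⟨g, ⟨t', ht', hg⟩⟩
        · have h1 : commutator X ≤ N := by
            have := hN
            have hc2 : Nat.card (X ⧸ N) = 2 := hNi
            have : IsCyclic (X ⧸ N) := isCyclic_of_prime_card hc2
            have h3 : ∀ a b : X ⧸ N, a * b = b * a := fun a b =>
              (IsCyclic.isMulCommutative (α := X ⧸ N)).is_comm.comm a b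
            rw [commutator_def, Subgroup.commutator_le]
            intro a _ b _
            rw [← QuotientGroup.eq_one_iff]
            have h4 : ((⁅a, b⁆ : X) : X ⧸ N) = ⁅(a : X ⧸ N), (b : X ⧸ N)⁆ := rfl
            rw [h4, commutatorElement_def, h3 (a : X ⧸ N) b]
            group
          rw [hperf, top_le_iff] at h1
          rw [h1, Subgroup.index_top] at hNi
          omega
        · have ht'2 : t' * t' = 1 := by
            apply Subtype.ext
            change (t' : X) * t' = 1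
            have hg' : (t' : X) = g * t * g⁻¹ := hg
            have h2 : (t : X) * t = 1 := congrArg Subtype.val ht2
            rw [hg']
            calc g * (t : X) * g⁻¹ * (g * t * g⁻¹) = g * ((t : X) * t) * g⁻¹ := by group
              _ = 1 := by rw [h2]; group
          have hg' : (t' : X) = g * t * g⁻¹ := hg
          have ht'1 : t' ≠ 1 := by
            intro h
            apply ht1
            apply Subtype.ext
            change (t : X) = 1
            have h2 : g * (t : X) * g⁻¹ = 1 := by rw [← hg', h]; rfl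
            calc (t : X) = g⁻¹ * (g * t * g⁻¹) * g := by group
              _ = 1 := by rw [h2]; group
          have h5 : t' = y * y := by
            rw [← hc0y]
            exact cyclic_inv hCc ht' c0.2 ht'2 ht'1 hc02 hc01
          have h6 : g * (t : X) * g⁻¹ = a := by rw [← hg', h5]; exact hyy
          have h7 : (t : X) = a := by
            calc (t : X) = g⁻¹ * (g * t * g⁻¹) * g := by group
              _ = g⁻¹ * (a * g) := by rw [h6]; group
              _ = a := by rw [hac]; group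
          apply htC
          have h8 : t = c0 := by
            rw [hc0y]
            exact Subtype.ext (h7.trans hyy.symm)
          rw [h8]; exact c0.2
    · have hn' : n = 2 := by omega
      have htop : Subgroup.zpowers y = ⊤ := by
        apply Subgroup.eq_top_of_card_eq
        rw [hA4, hn, hn']
      exact mem_zpowers_four hord (by rw [htop]; trivial) ht2 ht1
  intro t ht2 ht1
  obtain ⟨P', hP'⟩ := (isPGroup_zpowers' (x := t) ⟨1, by rw [pow_one, pow_two, ht2]⟩).exists_le_sylow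
  obtain ⟨g, hg⟩ := MulAction.exists_smul_eq X P' P
  have h1 : g * t * g⁻¹ ∈ (P : Subgroup X) := by
    rw [← hg]
    rw [Sylow.coe_subgroup_smul, Subgroup.mem_pointwise_smul_iff_inv_smul_mem]
    rw [← map_inv, MulAut.smul_def, MulAut.conj_apply, inv_inv]
    have e1 : g⁻¹ * (g * t * g⁻¹) * g = t := by group
    rw [e1]
    exact hP' (Subgroup.mem_zpowers t)
  have h2 := key ⟨g * t * g⁻¹, h1⟩ (Subtype.ext (by
    change g * t * g⁻¹ * (g * t * g⁻¹) = 1
    calc g * t * g⁻¹ * (g * t * g⁻¹) = g * (t * t) * g⁻¹ := by group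
      _ = 1 := by rw [ht2]; group)) (fun h => by
    apply ht1
    have h3 : g * t * g⁻¹ = 1 := congrArg Subtype.val h
    calc t = g⁻¹ * (g * t * g⁻¹) * g := by group
      _ = 1 := by rw [h3]; group)
  have h3 : g * t * g⁻¹ = a := (congrArg Subtype.val h2).trans hyy
  calc t = g⁻¹ * (g * t * g⁻¹) * g := by group
    _ = g⁻¹ * (a * g) := by rw [h3]; group
    _ = a := by rw [hac]; group

section
variable [Finite G] {K : Subgroup G} {c d : Set (Subgroup G)} {L M : Subgroup G} {s a : G}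

/-- **(sw) is dead** -/
theorem sw_false (hev : EvQ G) (hbal : Bal G) (h : KH K) (F : EFam (Fm K)) (sch : ∀ c ∈ Fm K, ∀ A ∈ c, Sch A)
    (S : Sw (Fm K) c d L M s a) : False := by
  obtain ⟨e, ep, O⟩ := out4 hev hbal h F sch S
  obtain ⟨hss, hex⟩ := out5 F sch S O
  have gen : ∀ s' : G, s' ∈ L → s' ∈ St d → cj s' M ≠ M → (∃ k : ℕ, s' ^ 2 ^ k = 1) →
      s' * s' = a ∧ ∀ x ∈ L, e * x * e⁻¹ = s'⁻¹ * x * s' := by
    intro s' h1 h2 h3 h4
    have S' : Sw (Fm K) c d L M s' a := { S with hs := h1, hsS := h2, hsM := h3, hs2 := h4 }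
    obtain ⟨e', ep', O'⟩ := out4 hev hbal h F sch S'
    have h5 := out5 F sch S' O'
    have he : e' = e := O.uqM F S e' O'.eM O'.e2 O'.e1 O'.ec
    rw [he] at h5
    exact h5
  obtain ⟨k, hk⟩ := S.hs2
  have hy2 : IsPGroup 2 (Subgroup.zpowers (⟨s, S.hs⟩ : L)) := isPGroup_zpowers' ⟨k, Subtype.ext hk⟩
  obtain ⟨P, hP⟩ := hy2.exists_le_sylow
  have hperf : commutator L = ⊤ := (F.qs c S.hc L S.hL).1.commutator_eq_top
  have heZ : e ∈ Zc d := mem_Zc_of_mem (F.comm d S.hd) S.hM O.eM O.e2 O.ec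
  have h2el : ∀ q ∈ (P : Subgroup L), ∃ k : ℕ, (q : G) ^ 2 ^ k = 1 := by
    intro q hq
    obtain ⟨m, hm⟩ := P.2 ⟨q, hq⟩
    refine ⟨m, ?_⟩
    have h1 : q ^ 2 ^ m = 1 := congrArg Subtype.val hm
    exact congrArg Subtype.val h1
  have key := unique_inv hperf P (s := ⟨s, S.hs⟩) (a := ⟨a, S.ha⟩) (hP (Subgroup.mem_zpowers _)) (Subtype.ext hss)
    (Subtype.ext S.ha2) (fun h1 => S.ha1 (congrArg Subtype.val h1)) (fun x => Subtype.ext (S.hac x x.2)) (by
    intro p hpP hpc'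
    have hpc : s * p = p * s := congrArg Subtype.val hpc'
    have hpL : (p : G) ∈ L := p.2
    have hpe : e * p = p * e := by
      have h1 := hex p hpL
      have h2 : s⁻¹ * p * s = (p : G) := by
        calc s⁻¹ * p * s = s⁻¹ * (p * s) := by group
          _ = p := by rw [← hpc]; group
      rw [h2] at h1
      calc e * p = (e * p * e⁻¹) * e := by group
        _ = p * e := by rw [h1]
    have hpS : (p : G) ∈ St d := F.cen S.hd (F.inU_of_Zc S.hd heZ O.e1) hpe
    have hmem : (p : G) ∈ Subgroup.zpowers s → p ∈ Subgroup.zpowers (⟨s, S.hs⟩ : L) := by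
      intro h1
      obtain ⟨m, hm⟩ := Subgroup.mem_zpowers_iff.mp h1
      exact Subgroup.mem_zpowers_iff.mpr ⟨m, Subtype.ext hm⟩
    apply hmem
    have haz : a ∈ Subgroup.zpowers s := by
      rw [← hss]
      exact mul_mem (Subgroup.mem_zpowers s) (Subgroup.mem_zpowers s)
    by_cases hpM : cj (p : G) M = M
    · obtain ⟨h1, h2⟩ := gen (s * p) (mul_mem S.hs hpL) (mul_mem S.hsS hpS) (by
        rw [cj_mul, hpM]
        exact S.hsM) (h2el _ (mul_mem (hP (Subgroup.mem_zpowers (⟨s, S.hs⟩ : L))) hpP))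
      have hp2 : (p : G) * p = 1 := by
        have h3 : s * p * (s * p) = a * ((p : G) * p) := by
          calc s * p * (s * p) = s * (p * s) * p := by group
            _ = s * s * ((p : G) * p) := by rw [← hpc]; group
            _ = _ := by rw [hss]
        rw [h3] at h1
        exact mul_eq_left.mp h1
      have hpcen : ∀ x ∈ L, (p : G) * x = x * p := by
        intro x hx
        have h3 : s * x * s⁻¹ ∈ L := mul_mem (mul_mem S.hs hx) (inv_mem S.hs)
        have h4 := hex _ h3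
        have h5 := h2 _ h3
        rw [h4] at h5
        have h6 : x = (p : G)⁻¹ * x * p := by
          calc x = s⁻¹ * (s * x * s⁻¹) * s := by group
            _ = (s * p)⁻¹ * (s * x * s⁻¹) * (s * p) := h5
            _ = _ := by group
        calc (p : G) * x = p * ((p : G)⁻¹ * x * p) := by rw [← h6]
          _ = x * p := by group
      by_cases hp1 : (p : G) = 1
      · rw [hp1]; exact one_mem _
      · rw [O.uq p hpL hp2 hp1 hpcen]
        exact haz
    · obtain ⟨h1, h2⟩ := gen p hpL hpS hpM (h2el p hpP)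
      have hq2 : ((p : G) * s⁻¹) * (p * s⁻¹) = 1 := by
        have h3 : s⁻¹ * p = p * s⁻¹ := by
          calc s⁻¹ * p = s⁻¹ * (p * s) * s⁻¹ := by group
            _ = p * s⁻¹ := by rw [← hpc]; group
        calc ((p : G) * s⁻¹) * (p * s⁻¹) = p * (s⁻¹ * p) * s⁻¹ := by group
          _ = (p * p) * (s * s)⁻¹ := by rw [h3]; group
          _ = 1 := by rw [h1, hss]; group
      have hqL : (p : G) * s⁻¹ ∈ L := mul_mem hpL (inv_mem S.hs)
      have hqc : ∀ x ∈ L, ((p : G) * s⁻¹) * x = x * (p * s⁻¹) := by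
        intro x hx
        have h4 := hex x hx
        have h5 := h2 x hx
        rw [h4] at h5
        calc ((p : G) * s⁻¹) * x = p * (s⁻¹ * x * s) * s⁻¹ := by group
          _ = p * ((p : G)⁻¹ * x * p) * s⁻¹ := by rw [h5]
          _ = _ := by group
      by_cases hq1 : (p : G) * s⁻¹ = 1
      · have h6 : (p : G) = s := mul_inv_eq_one.mp hq1
        rw [h6]; exact Subgroup.mem_zpowers s
      · have h6 := O.uq _ hqL hq2 hq1 hqc
        have h7 : (p : G) = a * s := by rw [← h6]; group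
        rw [h7]
        exact mul_mem haz (Subgroup.mem_zpowers s))
  obtain ⟨w, hw, hw2, hw1, hwa⟩ := F.rk c S.hc L S.hL a
  have h1 := key ⟨w, hw⟩ (Subtype.ext hw2) (fun h2 => hw1 (congrArg Subtype.val h2))
  exact hwa (congrArg Subtype.val h1)

/-- **(sw), `n = 2`**, in the frame `Sit` -/
theorem mem_Nm_of_sit (hev : EvQ G) (hbal : Bal G) (h : KH K) (F : EFam (Fm K)) (sch : ∀ c ∈ Fm K, ∀ A ∈ c, Sch A)
    (S : Sit (Fm K) c d) (had : EvDefs.Ad c d) (hL : L ∈ c) (hs : s ∈ L) (h2s : ∃ k : ℕ, s ^ 2 ^ k = 1)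
    (hsd : s ∈ St d) : s ∈ Nm d := by
  obtain ⟨y, hy, hy1, hyS⟩ := had
  have hyN := S.ns' y hy hyS
  have hX : cj y (L ⊓ Zc c) = L ⊓ Zc c := by rw [cj_inf, hyN L hL, cj_Zc hyS]
  obtain ⟨a0, ha0, ha02, ha01, ha0c⟩ := F.ec c S.hc L hL
  obtain ⟨a, ha, ha2, ha1, hya⟩ := exists_fixed_inv (Zc_sq hy) hX
    ⟨a0, Subgroup.mem_inf.mpr ⟨ha0, mem_Zc_of_mem (F.comm c S.hc) hL ha0 ha02 ha0c⟩, ha02, ha01⟩
  rw [Subgroup.mem_inf] at ha
  have haS : a ∈ St d := F.cen S.hd (F.inU_of_Zc S.hd hy hy1) hya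
  intro M hM
  by_contra hne
  exact sw_false hev hbal h F sch
    { S with hL := hL, hM := hM, hs := hs, hsS := hsd, hsM := hne, hs2 := h2s, ha := ha.1, ha2 := ha2, ha1 := ha1,
             hac := ha.2.2.2 L hL, haS := haS }

/-- **(sw), `n = 2`** -/
theorem sw_two (hev : EvQ G) (hbal : Bal G) (h : KH K) (F : EFam2 (Fm K)) (sch : ∀ c ∈ Fm K, ∀ A ∈ c, Sch A)
    (two : ∀ c ∈ Fm K, AtMostTwo c) (hc : c ∈ Fm K) (hd : d ∈ Fm K) (hcd : c ≠ d) {u : G} (hu : InU c u)
    (hun : u ∈ Nm d) (hL : L ∈ c) (hs : s ∈ L) (h2s : ∃ k : ℕ, s ^ 2 ^ k = 1) (hsd : s ∈ St d) : s ∈ Nm d :=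
  mem_Nm_of_sit hev hbal h F.toEFam sch
    ⟨hc, hd, hcd, two c hc, two d hd, F.nsw c hc d hd hcd u hu hun, F.nsw' c hc d hd hcd u hu hun⟩
    (EvDefs.Ad.of_inU F.toEFam hc hd hu (Nm_le_St d hun)) hL hs h2s hsd

end

end Cfsg.Agent.OddHalf.D3.EvSwTwo
end

-- part: OddHalf/DblR/SheetMinus
section
prune_inst 0x301041407422020000180582310004203400009200630801d1600342024f31222d012701462018101854a60010050060024c001000200000000004000005052180805202b36ca10426000f802082000000000000000000000000000000041004200000000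
set_option linter.all false
open scoped Cfsg.Agent.FastGrp

-- merged: Cfsg.Agent.OddHalf.DblR.MinusComb
section

/-!
# ODD, D4: the root system `B_n` with the labels `C_n`, combinatorics of the roots `± ε_i ± ε_j`

helper328.

* `ev v x` : the coordinate of `v` at the signed index `x`; `dl c x` : its value for `wt c`;
* `a2_rt` : `rt x y`, `rt (ng y) z` form an `A2`-pair;
* `two_rt` : the only root at acute angles with both is the sum.
-/

set_option autoImplicit false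
set_option linter.unusedSectionVars false

namespace Cfsg.Agent.OddHalf.DblR.MinusComb

open CoxeterSystem Cfsg.Agent.ChevalleyStructure.CoxeterGeom Cfsg.Agent.Tits.Roots Cfsg.Agent.Tits.Core
  Cfsg.Agent.Tits.RootComb Cfsg.Agent.Nodes.TypeC
  Cfsg.Agent.Nodes.Comb Cfsg.Agent.Nodes.Reps Cfsg.Agent.Nodes.BNOf
  Cfsg.Agent.Nodes.StabComb Cfsg.Agent.Nodes.Coroot Cfsg.Agent.Nodes.KindBC Cfsg.Agent.Nodes.TypeCForm
  Cfsg.Agent.Nodes.PosPair Cfsg.Agent.KFacts.RgdSL Cfsg.Agent.KFacts.RgdTI Cfsg.Agent.KFacts.RgdPar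

variable {n : ℕ}

/-- the coordinate of `v` at the signed index `x` -/
def ev (v : Fin n → ℤ) (x : Fin n × Bool) : ℤ := ee v x.1 * sn x

/-- the coordinate of `wt c` at the signed index `x` -/
def dl (c x : Fin n × Bool) : ℤ := if c = x then 1 else if c = ng x then -1 else 0

theorem sn_ng (x : Fin n × Bool) : sn (ng x) = -sn x := by
  unfold sn
  rcases x with ⟨i, b⟩
  cases b <;> rfl

theorem sn_sq (x : Fin n × Bool) : sn x * sn x = 1 := by
  rcases sn_eq_one_or x with h | h <;> rw [h] <;> norm_num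

theorem dl_self (x : Fin n × Bool) : dl x x = 1 := if_pos rfl

theorem ng_ne (x : Fin n × Bool) : ng x ≠ x := by
  intro h
  have := congrArg Prod.snd h
  rcases x with ⟨i, b⟩
  cases b <;> simp [ng] at this

theorem dl_ng (x : Fin n × Bool) : dl (ng x) x = -1 := by
  unfold dl
  rw [if_neg (ng_ne x), if_pos rfl]

theorem dl_of_ne {c x : Fin n × Bool} (h : c.1 ≠ x.1) : dl c x = 0 := by
  unfold dl
  rw [if_neg (by rintro rfl; exact h rfl), if_neg (by rintro rfl; exact h rfl)]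

theorem cases_eq {c x : Fin n × Bool} (h : c.1 = x.1) : c = x ∨ c = ng x := by
  rcases c with ⟨i, b⟩
  rcases x with ⟨j, b'⟩
  simp only at h
  subst h
  cases b <;> cases b' <;> simp [ng]

theorem dl_cases (c x : Fin n × Bool) : (c = x ∧ dl c x = 1) ∨ (c = ng x ∧ dl c x = -1) ∨ (c.1 ≠ x.1 ∧ dl c x = 0) := by
  by_cases h : c.1 = x.1
  · rcases cases_eq h with rfl | rfl
    · exact Or.inl ⟨rfl, dl_self _⟩
    · exact Or.inr (Or.inl ⟨rfl, dl_ng _⟩)
  · exact Or.inr (Or.inr ⟨h, dl_of_ne h⟩)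

theorem dl_ng_right (c x : Fin n × Bool) : dl c (ng x) = -dl c x := by
  rcases dl_cases c x with ⟨rfl, h⟩ | ⟨rfl, h⟩ | ⟨h1, h⟩
  · rw [h]
    have := dl_ng (ng c)
    rwa [ng_ng] at this
  · rw [h, dl_self]; norm_num
  · rw [h, dl_of_ne (x := ng x) h1]; norm_num

theorem wt_ev (c x : Fin n × Bool) : wt c x.1 * sn x = dl c x := by
  rcases dl_cases c x with ⟨rfl, h⟩ | ⟨rfl, h⟩ | ⟨h1, h⟩
  · rw [h, wt_apply_self, sn_sq]
  · rw [h, wt_ng, Pi.neg_apply, wt_apply_self, neg_mul, sn_sq]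
  · rw [h, wt_apply_ne (Ne.symm h1), zero_mul]

theorem ev_rt (c d x : Fin n × Bool) : ev (_root_.Cfsg.Agent.Nodes.KindBC.rt c d) x = dl c x + dl d x := by
  unfold ev
  rw [ee_rt, Pi.add_apply, add_mul, wt_ev, wt_ev]

theorem ev_add (v w : Fin n → ℤ) (x : Fin n × Bool) : ev (v + w) x = ev v x + ev w x := by
  unfold ev
  rw [ee_add, Pi.add_apply, add_mul]

theorem ev_smul (m : ℤ) (v : Fin n → ℤ) (x : Fin n × Bool) : ev (m • v) x = m * ev v x := by
  unfold ev
  rw [ee_smul, Pi.smul_apply, smul_eq_mul, mul_assoc]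

theorem ev_neg (v : Fin n → ℤ) (x : Fin n × Bool) : ev (-v) x = -ev v x := by
  unfold ev
  rw [ee_neg, Pi.neg_apply, neg_mul]

theorem ok_iff {c d : Fin n × Bool} : Ok c d ↔ d ≠ ng c := by
  constructor
  · rintro (h | rfl) h'
    · rw [h'] at h; exact h rfl
    · exact ng_ne c h'.symm
  · intro h
    by_cases h1 : d.1 = c.1
    · rcases cases_eq h1 with rfl | rfl
      · exact Or.inr rfl
      · exact absurd rfl h
    · exact Or.inl (Ne.symm h1)

theorem rt_add {x y z : Fin n × Bool} : _root_.Cfsg.Agent.Nodes.KindBC.rt x y + _root_.Cfsg.Agent.Nodes.KindBC.rt (ng y) z = _root_.Cfsg.Agent.Nodes.KindBC.rt x z := by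
  apply ee_injective
  rw [ee_add, ee_rt, ee_rt, ee_rt, wt_ng]
  abel

theorem neg_rt (x y : Fin n × Bool) : -_root_.Cfsg.Agent.Nodes.KindBC.rt x y = _root_.Cfsg.Agent.Nodes.KindBC.rt (ng x) (ng y) := (rt_ng x y).symm

/-- position of a signed index with respect to two others -/
theorem cases2 {x y : Fin n × Bool} (hxy : x.1 ≠ y.1) (c : Fin n × Bool) :
    (c = x ∧ dl c x = 1 ∧ dl c y = 0) ∨ (c = ng x ∧ dl c x = -1 ∧ dl c y = 0) ∨
    (c = y ∧ dl c x = 0 ∧ dl c y = 1) ∨ (c = ng y ∧ dl c x = 0 ∧ dl c y = -1) ∨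
    ((c.1 ≠ x.1 ∧ c.1 ≠ y.1) ∧ dl c x = 0 ∧ dl c y = 0) := by
  rcases dl_cases c x with ⟨h, h1⟩ | ⟨h, h1⟩ | ⟨h, h1⟩
  · exact Or.inl ⟨h, h1, dl_of_ne (by rw [h]; exact hxy)⟩
  · exact Or.inr (Or.inl ⟨h, h1, dl_of_ne (by rw [h]; exact hxy)⟩)
  · rcases dl_cases c y with ⟨h2, h3⟩ | ⟨h2, h3⟩ | ⟨h2, h3⟩
    · exact Or.inr (Or.inr (Or.inl ⟨h2, h1, h3⟩))
    · exact Or.inr (Or.inr (Or.inr (Or.inl ⟨h2, h1, h3⟩)))
    · exact Or.inr (Or.inr (Or.inr (Or.inr ⟨⟨h, h2⟩, h1, h3⟩)))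

/-- position of a signed index with respect to three others -/
theorem cases3 {x y z : Fin n × Bool} (hxy : x.1 ≠ y.1) (hxz : x.1 ≠ z.1) (hyz : y.1 ≠ z.1) (c : Fin n × Bool) :
    (c = x ∧ dl c x = 1 ∧ dl c y = 0 ∧ dl c z = 0) ∨ (c = ng x ∧ dl c x = -1 ∧ dl c y = 0 ∧ dl c z = 0) ∨
    (c = y ∧ dl c x = 0 ∧ dl c y = 1 ∧ dl c z = 0) ∨ (c = ng y ∧ dl c x = 0 ∧ dl c y = -1 ∧ dl c z = 0) ∨
    (c = z ∧ dl c x = 0 ∧ dl c y = 0 ∧ dl c z = 1) ∨ (c = ng z ∧ dl c x = 0 ∧ dl c y = 0 ∧ dl c z = -1) ∨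
    ((c.1 ≠ x.1 ∧ c.1 ≠ y.1 ∧ c.1 ≠ z.1) ∧ dl c x = 0 ∧ dl c y = 0 ∧ dl c z = 0) := by
  rcases dl_cases c z with ⟨h, h1⟩ | ⟨h, h1⟩ | ⟨h, h1⟩
  · exact Or.inr (Or.inr (Or.inr (Or.inr (Or.inl ⟨h, dl_of_ne (by rw [h]; exact hxz.symm),
      dl_of_ne (by rw [h]; exact hyz.symm), h1⟩))))
  · exact Or.inr (Or.inr (Or.inr (Or.inr (Or.inr (Or.inl ⟨h, dl_of_ne (by rw [h]; exact hxz.symm),
      dl_of_ne (by rw [h]; exact hyz.symm), h1⟩)))))
  · rcases cases2 hxy c with ⟨h2, h3, h4⟩ | ⟨h2, h3, h4⟩ | ⟨h2, h3, h4⟩ | ⟨h2, h3, h4⟩ | ⟨⟨h2, h2'⟩, h3, h4⟩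
    · exact Or.inl ⟨h2, h3, h4, h1⟩
    · exact Or.inr (Or.inl ⟨h2, h3, h4, h1⟩)
    · exact Or.inr (Or.inr (Or.inl ⟨h2, h3, h4, h1⟩))
    · exact Or.inr (Or.inr (Or.inr (Or.inl ⟨h2, h3, h4, h1⟩)))
    · exact Or.inr (Or.inr (Or.inr (Or.inr (Or.inr (Or.inr ⟨⟨h2, h2', h⟩, h3, h4, h1⟩)))))

/-- two signed indices with positive coordinates at `x` and `z` -/
theorem pos_two {x z : Fin n × Bool} (hxz : x.1 ≠ z.1) {c d : Fin n × Bool} (h1 : 0 < dl c x + dl d x)
    (h2 : 0 < dl c z + dl d z) : (c = x ∧ d = z) ∨ (c = z ∧ d = x) := by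
  rcases cases2 hxz c with ⟨hc, h3, h4⟩ | ⟨hc, h3, h4⟩ | ⟨hc, h3, h4⟩ | ⟨hc, h3, h4⟩ | ⟨hc, h3, h4⟩ <;>
  rcases cases2 hxz d with ⟨hd, h5, h6⟩ | ⟨hd, h5, h6⟩ | ⟨hd, h5, h6⟩ | ⟨hd, h5, h6⟩ | ⟨hd, h5, h6⟩ <;>
  [((exfalso; omega)); ((exfalso; omega)); (exact Or.inl ⟨hc, hd⟩); ((exfalso; omega)); ((exfalso; omega)); ((exfalso; omega)); ((exfalso; omega));
   ((exfalso; omega)); ((exfalso; omega)); ((exfalso; omega)); (exact Or.inr ⟨hc, hd⟩); ((exfalso; omega)); ((exfalso; omega)); ((exfalso; omega));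
   ((exfalso; omega)); ((exfalso; omega)); ((exfalso; omega)); ((exfalso; omega)); ((exfalso; omega)); ((exfalso; omega)); ((exfalso; omega));
   ((exfalso; omega)); ((exfalso; omega)); ((exfalso; omega)); ((exfalso; omega))]

section

variable {W : Type*} [Group W] (cs : CoxeterSystem (CoxeterMatrix.B n) W)

theorem cpr_ne [Finite W] (v : Fin n → ℤ) {x y : Fin n × Bool} (h : x.1 ≠ y.1) :
    cpr cs (isCartan n) v (_root_.Cfsg.Agent.Nodes.KindBC.rt x y) = ev v x + ev v y := cpr_rt cs v h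

theorem cpr_same [Finite W] (v : Fin n → ℤ) (x : Fin n × Bool) :
    cpr cs (isCartan n) v (_root_.Cfsg.Agent.Nodes.KindBC.rt x x) = ev v x := cpr_rt_self cs v x

theorem btwn_one {x y z : Fin n × Bool} (hxy : x.1 ≠ y.1) (hxz : x.1 ≠ z.1) (hyz : y.1 ≠ z.1) {v : Fin n → ℤ}
    (hv : Btwn cs (isCartan n) (_root_.Cfsg.Agent.Nodes.KindBC.rt x y) (_root_.Cfsg.Agent.Nodes.KindBC.rt (ng y) z) v) : v = _root_.Cfsg.Agent.Nodes.KindBC.rt x z := by
  obtain ⟨hvr, m, a, b, hm, ha, hb, he⟩ := hv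
  obtain ⟨c, d, -, rfl⟩ := exists_rt hvr
  have key : ∀ w, m * (dl c w + dl d w) = a * (dl x w + dl y w) + b * (dl (ng y) w + dl z w) := by
    intro w
    have := congrArg (fun v => ev v w) he
    simp only [ev_add, ev_smul, ev_rt] at this
    exact this
  have k1 := key x
  have k2 := key z
  rw [dl_self, dl_of_ne hxy.symm, dl_of_ne (c := ng y) hxy.symm, dl_of_ne hxz.symm] at k1
  rw [dl_self, dl_of_ne hxz, dl_of_ne hyz, dl_of_ne (c := ng y) hyz] at k2
  have h1 : 0 < dl c x + dl d x := by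
    have : 0 < m * (dl c x + dl d x) := by rw [k1]; omega
    exact (mul_pos_iff_of_pos_left hm).1 this
  have h2 : 0 < dl c z + dl d z := by
    have : 0 < m * (dl c z + dl d z) := by rw [k2]; omega
    exact (mul_pos_iff_of_pos_left hm).1 this
  rcases pos_two hxz h1 h2 with ⟨rfl, rfl⟩ | ⟨rfl, rfl⟩
  · rfl
  · exact rt_comm _ _

theorem btwn_two {x y z : Fin n × Bool} (hxy : x.1 ≠ y.1) (hxz : x.1 ≠ z.1) (hyz : y.1 ≠ z.1) {v : Fin n → ℤ} :
    ¬ Btwn cs (isCartan n) (-_root_.Cfsg.Agent.Nodes.KindBC.rt x y) (_root_.Cfsg.Agent.Nodes.KindBC.rt (ng y) z) v := by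
  rintro ⟨hvr, m, a, b, hm, ha, hb, he⟩
  obtain ⟨c, d, -, rfl⟩ := exists_rt hvr
  have key : ∀ w, m * (dl c w + dl d w) = -a * (dl x w + dl y w) + b * (dl (ng y) w + dl z w) := by
    intro w
    have := congrArg (fun v => ev v w) he
    simp only [ev_add, ev_smul, ev_rt, ev_neg] at this
    linarith
  have k1 := key (ng x)
  have k2 := key z
  have k3 := key (ng y)
  have n1 : dl (ng y) (ng x) = 0 := dl_of_ne (c := ng y) (x := ng x) hxy.symm
  have n2 : dl z (ng x) = 0 := dl_of_ne (c := z) (x := ng x) hxz.symm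
  have n3 : dl z (ng y) = 0 := dl_of_ne (c := z) (x := ng y) hyz.symm
  rw [n1, n2, dl_ng_right x x, dl_self, dl_ng_right y x, dl_of_ne hxy.symm] at k1
  rw [dl_self, dl_of_ne hxz, dl_of_ne hyz, dl_of_ne (c := ng y) hyz] at k2
  rw [n3, dl_self, dl_ng_right x y, dl_of_ne hxy, dl_ng_right y y, dl_self] at k3
  have h1 : 0 < dl c (ng x) + dl d (ng x) := by
    have : 0 < m * (dl c (ng x) + dl d (ng x)) := by rw [k1]; omega
    exact (mul_pos_iff_of_pos_left hm).1 this
  have h2 : 0 < dl c z + dl d z := by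
    have : 0 < m * (dl c z + dl d z) := by rw [k2]; omega
    exact (mul_pos_iff_of_pos_left hm).1 this
  have h3 : 0 < dl c (ng y) + dl d (ng y) := by
    have : 0 < m * (dl c (ng y) + dl d (ng y)) := by rw [k3]; omega
    exact (mul_pos_iff_of_pos_left hm).1 this
  rcases pos_two (x := ng x) (z := z) hxz h1 h2 with ⟨rfl, rfl⟩ | ⟨rfl, rfl⟩
  · rw [dl_of_ne (c := ng x) (x := ng y) hxy, n3] at h3
    omega
  · rw [dl_of_ne (c := ng x) (x := ng y) hxy, n3] at h3
    omega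

/-- **`A2`-pairs.** -/
theorem a2_rt [Finite W] {x y z : Fin n × Bool} (hxy : x.1 ≠ y.1) (hxz : x.1 ≠ z.1) (hyz : y.1 ≠ z.1) :
    A2 cs (isCartan n) (_root_.Cfsg.Agent.Nodes.KindBC.rt x y) (_root_.Cfsg.Agent.Nodes.KindBC.rt (ng y) z) where
  rx := _root_.Cfsg.Agent.Nodes.KindBC.isRoot_rt cs (Or.inl hxy)
  ry := _root_.Cfsg.Agent.Nodes.KindBC.isRoot_rt cs (Or.inl hyz)
  cxy := by
    rw [cpr_ne cs _ (x := ng y) (y := z) hyz, ev_rt, ev_rt, dl_ng_right, dl_ng_right, dl_of_ne hxy, dl_self,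
      dl_of_ne hxz, dl_of_ne hyz]; norm_num
  cyx := by
    rw [cpr_ne cs _ hxy, ev_rt, ev_rt, dl_of_ne (c := ng y) hxy.symm, dl_of_ne hxz.symm, dl_ng,
      dl_of_ne hyz.symm]; norm_num
  b1 v hv := by rw [rt_add]; exact btwn_one cs hxy hxz hyz hv
  b2 v := btwn_two cs hxy hxz hyz
  b3 v hv := by
    rw [rt_add, neg_rt, rt_comm (ng x) (ng y)] at hv
    have h1 : Btwn cs (isCartan n) (_root_.Cfsg.Agent.Nodes.KindBC.rt (ng y) (ng x)) (_root_.Cfsg.Agent.Nodes.KindBC.rt (ng (ng x)) z) v := by rwa [ng_ng]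
    exact btwn_one cs (x := ng y) (y := ng x) (z := z) hxy.symm hyz hxz h1
  b4 v hv := by
    rw [rt_add, neg_rt, ng_ng, rt_comm x z] at hv
    have h1 : Btwn cs (isCartan n) (_root_.Cfsg.Agent.Nodes.KindBC.rt y (ng z)) (_root_.Cfsg.Agent.Nodes.KindBC.rt (ng (ng z)) x) v := by rwa [ng_ng]
    rw [btwn_one cs (x := y) (y := ng z) (z := x) hyz hxy.symm hxz.symm h1, rt_comm]
  b5 v hv := by
    rw [rt_add] at hv
    have h1 : Btwn cs (isCartan n) (-_root_.Cfsg.Agent.Nodes.KindBC.rt (ng x) (ng z)) (_root_.Cfsg.Agent.Nodes.KindBC.rt (ng (ng z)) (ng y)) v := by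
      rw [neg_rt, ng_ng, ng_ng, rt_comm z (ng y)]
      exact hv
    exact btwn_two cs (x := ng x) (y := ng z) (z := ng y) hxz hxy hyz.symm h1
  b6 v hv := by
    rw [rt_add] at hv
    have h1 : Btwn cs (isCartan n) (-_root_.Cfsg.Agent.Nodes.KindBC.rt (ng z) (ng x)) (_root_.Cfsg.Agent.Nodes.KindBC.rt (ng (ng x)) y) v := by
      rw [neg_rt, ng_ng, ng_ng, rt_comm z x]
      exact hv
    exact btwn_two cs (x := ng z) (y := ng x) (z := y) hxz.symm hyz.symm hxy h1

/-- two roots `± ε_i ± ε_j` at 120 degrees -/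
theorem exists_z [Finite W] {x y : Fin n × Bool} (hxy : x.1 ≠ y.1) {b : Fin n → ℤ} (hb : IsRoot cs (isCartan n) b)
    (h : cpr cs (isCartan n) b (_root_.Cfsg.Agent.Nodes.KindBC.rt x y) = -1) : ∃ z : Fin n × Bool, (z.1 ≠ x.1 ∧ z.1 ≠ y.1) ∧
      (b = _root_.Cfsg.Agent.Nodes.KindBC.rt (ng y) z ∨ b = _root_.Cfsg.Agent.Nodes.KindBC.rt (ng x) z) := by
  obtain ⟨c, d, hcd, rfl⟩ := exists_rt hb
  rw [cpr_ne cs _ hxy, ev_rt, ev_rt] at h
  rcases cases2 hxy c with ⟨hc, h3, h4⟩ | ⟨hc, h3, h4⟩ | ⟨hc, h3, h4⟩ | ⟨hc, h3, h4⟩ | ⟨hc, h3, h4⟩ <;>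
  rcases cases2 hxy d with ⟨hd, h5, h6⟩ | ⟨hd, h5, h6⟩ | ⟨hd, h5, h6⟩ | ⟨hd, h5, h6⟩ | ⟨hd, h5, h6⟩ <;>
  first
  | (exfalso; (clear * - h h3 h4 h5 h6; omega))
  | (refine ⟨d, hd, Or.inr ?_⟩; rw [hc]; done)
  | (refine ⟨d, hd, Or.inl ?_⟩; rw [hc]; done)
  | (refine ⟨c, hc, Or.inr ?_⟩; rw [hd, rt_comm]; done)
  | (refine ⟨c, hc, Or.inl ?_⟩; rw [hd, rt_comm]; done)

/-- two roots `± ε_i ± ε_j` at 60 degrees -/
theorem exists_z_pos [Finite W] {r s : Fin n → ℤ} (hr : r ∈ RB n) (hs : IsRoot cs (isCartan n) s)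
    (h : cpr cs (isCartan n) s r = 1) : ∃ x y z : Fin n × Bool, (x.1 ≠ y.1 ∧ x.1 ≠ z.1 ∧ y.1 ≠ z.1) ∧
      r = _root_.Cfsg.Agent.Nodes.KindBC.rt x y ∧ s = _root_.Cfsg.Agent.Nodes.KindBC.rt x z := by
  obtain ⟨x, y, hxy, rfl⟩ := mem_RB.1 hr
  obtain ⟨c, d, hcd, rfl⟩ := exists_rt hs
  rw [cpr_ne cs _ hxy, ev_rt, ev_rt] at h
  rcases cases2 hxy c with ⟨hc, h3, h4⟩ | ⟨hc, h3, h4⟩ | ⟨hc, h3, h4⟩ | ⟨hc, h3, h4⟩ | ⟨hc, h3, h4⟩ <;>
  rcases cases2 hxy d with ⟨hd, h5, h6⟩ | ⟨hd, h5, h6⟩ | ⟨hd, h5, h6⟩ | ⟨hd, h5, h6⟩ | ⟨hd, h5, h6⟩ <;>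
  first
  | (exfalso; (clear * - h h3 h4 h5 h6; omega))
  | (refine ⟨x, y, d, ⟨hxy, hd.1.symm, hd.2.symm⟩, rfl, ?_⟩; rw [hc]; done)
  | (refine ⟨y, x, d, ⟨hxy.symm, hd.2.symm, hd.1.symm⟩, rt_comm _ _, ?_⟩; rw [hc]; done)
  | (refine ⟨x, y, c, ⟨hxy, hc.1.symm, hc.2.symm⟩, rfl, ?_⟩; rw [hd, rt_comm]; done)
  | (refine ⟨y, x, c, ⟨hxy.symm, hc.2.symm, hc.1.symm⟩, rt_comm _ _, ?_⟩; rw [hd, rt_comm]; done)

theorem two_aux [Finite W] {x y z : Fin n × Bool} (hxy : x.1 ≠ y.1) (hxz : x.1 ≠ z.1) (hyz : y.1 ≠ z.1)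
    {v : Fin n → ℤ} (hv : IsRoot cs (isCartan n) v) (h1 : 0 < cpr cs (isCartan n) v (_root_.Cfsg.Agent.Nodes.KindBC.rt x y))
    (h2 : 0 < cpr cs (isCartan n) v (_root_.Cfsg.Agent.Nodes.KindBC.rt (ng y) z)) : v = _root_.Cfsg.Agent.Nodes.KindBC.rt x z := by
  obtain ⟨c, d, hcd, rfl⟩ := exists_rt hv
  rw [cpr_ne cs _ hxy, ev_rt, ev_rt] at h1
  rw [cpr_ne cs _ (x := ng y) (y := z) hyz, ev_rt, ev_rt, dl_ng_right, dl_ng_right] at h2
  rcases cases3 hxy hxz hyz c with ⟨hc, h3, h4, h7⟩ | ⟨hc, h3, h4, h7⟩ | ⟨hc, h3, h4, h7⟩ | ⟨hc, h3, h4, h7⟩ |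
    ⟨hc, h3, h4, h7⟩ | ⟨hc, h3, h4, h7⟩ | ⟨hc, h3, h4, h7⟩ <;>
  rcases cases3 hxy hxz hyz d with ⟨hd, h5, h6, h8⟩ | ⟨hd, h5, h6, h8⟩ | ⟨hd, h5, h6, h8⟩ | ⟨hd, h5, h6, h8⟩ |
    ⟨hd, h5, h6, h8⟩ | ⟨hd, h5, h6, h8⟩ | ⟨hd, h5, h6, h8⟩ <;>
  first
  | (exfalso; (clear * - h2 h4 h7 h6 h8 h1 h3 h5; omega))
  | (rw [hc, hd]; done)
  | (rw [hc, hd, rt_comm]; done)

/-- **The only root at acute angles with two roots at 120 degrees is the sum.** -/
theorem two_rt [Finite W] {a : Fin n → ℤ} (ha : a ∈ RB n) {b : Fin n → ℤ} (hb : IsRoot cs (isCartan n) b)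
    (hba : cpr cs (isCartan n) b a = -1) {v : Fin n → ℤ} (hv : IsRoot cs (isCartan n) v)
    (h1 : 0 < cpr cs (isCartan n) v a) (h2 : 0 < cpr cs (isCartan n) v b) : v = a + b := by
  obtain ⟨x, y, hxy, rfl⟩ := mem_RB.1 ha
  obtain ⟨z, ⟨hzx, hzy⟩, rfl | rfl⟩ := exists_z cs hxy hb hba
  · rw [rt_add]
    exact two_aux cs hxy hzx.symm hzy.symm hv h1 h2
  · rw [rt_comm x y, rt_add]
    rw [rt_comm] at h1
    exact two_aux cs hxy.symm hzy.symm hzx.symm hv h1 h2

end

end Cfsg.Agent.OddHalf.DblR.MinusComb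

end

-- merged: Cfsg.Agent.OddHalf.DblR.MinusCfg
section

/-!
# ODD, D4: `B_n` with the labels `C_n`: the configurations for the centralisers (K1), (K2), combinatorics

helper328.
-/

set_option autoImplicit false
set_option linter.unusedSectionVars false

namespace Cfsg.Agent.OddHalf.DblR.MinusComb

open CoxeterSystem Cfsg.Agent.ChevalleyStructure.CoxeterGeom Cfsg.Agent.Tits.Roots Cfsg.Agent.Tits.Core
  Cfsg.Agent.Tits.RootComb Cfsg.Agent.Nodes.TypeC
  Cfsg.Agent.Nodes.Comb Cfsg.Agent.Nodes.Reps Cfsg.Agent.Nodes.BNOf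
  Cfsg.Agent.Nodes.StabComb Cfsg.Agent.Nodes.Coroot Cfsg.Agent.Nodes.KindBC Cfsg.Agent.Nodes.TypeCForm
  Cfsg.Agent.Nodes.PosPair Cfsg.Agent.KFacts.RgdSL Cfsg.Agent.KFacts.RgdTI Cfsg.Agent.KFacts.RgdPar

variable {n : ℕ}

theorem exists_out (hn : 3 ≤ n) (x y : Fin n × Bool) : ∃ z : Fin n × Bool, z.1 ≠ x.1 ∧ z.1 ≠ y.1 := by
  have h1 : ({x.1, y.1} : Finset (Fin n)).card < Fintype.card (Fin n) := by
    rw [Fintype.card_fin]
    exact lt_of_le_of_lt Finset.card_le_two hn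
  obtain ⟨k, hk⟩ : ∃ k, k ∉ ({x.1, y.1} : Finset (Fin n)) := by
    by_contra hcon
    push Not at hcon
    rw [← Finset.eq_univ_iff_forall] at hcon
    rw [hcon, Finset.card_univ] at h1
    exact lt_irrefl _ h1
  rw [Finset.mem_insert, Finset.mem_singleton, not_or] at hk
  exact ⟨(k, true), hk.1, hk.2⟩

/-- the coordinate of `rt c d` at `c` -/
theorem pos_self {c d : Fin n × Bool} (hcd : Ok c d) : 1 ≤ dl c c + dl d c := by
  have h1 := ok_iff.1 hcd
  rw [dl_self]
  rcases dl_cases d c with ⟨h, h2⟩ | ⟨h, h2⟩ | ⟨h, h2⟩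
  · omega
  · exact absurd h h1
  · omega

theorem pos_self' {c d : Fin n × Bool} (hcd : Ok c d) : 1 ≤ dl c d + dl d d := by
  have := pos_self hcd.symm
  omega

section

variable {W : Type*} [Group W] (cs : CoxeterSystem (CoxeterMatrix.B n) W) [Finite W]

theorem star_one (hn : 3 ≤ n) {x y : Fin n × Bool} (hxy : x.1 ≠ y.1) {b : Fin n → ℤ} (hb : IsRoot cs (isCartan n) b)
    (h : ∀ a ∈ RB n, 0 < cpr cs (isCartan n) a (_root_.Cfsg.Agent.Nodes.KindBC.rt x y) → 0 ≤ cpr cs (isCartan n) b a) :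
    b = _root_.Cfsg.Agent.Nodes.KindBC.rt x y ∨ b = _root_.Cfsg.Agent.Nodes.KindBC.rt x x ∨ b = _root_.Cfsg.Agent.Nodes.KindBC.rt y y := by
  obtain ⟨c, d, hcd, rfl⟩ := exists_rt hb
  have hok := ok_iff.1 hcd
  have hok' := ok_iff.1 hcd.symm
  -- `D_x ± D_z ≥ 0`
  have key : ∀ z : Fin n × Bool, z.1 ≠ x.1 → z.1 ≠ y.1 → 0 ≤ dl c x + dl d x + (dl c z + dl d z) ∧
      0 ≤ dl c y + dl d y + (dl c z + dl d z) := by
    intro z hzx hzy
    have h1 := h (_root_.Cfsg.Agent.Nodes.KindBC.rt x z) (rt_mem_RB (Ne.symm hzx)) (by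
      rw [cpr_ne cs _ hxy, ev_rt, ev_rt, dl_self, dl_of_ne hzx, dl_of_ne hxy, dl_of_ne hzy]; norm_num)
    have h2 := h (_root_.Cfsg.Agent.Nodes.KindBC.rt y z) (rt_mem_RB (Ne.symm hzy)) (by
      rw [cpr_ne cs _ hxy, ev_rt, ev_rt, dl_self, dl_of_ne hzx, dl_of_ne hxy.symm, dl_of_ne hzy]; norm_num)
    rw [cpr_ne cs _ (Ne.symm hzx), ev_rt, ev_rt] at h1
    rw [cpr_ne cs _ (Ne.symm hzy), ev_rt, ev_rt] at h2
    exact ⟨h1, h2⟩
  have key2 : ∀ z : Fin n × Bool, z.1 ≠ x.1 → z.1 ≠ y.1 → 0 ≤ dl c x + dl d x - (dl c z + dl d z) ∧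
      0 ≤ dl c y + dl d y - (dl c z + dl d z) := by
    intro z hzx hzy
    have h1 := key (ng z) hzx hzy
    rw [dl_ng_right, dl_ng_right] at h1
    omega
  obtain ⟨z0, hz1, hz2⟩ := exists_out hn x y
  have k1 := key z0 hz1 hz2
  have k2 := key2 z0 hz1 hz2
  rcases cases2 hxy c with ⟨hc, h3, h4⟩ | ⟨hc, h3, h4⟩ | ⟨hc, h3, h4⟩ | ⟨hc, h3, h4⟩ | ⟨hc, h3, h4⟩
  on_goal 5 =>
    exfalso
    have h5 := key2 c hc.1 hc.2
    have h6 := pos_self hcd
    rcases cases2 hxy d with ⟨hd, h7, h8⟩ | ⟨hd, h7, h8⟩ | ⟨hd, h7, h8⟩ | ⟨hd, h7, h8⟩ | ⟨hd, h7, h8⟩ <;> omega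
  all_goals
    rcases cases2 hxy d with ⟨hd, h5, h6⟩ | ⟨hd, h5, h6⟩ | ⟨hd, h5, h6⟩ | ⟨hd, h5, h6⟩ | ⟨hd, h5, h6⟩
  on_goal 20 =>
    exfalso
    have h7 := key2 d hd.1 hd.2
    have h8 := pos_self' hcd
    omega
  on_goal 15 =>
    exfalso
    have h7 := key2 d hd.1 hd.2
    have h8 := pos_self' hcd
    omega
  on_goal 10 =>
    exfalso
    have h7 := key2 d hd.1 hd.2
    have h8 := pos_self' hcd
    omega
  on_goal 5 =>
    exfalso
    have h7 := key2 d hd.1 hd.2
    have h8 := pos_self' hcd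
    omega
  map_tacs [((right; left; rw [hc, hd]; done)); ((exfalso; apply hok; rw [hc, hd]; done)); ((left; rw [hc, hd]; done)); ((exfalso; omega));
   ((exfalso; apply hok'; rw [hc, hd]; done)); ((exfalso; omega)); ((exfalso; omega)); ((exfalso; omega)); ((left; rw [hc, hd, rt_comm]; done));
   ((exfalso; omega)); ((right; right; rw [hc, hd]; done)); ((exfalso; apply hok; rw [hc, hd]; done)); ((exfalso; omega)); ((exfalso; omega));
   ((exfalso; apply hok'; rw [hc, hd]; done)); ((exfalso; omega))]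

theorem star_two {x y z : Fin n × Bool} (hxy : x.1 ≠ y.1) (hxz : x.1 ≠ z.1) (hyz : y.1 ≠ z.1) {b : Fin n → ℤ}
    (hb : IsRoot cs (isCartan n) b)
    (h : ∀ a ∈ RB n, 0 < cpr cs (isCartan n) a (_root_.Cfsg.Agent.Nodes.KindBC.rt x y) + cpr cs (isCartan n) a (_root_.Cfsg.Agent.Nodes.KindBC.rt x z) →
      0 ≤ cpr cs (isCartan n) b a) :
    b = _root_.Cfsg.Agent.Nodes.KindBC.rt x y ∨ b = _root_.Cfsg.Agent.Nodes.KindBC.rt x z ∨ b = _root_.Cfsg.Agent.Nodes.KindBC.rt x x := by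
  obtain ⟨c, d, hcd, rfl⟩ := exists_rt hb
  have hok := ok_iff.1 hcd
  have hok' := ok_iff.1 hcd.symm
  have gen : ∀ {u v : Fin n × Bool}, u.1 ≠ v.1 → 0 < 2 * (dl u x + dl v x) + (dl u y + dl v y) + (dl u z + dl v z) →
      0 ≤ dl c u + dl d u + (dl c v + dl d v) := by
    intro u v huv h0
    have h1 := h (_root_.Cfsg.Agent.Nodes.KindBC.rt u v) (rt_mem_RB huv) (by
      rw [cpr_ne cs _ hxy, cpr_ne cs _ hxz, ev_rt, ev_rt, ev_rt]; omega)
    rwa [cpr_ne cs _ huv, ev_rt, ev_rt] at h1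
  have sxx := dl_self x
  have sxy := dl_of_ne hxy
  have sxz := dl_of_ne hxz
  have syx := dl_of_ne hxy.symm
  have syy := dl_self y
  have syz := dl_of_ne hyz
  have szx := dl_of_ne hxz.symm
  have szy := dl_of_ne hyz.symm
  have szz := dl_self z
  have a1 := gen hxy (by omega)
  have a2 := gen (u := x) (v := ng y) hxy (by
    have e1 : dl (ng y) x = 0 := dl_of_ne (c := ng y) hxy.symm
    have e2 : dl (ng y) y = -1 := dl_ng y
    have e3 : dl (ng y) z = 0 := dl_of_ne (c := ng y) hyz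
    omega)
  have a3 := gen hxz (by omega)
  have a4 := gen (u := x) (v := ng z) hxz (by
    have e1 : dl (ng z) x = 0 := dl_of_ne (c := ng z) hxz.symm
    have e2 : dl (ng z) y = 0 := dl_of_ne (c := ng z) hyz.symm
    have e3 : dl (ng z) z = -1 := dl_ng z
    omega)
  have a5 := gen hyz (by omega)
  rw [dl_ng_right, dl_ng_right] at a2 a4
  -- `w` outside
  have out : ∀ w : Fin n × Bool, w.1 ≠ x.1 → w.1 ≠ y.1 → w.1 ≠ z.1 →
      0 ≤ dl c x + dl d x - (dl c w + dl d w) ∧ 0 ≤ dl c y + dl d y - (dl c w + dl d w) := by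
    intro w h1 h2 h3
    have e1 : dl (ng w) x = 0 := dl_of_ne (c := ng w) h1
    have e2 : dl (ng w) y = 0 := dl_of_ne (c := ng w) h2
    have e3 : dl (ng w) z = 0 := dl_of_ne (c := ng w) h3
    have b1 := gen (u := x) (v := ng w) (Ne.symm h1) (by omega)
    have b2 := gen (u := y) (v := ng w) (Ne.symm h2) (by omega)
    rw [dl_ng_right, dl_ng_right] at b1 b2
    omega
  rcases cases3 hxy hxz hyz c with ⟨hc, h3, h4, h7⟩ | ⟨hc, h3, h4, h7⟩ | ⟨hc, h3, h4, h7⟩ | ⟨hc, h3, h4, h7⟩ |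
    ⟨hc, h3, h4, h7⟩ | ⟨hc, h3, h4, h7⟩ | ⟨hc, h3, h4, h7⟩
  on_goal 7 =>
    exfalso
    have b1 := out c hc.1 hc.2.1 hc.2.2
    have b2 := pos_self hcd
    rcases cases2 hxy d with ⟨hd, h7, h8⟩ | ⟨hd, h7, h8⟩ | ⟨hd, h7, h8⟩ | ⟨hd, h7, h8⟩ | ⟨hd, h7, h8⟩ <;> omega
  all_goals
    rcases cases3 hxy hxz hyz d with ⟨hd, h5, h6, h8⟩ | ⟨hd, h5, h6, h8⟩ | ⟨hd, h5, h6, h8⟩ | ⟨hd, h5, h6, h8⟩ |
      ⟨hd, h5, h6, h8⟩ | ⟨hd, h5, h6, h8⟩ | ⟨hd, h5, h6, h8⟩
  map_tacs [((right; right; rw [hc, hd]; done)); ((exfalso; apply hok; rw [hc, hd]; done)); ((left; rw [hc, hd]; done));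
   ((exfalso; (clear * - a3 a4 a5 h3 h4 h7 h5 h6 h8 a1 a2; omega))); ((right; left; rw [hc, hd]; done));
   ((exfalso; (clear * - a3 a4 a5 h3 h4 h7 h5 h6 h8 a1 a2; omega)));
   (
      (exfalso
       have b1 := out d hd.1 hd.2.1 hd.2.2
       have b2 := pos_self' hcd
       omega));
   ((exfalso; apply hok'; rw [hc, hd]; done)); ((exfalso; (clear * - a3 a4 a5 h3 h4 h7 h5 h6 h8 a1 a2; omega)));
   ((exfalso; (clear * - a3 a4 a5 h3 h4 h7 h5 h6 h8 a1 a2; omega))); ((exfalso; (clear * - a3 a4 a5 h3 h4 h7 h5 h6 h8 a1 a2; omega)));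
   ((exfalso; (clear * - a3 a4 a5 h3 h4 h7 h5 h6 h8 a1 a2; omega))); ((exfalso; (clear * - a3 a4 a5 h3 h4 h7 h5 h6 h8 a1 a2; omega)));
   ((exfalso; (clear * - a3 a4 a5 h3 h4 h7 h5 h6 h8 a1 a2; omega))); ((left; rw [hc, hd, rt_comm]; done));
   ((exfalso; (clear * - a3 a4 a5 h3 h4 h7 h5 h6 h8 a1 a2; omega))); ((exfalso; (clear * - a3 a4 a5 h3 h4 h7 h5 h6 h8 a1 a2; omega)));
   ((exfalso; apply hok; rw [hc, hd]; done)); ((exfalso; (clear * - a3 a4 a5 h3 h4 h7 h5 h6 h8 a1 a2; omega)));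
   ((exfalso; (clear * - a3 a4 a5 h3 h4 h7 h5 h6 h8 a1 a2; omega))); ((exfalso; (clear * - a3 a4 a5 h3 h4 h7 h5 h6 h8 a1 a2; omega)));
   ((exfalso; (clear * - a3 a4 a5 h3 h4 h7 h5 h6 h8 a1 a2; omega))); ((exfalso; (clear * - a3 a4 a5 h3 h4 h7 h5 h6 h8 a1 a2; omega)));
   ((exfalso; apply hok'; rw [hc, hd]; done)); ((exfalso; (clear * - a3 a4 a5 h3 h4 h7 h5 h6 h8 a1 a2; omega)));
   ((exfalso; (clear * - a3 a4 a5 h3 h4 h7 h5 h6 h8 a1 a2; omega))); ((exfalso; (clear * - a3 a4 a5 h3 h4 h7 h5 h6 h8 a1 a2; omega)));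
   ((exfalso; (clear * - a3 a4 a5 h3 h4 h7 h5 h6 h8 a1 a2; omega))); ((right; left; rw [hc, hd, rt_comm]; done));
   ((exfalso; (clear * - a3 a4 a5 h3 h4 h7 h5 h6 h8 a1 a2; omega))); ((exfalso; (clear * - a3 a4 a5 h3 h4 h7 h5 h6 h8 a1 a2; omega)));
   ((exfalso; (clear * - a3 a4 a5 h3 h4 h7 h5 h6 h8 a1 a2; omega))); ((exfalso; (clear * - a3 a4 a5 h3 h4 h7 h5 h6 h8 a1 a2; omega)));
   ((exfalso; apply hok; rw [hc, hd]; done)); ((exfalso; (clear * - a3 a4 a5 h3 h4 h7 h5 h6 h8 a1 a2; omega)));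
   ((exfalso; (clear * - a3 a4 a5 h3 h4 h7 h5 h6 h8 a1 a2; omega))); ((exfalso; (clear * - a3 a4 a5 h3 h4 h7 h5 h6 h8 a1 a2; omega)));
   ((exfalso; (clear * - a3 a4 a5 h3 h4 h7 h5 h6 h8 a1 a2; omega))); ((exfalso; (clear * - a3 a4 a5 h3 h4 h7 h5 h6 h8 a1 a2; omega)));
   ((exfalso; apply hok'; rw [hc, hd]; done)); ((exfalso; (clear * - a3 a4 a5 h3 h4 h7 h5 h6 h8 a1 a2; omega)));
   ((exfalso; (clear * - a3 a4 a5 h3 h4 h7 h5 h6 h8 a1 a2; omega)))]

theorem not_btwn_xx {x y : Fin n × Bool} (hxy : x.1 ≠ y.1) {v : Fin n → ℤ} :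
    ¬ Btwn cs (isCartan n) (_root_.Cfsg.Agent.Nodes.KindBC.rt x x) (_root_.Cfsg.Agent.Nodes.KindBC.rt x y) v := by
  rintro ⟨hvr, m, a, b, hm, ha, hb, he⟩
  obtain ⟨c, d, -, rfl⟩ := exists_rt hvr
  have key : ∀ w, m * (dl c w + dl d w) = a * (dl x w + dl x w) + b * (dl x w + dl y w) := by
    intro w
    have := congrArg (fun v => ev v w) he
    simp only [ev_add, ev_smul, ev_rt] at this
    exact this
  have k1 := key x
  have k2 := key y
  rw [dl_self, dl_of_ne hxy.symm] at k1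
  rw [dl_self, dl_of_ne hxy] at k2
  have h1 : 0 < dl c x + dl d x := by
    have : 0 < m * (dl c x + dl d x) := by rw [k1]; omega
    exact (mul_pos_iff_of_pos_left hm).1 this
  have h2 : 0 < dl c y + dl d y := by
    have : 0 < m * (dl c y + dl d y) := by rw [k2]; omega
    exact (mul_pos_iff_of_pos_left hm).1 this
  rcases pos_two hxy h1 h2 with ⟨rfl, rfl⟩ | ⟨rfl, rfl⟩
  · rw [dl_self, dl_of_ne hxy.symm] at k1
    rw [dl_self, dl_of_ne hxy] at k2
    omega
  · rw [dl_self, dl_of_ne hxy.symm] at k1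
    rw [dl_self, dl_of_ne hxy] at k2
    omega

theorem btwn_xx_yy {x y : Fin n × Bool} (hxy : x.1 ≠ y.1) {v : Fin n → ℤ}
    (hv : Btwn cs (isCartan n) (_root_.Cfsg.Agent.Nodes.KindBC.rt x x) (_root_.Cfsg.Agent.Nodes.KindBC.rt y y) v) : v = _root_.Cfsg.Agent.Nodes.KindBC.rt x y := by
  obtain ⟨hvr, m, a, b, hm, ha, hb, he⟩ := hv
  obtain ⟨c, d, -, rfl⟩ := exists_rt hvr
  have key : ∀ w, m * (dl c w + dl d w) = a * (dl x w + dl x w) + b * (dl y w + dl y w) := by
    intro w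
    have := congrArg (fun v => ev v w) he
    simp only [ev_add, ev_smul, ev_rt] at this
    exact this
  have k1 := key x
  have k2 := key y
  rw [dl_self, dl_of_ne hxy.symm] at k1
  rw [dl_self, dl_of_ne hxy] at k2
  have h1 : 0 < dl c x + dl d x := by
    have : 0 < m * (dl c x + dl d x) := by rw [k1]; omega
    exact (mul_pos_iff_of_pos_left hm).1 this
  have h2 : 0 < dl c y + dl d y := by
    have : 0 < m * (dl c y + dl d y) := by rw [k2]; omega
    exact (mul_pos_iff_of_pos_left hm).1 this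
  rcases pos_two hxy h1 h2 with ⟨rfl, rfl⟩ | ⟨rfl, rfl⟩
  · rfl
  · exact rt_comm _ _

theorem rt_ne_neg {x y c d : Fin n × Bool} {w : Fin n × Bool} (h : dl x w + dl y w ≠ -(dl c w + dl d w)) :
    _root_.Cfsg.Agent.Nodes.KindBC.rt x y ≠ -_root_.Cfsg.Agent.Nodes.KindBC.rt c d := by
  intro h0
  apply h
  have := congrArg (fun v => ev v w) h0
  simp only [ev_neg, ev_rt] at this
  exact this

/-- roots orthogonal to `{f > 0}` -/
theorem zero_of {b : Fin n → ℤ} (hb : IsRoot cs (isCartan n) b) (h : ∀ w : Fin n × Bool, ev b w = 0) : False := by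
  obtain ⟨c, d, hcd, rfl⟩ := exists_rt hb
  have h1 := h c
  rw [ev_rt] at h1
  have := pos_self hcd
  omega

theorem nonneg_of {x y z : Fin n × Bool} (hxy : x.1 ≠ y.1) (hxz : x.1 ≠ z.1) (hyz : y.1 ≠ z.1) {a : Fin n → ℤ}
    (ha : IsRoot cs (isCartan n) a) (h : 0 < cpr cs (isCartan n) a (_root_.Cfsg.Agent.Nodes.KindBC.rt x y) + cpr cs (isCartan n) a (_root_.Cfsg.Agent.Nodes.KindBC.rt x z)) :
    0 ≤ cpr cs (isCartan n) a (_root_.Cfsg.Agent.Nodes.KindBC.rt x y) ∧ 0 ≤ cpr cs (isCartan n) a (_root_.Cfsg.Agent.Nodes.KindBC.rt x z) := by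
  obtain ⟨c, d, hcd, rfl⟩ := exists_rt ha
  have hok := ok_iff.1 hcd
  have hok' := ok_iff.1 hcd.symm
  rw [cpr_ne cs _ hxy, cpr_ne cs _ hxz, ev_rt, ev_rt, ev_rt] at *
  rcases cases3 hxy hxz hyz c with ⟨hc, h3, h4, h7⟩ | ⟨hc, h3, h4, h7⟩ | ⟨hc, h3, h4, h7⟩ | ⟨hc, h3, h4, h7⟩ |
    ⟨hc, h3, h4, h7⟩ | ⟨hc, h3, h4, h7⟩ | ⟨hc, h3, h4, h7⟩ <;>
  rcases cases3 hxy hxz hyz d with ⟨hd, h5, h6, h8⟩ | ⟨hd, h5, h6, h8⟩ | ⟨hd, h5, h6, h8⟩ | ⟨hd, h5, h6, h8⟩ |
      ⟨hd, h5, h6, h8⟩ | ⟨hd, h5, h6, h8⟩ | ⟨hd, h5, h6, h8⟩ <;> (clear * - h3 h4 h7 h5 h6 h8 h; omega)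

end

end Cfsg.Agent.OddHalf.DblR.MinusComb

end

-- merged: Cfsg.Agent.OddHalf.DblR.SheetMinus
section

/-!
# ODD, D4: `SheetL` for `PΩ⁻_{2m+2}(q)`, `q ≥ 4` even

helper328.

* `cfg1`, `cfg2` : the configurations for (K1), (K2) over a model of orthogonal type in characteristic two;
* `sheetL_model` : `SheetL` for a model;
* `sheetL_minus` : `SheetL` for `PΩ⁻_{2m+2}(F)`.
-/

set_option autoImplicit false
set_option linter.unusedSectionVars false

namespace Cfsg.Agent.OddHalf.DblR.SheetMinus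

open CoxeterSystem Cfsg.Agent.ChevalleyStructure.CoxeterGeom Cfsg.Agent.Tits.Roots Cfsg.Agent.Nodes.TypeC
  Cfsg.Agent.Tits.RootComb
open Cfsg.Agent.Nodes.Comb Cfsg.Agent.Nodes.Reps Cfsg.Agent.Nodes.WittRoot Cfsg.Agent.Nodes.BNOf
  Cfsg.Agent.Nodes.StabComb Cfsg.Agent.Nodes.Coroot Cfsg.Agent.Nodes.KindBC Cfsg.Agent.Nodes.TypeCForm
  Cfsg.Agent.Nodes.Bruhat Cfsg.Agent.Nodes.PosPair
open Cfsg.Agent Cfsg.Agent.TitsThree Cfsg.Agent.TitsThree.Siegel Cfsg.Agent.TitsThree.WittFrame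
  Cfsg.Agent.TitsThree.WittWeyl Cfsg.Agent.TitsThree.FrameCN Cfsg.Agent.TitsThree.LineBorel
open Cfsg.Agent.KFacts.WittOrth Cfsg.Agent.KFacts.RgdTI Cfsg.Agent.KFacts.RgdPar
  Cfsg.Agent.KFacts.RgdOdd Cfsg.Agent.KFacts.RgdSL Cfsg.Agent.KFacts.RgdCent Cfsg.Agent.KFacts.RgdCentW
  Cfsg.Agent.OddHalf.DblR.MinusComb
open scoped commutatorElement

section Model

variable {F : Type*} [Field F] {V : Type*} [AddCommGroup V] [Module F V] {H : HForm F V} {n : ℕ}
  {Fr : Frame H (Fin n)} {K : Type*} [Group K] (M : Model Fr K)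

theorem mem_X_self {x : Fin n × Bool} {u : K} : u ∈ Nodes.WittModel.X M (_root_.Cfsg.Agent.Nodes.KindBC.rt x x) ↔ ∃ p, u = M.Z x p := by
  rw [Nodes.WittModel.mem_X]
  constructor
  · rintro ⟨g, hg, h, rfl⟩
    rw [KFacts.SpecWitt.rg_rt (Or.inr rfl : Ok x x), PG_self] at h
    obtain ⟨p, rfl⟩ := h
    exact ⟨p, rfl⟩
  · rintro ⟨p, rfl⟩
    refine ⟨Fr.Z x p, M.hZ x p, ?_, rfl⟩
    rw [KFacts.SpecWitt.rg_rt (Or.inr rfl : Ok x x), PG_self]
    exact ⟨p, rfl⟩

theorem mem_X_ne {x y : Fin n × Bool} (hxy : x.1 ≠ y.1) {u : K} :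
    u ∈ Nodes.WittModel.X M (_root_.Cfsg.Agent.Nodes.KindBC.rt x y) ↔ ∃ t, u = M.X x y t := by
  rw [Nodes.WittModel.mem_X]
  constructor
  · rintro ⟨g, hg, h, rfl⟩
    rw [KFacts.SpecWitt.rg_rt (Or.inl hxy : Ok x y), PG_ne Fr hxy] at h
    obtain ⟨p, rfl⟩ := h
    exact ⟨p, rfl⟩
  · rintro ⟨p, rfl⟩
    refine ⟨Fr.X x y p, M.hX x y p, ?_, rfl⟩
    rw [KFacts.SpecWitt.rg_rt (Or.inl hxy : Ok x y), PG_ne Fr hxy]
    exact ⟨p, rfl⟩

variable (O : _root_.Cfsg.Agent.KFacts.WittOrth.Orth Fr)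

include O

theorem Z_comm (x : Fin n × Bool) (p q : Fr.Adm) : M.Z x p * M.Z x q = M.Z x q * M.Z x p := by
  show M.φ _ * M.φ _ = M.φ _ * M.φ _
  rw [← map_mul, ← map_mul]
  exact congrArg M.φ (Subtype.ext (O.z_comm x p q).eq)

theorem Z_br {x y : Fin n × Bool} (hxy : x.1 ≠ y.1) (p q : Fr.Adm) :
    ⁅M.Z x p, M.Z y q⁆ = M.X x y (H.h p.w q.w) := by
  show ⁅M.φ _, M.φ _⁆ = M.φ _
  rw [← map_commutatorElement]
  exact congrArg M.φ (Subtype.ext (O.zz hxy p q))

theorem Z_nd {x y : Fin n × Bool} (hxy : x.1 ≠ y.1) (hI : ∀ g ∈ M.I, H.IsIso g) (hn : 0 < n) {p : Fr.Adm}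
    (h : ∀ q : Fr.Adm, M.Z x p * M.Z y q = M.Z y q * M.Z x p) : p = 1 := by
  apply O.adm_nd
  intro q
  have h1 := Z_br M O hxy p q
  rw [commutatorElement_eq_one_iff_mul_comm.2 (h q)] at h1
  have h2 : (⟨Fr.X x y (H.h p.w q.w), M.hX _ _ _⟩ : M.I) = 1 := by
    apply KFacts.SpecMinus.φ_inj M O hI hn
    rw [map_one]
    exact h1.symm
  exact O.x_inj hxy (congrArg Subtype.val h2)

variable {W : Type*} [Group W] (cs : CoxeterSystem (CoxeterMatrix.B n) W) [Finite W]

/-- root groups are abelian -/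
theorem X_abel {x y : Fin n × Bool} (hxy : Ok x y) {u v : K} (hu : u ∈ Nodes.WittModel.X M (_root_.Cfsg.Agent.Nodes.KindBC.rt x y))
    (hv : v ∈ Nodes.WittModel.X M (_root_.Cfsg.Agent.Nodes.KindBC.rt x y)) : u * v = v * u := by
  rcases hxy with hxy | rfl
  · obtain ⟨s, rfl⟩ := (mem_X_ne M hxy).1 hu
    obtain ⟨t, rfl⟩ := (mem_X_ne M hxy).1 hv
    show M.φ _ * M.φ _ = M.φ _ * M.φ _
    rw [← map_mul, ← map_mul]
    refine congrArg M.φ (Subtype.ext ?_)
    show Fr.X x y s * Fr.X x y t = Fr.X x y t * Fr.X x y s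
    rw [← Fr.X_add, ← Fr.X_add, add_comm]
  · obtain ⟨s, rfl⟩ := (mem_X_self M).1 hu
    obtain ⟨t, rfl⟩ := (mem_X_self M).1 hv
    exact Z_comm M O x s t

variable {T : Subgroup K} {nn : Fin n → K} (R : RGD cs (isCartan n) 2 T nn (Nodes.WittModel.X M))
  (hA : Nodes.WittAll.AmbT Fr 2 M.I)

variable {cs} [Finite F] [Finite V]

theorem LG_of_RB {r : Fin n → ℤ} (hr : r ∈ RB n) : LG R r := by
  refine ⟨?_, fun b hb _ h2 v hv h3 h4 => two_rt cs hr hb h2 hv h3 h4⟩
  obtain ⟨x, y, hxy, rfl⟩ := mem_RB.1 hr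
  exact KFacts.SpecMinus.lr_model M O cs hxy R

theorem lr_of_RB {r : Fin n → ℤ} (hr : r ∈ RB n) : LR R r := (LG_of_RB M O R hr).lr

include hA

theorem RB_of_LR (hn : 3 ≤ n) {r : Fin n → ℤ} (L : LR R r) : r ∈ RB n := by
  rcases (isRoot_iff_mem cs).1 L.root with h | h
  · exact h
  · exfalso
    obtain ⟨x, rfl⟩ := mem_RC.1 h
    obtain ⟨y, hy, -⟩ := MinusComb.exists_out hn x x
    obtain ⟨p0, hp0⟩ := O.p0
    have h1 : p0 = 1 := by
      refine Z_nd M O (x := x) (y := y) (Ne.symm hy) hA.iso (by omega) fun q => ?_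
      have h2 : 0 ≤ cpr cs (isCartan n) (_root_.Cfsg.Agent.Nodes.KindBC.rt y y) (_root_.Cfsg.Agent.Nodes.KindBC.rt x x) := by
        rw [cpr_same, ev_rt, dl_of_ne hy]; norm_num
      exact (L.comm (_root_.Cfsg.Agent.Nodes.KindBC.rt y y) (_root_.Cfsg.Agent.Nodes.KindBC.isRoot_rt cs (Or.inr rfl)) h2 _ ((mem_X_self M).2 ⟨q, rfl⟩) _
        ((mem_X_self M).2 ⟨p0, rfl⟩)).symm
    rw [h1] at hp0
    exact hp0 Frame.Adm.one_c

/-- the partner data -/
theorem part_aux (hn : 3 ≤ n) {x y : Fin n × Bool} (hxy : x.1 ≠ y.1) :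
    (∀ u ∈ Nodes.WittModel.X M (_root_.Cfsg.Agent.Nodes.KindBC.rt x x), ∀ v ∈ Nodes.WittModel.X M (_root_.Cfsg.Agent.Nodes.KindBC.rt y y), ⁅u, v⁆ ∈ Nodes.WittModel.X M (_root_.Cfsg.Agent.Nodes.KindBC.rt x y)) ∧
    ∀ u ∈ Nodes.WittModel.X M (_root_.Cfsg.Agent.Nodes.KindBC.rt x x), (∀ v ∈ Nodes.WittModel.X M (_root_.Cfsg.Agent.Nodes.KindBC.rt y y), u * v = v * u) → u = 1 := by
  constructor
  · intro u hu v hv
    obtain ⟨p, rfl⟩ := (mem_X_self M).1 hu
    obtain ⟨q, rfl⟩ := (mem_X_self M).1 hv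
    rw [Z_br M O hxy]
    exact (mem_X_ne M hxy).2 ⟨_, rfl⟩
  · intro u hu h
    obtain ⟨p, rfl⟩ := (mem_X_self M).1 hu
    have h1 : p = 1 := Z_nd M O hxy hA.iso (by omega) fun q => h _ ((mem_X_self M).2 ⟨q, rfl⟩)
    rw [h1]
    show M.φ _ = 1
    have h2 : (⟨Fr.Z x 1, M.hZ _ _⟩ : M.I) = 1 := Subtype.ext (Fr.Z_one x)
    rw [h2, map_one]

/-- **the configuration for (K1)** -/
theorem cfg1 (hn : 3 ≤ n) {x y : Fin n × Bool} (hxy : x.1 ≠ y.1) (hr : IsRoot cs (isCartan n) (_root_.Cfsg.Agent.Nodes.KindBC.rt x y)) :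
    Cfg R (ell cs (isCartan n) hr) {a | a ∈ RB n ∧ 0 < cpr cs (isCartan n) a (_root_.Cfsg.Agent.Nodes.KindBC.rt x y)} {_root_.Cfsg.Agent.Nodes.KindBC.rt x y}
      {_root_.Cfsg.Agent.Nodes.KindBC.rt x x, _root_.Cfsg.Agent.Nodes.KindBC.rt y y} where
  lr a ha := lr_of_RB M O R ha.1
  pos a ha := ha.2
  star := by
    rintro b ⟨hb, hb2⟩
    rcases _root_.Cfsg.Agent.OddHalf.DblR.MinusComb.star_one cs hn hxy hb fun a ha h0 => hb2 a ⟨ha, h0⟩ with h | h | h
    · exact Or.inl h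
    · exact Or.inr (Or.inl h)
    · exact Or.inr (Or.inr h)
  zroot z hz := by rw [Set.mem_singleton_iff] at hz; rw [hz]; exact hr
  broot b hb := by
    rcases hb with rfl | hb
    · exact _root_.Cfsg.Agent.Nodes.KindBC.isRoot_rt cs (Or.inr rfl)
    · rw [Set.mem_singleton_iff] at hb; rw [hb]; exact _root_.Cfsg.Agent.Nodes.KindBC.isRoot_rt cs (Or.inr rfl)
  disj b hb h1 := by
    rw [Set.mem_singleton_iff] at h1
    rw [h1] at hb
    rcases hb with h2 | h2
    · have := congrArg (fun v => ev v y) h2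
      simp only [ev_rt] at this
      rw [dl_self, dl_of_ne hxy] at this
      omega
    · rw [Set.mem_singleton_iff] at h2
      have := congrArg (fun v => ev v x) h2
      simp only [ev_rt] at this
      rw [dl_self, dl_of_ne hxy.symm] at this
      omega
  zcomm z hz a ha hfa u hu v hv := by
    rw [Set.mem_singleton_iff] at hz
    rw [hz] at hu
    exact ((lr_of_RB M O R (rt_mem_RB hxy)).comm a ha (le_of_lt hfa) v hv u hu).symm
  closed b hb y' hy' hne := by
    have nxx : ∀ {c d : Fin n × Bool}, c.1 ≠ d.1 → _root_.Cfsg.Agent.Nodes.KindBC.rt c c ≠ -_root_.Cfsg.Agent.Nodes.KindBC.rt c d ∧ _root_.Cfsg.Agent.Nodes.KindBC.rt c c ≠ -_root_.Cfsg.Agent.Nodes.KindBC.rt d d := by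
      intro c d hcd
      constructor
      · refine rt_ne_neg (w := c) ?_
        rw [dl_self, dl_of_ne hcd.symm]; norm_num
      · refine rt_ne_neg (w := c) ?_
        rw [dl_self, dl_of_ne hcd.symm]; norm_num
    rcases hb with rfl | hb
    · rcases hy' with h1 | h1 | h1
      · rw [Set.mem_singleton_iff] at h1
        rw [h1]
        exact ⟨(nxx hxy).1, fun v hv => absurd hv (not_btwn_xx cs hxy)⟩
      · exact absurd h1 hne
      · rw [Set.mem_singleton_iff] at h1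
        rw [h1]
        exact ⟨(nxx hxy).2, fun v hv => btwn_xx_yy cs hxy hv⟩
    · rw [Set.mem_singleton_iff] at hb
      subst hb
      rcases hy' with h1 | h1 | h1
      · rw [Set.mem_singleton_iff] at h1
        rw [h1, rt_comm x y]
        exact ⟨(nxx hxy.symm).1, fun v hv => absurd hv (not_btwn_xx cs hxy.symm)⟩
      · rw [h1]
        refine ⟨(nxx hxy.symm).2, fun v hv => ?_⟩
        rw [Set.mem_singleton_iff, rt_comm x y]
        exact btwn_xx_yy cs hxy.symm hv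
      · exact absurd h1 hne
  part b hb := by
    have key : ∀ {c d : Fin n × Bool}, c.1 ≠ d.1 → (∀ e ∈ ({_root_.Cfsg.Agent.Nodes.KindBC.rt c c, _root_.Cfsg.Agent.Nodes.KindBC.rt d d} : Set (Fin n → ℤ)), e ≠ _root_.Cfsg.Agent.Nodes.KindBC.rt c c → e = _root_.Cfsg.Agent.Nodes.KindBC.rt d d) := by
      rintro c d - e (h | h) h'
      · exact absurd h h'
      · exact h
    rcases hb with rfl | hb
    · refine ⟨_root_.Cfsg.Agent.Nodes.KindBC.rt y y, _root_.Cfsg.Agent.Nodes.KindBC.isRoot_rt cs (Or.inr rfl), ?_, ?_, ⟨_root_.Cfsg.Agent.Nodes.KindBC.rt x y, rfl, ?_, (part_aux M O hA hn hxy).1⟩,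
        (part_aux M O hA hn hxy).2⟩
      · rw [ell_apply, cpr_ne cs _ hxy, ev_rt, ev_rt, dl_self, dl_of_ne hxy.symm]; norm_num
      · intro c hc hcb u hu v hv
        rw [key hxy c hc hcb] at hu
        exact X_abel M O (Or.inr rfl) hu hv
      · intro h1
        have := congrArg (fun v => ev v x) h1
        simp only [ev_rt] at this
        rw [dl_self, dl_of_ne hxy.symm] at this
        omega
    · rw [Set.mem_singleton_iff] at hb
      subst hb
      refine ⟨_root_.Cfsg.Agent.Nodes.KindBC.rt x x, _root_.Cfsg.Agent.Nodes.KindBC.isRoot_rt cs (Or.inr rfl), ?_, ?_, ⟨_root_.Cfsg.Agent.Nodes.KindBC.rt x y, rfl, ?_, ?_⟩,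
        (part_aux M O hA hn hxy.symm).2⟩
      · rw [ell_apply, cpr_ne cs _ hxy, ev_rt, ev_rt, dl_self, dl_of_ne hxy]; norm_num
      · intro c hc hcb u hu v hv
        have h1 : c = _root_.Cfsg.Agent.Nodes.KindBC.rt x x := by
          rcases hc with h | h
          · exact h
          · exact absurd h hcb
        rw [h1] at hu
        exact X_abel M O (Or.inr rfl) hu hv
      · intro h1
        have := congrArg (fun v => ev v y) h1
        simp only [ev_rt] at this
        rw [dl_self, dl_of_ne hxy] at this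
        omega
      · rw [rt_comm x y]
        exact (part_aux M O hA hn hxy.symm).1
  zero b hb h0 := by
    by_contra hcon
    push Not at hcon
    have key : ∀ c d : Fin n × Bool, c.1 ≠ d.1 → 0 < dl c x + dl d x + (dl c y + dl d y) → ev b c + ev b d = 0 := by
      intro c d hcd h1
      have h2 := hcon (_root_.Cfsg.Agent.Nodes.KindBC.rt c d) (_root_.Cfsg.Agent.Nodes.KindBC.isRoot_rt cs (Or.inl hcd)) (by
        rw [ell_apply, cpr_ne cs _ hxy, ev_rt, ev_rt]; omega)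
      rwa [cpr_ne cs _ hcd] at h2
    obtain ⟨z, hzx, hzy⟩ := MinusComb.exists_out hn x y
    have e1 := dl_self x
    have e2 := dl_self y
    have e3 := dl_of_ne hxy
    have e4 := dl_of_ne hxy.symm
    have hx : ∀ w : Fin n × Bool, w.1 ≠ x.1 → w.1 ≠ y.1 → ev b x + ev b w = 0 ∧ ev b y + ev b w = 0 := by
      intro w h1 h2
      have f1 := dl_of_ne h1
      have f2 := dl_of_ne h2
      exact ⟨key x w (Ne.symm h1) (by omega), key y w (Ne.symm h2) (by omega)⟩
    have hng : ∀ w : Fin n × Bool, ev b (ng w) = -ev b w := by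
      intro w
      unfold ev
      rw [MinusComb.sn_ng]
      show ee b w.1 * -sn w = -(ee b w.1 * sn w)
      ring
    have g1 := hx z hzx hzy
    have g2 := hx (ng z) hzx hzy
    rw [hng] at g2
    refine zero_of cs hb fun w => ?_
    by_cases h1 : w.1 = x.1
    · rcases cases_eq h1 with rfl | rfl
      · omega
      · rw [hng]; omega
    · by_cases h2 : w.1 = y.1
      · rcases cases_eq h2 with rfl | rfl
        · omega
        · rw [hng]; omega
      · have := hx w h1 h2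
        omega

/-- **the configuration for (K2)** -/
theorem cfg2 (hn : 3 ≤ n) {x y z : Fin n × Bool} (hxy : x.1 ≠ y.1) (hxz : x.1 ≠ z.1) (hyz : y.1 ≠ z.1)
    (hr : IsRoot cs (isCartan n) (_root_.Cfsg.Agent.Nodes.KindBC.rt x y)) (hs : IsRoot cs (isCartan n) (_root_.Cfsg.Agent.Nodes.KindBC.rt x z)) :
    Cfg R (ell cs (isCartan n) hr + ell cs (isCartan n) hs)
      {a | a ∈ RB n ∧ 0 < cpr cs (isCartan n) a (_root_.Cfsg.Agent.Nodes.KindBC.rt x y) + cpr cs (isCartan n) a (_root_.Cfsg.Agent.Nodes.KindBC.rt x z)} {_root_.Cfsg.Agent.Nodes.KindBC.rt x y, _root_.Cfsg.Agent.Nodes.KindBC.rt x z}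
      {_root_.Cfsg.Agent.Nodes.KindBC.rt x x} where
  lr a ha := lr_of_RB M O R ha.1
  pos a ha := ha.2
  star := by
    rintro b ⟨hb, hb2⟩
    rcases star_two cs hxy hxz hyz hb fun a ha h0 => hb2 a ⟨ha, h0⟩ with h | h | h
    · exact Or.inl (Or.inl h)
    · exact Or.inl (Or.inr h)
    · exact Or.inr h
  zroot v hv := by
    rcases hv with rfl | hv
    · exact hr
    · rw [Set.mem_singleton_iff] at hv; rw [hv]; exact hs
  broot b hb := by rw [Set.mem_singleton_iff] at hb; rw [hb]; exact _root_.Cfsg.Agent.Nodes.KindBC.isRoot_rt cs (Or.inr rfl)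
  disj b hb h1 := by
    rw [Set.mem_singleton_iff] at hb
    rw [hb] at h1
    rcases h1 with h2 | h2
    · have := congrArg (fun v => ev v x) h2
      simp only [ev_rt] at this
      rw [dl_self, dl_of_ne hxy.symm] at this
      omega
    · rw [Set.mem_singleton_iff] at h2
      have := congrArg (fun v => ev v x) h2
      simp only [ev_rt] at this
      rw [dl_self, dl_of_ne hxz.symm] at this
      omega
  zcomm v hv a ha hfa u hu w hw := by
    have h1 := nonneg_of cs hxy hxz hyz ha hfa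
    rcases hv with rfl | hv
    · exact ((lr_of_RB M O R (rt_mem_RB hxy)).comm a ha h1.1 w hw u hu).symm
    · rw [Set.mem_singleton_iff] at hv
      rw [hv] at hu
      exact ((lr_of_RB M O R (rt_mem_RB hxz)).comm a ha h1.2 w hw u hu).symm
  closed b hb y' hy' hne := by
    rw [Set.mem_singleton_iff] at hb
    subst hb
    have nxx : ∀ {d : Fin n × Bool}, x.1 ≠ d.1 → _root_.Cfsg.Agent.Nodes.KindBC.rt x x ≠ -_root_.Cfsg.Agent.Nodes.KindBC.rt x d := by
      intro d hcd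
      refine rt_ne_neg (w := x) ?_
      rw [dl_self, dl_of_ne hcd.symm]; norm_num
    rcases hy' with (h1 | h1) | h1
    · rw [h1]
      exact ⟨nxx hxy, fun v hv => absurd hv (not_btwn_xx cs hxy)⟩
    · rw [Set.mem_singleton_iff] at h1
      rw [h1]
      exact ⟨nxx hxz, fun v hv => absurd hv (not_btwn_xx cs hxz)⟩
    · exact absurd h1 hne
  part b hb := by
    rw [Set.mem_singleton_iff] at hb
    subst hb
    refine ⟨_root_.Cfsg.Agent.Nodes.KindBC.rt y y, _root_.Cfsg.Agent.Nodes.KindBC.isRoot_rt cs (Or.inr rfl), ?_, ?_, ⟨_root_.Cfsg.Agent.Nodes.KindBC.rt x y, Or.inl rfl, ?_, (part_aux M O hA hn hxy).1⟩,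
      (part_aux M O hA hn hxy).2⟩
    · show 0 < cpr cs (isCartan n) _ _ + cpr cs (isCartan n) _ _
      rw [cpr_ne cs _ hxy, cpr_ne cs _ hxz, ev_rt, ev_rt, ev_rt, dl_self, dl_of_ne hxy.symm, dl_of_ne hyz]
      norm_num
    · intro c hc hcb
      exact absurd hc hcb
    · intro h1
      have := congrArg (fun v => ev v x) h1
      simp only [ev_rt] at this
      rw [dl_self, dl_of_ne hxy.symm] at this
      omega
  zero b hb h0 := by
    by_contra hcon
    push Not at hcon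
    have key : ∀ c d : Fin n × Bool, c.1 ≠ d.1 →
        0 < dl c x + dl d x + (dl c y + dl d y) + (dl c x + dl d x + (dl c z + dl d z)) → ev b c + ev b d = 0 := by
      intro c d hcd h1
      have h2 := hcon (_root_.Cfsg.Agent.Nodes.KindBC.rt c d) (_root_.Cfsg.Agent.Nodes.KindBC.isRoot_rt cs (Or.inl hcd)) (by
        show 0 < cpr cs (isCartan n) _ _ + cpr cs (isCartan n) _ _
        rw [cpr_ne cs _ hxy, cpr_ne cs _ hxz, ev_rt, ev_rt, ev_rt]; omega)
      rwa [cpr_ne cs _ hcd] at h2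
    have e1 := dl_self x
    have e2 := dl_self y
    have e3 := dl_of_ne hxy
    have e4 := dl_of_ne hxy.symm
    have e5 := dl_of_ne hxz
    have e6 := dl_of_ne hxz.symm
    have e7 := dl_of_ne hyz
    have e8 := dl_of_ne hyz.symm
    have e9 := dl_self z
    have hng : ∀ w : Fin n × Bool, ev b (ng w) = -ev b w := by
      intro w
      unfold ev
      rw [MinusComb.sn_ng]
      show ee b w.1 * -sn w = -(ee b w.1 * sn w)
      ring
    have g1 := key x y hxy (by omega)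
    have g2 := key x (ng y) hxy (by
      have f1 : dl (ng y) x = 0 := dl_of_ne (c := ng y) hxy.symm
      have f2 : dl (ng y) y = -1 := dl_ng y
      have f3 : dl (ng y) z = 0 := dl_of_ne (c := ng y) hyz
      omega)
    rw [hng] at g2
    have g3 := key x z hxz (by omega)
    refine zero_of cs hb fun w => ?_
    by_cases h1 : w.1 = x.1
    · rcases cases_eq h1 with rfl | rfl
      · omega
      · rw [hng]; omega
    · by_cases h2 : w.1 = y.1
      · rcases cases_eq h2 with rfl | rfl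
        · omega
        · rw [hng]; omega
      · by_cases h3 : w.1 = z.1
        · rcases cases_eq h3 with rfl | rfl
          · omega
          · rw [hng]; omega
        · have f1 := dl_of_ne h1
          have f2 := dl_of_ne h2
          have f3 := dl_of_ne h3
          have := key x w (Ne.symm h1) (by omega)
          omega

/-! ### `SheetL` -/

include O R in
/-- the `A₂`-data -/
theorem tri_model (hn : 3 ≤ n) {r : Fin n → ℤ} (hr : r ∈ RB n) : ∃ s g g', A2 cs (isCartan n) r s ∧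
    TorTr cs (isCartan n) T (Nodes.WittModel.X M) g r s ∧ TorTr cs (isCartan n) T (Nodes.WittModel.X M) g' s r := by
  obtain ⟨x, y, hxy, rfl⟩ := mem_RB.1 hr
  obtain ⟨z, hzx, hzy⟩ := MinusComb.exists_out hn x y
  have h1 := a2_rt cs (x := ng z) (y := ng y) (z := x) hzy hzx hxy.symm
  rw [ng_ng, rt_comm (ng z) (ng y), rt_comm y x] at h1
  have h2 := a2_rt cs (x := ng x) (y := y) (z := z) hxy (Ne.symm hzx) (Ne.symm hzy)
  rw [rt_comm (ng x) y] at h2
  refine ⟨_root_.Cfsg.Agent.Nodes.KindBC.rt (ng y) z, _root_.Cfsg.Agent.Nodes.KindBC.rt (ng y) (ng z), _root_.Cfsg.Agent.Nodes.KindBC.rt y (ng x), a2_rt cs hxy (Ne.symm hzx) (Ne.symm hzy),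
    torTr_of_A2 R ?_ h1, torTr_of_A2 R ?_ h2⟩
  · have e1 : dl (ng z) (ng y) = 0 := dl_of_ne (c := ng z) (x := ng y) hzy
    have e2 : dl (ng y) z = 0 := dl_of_ne (c := ng y) (Ne.symm hzy)
    rw [cpr_ne cs _ (x := ng y) (y := z) (Ne.symm hzy), ev_rt, ev_rt, dl_self, dl_ng, e1, e2]
    norm_num
  · have e1 : dl (ng x) y = 0 := dl_of_ne (c := ng x) hxy
    rw [cpr_ne cs _ hxy, ev_rt, ev_rt, dl_self, dl_ng, e1, dl_of_ne hxy.symm]
    norm_num

include O hA in
theorem k1_model (hn : 3 ≤ n) (hN : NoCent cs (isCartan n) T (Nodes.WittModel.X M))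
    (hG1 : RGD.Sup (Nodes.WittModel.X M) {x | IsRoot cs (isCartan n) x} = ⊤) {r : Fin n → ℤ} (L : LG R r)
    {α : MulAut K} (hα : ∀ a ∈ Rad cs (isCartan n) r, ∀ x ∈ Nodes.WittModel.X M a, α x = x) :
    ∃ z ∈ Nodes.WittModel.X M r, α = MulAut.conj z := by
  obtain ⟨x, y, hxy, rfl⟩ := mem_RB.1 (RB_of_LR M O R hA hn L.lr)
  obtain ⟨z, hzx, hzy⟩ := MinusComb.exists_out hn x y
  have hr : IsRoot cs (isCartan n) (_root_.Cfsg.Agent.Nodes.KindBC.rt x y) := _root_.Cfsg.Agent.Nodes.KindBC.isRoot_rt cs (Or.inl hxy)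
  obtain ⟨v, hv, e⟩ := aut R (cfg1 M O R hA hn hxy hr) hN hG1
    (fun i a ha b hb => by
      rw [sr_eq_rt] at ha hb
      exact X_abel M O (ok_nx i) ha hb)
    (fun c hc => by
      rw [Set.mem_singleton_iff] at hc
      rw [hc]
      refine ⟨_root_.Cfsg.Agent.Nodes.KindBC.rt x z, _root_.Cfsg.Agent.Nodes.KindBC.rt (ng z) y, _root_.Cfsg.Agent.Nodes.KindBC.isRoot_rt cs (Or.inl (Ne.symm hzx)), _root_.Cfsg.Agent.Nodes.KindBC.isRoot_rt cs (Or.inl hzy), ?_, ?_, rt_add.symm⟩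
      · rw [ell_apply, cpr_ne cs _ hxy, ev_rt, ev_rt, dl_self, dl_of_ne hzx, dl_of_ne hxy, dl_of_ne hzy]
        norm_num
      · have e1 : dl (ng z) x = 0 := dl_of_ne (c := ng z) hzx
        have e2 : dl (ng z) y = 0 := dl_of_ne (c := ng z) hzy
        rw [ell_apply, cpr_ne cs _ hxy, ev_rt, ev_rt, dl_self, e1, e2, dl_of_ne hxy.symm]
        norm_num)
    (fun a ha h0 v hv => hα a ⟨ha, h0⟩ v hv)
  refine ⟨v, ?_, e⟩
  exact RGD.Sup_le (fun c hc => by rw [Set.mem_singleton_iff] at hc; rw [hc]) hv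

include O hA in
theorem k2_model (hn : 3 ≤ n) (hN : NoCent cs (isCartan n) T (Nodes.WittModel.X M))
    (hG1 : RGD.Sup (Nodes.WittModel.X M) {x | IsRoot cs (isCartan n) x} = ⊤) {r s : Fin n → ℤ} (Lr : LG R r)
    (Ls : LG R s) (hrs : cpr cs (isCartan n) r s = 1)
    {α : MulAut K} (hα : ∀ a ∈ Psi cs (isCartan n) r s, ∀ x ∈ Nodes.WittModel.X M a, α x = x) :
    ∃ z ∈ Nodes.WittModel.X M r ⊔ Nodes.WittModel.X M s, α = MulAut.conj z := by
  obtain ⟨x, y, z, ⟨hxy, hxz, hyz⟩, rfl, rfl⟩ := exists_z_pos cs (RB_of_LR M O R hA hn Ls.lr) Lr.lr.root hrs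
  -- `s = rt x y`, `r = rt x z`
  have hs : IsRoot cs (isCartan n) (_root_.Cfsg.Agent.Nodes.KindBC.rt x y) := _root_.Cfsg.Agent.Nodes.KindBC.isRoot_rt cs (Or.inl hxy)
  have hr : IsRoot cs (isCartan n) (_root_.Cfsg.Agent.Nodes.KindBC.rt x z) := _root_.Cfsg.Agent.Nodes.KindBC.isRoot_rt cs (Or.inl hxz)
  have key : ∀ a, (ell cs (isCartan n) hs + ell cs (isCartan n) hr) a =
      cpr cs (isCartan n) a (_root_.Cfsg.Agent.Nodes.KindBC.rt x y) + cpr cs (isCartan n) a (_root_.Cfsg.Agent.Nodes.KindBC.rt x z) := fun a => rfl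
  obtain ⟨v, hv, e⟩ := aut R (cfg2 M O R hA hn hxy hxz hyz hs hr) hN hG1
    (fun i a ha b hb => by
      rw [sr_eq_rt] at ha hb
      exact X_abel M O (ok_nx i) ha hb)
    (fun c hc => by
      rcases hc with rfl | hc
      · refine ⟨_root_.Cfsg.Agent.Nodes.KindBC.rt x (ng z), _root_.Cfsg.Agent.Nodes.KindBC.rt z y, _root_.Cfsg.Agent.Nodes.KindBC.isRoot_rt cs (Or.inl hxz), _root_.Cfsg.Agent.Nodes.KindBC.isRoot_rt cs (Or.inl (Ne.symm hyz)), ?_, ?_, ?_⟩
        · rw [key, cpr_ne cs _ hxy, cpr_ne cs _ hxz, ev_rt, ev_rt, ev_rt]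
          have e1 : dl (ng z) x = 0 := dl_of_ne (c := ng z) (Ne.symm hxz)
          have e2 : dl (ng z) y = 0 := dl_of_ne (c := ng z) (Ne.symm hyz)
          rw [dl_self, e1, dl_of_ne hxy, e2, dl_of_ne hxz, dl_ng]
          norm_num
        · rw [key, cpr_ne cs _ hxy, cpr_ne cs _ hxz, ev_rt, ev_rt, ev_rt]
          rw [dl_self, dl_self, dl_of_ne (Ne.symm hxz), dl_of_ne (Ne.symm hxy), dl_of_ne (Ne.symm hyz), dl_of_ne hyz]
          norm_num
        · have h1 := rt_add (x := x) (y := ng z) (z := y)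
          rw [ng_ng] at h1
          exact h1.symm
      · rw [Set.mem_singleton_iff] at hc
        rw [hc]
        refine ⟨_root_.Cfsg.Agent.Nodes.KindBC.rt x (ng y), _root_.Cfsg.Agent.Nodes.KindBC.rt y z, _root_.Cfsg.Agent.Nodes.KindBC.isRoot_rt cs (Or.inl hxy), _root_.Cfsg.Agent.Nodes.KindBC.isRoot_rt cs (Or.inl hyz), ?_, ?_, ?_⟩
        · rw [key, cpr_ne cs _ hxy, cpr_ne cs _ hxz, ev_rt, ev_rt, ev_rt]
          have e1 : dl (ng y) x = 0 := dl_of_ne (c := ng y) (Ne.symm hxy)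
          have e2 : dl (ng y) z = 0 := dl_of_ne (c := ng y) hyz
          rw [dl_self, e1, dl_of_ne hxy, dl_ng, dl_of_ne hxz, e2]
          norm_num
        · rw [key, cpr_ne cs _ hxy, cpr_ne cs _ hxz, ev_rt, ev_rt, ev_rt]
          rw [dl_self, dl_self, dl_of_ne (Ne.symm hxz), dl_of_ne (Ne.symm hxy), dl_of_ne (Ne.symm hyz), dl_of_ne hyz]
          norm_num
        · have h1 := rt_add (x := x) (y := ng y) (z := z)
          rw [ng_ng] at h1
          exact h1.symm)
    (fun a ha h0 v hv => by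
      rw [key] at h0
      have h1 := nonneg_of cs hxy hxz hyz ha h0
      exact hα a ⟨ha, h1.2, h1.1⟩ v hv)
  refine ⟨v, ?_, e⟩
  refine RGD.Sup_le (fun c hc => ?_) hv
  rcases hc with rfl | hc
  · exact le_sup_right
  · rw [Set.mem_singleton_iff] at hc
    rw [hc]
    exact le_sup_left

/-- **`SheetL` for a model of orthogonal type in characteristic two.** -/
theorem sheetL_model (hP : MinusTor.IsPlane Fr) (hs : ∃ s : F, s ≠ 0 ∧ s ≠ 1) (hn : 3 ≤ n) (hsimp : IsSimpleGroup K)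
    (hnc : ∃ a b : K, a * b ≠ b * a)
    (out : ∀ H : Subgroup (MulAut K), H ≤ ⁅H, H⁆ → ∀ α ∈ H, ∃ y, α = MulAut.conj y)
    {nn : Fin n → K} (R : RGD cs (isCartan n) 2 (Nodes.WittModel.T M) nn (Nodes.WittModel.X M))
    {r : Fin n → ℤ} (hr : r ∈ RB n) : SheetL R r := by
  have top : RGD.Sup (Nodes.WittModel.X M) {x | IsRoot cs (isCartan n) x} = ⊤ :=
    Nodes.WittModel.G1_eq_top M (by omega) cs
  have hZ : Subgroup.center K = ⊥ := by
    rcases hsimp.eq_bot_or_eq_top_of_normal (Subgroup.center K) inferInstance with h3 | h3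
    · exact h3
    · exfalso
      obtain ⟨a, b, hab⟩ := hnc
      have : a ∈ Subgroup.center K := by rw [h3]; trivial
      exact hab (Subgroup.mem_center_iff.1 this b).symm
  have hN : NoCent cs (isCartan n) (Nodes.WittModel.T M) (Nodes.WittModel.X M) := noCent_of_center R top hZ
  exact
    { top := top
      tab := MinusTor.tab_model O hP M hA
      long := LG_of_RB M O R hr
      tri := tri_model M O R hA hn hr
      k1 := fun r L α hα => k1_model M O R hA hn hN top L hα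
      k2 := fun r s Lr Ls h α hα => k2_model M O R hA hn hN top Lr Ls h hα
      perf := (KFacts.SpecMinus.hasFull_model M O hs hA cs hn hr).perfect
      out := out }

end Model

/-! ### the minus form -/

section Minus

open QuadraticMap
open Cfsg.Agent.LieClassical Cfsg.Agent.LieClassical.OrthCore Cfsg.Agent.LieClassical.OrthTrans
open Cfsg.Agent.LieClassical.OrthSimple Cfsg.Agent.LieClassical.OrthFinite
open Cfsg.Agent.LieClassical.OrthForms
open Cfsg.Agent.TitsThree.KSideO Cfsg.Agent.TitsThree.StdData Cfsg.Agent.TitsThree.WBridge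

variable {F : Type*} [Field F] [Finite F]

theorem simple_minus {m : ℕ} (hm : 3 ≤ m) (a b : F)
    (hab : ∀ z₁ z₂ : F, z₁ ^ 2 + a * z₁ * z₂ + b * z₂ ^ 2 = 0 → z₁ = 0 ∧ z₂ = 0) :
    IsSimpleGroup (Cfsg.POmega F ⇑(minusForm m F a b)) := by
  have := Fintype.ofFinite F
  have h1 := S0297.result (m + 1) (by omega) a b hab
  rw [Nat.add_sub_cancel] at h1
  rwa [coe_minusForm]

theorem sch_minus' {m : ℕ} (hm : 3 ≤ m) (a b : F)
    (hab : ∀ z₁ z₂ : F, z₁ ^ 2 + a * z₁ * z₂ + b * z₂ ^ 2 = 0 → z₁ = 0 ∧ z₂ = 0) :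
    Schreier.Basic.Sch (Cfsg.POmega F ⇑(minusForm m F a b)) := by
  have h1 := Schreier.ClassPOmega.sch_minus (m := m + 1) (by omega) a b hab
  rw [Nat.add_sub_cancel] at h1
  rwa [coe_minusForm]

/-- **`SheetL` for `PΩ⁻_{2m+2}(F)`, `m ≥ 3`, `|F| ≥ 4` even.** -/
theorem sheetL_minus (h2 : (2 : F) = 0) (hs : ∃ s : F, s ≠ 0 ∧ s ≠ 1) {m : ℕ} (hm : 3 ≤ m) (a b : F)
    (hab : ∀ z₁ z₂ : F, z₁ ^ 2 + a * z₁ * z₂ + b * z₂ ^ 2 = 0 → z₁ = 0 ∧ z₂ = 0)
    {W : Type*} [Group W] [Finite W] (cs : CoxeterSystem (CoxeterMatrix.B m) W)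
    {nn : Fin m → Cfsg.POmega F ⇑(minusForm m F a b)}
    (R : RGD cs (isCartan m) 2
      (Nodes.WittModel.T (KFacts.SpecMinus.modelMinus (m := m) (by omega) a b hab)) nn
      (Nodes.WittModel.X (KFacts.SpecMinus.modelMinus (m := m) (by omega) a b hab)))
    {r : Fin m → ℤ} (hr : r ∈ RB m) : SheetL R r := by
  have hm2 : 2 ≤ m := by omega
  have O := KFacts.SpecMinus.orth_minus h2 m a b hab
  have hA := KFacts.SpecMinus.ambT_minus h2 hm2 a b hab
  have hsimp := simple_minus hm a b hab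
  refine sheetL_model (KFacts.SpecMinus.modelMinus hm2 a b hab) O hA (MinusTor.isPlane_minus h2 m a b hab) hs hm hsimp
    ?_ ?_ R hr
  · -- noncommutative
    by_contra hcon
    push Not at hcon
    have hn : 0 < m := by omega
    let x : Fin m × Bool := (⟨0, hn⟩, true)
    let y : Fin m × Bool := (⟨1, by omega⟩, true)
    have hxy : x.1 ≠ y.1 := by
      intro h
      have := congrArg Fin.val h
      simp [x, y] at this
    obtain ⟨p0, hp0⟩ := O.p0
    have h1 := Z_nd (KFacts.SpecMinus.modelMinus hm2 a b hab) O (x := x) (y := y) hxy hA.iso hn (p := p0)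
      fun q => hcon _ _
    rw [h1] at hp0
    exact hp0 Frame.Adm.one_c
  · intro H hH α hα
    obtain ⟨y, hy⟩ := sch_minus' hm a b hab H (le_antisymm (Subgroup.commutator_le_self _) hH) hα
    exact ⟨y, hy.symm⟩

end Minus

end Cfsg.Agent.OddHalf.DblR.SheetMinus

end

private theorem dce_759372002f30 : _root_.True := by
  try have : _root_.True := by simp only [_root_.Cfsg.Agent.Nodes.Coroot.ell.congr_simp]
  exact _root_.True.intro
end

-- part: OddHalf/D9/TwoM12/KFacts_mg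
section

end

-- part: OddHalf/DblR/HexK/AutForm
section
set_option linter.all false
open scoped Cfsg.Agent.FastGrp

/-!
# `G₂(q)`, `³D₄(q)`: automorphisms centralising unipotent radicals

`c` normalises `AA σ x`.
* `aut_Q2` : if `c` centralises `X₁X₂X₃X₄X₅` then `c ∈ X₂ X₄ C(AA)`;
* `aut_Q1` : if `c` centralises `X₂X₃X₄X₅X₆` then `c ∈ X₄ C(AA)`.
-/

set_option autoImplicit false
set_option maxHeartbeats 400000

namespace Cfsg.Agent.OddHalf.DblR.HexK

open Subgroup Cfsg.Agent.StdRank2.Hex Cfsg.Agent.StdRank2.Hex.HexTwo Cfsg.Agent.SplitTwo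
open scoped commutatorElement

variable {E : Type*} [Field E] {σ : E ≃+* E} {G : Type*} [Group G] {x : ZMod 12 → E → G}

theorem mem_cent_of {c : G} (hc : ∀ k a, Ok σ k a → c * x k a * c⁻¹ = x k a) : c ∈ centralizer (AA σ x : Set G) := by
  rw [mem_centralizer_iff]
  intro y hy
  have h1 : y ∈ centralizer ({c} : Set G) := by
    refine gen_le (S := Set.univ) (fun k _ a ha => ?_) hy
    rw [mem_centralizer_iff]
    rintro _ rfl
    exact mul_inv_eq_iff_eq_mul.1 (hc k a ha)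
  exact (mem_centralizer_iff.1 h1 c (Set.mem_singleton c)).symm

/-- the form of `exists_conj` -/
theorem exists_field [Finite E] [Finite G] (h : HexTwo σ x) (hN : NotTwo σ) {c : G}
    (hc : ∀ v ∈ AA σ x, c * v * c⁻¹ ∈ AA σ x) :
    ∃ g ∈ AA σ x, ∃ τ : E ≃+* E, (∀ a, τ (σ a) = σ (τ a)) ∧
      ∀ k a, Ok σ k a → c * x k a * c⁻¹ = g * x k (τ a) * g⁻¹ := by
  obtain ⟨g, hg, ρ, hρ, e⟩ := out h hN hc
  refine ⟨g⁻¹, inv_mem hg, ρ, hρ, fun k a ha => ?_⟩
  rw [← e k a ha]
  group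

variable (h : HexTwo σ x)
include h

theorem field_of_x3 [Finite E] {g : G} (hg : g ∈ UU σ x) {τ : E ≃+* E}
    (h3 : ∀ a, g * x 3 (τ a) * g⁻¹ = x 3 a) (a : E) : τ a = a := by
  refine (h.U_x3 (u := g) hg (y := τ a) (y' := a) ?_)
  have h1 : ⁅g, x 3 (τ a)⁆ * x 3 (τ a) = x 3 a := by
    rw [commutatorElement_def, inv_mul_cancel_right, h3]
  rw [h1, h.x_sq (ok_odd (by decide) _)]
  exact one_mem _

theorem comm_x3_one {g : G} {τ : E ≃+* E} (h3 : ∀ a, g * x 3 (τ a) * g⁻¹ = x 3 a) :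
    ⁅g, x 3 1⁆ ∈ gen σ x {2, 4} := by
  have h1 := h3 1
  rw [map_one] at h1
  rw [commutatorElement_def, h1, mul_inv_cancel]
  exact one_mem _

/-- an automorphism centralising `X₂X₃X₄X₅X₆` -/
theorem aut_Q1 [Finite E] [Finite G] (hN : NotTwo σ) {c : G} (hc : ∀ v ∈ AA σ x, c * v * c⁻¹ ∈ AA σ x)
    (hQ : ∀ v ∈ gen σ x (arc 2 5), c * v = v * c) :
    ∃ z ∈ gen σ x {4}, z⁻¹ * c ∈ centralizer (AA σ x : Set G) := by
  obtain ⟨g, hg, τ, hτ, e⟩ := exists_field h hN hc
  have hQ' : ∀ k : ZMod 12, k ∈ arc 2 5 → ∀ a, Ok σ k a → g * x k (τ a) * g⁻¹ = x k a := by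
    intro k hk a ha
    rw [← e k a ha, hQ _ (x_mem_gen hk ha), mul_inv_cancel_right]
  have h3 : ∀ a, g * x 3 (τ a) * g⁻¹ = x 3 a := fun a =>
    hQ' 3 (show (3 - 2 : ZMod 12).val < 5 by decide) a (ok_odd (by decide) a)
  have h4 : g * x 4 1 * g⁻¹ = x 4 1 := by
    have := hQ' 4 (show (4 - 2 : ZMod 12).val < 5 by decide) 1 (ok_one σ 4)
    rwa [map_one] at this
  have hU : g ∈ UU σ x := h.mem_U_of hg h4 (comm_x3_one h h3)
  have hτ1 : ∀ a, τ a = a := field_of_x3 h hU h3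
  have hQ2 : ∀ k : ZMod 12, k ∈ arc 2 5 → ∀ a, Ok σ k a → g * x k a * g⁻¹ = x k a := by
    intro k hk a ha
    have := hQ' k hk a ha
    rwa [hτ1] at this
  have hg1 : g ∈ gen σ x (arc 2 5) := h.mem_Q1_of_U hU fun c => by
    rw [commutatorElement_def, hQ2 3 (show (3 - 2 : ZMod 12).val < 5 by decide) c (ok_odd (by decide) c),
      mul_inv_cancel]
    exact one_mem _
  have hg4 : g ∈ gen σ x {4} := by
    refine h.mem_X4_of_Q1 hg1 fun v hv => ?_
    have : v ∈ centralizer ({g} : Set G) := by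
      refine gen_le (fun k hk a ha => ?_) hv
      rw [mem_centralizer_iff]
      rintro _ rfl
      exact mul_inv_eq_iff_eq_mul.1 (hQ2 k hk a ha)
    exact mem_centralizer_iff.1 this g (Set.mem_singleton g)
  refine ⟨g, hg4, mem_cent_of (σ := σ) fun k a ha => ?_⟩
  have e1 := e k a ha
  rw [hτ1] at e1
  calc g⁻¹ * c * x k a * (g⁻¹ * c)⁻¹ = g⁻¹ * (c * x k a * c⁻¹) * g := by group
    _ = x k a := by rw [e1]; group

/-- an automorphism centralising `X₁X₂X₃X₄X₅` -/
theorem aut_Q2 [Finite E] [Finite G] (hN : NotTwo σ) {c : G} (hc : ∀ v ∈ AA σ x, c * v * c⁻¹ ∈ AA σ x)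
    (hQ : ∀ v ∈ gen σ x (arc 1 5), c * v = v * c) :
    ∃ z ∈ gen σ x {2, 4}, z⁻¹ * c ∈ centralizer (AA σ x : Set G) := by
  obtain ⟨g, hg, τ, hτ, e⟩ := exists_field h hN hc
  have hQ' : ∀ k : ZMod 12, k ∈ arc 1 5 → ∀ a, Ok σ k a → g * x k (τ a) * g⁻¹ = x k a := by
    intro k hk a ha
    rw [← e k a ha, hQ _ (x_mem_gen hk ha), mul_inv_cancel_right]
  have h3 : ∀ a, g * x 3 (τ a) * g⁻¹ = x 3 a := fun a =>
    hQ' 3 (show (3 - 1 : ZMod 12).val < 5 by decide) a (ok_odd (by decide) a)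
  have h4 : g * x 4 1 * g⁻¹ = x 4 1 := by
    have := hQ' 4 (show (4 - 1 : ZMod 12).val < 5 by decide) 1 (ok_one σ 4)
    rwa [map_one] at this
  have h2 : g * x 2 1 * g⁻¹ = x 2 1 := by
    have := hQ' 2 (show (2 - 1 : ZMod 12).val < 5 by decide) 1 (ok_one σ 2)
    rwa [map_one] at this
  have hU : g ∈ UU σ x := h.mem_U_of hg h4 (comm_x3_one h h3)
  have hg2 : g ∈ gen σ x (arc 1 5) := h.mem_Q2_of_U hU (mul_inv_eq_iff_eq_mul.1 h2)
  have hτ1 : ∀ a, τ a = a := field_of_x3 h hU h3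
  have hQ2 : ∀ k : ZMod 12, k ∈ arc 1 5 → ∀ a, Ok σ k a → g * x k a * g⁻¹ = x k a := by
    intro k hk a ha
    have := hQ' k hk a ha
    rwa [hτ1] at this
  have hgW : g ∈ gen σ x {2, 4} := by
    refine h.mem_W_of_Q2 hg2 fun v hv => ?_
    have : v ∈ centralizer ({g} : Set G) := by
      refine gen_le (fun k hk a ha => ?_) hv
      rw [mem_centralizer_iff]
      rintro _ rfl
      exact mul_inv_eq_iff_eq_mul.1 (hQ2 k hk a ha)
    exact mem_centralizer_iff.1 this g (Set.mem_singleton g)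
  refine ⟨g, hgW, mem_cent_of (σ := σ) fun k a ha => ?_⟩
  have e1 := e k a ha
  rw [hτ1] at e1
  calc g⁻¹ * c * x k a * (g⁻¹ * c)⁻¹ = g⁻¹ * (c * x k a * c⁻¹) * g := by group
    _ = x k a := by rw [e1]; group

/-- an automorphism centralising `X₁X₂X₃X₄X₅X₆X₇`, or only `U` -/
theorem aut_U [Finite E] [Finite G] (hN : NotTwo σ) {c : G} (hc : ∀ v ∈ AA σ x, c * v * c⁻¹ ∈ AA σ x)
    (hU : ∀ v ∈ UU σ x, c * v = v * c) :
    ∃ z ∈ gen σ x {4}, z⁻¹ * c ∈ centralizer (AA σ x : Set G) :=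
  aut_Q1 h hN hc fun v hv => hU v (gen_mono (fun l hl => by
    have : ∀ l : ZMod 12, (l - 2).val < 5 → (l - 1).val < 6 := by decide
    exact this l hl) hv)

end Cfsg.Agent.OddHalf.DblR.HexK
end

-- part: OddHalf/DblR/HexK/KFour
section
prune_inst 0x101005405422000000180582310026407600019000200800a0200d4205c82500a8400101b4a0140210082244083d0068135c00c0420000000a000000011c05810028000080480000220000000084000000000000000000000000000000000004200000000
set_option linter.all false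
open scoped Cfsg.Agent.FastGrp

-- merged: Cfsg.Agent.OddHalf.DblR.HexK.Tri
section

/-!
# `G₂(q)`, `³D₄(q)`: `KTri`

The long roots `2`, `6` and `4 = 2 + 6`. `Amb (AA σ x) R`, `R ≠ 1`.
* `ktri` : `KTri` when the norm is onto (`³D₄(q)`, and `G₂(q)` for `3 ∤ q - 1`).
-/

set_option autoImplicit false
set_option maxHeartbeats 400000

namespace Cfsg.Agent.OddHalf.DblR.HexK

open Subgroup Cfsg.Agent.StdRank2.Hex Cfsg.Agent.StdRank2.Hex.HexTwo Cfsg.Agent.SplitTwo
open scoped commutatorElement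

local notation "cJ" => Cfsg.Agent.Nodes.Reps.cj

variable {E : Type*} [Field E] {σ : E ≃+* E} {G : Type*} [Group G] {x : ZMod 12 → E → G}

theorem cJ_eq {g : G} {S S' : Subgroup G} (h1 : ∀ y ∈ S, g * y * g⁻¹ ∈ S') (h2 : ∀ y ∈ S', g⁻¹ * y * g ∈ S) :
    cJ g S = S' := by
  ext y
  rw [Cfsg.Agent.Nodes.Reps.mem_cj]
  refine ⟨fun hy => ?_, h2 y⟩
  have := h1 _ hy
  have e : g * (g⁻¹ * y * g) * g⁻¹ = y := by group
  rwa [e] at this

theorem C1_of_cent {K R : Subgroup G} {z c : G} (hzK : z ∈ K) (hKR : ∀ t ∈ R, ∀ k ∈ K, t * k = k * t)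
    (hc : ∀ a ∈ R, c * a = a * c) (h : z⁻¹ * c ∈ centralizer (K : Set G)) : z⁻¹ * c ∈ C1 K R := by
  rw [mem_C1]
  refine ⟨fun k hk => (mem_centralizer_iff.1 h k hk).symm, fun t ht => ?_⟩
  have h1 := hKR t ht z⁻¹ (inv_mem hzK)
  calc z⁻¹ * c * t = z⁻¹ * (c * t) := by group
    _ = (z⁻¹ * t) * c := by rw [hc t ht]; group
    _ = t * (z⁻¹ * c) := by rw [← h1]; group

theorem normalises {K R : Subgroup G} (A : Amb K R) (hR : ∃ t ∈ R, t ≠ 1) {c : G} (hc : ∀ a ∈ R, c * a = a * c) :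
    ∀ v ∈ K, c * v * c⁻¹ ∈ K := by
  obtain ⟨t, ht, ht1⟩ := hR
  exact A.nor t ht ht1 c (hc t ht)

variable (h : HexTwo σ x)
include h

theorem cJ_nn (c : ZMod 12) {S S' : Set (ZMod 12)} (h1 : ∀ l ∈ S, 2 * c + 6 - l ∈ S')
    (h2 : ∀ l ∈ S', 2 * c + 6 - l ∈ S) : cJ (nn x c) (gen σ x S) = gen σ x S' := by
  refine cJ_eq (fun y hy => h.nn_conj_gen c h1 hy) fun y hy => ?_
  have := h.nn_conj_gen c h2 hy
  rwa [h.nn_inv] at this ⊢

theorem cJ_H [Finite E] {t : G} (ht : t ∈ h.H) (S : Set (ZMod 12)) : cJ t (gen σ x S) = gen σ x S := by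
  refine cJ_eq (fun y hy => h.H_conj_gen ht S hy) fun y hy => ?_
  have := h.H_conj_gen (h.H.inv_mem ht) S hy
  rwa [inv_inv] at this

theorem nn_mem_AA (c : ZMod 12) : nn x c ∈ AA σ x := nn_mem_gen (Set.mem_univ _) (Set.mem_univ _)

theorem H_le [Finite E] : h.H ≤ AA σ x := by
  rintro g ⟨s, t, -, -, ht, rfl⟩
  exact mul_mem (hh_mem_gen (Set.mem_univ _) (Set.mem_univ _) (ok_odd (by decide) s))
    (hh_mem_gen (Set.mem_univ _) (Set.mem_univ _) (ok_of_fix 6 ht))

theorem H_odd [Finite E] {g : G} (hg : g ∈ h.H) : ∃ l : ℕ, Odd l ∧ g ^ l = 1 := by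
  refine ⟨Nat.card E - 1, ?_, h.H_pow hg⟩
  obtain ⟨n, hn, e⟩ := h.exists_card
  rw [e]
  obtain ⟨m, rfl⟩ : ∃ m, n = m + 1 := ⟨n - 1, by omega⟩
  rw [pow_succ]
  exact ⟨2 ^ m - 1, by have : 1 ≤ 2 ^ m := Nat.one_le_two_pow; omega⟩

/-- the torus elements of a short root centralising the long root at distance three -/
theorem act_long [Finite E] {k j : ZMod 12} (hk : k.val % 2 = 1) (hj : j.val % 2 = 0) (hd : j - k = 1 ∨ j - k = 11)
    {s : E} (hs : s ≠ 0) {b : E} (hb : σ b = b) :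
    hh x k s * x j b * (hh x k s)⁻¹ = x j (nrm σ s * b) := by
  rw [h.tor k j hs (ok_odd hk s) (ok_of_fix j hb)]
  have hk' : ¬ k.val % 2 = 0 := by omega
  unfold ch
  rw [if_neg hk']
  rcases hd with e | e <;> rw [e] <;> rfl

theorem act_perp [Finite E] {k j : ZMod 12} (hd : j - k = 3 ∨ j - k = 9) {s : E} (hs : s ≠ 0) (hok : Ok σ k s)
    {b : E} (hb : Ok σ j b) : hh x k s * x j b * (hh x k s)⁻¹ = x j b := by
  rw [h.tor k j hs hok hb]
  have : ch σ k (j - k) s = 1 := by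
    unfold ch
    split_ifs
    · rcases hd with e | e <;> rw [e] <;> rfl
    · rcases hd with e | e <;> rw [e] <;> rfl
  rw [this, one_mul]

theorem comm_nn_hh (c k : ZMod 12) (hck : 2 * c + 6 - k = k) {s : E} (hok : Ok σ k s) :
    hh x k s * nn x c = nn x c * hh x k s := by
  have := h.conj_nn_hh c k hok
  rw [hck] at this
  exact (mul_inv_eq_iff_eq_mul.1 this).symm

theorem commX (x2 y6 : G) (hx : x2 ∈ gen σ x {2}) (hy : y6 ∈ gen σ x {6}) :
    ∃ b t, σ b = b ∧ σ t = t ∧ x2 = x 2 b ∧ y6 = x 6 t ∧ x2 * y6 * x2⁻¹ * y6⁻¹ = x 4 (b * t) := by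
  obtain ⟨b, hb, rfl⟩ := h.mem_gen_singleton.1 hx
  obtain ⟨t, ht, rfl⟩ := h.mem_gen_singleton.1 hy
  have hb' : σ b = b := hb (by decide)
  have ht' : σ t = t := ht (by decide)
  refine ⟨b, t, hb', ht', rfl, rfl, ?_⟩
  have := h.commL4 (k := 2) (by decide) hb' ht'
  rw [commutatorElement_def] at this
  exact this

theorem norm_conj_X6 {y : G} (hy : y ∈ gen σ x (arc 1 5)) {u : G} (hu : u ∈ gen σ x {6}) :
    u * y * u⁻¹ ∈ gen σ x (arc 1 5) := by
  obtain ⟨t, ht, rfl⟩ := h.mem_gen_singleton.1 hu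
  have e : (1 : ZMod 12) + ((5 : ℕ) : ZMod 12) = 6 := by decide
  have := h.conj_last (k := 1) (n := 5) le_rfl (b := t) (by rw [e]; exact ht) hy
  rwa [e] at this

theorem norm_conj_X2 {y : G} (hy : y ∈ gen σ x (arc 3 5)) {u : G} (hu : u ∈ gen σ x {2}) :
    u * y * u⁻¹ ∈ gen σ x (arc 3 5) := by
  obtain ⟨t, ht, rfl⟩ := h.mem_gen_singleton.1 hu
  exact h.conj_first (k := 2) (n := 5) le_rfl ht hy

/-- the shifted version of `aut_Q2` -/
theorem aut_Q2' [Finite E] [Finite G] (hN : NotTwo σ) {c : G} (hc : ∀ v ∈ AA σ x, c * v * c⁻¹ ∈ AA σ x)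
    (hQ : ∀ v ∈ gen σ x (arc 3 5), c * v = v * c) :
    ∃ z ∈ gen σ x {4, 6}, z⁻¹ * c ∈ centralizer (AA σ x : Set G) := by
  have h' := h.shift (c := 2) (by decide)
  have eA : AA σ (fun j => x (j + 2)) = AA σ x := AA_shift 2 (by decide)
  obtain ⟨z, hz, hz'⟩ := aut_Q2 h' hN (c := c) (by rw [eA]; exact hc) (by
    intro v hv
    rw [gen_shift_arc 2 (by decide)] at hv
    exact hQ v hv)
  rw [eA] at hz'
  refine ⟨z, ?_, hz'⟩
  rw [gen_shift 2 (by decide)] at hz
  refine gen_mono (fun l hl => ?_) hz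
  have : ∀ l : ZMod 12, l - 2 = 2 ∨ l - 2 = 4 → l = 4 ∨ l = 6 := by decide
  exact this l hl

theorem mem_pair {k l : ZMod 12} (hkl : l = k + 2) (hk : k.val % 2 = 0) {z : G} (hz : z ∈ gen σ x {k, l}) :
    ∃ u ∈ gen σ x {k}, ∃ v ∈ gen σ x {l}, z = u * v := by
  have hl : l.val % 2 = 0 := by
    subst hkl
    have : ∀ k : ZMod 12, k.val % 2 = 0 → (k + 2).val % 2 = 0 := by decide
    exact this k hk
  have hc : ∀ u ∈ gen σ x {k}, ∀ v ∈ gen σ x {l}, Commute u v := by
    intro u hu v hv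
    obtain ⟨b, hb, rfl⟩ := h.mem_gen_singleton.1 hu
    obtain ⟨t, ht, rfl⟩ := h.mem_gen_singleton.1 hv
    refine h.comm_long hk ?_ hb ht
    subst hkl
    have : ∀ k : ZMod 12, (k + 2 - (k - 3)).val < 7 := by decide
    exact this k
  refine Subgroup.closure_induction (p := fun z _ => ∃ u ∈ gen σ x {k}, ∃ v ∈ gen σ x {l}, z = u * v) ?_ ?_ ?_ ?_ hz
  · rintro _ ⟨j, hj, a, ha, rfl⟩
    rcases hj with rfl | hj
    · exact ⟨x j a, x_mem_gen (Set.mem_singleton _) ha, 1, one_mem _, by rw [mul_one]⟩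
    · rw [Set.mem_singleton_iff] at hj
      subst hj
      exact ⟨1, one_mem _, x j a, x_mem_gen (Set.mem_singleton _) ha, by rw [one_mul]⟩
  · exact ⟨1, one_mem _, 1, one_mem _, by rw [one_mul]⟩
  · rintro _ _ - - ⟨u, hu, v, hv, rfl⟩ ⟨u', hu', v', hv', rfl⟩
    refine ⟨u * u', mul_mem hu hu', v * v', mul_mem hv hv', ?_⟩
    have := (hc u' hu' v hv).eq
    calc u * v * (u' * v') = u * (v * u') * v' := by group
      _ = u * u' * (v * v') := by rw [← this]; group
  · rintro _ - ⟨u, hu, v, hv, rfl⟩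
    refine ⟨u⁻¹, inv_mem hu, v⁻¹, inv_mem hv, ?_⟩
    rw [(hc u hu v hv).eq, mul_inv_rev]

omit h in
theorem arc_sub {k l : ZMod 12} {m n : ℕ} (H : ∀ j : ZMod 12, (j - k).val < m → (j - l).val < n) :
    gen σ x (arc k m) ≤ gen σ x (arc l n) := gen_mono fun j hj => H j hj

theorem sing_le {k l : ZMod 12} {n : ℕ} (H : (k - l).val < n) : gen σ x {k} ≤ gen σ x (arc l n) :=
  gen_mono fun j hj => by
    rw [Set.mem_singleton_iff] at hj
    subst hj
    exact H

theorem disj {k l : ZMod 12} (hkl : k ≠ l) {y : G} (h1 : y ∈ gen σ x {k}) (h2 : y ∈ gen σ x {l}) : y = 1 := by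
  obtain ⟨a, ha, rfl⟩ := h.mem_gen_singleton.1 h1
  obtain ⟨b, hb, e⟩ := h.mem_gen_singleton.1 h2
  by_contra hne
  have ha0 : a ≠ 0 := fun e0 => hne (by rw [e0, h.x_zero])
  exact hkl (h.root_unique ha hb ha0 e)

/-- `K1` of `KTri` -/
theorem gen26 {S : Subgroup G} (h2 : gen σ x {2} ≤ S) (h6 : gen σ x {6} ≤ S) (hY : gen σ x (arc 3 3) ≤ S) :
    gen σ x (arc 2 5) ≤ S := by
  refine gen_le fun k hk a ha => ?_
  have : ∀ k : ZMod 12, (k - 2).val < 5 → k = 2 ∨ k = 6 ∨ (k - 3).val < 3 := by decide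
  rcases this k hk with rfl | rfl | h3
  · exact h2 (x_mem_gen (Set.mem_singleton _) ha)
  · exact h6 (x_mem_gen (Set.mem_singleton _) ha)
  · exact hY (x_mem_gen h3 ha)

end Cfsg.Agent.OddHalf.DblR.HexK

end

-- merged: Cfsg.Agent.OddHalf.DblR.HexK.Co
section

/-!
# `G₂(q)`, `³D₄(q)`: coordinates on `Q₁ / X₄`

`Co σ x v b c e f` : `v ∈ Q₁ = X₂X₃X₄X₅X₆` has coordinates `b c e f` modulo `X₄`.
-/

set_option autoImplicit false
set_option maxHeartbeats 400000

namespace Cfsg.Agent.OddHalf.DblR.HexK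

open Subgroup Cfsg.Agent.StdRank2.Hex Cfsg.Agent.StdRank2.Hex.HexTwo Cfsg.Agent.SplitTwo
open scoped commutatorElement

variable {E : Type*} [Field E] {σ : E ≃+* E} {G : Type*} [Group G] {x : ZMod 12 → E → G}

/-- coordinates of `v` modulo `X₄` -/
def Co (σ : E ≃+* E) (x : ZMod 12 → E → G) (v : G) (b c e f : E) : Prop :=
  σ b = b ∧ σ f = f ∧ ∃ d, σ d = d ∧ v = q x b c d e f

theorem Co.mem {v : G} {b c e f : E} (hv : Co σ x v b c e f) : v ∈ gen σ x (arc 2 5) := by
  obtain ⟨hb, hf, d, hd, rfl⟩ := hv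
  exact q_mem hb hd hf

variable (h : HexTwo σ x)
include h

theorem exists_co {v : G} (hv : v ∈ gen σ x (arc 2 5)) : ∃ b c e f, Co σ x v b c e f := by
  obtain ⟨b, c, d, e, f, hb, hd, hf, rfl⟩ := h.mem_Q1.1 hv
  exact ⟨b, c, e, f, hb, hf, d, hd, rfl⟩

theorem Co.unique {v : G} {b c e f b' c' e' f' : E} (h1 : Co σ x v b c e f) (h2 : Co σ x v b' c' e' f') :
    b = b' ∧ c = c' ∧ e = e' ∧ f = f' := by
  obtain ⟨hb, hf, d, hd, rfl⟩ := h1
  obtain ⟨hb', hf', d', hd', e1⟩ := h2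
  obtain ⟨a1, a2, -, a4, a5⟩ := h.q_inj hb hd hf hb' hd' hf' e1
  exact ⟨a1, a2, a4, a5⟩

theorem Co.mul {v w : G} {b c e f b' c' e' f' : E} (h1 : Co σ x v b c e f) (h2 : Co σ x w b' c' e' f') :
    Co σ x (v * w) (b + b') (c + c') (e + e') (f + f') := by
  obtain ⟨hb, hf, d, hd, rfl⟩ := h1
  obtain ⟨hb', hf', d', hd', rfl⟩ := h2
  refine ⟨by rw [map_add, hb, hb'], by rw [map_add, hf, hf'], _, ?_, h.q_mul hb hd hf hb' hd' hf'⟩
  rw [map_add, map_add, map_add, map_mul, hd, hd', hb', hf, h.fix_trc]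

theorem Co.x4 {v z : G} (hz : z ∈ gen σ x {4}) {b c e f : E} (h1 : Co σ x v b c e f) : Co σ x (z * v) b c e f := by
  obtain ⟨t, ht, rfl⟩ := h.mem_gen_singleton.1 hz
  have h2 : Co σ x (x 4 t) 0 0 0 0 := ⟨map_zero σ, map_zero σ, t, ht (by decide), (h.q4 t).symm⟩
  have := h2.mul h h1
  simpa using this

theorem Co.conj1 (a : E) {v : G} {b c e f : E} (h1 : Co σ x v b c e f) :
    Co σ x (x 1 a * v * (x 1 a)⁻¹) (b + trc σ a c + trc σ (shp σ a) e + f * nrm σ a) (c + crs σ a e + f * shp σ a)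
      (e + f * a) f := by
  obtain ⟨hb, hf, d, hd, rfl⟩ := h1
  refine ⟨?_, hf, d + trc σ a (shp σ e) + f ^ 2 * nrm σ a + f * trc σ (shp σ a) e, ?_, ?_⟩
  · rw [map_add, map_add, map_add, map_mul, h.fix_trc, h.fix_trc, h.fix_nrm, hb, hf]
  · rw [map_add, map_add, map_add, map_mul, map_mul, h.fix_trc, h.fix_trc, h.fix_nrm, map_pow, hd, hf]
  · rw [h.x1_q a hb hd hf, mul_inv_cancel_right]

theorem Co.conjn {v : G} {b c e f : E} (h1 : Co σ x v b c e f) :
    Co σ x (nn x 1 * v * (nn x 1)⁻¹) f e c b := by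
  obtain ⟨hb, hf, d, hd, rfl⟩ := h1
  refine ⟨hf, hb, d + b * f + trc σ e c, ?_, ?_⟩
  · rw [map_add, map_add, map_mul, h.fix_trc, hb, hf, hd]
  · rw [h.nn1_q hb hd hf, mul_inv_cancel_right]

theorem co_x2 {t : E} (ht : σ t = t) : Co σ x (x 2 t) t 0 0 0 := ⟨ht, map_zero σ, 0, map_zero σ, (h.q2 t).symm⟩

theorem co_x3 (c : E) : Co σ x (x 3 c) 0 c 0 0 := ⟨map_zero σ, map_zero σ, 0, map_zero σ, (h.q3 c).symm⟩

theorem co_x5 (e : E) : Co σ x (x 5 e) 0 0 e 0 := ⟨map_zero σ, map_zero σ, 0, map_zero σ, (h.q5 e).symm⟩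

theorem co_x6 {t : E} (ht : σ t = t) : Co σ x (x 6 t) 0 0 0 t := ⟨map_zero σ, ht, 0, map_zero σ, (h.q6 t).symm⟩

theorem co_one : Co σ x 1 0 0 0 0 := ⟨map_zero σ, map_zero σ, 0, map_zero σ, h.q_zero.symm⟩

theorem comm_Q {v w : G} (hv : v ∈ gen σ x (arc 2 5)) (hw : w ∈ gen σ x (arc 2 5)) : ⁅v, w⁆ ∈ gen σ x {4} :=
  h.comm_Q1 (k := 4) (by decide) hv hw

theorem Co.conjQ {v w : G} (hw : w ∈ gen σ x (arc 2 5)) {b c e f : E} (h1 : Co σ x v b c e f) :
    Co σ x (w * v * w⁻¹) b c e f := by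
  have e1 : w * v * w⁻¹ = ⁅w, v⁆ * v := by rw [commutatorElement_def]; group
  rw [e1]
  exact h1.x4 h (comm_Q h hw h1.mem)

theorem Co.of_conjQ {v w : G} (hw : w ∈ gen σ x (arc 2 5)) {b c e f : E} (h1 : Co σ x (w * v * w⁻¹) b c e f) :
    Co σ x v b c e f := by
  have := h1.conjQ h (inv_mem hw)
  have e1 : w⁻¹ * (w * v * w⁻¹) * w⁻¹⁻¹ = v := by group
  rwa [e1] at this

/-- the commutator form of `Q₁` -/
def BB (σ : E ≃+* E) (b c e f b' c' e' f' : E) : E := b' * f + b * f' + trc σ c' e + trc σ c e'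

theorem conj_Co {v w : G} {b c e f b' c' e' f' : E} (h1 : Co σ x v b c e f) (h2 : Co σ x w b' c' e' f') :
    v * w * v⁻¹ = x 4 (BB σ b c e f b' c' e' f') * w := by
  obtain ⟨hb, hf, d, hd, rfl⟩ := h1
  obtain ⟨hb', hf', d', hd', rfl⟩ := h2
  have hB : σ (BB σ b c e f b' c' e' f') = BB σ b c e f b' c' e' f' := by
    unfold BB
    rw [map_add, map_add, map_add, map_mul, map_mul, h.fix_trc, h.fix_trc, hb, hb', hf, hf']
  rw [mul_inv_eq_iff_eq_mul, h.q_mul hb hd hf hb' hd' hf', mul_assoc, h.q_mul hb' hd' hf' hb hd hf,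
    ← h.q4 (BB σ b c e f b' c' e' f')]
  have hD : σ (d' + d + b * f' + trc σ c e') = d' + d + b * f' + trc σ c e' := by
    rw [map_add, map_add, map_add, map_mul, h.fix_trc, hd, hd', hb, hf']
  rw [h.q_mul (map_zero σ) hB (map_zero σ) (by rw [map_add, hb, hb']) hD (by rw [map_add, hf, hf'])]
  have e2 : trc σ (c' + c) 0 = 0 := trc_zero_right _
  have key : d + d' + b' * f + trc σ c' e =
      BB σ b c e f b' c' e' f' + (d' + d + b * f' + trc σ c e') + (b' + b) * 0 + trc σ (c' + c) 0 := by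
    rw [e2]
    unfold BB
    have e3 : b * f' + b * f' = 0 := h.add_self _
    have e4 : trc σ c e' + trc σ c e' = 0 := h.add_self _
    linear_combination (-1 : E) * e3 - e4
  rw [key]
  congr 1 <;> ring

end Cfsg.Agent.OddHalf.DblR.HexK

end

-- merged: Cfsg.Agent.OddHalf.DblR.HexK.KFour
section

/-!
# `G₂(q)`, `³D₄(q)`: elements which act trivially on `P₁ / Q₁`

`P = ⟨X₁, …, X₇⟩`, `Q = X₂X₃X₄X₅X₆`. Let `[e, P] ≤ Q`, `e` normalises `X₄`. Then `e` acts on `Q / X₄` as a scalar of the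
fixed field.
-/

set_option autoImplicit false
set_option maxHeartbeats 400000

namespace Cfsg.Agent.OddHalf.DblR.HexK

open Subgroup Cfsg.Agent.StdRank2.Hex Cfsg.Agent.StdRank2.Hex.HexTwo Cfsg.Agent.SplitTwo
open scoped commutatorElement

variable {E : Type*} [Field E] {σ : E ≃+* E} {G : Type*} [Group G] {x : ZMod 12 → E → G}

/-- the norms generate the fixed field -/
def NormGen (σ : E ≃+* E) : Prop := ∀ s, σ s = s → s ∈ Subring.closure {y | ∃ a, y = nrm σ a}

theorem NormGen.linear (hc : ∀ a, σ (σ (σ a)) = a) (hg : NormGen σ) {φ : E → E}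
    (h1 : ∀ s t, σ s = s → σ t = t → φ (s + t) = φ s + φ t)
    (h2 : ∀ s a, σ s = s → φ (s * nrm σ a) = φ s * nrm σ a) {s : E} (hs : σ s = s) : φ s = φ 1 * s := by
  have h0 : φ 0 = 0 := by
    have := h1 0 0 (map_zero σ) (map_zero σ)
    rw [add_zero] at this
    exact left_eq_add.1 this
  have hneg : ∀ s, σ s = s → φ (-s) = -φ s := by
    intro s hs
    have := h1 s (-s) hs (by rw [map_neg, hs])
    rw [add_neg_cancel, h0] at this
    exact (neg_eq_of_add_eq_zero_right this.symm).symm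
  have key : σ s = s ∧ ∀ t, σ t = t → φ (t * s) = φ t * s := by
    refine Subring.closure_induction (p := fun s _ => σ s = s ∧ ∀ t, σ t = t → φ (t * s) = φ t * s)
      ?_ ?_ ?_ ?_ ?_ ?_ (hg s hs)
    · rintro _ ⟨a, rfl⟩
      exact ⟨nrm_fix hc a, fun t ht => h2 t a ht⟩
    · exact ⟨map_zero σ, fun t _ => by rw [mul_zero, mul_zero, h0]⟩
    · exact ⟨map_one σ, fun t _ => by rw [mul_one, mul_one]⟩
    · rintro y z - - ⟨hy, hy'⟩ ⟨hz, hz'⟩
      refine ⟨by rw [map_add, hy, hz], fun t ht => ?_⟩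
      rw [mul_add, h1 _ _ (by rw [map_mul, ht, hy]) (by rw [map_mul, ht, hz]), hy' t ht, hz' t ht, mul_add]
    · rintro y - ⟨hy, hy'⟩
      refine ⟨by rw [map_neg, hy], fun t ht => ?_⟩
      rw [mul_neg, hneg _ (by rw [map_mul, ht, hy]), hy' t ht, mul_neg]
    · rintro y z - - ⟨hy, hy'⟩ ⟨hz, hz'⟩
      refine ⟨by rw [map_mul, hy, hz], fun t ht => ?_⟩
      rw [← mul_assoc, hz' _ (by rw [map_mul, ht, hy]), hy' t ht, mul_assoc]
  have := key.2 1 (map_one σ)
  rwa [one_mul] at this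

variable (h : HexTwo σ x)
include h

theorem Co.of_x4 {v z : G} (hz : z ∈ gen σ x {4}) {b c e f : E} (h1 : Co σ x (z * v) b c e f) : Co σ x v b c e f := by
  have := h1.x4 h (inv_mem hz)
  rwa [inv_mul_cancel_left] at this

theorem shp_fix_mul {s : E} (hs : σ s = s) (a : E) : shp σ (s * a) = s ^ 2 * shp σ a := by
  rw [shp_mul]
  congr 1
  unfold shp
  rw [hs, hs, pow_two]

theorem nrm_fix_mul {s : E} (hs : σ s = s) (a : E) : nrm σ (s * a) = s ^ 3 * nrm σ a := by
  rw [nrm_mul]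
  congr 1
  unfold nrm
  rw [hs, hs]
  ring

omit h in
theorem nrm_eq (a : E) : nrm σ a = a * shp σ a := by
  unfold nrm shp
  rw [mul_assoc]

theorem trc_shp_self (a : E) : trc σ (shp σ a) a = nrm σ a := by
  have e1 : shp σ a * a = nrm σ a := by rw [nrm_eq, mul_comm]
  unfold trc
  rw [e1, h.fix_nrm, h.fix_nrm]
  have := h.add_self (nrm σ a)
  linear_combination this

/-- fixed points of `X₁` on `Q / X₄` -/
theorem fixed_coord {ω : E} (hω : σ ω = ω) (hω0 : ω ≠ 0) (hω1 : ω ≠ 1) {c e : E}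
    (hc : ∀ a, trc σ a c + trc σ (shp σ a) e = 0) : c = 0 ∧ e = 0 := by
  have key : ∀ a, trc σ a c = 0 := by
    intro a
    have h1 := hc a
    have h2 := hc (ω * a)
    rw [shp_fix_mul h hω, trc_smul_left hω, trc_smul_left (by rw [map_pow, hω])] at h2
    have h3 : trc σ (shp σ a) e = trc σ a c := by
      have := h.add_self (trc σ (shp σ a) e)
      linear_combination h1 - this + h.add_self (trc σ (shp σ a) e) - h.add_self (trc σ a c)
    rw [h3] at h2
    have h4 : (ω * (1 + ω)) * trc σ a c = 0 := by linear_combination h2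
    rcases mul_eq_zero.1 h4 with h5 | h5
    · rcases mul_eq_zero.1 h5 with h6 | h6
      · exact absurd h6 hω0
      · exfalso
        apply hω1
        have := h.add_self (1 : E)
        linear_combination h6 - this
    · exact h5
  have hc0 : c = 0 := h.eq_zero_of_trc fun y => by rw [trc_comm]; exact key y
  refine ⟨hc0, ?_⟩
  by_contra he
  have h1 := hc e
  rw [hc0, trc_zero_right, zero_add, trc_shp_self h] at h1
  exact nrm_ne_zero he h1

section Act

variable {e : G} (hP : ∀ p ∈ gen σ x (arc 1 7), e * p * e⁻¹ * p⁻¹ ∈ gen σ x (arc 2 5))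
include hP

theorem conj_Q {v : G} (hv : v ∈ gen σ x (arc 2 5)) : e * v * e⁻¹ ∈ gen σ x (arc 2 5) := by
  have h1 := hP v (arc_sub (k := 2) (l := 1) (m := 5) (n := 7) (by decide) hv)
  have h2 := mul_mem h1 hv
  rwa [inv_mul_cancel_right] at h2

theorem act_iff {p v : G} (hp : p ∈ gen σ x (arc 1 7)) {b c e' f : E} :
    Co σ x (e * (p * v * p⁻¹) * e⁻¹) b c e' f ↔ Co σ x (p * (e * v * e⁻¹) * p⁻¹) b c e' f := by
  have e1 : e * (p * v * p⁻¹) * e⁻¹ =
      (e * p * e⁻¹ * p⁻¹) * (p * (e * v * e⁻¹) * p⁻¹) * (e * p * e⁻¹ * p⁻¹)⁻¹ := by group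
  rw [e1]
  exact ⟨fun h1 => h1.of_conjQ h (hP p hp), fun h1 => h1.conjQ h (hP p hp)⟩

omit h hP in
theorem nn1_P : nn x 1 ∈ gen σ x (arc 1 7) :=
  nn_mem_gen (show (1 - 1 : ZMod 12).val < 7 by decide) (show (1 + 6 - 1 : ZMod 12).val < 7 by decide)

omit h hP in
theorem x1_P (a : E) : x 1 a ∈ gen σ x (arc 1 7) :=
  x_mem_gen (show (1 - 1 : ZMod 12).val < 7 by decide) (ok_odd (by decide) a)

omit hP in
theorem nn1_x6 {t : E} (ht : σ t = t) : nn x 1 * x 6 t * (nn x 1)⁻¹ = x 2 t := by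
  have := h.refl1 6 t (ok_of_fix 6 ht)
  rwa [show (8 - 6 : ZMod 12) = 2 by decide] at this

/-- `e` acts on `X₂` and `X₆` modulo `X₄` by the same map -/
theorem exists_phi {ω : E} (hω : σ ω = ω) (hω0 : ω ≠ 0) (hω1 : ω ≠ 1) {t : E} (ht : σ t = t) :
    ∃ l, Co σ x (e * x 2 t * e⁻¹) l 0 0 0 ∧ Co σ x (e * x 6 t * e⁻¹) 0 0 0 l := by
  have hx6 : x 6 t ∈ gen σ x (arc 2 5) := (co_x6 h ht).mem
  obtain ⟨b, c, e', f, hv⟩ := exists_co h (conj_Q h hP hx6)
  have hu : Co σ x (e * x 2 t * e⁻¹) f e' c b := by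
    rw [← nn1_x6 h ht, act_iff h hP nn1_P]
    exact hv.conjn h
  have key : ∀ a, b * a = 0 ∧ trc σ a e' + trc σ (shp σ a) c = 0 := by
    intro a
    have h1 : Co σ x (e * (x 1 a * x 2 t * (x 1 a)⁻¹) * e⁻¹) f e' c b := by
      rw [h.s12 a ht, mul_inv_cancel_right]
      exact hu
    rw [act_iff h hP (x1_P a)] at h1
    obtain ⟨h2, -, h3, -⟩ := h1.unique h (hu.conj1 h a)
    have h3' : b * a = 0 := left_eq_add.1 h3
    refine ⟨h3', ?_⟩
    have hb0 : b * nrm σ a = 0 := by rw [nrm_eq, ← mul_assoc, h3', zero_mul]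
    rw [hb0, add_zero, add_assoc] at h2
    exact left_eq_add.1 h2
  have hb : b = 0 := by
    have := (key 1).1
    rwa [mul_one] at this
  obtain ⟨he', hc⟩ := fixed_coord h hω hω0 hω1 fun a => (key a).2
  subst hb he' hc
  exact ⟨f, hu, hv⟩

section

variable (hX : ∀ z ∈ gen σ x {4}, e * z * e⁻¹ ∈ gen σ x {4}) {φ : E → E}
  (hφ : ∀ t, σ t = t → Co σ x (e * x 2 t * e⁻¹) (φ t) 0 0 0 ∧ Co σ x (e * x 6 t * e⁻¹) 0 0 0 (φ t))
include hX hφ

/-- (A) -/
theorem formA (a : E) {t : E} (ht : σ t = t) :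
    Co σ x (e * (x 3 (t * shp σ a) * x 5 (t * a)) * e⁻¹) (φ t * nrm σ a + φ (t * nrm σ a)) (φ t * shp σ a)
      (φ t * a) 0 := by
  have h35 : x 3 (t * shp σ a) * x 5 (t * a) ∈ gen σ x (arc 2 5) := mul_mem (co_x3 h _).mem (co_x5 h _).mem
  obtain ⟨b, c, e', f, hv⟩ := exists_co h (conj_Q h hP h35)
  have htn : σ (t * nrm σ a) = t * nrm σ a := by rw [map_mul, ht, h.fix_nrm]
  -- the image of `x₁(a) x₆(t) x₁(a)⁻¹`
  have h1 : Co σ x (e * (x 1 a * x 6 t * (x 1 a)⁻¹) * e⁻¹) (φ t * nrm σ a) (φ t * shp σ a) (φ t * a) (φ t) := by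
    rw [act_iff h hP (x1_P a)]
    have := (hφ t ht).2.conj1 h a
    simpa [trc_zero_right, crs_zero_right] using this
  -- the element itself
  have h2 : Co σ x (x 1 a * x 6 t * (x 1 a)⁻¹) (t * nrm σ a) (t * shp σ a) (t * a) t := by
    have := (co_x6 h ht).conj1 h a
    simpa [trc_zero_right, crs_zero_right] using this
  obtain ⟨-, -, d, hd, e2⟩ := h2
  have e3 : x 1 a * x 6 t * (x 1 a)⁻¹ = x 2 (t * nrm σ a) * (x 4 d * (x 3 (t * shp σ a) * x 5 (t * a))) * x 6 t := by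
    rw [e2]
    unfold q
    have := h.s34 (t * shp σ a) hd
    calc x 2 (t * nrm σ a) * x 3 (t * shp σ a) * x 4 d * x 5 (t * a) * x 6 t
        = x 2 (t * nrm σ a) * (x 3 (t * shp σ a) * x 4 d) * x 5 (t * a) * x 6 t := by group
      _ = _ := by rw [this]; group
  have e4 : e * (x 1 a * x 6 t * (x 1 a)⁻¹) * e⁻¹ =
      (e * x 2 (t * nrm σ a) * e⁻¹) * ((e * x 4 d * e⁻¹) * (e * (x 3 (t * shp σ a) * x 5 (t * a)) * e⁻¹)) *
        (e * x 6 t * e⁻¹) := by
    rw [e3]; group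
  have h3 := (((hφ _ htn).1.mul h (hv.x4 h (hX _ (x_mem_gen (Set.mem_singleton _) (ok_of_fix 4 hd))))).mul h (hφ t ht).2)
  rw [← e4] at h3
  obtain ⟨a1, a2, a3, a4⟩ := h3.unique h h1
  rw [add_zero] at a1
  rw [zero_add, add_zero] at a2 a3
  rw [zero_add] at a4
  have b1 : b = φ t * nrm σ a + φ (t * nrm σ a) := by
    have := h.add_self (φ (t * nrm σ a))
    linear_combination a1 - this
  have b4 : f = 0 := by
    exact add_eq_right.1 a4
  rw [← b1, ← a2, ← a3, ← b4]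
  exact hv

theorem formB (a : E) {t : E} (ht : σ t = t) :
    Co σ x (e * (x 3 (t * a) * x 5 (t * shp σ a)) * e⁻¹) 0 (φ t * a) (φ t * shp σ a)
      (φ t * nrm σ a + φ (t * nrm σ a)) := by
  have h1 := (formA h hP hX hφ a ht).conjn h
  rw [← act_iff h hP nn1_P] at h1
  have r3 := h.refl1 3 (t * shp σ a) (ok_odd (by decide) _)
  have r5 := h.refl1 5 (t * a) (ok_odd (by decide) _)
  rw [show (8 - 3 : ZMod 12) = 5 by decide] at r3
  rw [show (8 - 5 : ZMod 12) = 3 by decide] at r5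
  have e1 : nn x 1 * (x 3 (t * shp σ a) * x 5 (t * a)) * (nn x 1)⁻¹ = x 5 (t * shp σ a) * x 3 (t * a) := by
    rw [← r3, ← r5]; group
  have hT : σ (trc σ (t * a) (t * shp σ a)) = trc σ (t * a) (t * shp σ a) := h.fix_trc _ _
  have e2 : x 5 (t * shp σ a) * x 3 (t * a) =
      x 4 (trc σ (t * a) (t * shp σ a)) * (x 3 (t * a) * x 5 (t * shp σ a)) := by
    rw [h.c35, mul_assoc (x 4 _), ← mul_assoc (x 4 _) (x 4 _), h.x_sq (ok_of_fix 4 hT), one_mul]
  rw [e1, e2] at h1
  have e3 : e * (x 4 (trc σ (t * a) (t * shp σ a)) * (x 3 (t * a) * x 5 (t * shp σ a))) * e⁻¹ =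
      (e * x 4 (trc σ (t * a) (t * shp σ a)) * e⁻¹) * (e * (x 3 (t * a) * x 5 (t * shp σ a)) * e⁻¹) := by group
  rw [e3] at h1
  exact Co.of_x4 h (hX _ (x_mem_gen (Set.mem_singleton _) (ok_of_fix 4 hT))) h1

theorem phi_nrm {a : E} (ha : a ≠ 0) {t : E} (ht : σ t = t) : φ (t * nrm σ a) = φ t * nrm σ a := by
  have hA := formA h hP hX hφ a ht
  have htn : σ (t * nrm σ a) = t * nrm σ a := by rw [map_mul, ht, h.fix_nrm]
  have hB := formB h hP hX hφ a⁻¹ htn
  have hs : shp σ a ≠ 0 := shp_ne_zero ha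
  have e1 : t * nrm σ a * a⁻¹ = t * shp σ a := by
    rw [nrm_eq]; field_simp
  have e2 : t * nrm σ a * shp σ a⁻¹ = t * a := by
    have : shp σ a⁻¹ = (shp σ a)⁻¹ := by
      unfold shp; rw [map_inv₀, map_inv₀, mul_inv]
    rw [nrm_eq, this]; field_simp
  rw [e1, e2] at hB
  obtain ⟨h1, -, -, -⟩ := hA.unique h hB
  have := h.add_self (φ t * nrm σ a)
  linear_combination h1 - this

theorem phi_add {s t : E} (hs : σ s = s) (ht : σ t = t) : φ (s + t) = φ s + φ t := by
  have h1 := (hφ s hs).1.mul h (hφ t ht).1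
  have e1 : e * x 2 s * e⁻¹ * (e * x 2 t * e⁻¹) = e * x 2 (s + t) * e⁻¹ := by
    rw [h.add 2 s t (ok_of_fix 2 hs) (ok_of_fix 2 ht)]; group
  rw [e1] at h1
  exact ((hφ (s + t) (by rw [map_add, hs, ht])).1.unique h h1).1

end

/-- **`e` acts on `Q / X₄` as a scalar.** -/
theorem exists_lam (hg : NormGen σ) {ω : E} (hω : σ ω = ω) (hω0 : ω ≠ 0) (hω1 : ω ≠ 1)
    (hX : ∀ z ∈ gen σ x {4}, e * z * e⁻¹ ∈ gen σ x {4}) :
    ∃ l, σ l = l ∧ l ≠ 0 ∧ (∀ t, σ t = t → Co σ x (e * x 2 t * e⁻¹) (l * t) 0 0 0) ∧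
      (∀ t, σ t = t → Co σ x (e * x 6 t * e⁻¹) 0 0 0 (l * t)) ∧
      (∀ t a, σ t = t → Co σ x (e * (x 3 (t * shp σ a) * x 5 (t * a)) * e⁻¹) 0 (l * t * shp σ a) (l * t * a) 0) ∧
      ∀ t, σ t = t → e * x 4 t * e⁻¹ = x 4 (l * l * t) := by
  have hex : ∀ t : E, ∃ l, σ t = t → Co σ x (e * x 2 t * e⁻¹) l 0 0 0 ∧ Co σ x (e * x 6 t * e⁻¹) 0 0 0 l := by
    intro t
    by_cases ht : σ t = t
    · obtain ⟨l, hl⟩ := exists_phi h hP hω hω0 hω1 ht
      exact ⟨l, fun _ => hl⟩
    · exact ⟨0, fun h0 => absurd h0 ht⟩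
  choose φ hφ using hex
  have hlin : ∀ s, σ s = s → φ s = φ 1 * s := fun s hs => hg.linear h.cube (fun s t hs ht => phi_add h hP hX hφ hs ht)
    (fun s a hs => by
      by_cases ha : a = 0
      · subst ha
        rw [nrm_zero, mul_zero, mul_zero]
        have h0 := phi_add h hP hX hφ (map_zero σ) (map_zero σ)
        rw [add_zero] at h0
        exact left_eq_add.1 h0
      · exact phi_nrm h hP hX hφ ha hs) hs
  have h1f : σ (φ 1) = φ 1 := (hφ 1 (map_one σ)).1.1
  have h4 : ∀ t, σ t = t → e * x 4 t * e⁻¹ = x 4 (φ 1 * φ 1 * t) := by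
    intro t ht
    have h2 := (hφ t ht).1
    have h6 := (hφ 1 (map_one σ)).2
    have e1 := conj_Co h h2 h6
    have e2 := h.c26 ht (map_one σ)
    rw [mul_one] at e2
    have e3 : x 4 t = x 2 t * x 6 1 * (x 2 t)⁻¹ * (x 6 1)⁻¹ := by rw [e2]; group
    have e4 : BB σ (φ t) 0 0 0 0 0 0 (φ 1) = φ 1 * φ 1 * t := by
      unfold BB
      rw [trc_zero_left, hlin t ht]; ring
    rw [e4] at e1
    calc e * x 4 t * e⁻¹ = (e * x 2 t * e⁻¹) * (e * x 6 1 * e⁻¹) * (e * x 2 t * e⁻¹)⁻¹ * (e * x 6 1 * e⁻¹)⁻¹ := by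
          rw [e3]; group
      _ = x 4 (φ 1 * φ 1 * t) := by rw [e1]; group
  refine ⟨φ 1, h1f, ?_, fun t ht => ?_, fun t ht => ?_, fun t a ht => ?_, h4⟩
  · intro h0
    have := h4 1 (map_one σ)
    rw [h0, zero_mul, zero_mul, h.x_zero] at this
    have h1 : x 4 1 = 1 := by
      calc x 4 1 = e⁻¹ * (e * x 4 1 * e⁻¹) * e := by group
        _ = 1 := by rw [this]; group
    exact one_ne_zero ((h.x_eq_one (ok_one σ 4)).1 h1)
  · rw [← hlin t ht]; exact (hφ t ht).1
  · rw [← hlin t ht]; exact (hφ t ht).2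
  · have h1 := formA h hP hX hφ a ht
    have h2 : φ t * nrm σ a + φ (t * nrm σ a) = 0 := by
      rw [hlin t ht, hlin (t * nrm σ a) (by rw [map_mul, ht, h.fix_nrm])]
      have := h.add_self (φ 1 * t * nrm σ a)
      linear_combination this
    rw [h2] at h1
    rw [← hlin t ht]
    exact h1

end Act

end Cfsg.Agent.OddHalf.DblR.HexK

end
end

-- part: OddHalf/D4/ThreeD4Two/Bal
section
prune_inst 0x401000020000000580310006404600019000200800c0000d400480250200000100848014021008a20400350008135c00d0000000000000040001180581008812002040a10000000e000084000000000000000000000000000000000004200000000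
set_option linter.all false
open scoped Cfsg.Agent.FastGrp

-- merged: Cfsg.Agent.StdRank2.HexMod
section

/-!
# The modules of the rank one subgroups of a hexagonal root system in characteristic two (S1778)

`k` even (long), `L = ⟨X_k, X_{k+6}⟩ ≅ SL₂(F)`:
* `W_act` : `L` acts on `W = X_{k+2} X_{k+4}` as on `F²`;
* `W_irred` : a subgroup `1 < Y ≤ W` normalised by `X_k`, `X_{k+6}` is `W`;
* `short_act` : `L` acts on `X_{k+1} X_{k+5} X_{k+2} X_{k+3} X_{k+4} / X_{k+2} X_{k+3} X_{k+4}` as on `E²`.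
`k` odd (short), `L = ⟨X_k, X_{k+6}⟩ ≅ SL₂(E)`:
see `HexModS.lean`.
-/

set_option autoImplicit false

namespace Cfsg.Agent.StdRank2.Hex

open Cfsg.Agent.SplitTwo Cfsg.Agent.SuzukiRankOne.SLTwoRel
open Matrix (SpecialLinearGroup)
open scoped commutatorElement

/-! ### Generation of `SL₂` -/

namespace HexTwo

variable {E : Type*} [Field E] {σ : E ≃+* E} {Γ : Type*} [Group Γ] {x : ZMod 12 → E → Γ} (h : HexTwo σ x)

include h

section even

variable {k : ZMod 12} (hk : k.val % 2 = 0)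

include hk

/-! ### The short part -/

end even



end HexTwo

end Cfsg.Agent.StdRank2.Hex

end

-- merged: Cfsg.Agent.StdRank2.HexModS
section

/-!
# The module `Q_1/Z` of a short rank one subgroup of a hexagonal root system in characteristic two (S1778)

`k` odd (short), `L = ⟨X_k, X_{k+6}⟩ ≅ SL₂(E)`, `Q = X_{k+1} ⋯ X_{k+5}`, `Z = X_{k+3}`:
* `Q4 k g a b d e` : `g ∈ x_{k+1}(a) x_{k+2}(b) x_{k+4}(d) x_{k+5}(e) Z`; additive (`Q4.mul`), action of `x_k(s)`
  (`Q4.up`), of the reflection (`Q4.nn`) and of the torus;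
* `Q_irred` : a subgroup `Z < Y ≤ Q` normalised by `X_k`, the reflection and the torus is `Q`, unless `E = F` has
  two elements (`G₂(2)`).
-/

set_option autoImplicit false

namespace Cfsg.Agent.StdRank2.Hex

open Cfsg.Agent.SplitTwo Cfsg.Agent.SuzukiRankOne.SLTwoRel
open scoped commutatorElement

section Idx

end Idx

variable {E : Type*} [Field E] {σ : E ≃+* E} {Γ : Type*} [Group Γ] {x : ZMod 12 → E → Γ}

namespace HexTwo

variable (h : HexTwo σ x) {k : ZMod 12} (hk : k.val % 2 = 1)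

include h hk

omit hk in
/-- squares are surjective -/
theorem exists_sq [Finite E] (c : E) : ∃ t, t * t = c := by
  have hinj : Function.Injective (fun t : E => t * t) := by
    intro s t e
    have h1 : (s + t) * (s + t) = 0 := by
      have h2 : (s + t) * (s + t) = s * s + t * t + (s * t + s * t) := by ring
      have e' : s * s = t * t := e
      rw [h2, e', h.add_self, h.add_self, add_zero]
    have h3 := mul_self_eq_zero.1 h1
    rw [← h.sub_eq] at h3
    exact sub_eq_zero.1 h3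
  exact (Finite.injective_iff_surjective.1 hinj) c

omit hk in
theorem crs_self_ne {r d : E} (hr : σ r ≠ r) (hd : d ≠ 0) : crs σ (d * r) d ≠ 0 := by
  have e : crs σ (d * r) d = σ d * σ (σ d) * (σ r + σ (σ r)) := by
    unfold crs
    simp only [map_mul]
    ring
  rw [e]
  refine mul_ne_zero (mul_ne_zero ?_ ?_) ?_
  · exact (map_ne_zero σ).2 hd
  · exact (map_ne_zero σ).2 ((map_ne_zero σ).2 hd)
  · intro e1
    rw [← map_add] at e1
    have e2 := (map_eq_zero σ).1 e1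
    rw [← h.sub_eq] at e2
    exact hr (sub_eq_zero.1 e2).symm

end HexTwo

end Cfsg.Agent.StdRank2.Hex

end

-- merged: Cfsg.Agent.OddHalf.D4.ThreeD4Two.Base
section

/-!
# ODD half, D4, `K ≅ ³D₄(2)`: the involutions

`Mod σ x` : `X` is generated by a hexagonal root system over `F₈ / F₂`.
* `mem_V_of` : `Z₂(U) ≤ V = X₂X₄`;
* `conj_x4_of_V` : the involutions of `V` are conjugate to `x 4 1`;
* `isSyl_U` : `U` is a Sylow 2-subgroup.
-/

set_option autoImplicit false
set_option linter.unusedSectionVars false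
set_option linter.unusedSimpArgs false

namespace Cfsg.Agent.OddHalf.D4.ThreeD4Two

open Subgroup Cfsg.Agent.StdRank2.Hex Cfsg.Agent.SplitTwo Cfsg.Agent.StdEven.Syl
open Cfsg.Agent.StdRank2.Hex.HexTwo (ok1 ok3 ok5 UU AA q uu q_mem uu_mem)
open scoped commutatorElement

variable {E : Type*} [Field E] {σ : E ≃+* E} {X : Type*} [Group X] {x : ZMod 12 → E → X}

/-- `X` is generated by a hexagonal root system over `F₈ / F₂`. -/
structure Mod (σ : E ≃+* E) (x : ZMod 12 → E → X) : Prop where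
  hex : HexTwo σ x
  card : Nat.card E = 8
  fix : ∀ a, σ a = a → a = 0 ∨ a = 1
  top : AA σ x = ⊤

namespace Mod

variable (M : Mod σ x)

include M

theorem finE : Finite E := Cfsg.Agent.TriTwo.finE M.card

theorem mem_AA (g : X) : g ∈ AA σ x := by rw [M.top]; trivial

theorem exists_mover : ∃ r : E, σ r ≠ r := by
  by_contra hcon
  push Not at hcon
  obtain ⟨η, h0, h1, -⟩ := Cfsg.Agent.TriTwo.exists_eta M.hex.two M.card M.fix M.hex.cube
  rcases M.fix η (hcon η) with h | h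
  · exact h0 h
  · exact h1 h

/-- **`Z₂(U) ≤ X₂X₄`** -/
theorem mem_V_of {u : X} (hu : u ∈ UU σ x) (hc : ∀ v ∈ UU σ x, ⁅u, v⁆ ∈ gen σ x {4}) : u ∈ gen σ x {2, 4} := by
  have h := M.hex
  have z : σ (0 : E) = 0 := map_zero σ
  have o : σ (1 : E) = 1 := map_one σ
  have h1 : u ∈ gen σ x (arc 2 5) := h.mem_Q1_of_U hu fun c => hc _ (x_mem_gen (by rw [mem_arc]; decide) (ok3 c))
  obtain ⟨b, c, d, e, f, hb, hd, hf, rfl⟩ := h.mem_Q1.1 h1
  -- commutation with `x 1 a`
  have key : ∀ a, trc σ a c + trc σ (shp σ a) e + f * nrm σ a = 0 ∧ crs σ a e + f * shp σ a = 0 ∧ f * a = 0 := by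
    intro a
    obtain ⟨t, ht, e1⟩ := (h.mem_gen_singleton (k := 4)).1 (hc (x 1 a) (x_mem_gen (by rw [mem_arc]; decide) (ok1 a)))
    have ht' : σ t = t := ht (by decide)
    have e2 := HexTwo.conj_eq_of_comm e1
    rw [mul_inv_eq_iff_eq_mul] at e2
    -- `q * x1 = x4 t * x1 * q`
    have e3 : x 4 t * x 1 a = x 1 a * x 4 t := (h.s14 a ht').symm
    rw [e3, mul_assoc, ← h.q4, h.q_mul z ht' z hb hd hf, h.x1_q a (by simp [hb]) (by simp [hd, ht', trc_zero_right])
      (by simp [hf])] at e2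
    have e4 := mul_right_cancel e2
    have f1 := h.fix_trc a c
    have f2 := h.fix_trc (shp σ a) e
    have f3 := h.fix_trc a (shp σ e)
    have f4 := h.fix_nrm a
    simp only [zero_add, mul_zero, trc_zero_right, add_zero] at e4
    obtain ⟨r1, r2, -, r4, -⟩ := h.q_inj hb hd hf (by simp only [map_add, map_mul, hb, f1, f2, hf, f4])
      (by simp only [map_add, map_mul, map_pow, ht', hd, f3, f2, hf, f4]) hf e4
    refine ⟨?_, ?_, ?_⟩
    · have : b + 0 = b + (trc σ a c + trc σ (shp σ a) e + f * nrm σ a) := by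
        rw [add_zero, ← add_assoc, ← add_assoc]; exact r1
      exact (add_left_cancel this).symm
    · have : c + 0 = c + (crs σ a e + f * shp σ a) := by rw [add_zero, ← add_assoc]; exact r2
      exact (add_left_cancel this).symm
    · have : e + 0 = e + f * a := by rw [add_zero]; exact r4
      exact (add_left_cancel this).symm
  have hf0 : f = 0 := by
    have := (key 1).2.2
    rwa [mul_one] at this
  subst hf0
  have he0 : e = 0 := by
    by_contra he
    obtain ⟨r, hr⟩ := M.exists_mover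
    have := (key (e * r)).2.1
    rw [zero_mul, add_zero] at this
    exact h.crs_self_ne hr he this
  subst he0
  have hc0 : c = 0 := by
    refine h.eq_zero_of_trc fun y => ?_
    have := (key y).1
    rw [zero_mul, add_zero, trc_zero_right, add_zero, trc_comm] at this
    exact this
  subst hc0
  exact h.mem_24.2 ⟨b, d, hb, hd, rfl⟩

theorem mem_V {u : X} : u ∈ gen σ x {2, 4} ↔ u = 1 ∨ u = x 2 1 ∨ u = x 4 1 ∨ u = x 2 1 * x 4 1 := by
  have h := M.hex
  rw [h.mem_24]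
  constructor
  · rintro ⟨b, d, hb, hd, rfl⟩
    rw [h.q_234, h.x_zero, mul_one]
    rcases M.fix b hb with rfl | rfl <;> rcases M.fix d hd with rfl | rfl
    · left; rw [h.x_zero, h.x_zero, mul_one]
    · right; right; left; rw [h.x_zero, one_mul]
    · right; left; rw [h.x_zero, mul_one]
    · right; right; right; rfl
  · rintro (rfl | rfl | rfl | rfl)
    · exact ⟨0, 0, map_zero σ, map_zero σ, by rw [h.q_zero]⟩
    · exact ⟨1, 0, map_one σ, map_zero σ, by rw [h.q2]⟩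
    · exact ⟨0, 1, map_zero σ, map_one σ, by rw [h.q4]⟩
    · exact ⟨1, 1, map_one σ, map_one σ, by rw [h.q_234, h.x_zero, mul_one]⟩

theorem mem_Z {u : X} : u ∈ gen σ x {4} ↔ u = 1 ∨ u = x 4 1 := by
  have h := M.hex
  rw [h.mem_gen_singleton]
  constructor
  · rintro ⟨a, ha, rfl⟩
    rcases M.fix a (ha (by decide)) with rfl | rfl
    · left; exact h.x_zero 4
    · right; rfl
  · rintro (rfl | rfl)
    · exact ⟨0, ok_zero σ 4, (h.x_zero 4).symm⟩
    · exact ⟨1, ok_one σ 4, rfl⟩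

/-- the reflection `j ↦ 6 - j` -/
theorem nn0_act {j : ZMod 12} {a : E} (ha : Ok σ j a) : nn x 0 * x j a * (nn x 0)⁻¹ = x (6 - j) a := by
  have := M.hex.refl 0 j ha
  rwa [mul_zero, zero_add] at this

/-- conjugation by `x 6 1` -/
theorem x6_act : x 6 1 * x 2 1 * (x 6 1)⁻¹ = x 2 1 * x 4 1 ∧ x 6 1 * x 4 1 * (x 6 1)⁻¹ = x 4 1 ∧
    ∀ c, x 6 1 * x 3 c * (x 6 1)⁻¹ = x 3 c := by
  have h := M.hex
  have o : σ (1 : E) = 1 := map_one σ
  refine ⟨?_, ?_, fun c => ?_⟩
  · rw [mul_inv_eq_iff_eq_mul]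
    have e := h.c26 o o
    rw [one_mul] at e
    have i4 := h.x_sq (ok_of_fix 4 o)
    calc x 6 1 * x 2 1 = x 4 1 * x 4 1 * x 6 1 * x 2 1 := by rw [i4, one_mul]
      _ = x 4 1 * (x 4 1 * x 6 1 * x 2 1) := by group
      _ = x 4 1 * (x 2 1 * x 6 1) := by rw [← e]
      _ = x 4 1 * x 2 1 * x 6 1 := by group
      _ = _ := by rw [← h.s24 o o]
  · rw [← h.s46 o o, mul_inv_cancel_right]
  · rw [← h.s36 c o, mul_inv_cancel_right]

/-- the involutions of `V` are conjugate to `x 4 1`, by elements centralising `x 3 c`. -/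
theorem conj_x4_of_V {v : X} (hv : v ∈ gen σ x {2, 4}) (h1 : v ≠ 1) :
    ∃ g : X, g * v * g⁻¹ = x 4 1 ∧ (∀ c, g * x 3 c * g⁻¹ = x 3 c) ∧ ∀ v' ∈ gen σ x {2, 4}, g * v' * g⁻¹ ∈ gen σ x {2, 4} := by
  have h := M.hex
  obtain ⟨k1, k2, k3⟩ := M.x6_act
  have n2 : nn x 0 * x 2 1 * (nn x 0)⁻¹ = x 4 1 := by
    rw [M.nn0_act (ok_one σ 2)]; congr 1
  have n4 : nn x 0 * x 4 1 * (nn x 0)⁻¹ = x 2 1 := by
    rw [M.nn0_act (ok_one σ 4)]; congr 1
  have n3 : ∀ c, nn x 0 * x 3 c * (nn x 0)⁻¹ = x 3 c := fun c => by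
    rw [M.nn0_act (ok3 c)]; congr 1
  have q24 : x 2 1 * x 4 1 = x 4 1 * x 2 1 := h.s24 (map_one σ) (map_one σ)
  have i4 := h.x_sq (ok_of_fix 4 (map_one σ))
  have n0 : ∀ v' ∈ gen σ x {2, 4}, nn x 0 * v' * (nn x 0)⁻¹ ∈ gen σ x {2, 4} := by
    intro v' hv'
    rw [M.mem_V] at hv' ⊢
    rcases hv' with rfl | rfl | rfl | rfl
    · left; group
    · right; right; left; exact n2
    · right; left; exact n4
    · right; right; right
      calc nn x 0 * (x 2 1 * x 4 1) * (nn x 0)⁻¹ = (nn x 0 * x 2 1 * (nn x 0)⁻¹) * (nn x 0 * x 4 1 * (nn x 0)⁻¹) := by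
            group
        _ = _ := by rw [n2, n4, q24]
  have n6 : ∀ v' ∈ gen σ x {2, 4}, x 6 1 * v' * (x 6 1)⁻¹ ∈ gen σ x {2, 4} := by
    intro v' hv'
    rw [M.mem_V] at hv' ⊢
    rcases hv' with rfl | rfl | rfl | rfl
    · left; group
    · right; right; right; exact k1
    · right; right; left; exact k2
    · right; left
      calc x 6 1 * (x 2 1 * x 4 1) * (x 6 1)⁻¹ = (x 6 1 * x 2 1 * (x 6 1)⁻¹) * (x 6 1 * x 4 1 * (x 6 1)⁻¹) := by
            group
        _ = _ := by rw [k1, k2, mul_assoc, i4, mul_one]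
  rcases M.mem_V.1 hv with rfl | rfl | rfl | rfl
  · exact absurd rfl h1
  · exact ⟨nn x 0, n2, n3, n0⟩
  · exact ⟨1, by group, fun c => by group, fun v' hv' => by rw [one_mul, inv_one, mul_one]; exact hv'⟩
  · refine ⟨nn x 0 * (x 6 1), ?_, fun c => ?_, fun v' hv' => ?_⟩
    · calc nn x 0 * x 6 1 * (x 2 1 * x 4 1) * (nn x 0 * x 6 1)⁻¹
          = nn x 0 * ((x 6 1 * x 2 1 * (x 6 1)⁻¹) * (x 6 1 * x 4 1 * (x 6 1)⁻¹)) * (nn x 0)⁻¹ := by group
        _ = _ := by rw [k1, k2, mul_assoc (x 2 1), i4, mul_one, n2]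
    · calc nn x 0 * x 6 1 * x 3 c * (nn x 0 * x 6 1)⁻¹ = nn x 0 * (x 6 1 * x 3 c * (x 6 1)⁻¹) * (nn x 0)⁻¹ := by group
        _ = _ := by rw [k3, n3]
    · have : nn x 0 * x 6 1 * v' * (nn x 0 * x 6 1)⁻¹ = nn x 0 * (x 6 1 * v' * (x 6 1)⁻¹) * (nn x 0)⁻¹ := by group
      rw [this]
      exact n0 _ (n6 _ hv')

/-- `U` is a Sylow 2-subgroup. -/
theorem isSyl_U [Finite X] : IsSyl (UU σ x) ⊤ := by
  have := M.finE
  refine ⟨le_top, M.hex.isPGroup_U, fun Q hQ _ hUQ => ?_⟩
  have htop : UU σ x ≤ ⊤ := le_top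
  obtain ⟨p, -, hp⟩ := M.hex.sylow_conj (S := AA σ x) (HexTwo.gen_le_AA _) le_rfl hQ (by rw [M.top]; exact le_top)
  refine (Subgroup.eq_of_le_of_card_ge hUQ ?_).symm
  have h1 : Q.map (MulAut.conj p).toMonoidHom ≤ UU σ x := by
    rintro _ ⟨y, hy, rfl⟩
    exact hp y hy
  calc Nat.card Q = Nat.card (Q.map (MulAut.conj p).toMonoidHom) :=
        Nat.card_congr (Q.equivMapOfInjective (MulAut.conj p).toMonoidHom (MulAut.conj p).injective).toEquiv
    _ ≤ Nat.card (UU σ x) := Nat.card_le_card_of_injective _ (Subgroup.inclusion_injective h1)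

/-- `x 4 1` centralises `U` -/
theorem x4_comm {u : X} (hu : u ∈ UU σ x) : u * x 4 1 = x 4 1 * u := by
  have := M.hex.comm_gen_long (k := 4) (by decide) (ok_of_fix _ (map_one σ)) (g := u) (gen_mono (by
      intro l hl
      rw [mem_arc] at hl ⊢
      rw [show (4 : ZMod 12) - 3 = 1 by ring]
      omega) hu)
  exact this.eq.symm

end Mod

end Cfsg.Agent.OddHalf.D4.ThreeD4Two

end

-- merged: Cfsg.Agent.OddHalf.D4.ThreeD4Two.Bad
section

/-!
# ODD half, D4, `K ≅ ³D₄(2)`: no `Bad` subgroup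

`w = x 3 1`, `B = C_U(w)` is a Sylow 2-subgroup of `C(w)`; a normal subgroup `N ∋ w` of `C(w)` without 2-central
involutions meets `B` in `⟨w⟩`.
-/

set_option autoImplicit false
set_option linter.unusedSectionVars false
set_option linter.unusedSimpArgs false

namespace Cfsg.Agent.OddHalf.D4.ThreeD4Two

open Subgroup Cfsg.Agent.OddHalf.D4.Spor

variable {X Y : Type*} [Group X] [Group Y]

theorem bad_map (e : X ≃* Y) {w : X} {N : Subgroup X} (h : Bad w N) : Bad (e w) (N.map e.toMonoidHom) where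
  sq := by rw [← map_mul, h.sq, map_one]
  ne := fun h1 => h.ne (by apply e.injective; rw [h1, map_one])
  mem := ⟨w, h.mem, rfl⟩
  le := by
    rintro _ ⟨n, hn, rfl⟩
    show e n * e w = e w * e n
    rw [← map_mul, h.le n hn, map_mul]
  norm := by
    rintro c hc _ ⟨n, hn, rfl⟩
    obtain ⟨c, rfl⟩ := e.surjective c
    refine ⟨c * n * c⁻¹, h.norm c ?_ n hn, ?_⟩
    · apply e.injective
      rw [map_mul, map_mul, hc]
    · show e (c * n * c⁻¹) = e c * e n * (e c)⁻¹
      rw [map_mul, map_mul, map_inv]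
  four := by
    have : Nat.card ↥(N.map e.toMonoidHom) = Nat.card ↥N :=
      (Nat.card_congr (N.equivMapOfInjective e.toMonoidHom e.injective).toEquiv).symm
    rw [this]; exact h.four
  non := by
    rintro _ ⟨n, hn, rfl⟩ h1 h2 h3
    refine h.non n hn ?_ ?_ ((cen_iff e).1 h3)
    · apply e.injective
      rw [map_mul, map_one]; exact h1
    · rintro rfl
      exact h2 (map_one _)

/-- `Cen` is invariant under conjugation. -/
theorem cen_of_conj {w : X} (g : X) (h : Cen (g * w * g⁻¹)) : Cen w := (cen_iff (MulAut.conj g)).1 h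

theorem card_mul_relIndex {H K : Subgroup X} (hle : H ≤ K) : Nat.card ↥H * H.relIndex K = Nat.card ↥K := by
  rw [← relIndex_bot_left, ← relIndex_bot_left]
  exact relIndex_mul_relIndex _ _ _ bot_le hle

/-- counting of a conjugacy class -/
theorem card_le_of_conj [Finite X] {U B : Subgroup X} {w : X} (hB : ∀ u ∈ U, u * w = w * u → u ∈ B)
    (T : Finset X) (hT : ∀ u ∈ U, u * w * u⁻¹ ∈ T) : Nat.card ↥U ≤ T.card * Nat.card ↥B := by
  classical
  have hr : ∀ t : {t // t ∈ T}, ∃ r : X, (∃ u ∈ U, u * w * u⁻¹ = t) → r ∈ U ∧ r * w * r⁻¹ = t := by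
    intro t
    by_cases h : ∃ u ∈ U, u * w * u⁻¹ = t
    · obtain ⟨u, hu, e⟩ := h
      exact ⟨u, fun _ => ⟨hu, e⟩⟩
    · exact ⟨1, fun h' => absurd h' h⟩
  choose r hr using hr
  let φ : ↥U → {t // t ∈ T} × ↥B := fun u =>
    (⟨(u : X) * w * (u : X)⁻¹, hT u u.2⟩, ⟨(r ⟨(u : X) * w * (u : X)⁻¹, hT u u.2⟩)⁻¹ * u, by
      obtain ⟨h1, h2⟩ := hr ⟨(u : X) * w * (u : X)⁻¹, hT u u.2⟩ ⟨u, u.2, rfl⟩
      refine hB _ (mul_mem (inv_mem h1) u.2) ?_
      set r0 := r ⟨(u : X) * w * (u : X)⁻¹, hT u u.2⟩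
      have h3 : r0 * w * r0⁻¹ = u * w * (u : X)⁻¹ := h2
      calc r0⁻¹ * u * w = r0⁻¹ * (u * w * (u : X)⁻¹) * u := by group
        _ = r0⁻¹ * (r0 * w * r0⁻¹) * u := by rw [h3]
        _ = w * (r0⁻¹ * u) := by group⟩)
  have hφ : Function.Injective φ := by
    intro u v huv
    have h1 : (u : X) * w * (u : X)⁻¹ = v * w * (v : X)⁻¹ := congrArg (fun y => (y.1 : X)) huv
    have h2 : (r ⟨(u : X) * w * (u : X)⁻¹, hT u u.2⟩)⁻¹ * (u : X) = (r ⟨(v : X) * w * (v : X)⁻¹, hT v v.2⟩)⁻¹ * v :=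
      congrArg (fun y => (y.2 : X)) huv
    apply Subtype.ext
    have h3 : (⟨(u : X) * w * (u : X)⁻¹, hT u u.2⟩ : {t // t ∈ T}) = ⟨(v : X) * w * (v : X)⁻¹, hT v v.2⟩ :=
      Subtype.ext h1
    rw [h3] at h2
    exact mul_left_cancel h2
  calc Nat.card ↥U ≤ Nat.card ({t // t ∈ T} × ↥B) := Nat.card_le_card_of_injective φ hφ
    _ = T.card * Nat.card ↥B := by
      rw [Nat.card_prod, Nat.card_eq_fintype_card, Fintype.card_coe]

end Cfsg.Agent.OddHalf.D4.ThreeD4Two

namespace Cfsg.Agent.OddHalf.D4.ThreeD4Two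

open Subgroup Cfsg.Agent.StdRank2.Hex Cfsg.Agent.SplitTwo Cfsg.Agent.StdEven.Syl Cfsg.Agent.OddHalf.D4.Spor
open Cfsg.Agent.StdRank2.Hex.HexTwo (ok1 ok3 ok5 UU AA q uu q_mem uu_mem)
open scoped commutatorElement

variable {E : Type*} [Field E] {σ : E ≃+* E} {X : Type*} [Group X] {x : ZMod 12 → E → X}

namespace Mod

variable (M : Mod σ x)

include M

theorem cen_x4 [Finite X] : Cen (x 4 1) := by
  obtain ⟨P, hP⟩ := M.isSyl_U.exists_sylow
  refine ⟨P, fun s hs => M.x4_comm ?_⟩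
  rw [← hP]; exact hs

theorem cen_V [Finite X] {v : X} (hv : v ∈ gen σ x {2, 4}) (h1 : v ≠ 1) : Cen v := by
  obtain ⟨g, hg, -⟩ := M.conj_x4_of_V hv h1
  apply cen_of_conj g
  rw [hg]
  exact M.cen_x4

/-- `x 3 1`: an element of trace zero with trivial trace to all elements of trace zero -/
theorem zero_or_one_of_trc {c : E} (hc : ∀ y, trc σ y 1 = 0 → trc σ y c = 0) : c = 0 ∨ c = 1 := by
  have h := M.hex
  have hs : σ (trc σ 1 c) = trc σ 1 c := h.fix_trc 1 c
  have key : ∀ y, trc σ (c - trc σ 1 c) y = 0 := by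
    intro y
    have ht : σ (trc σ y 1) = trc σ y 1 := h.fix_trc y 1
    have h1 : trc σ (y + trc σ y 1) 1 = 0 := by
      rw [trc_add_left]
      have : trc σ (trc σ y 1) 1 = trc σ y 1 := by rw [trc_comm]; exact h.trc_one_right ht
      rw [this]
      exact h.add_self _
    have h2 := hc _ h1
    rw [trc_add_left] at h2
    have h3 : trc σ (trc σ y 1) c = trc σ y 1 * trc σ 1 c := by
      have := trc_smul_left ht 1 c
      rwa [mul_one] at this
    have h4 : trc σ y (trc σ 1 c) = trc σ 1 c * trc σ y 1 := by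
      have := trc_smul_right hs y 1
      rwa [mul_one] at this
    rw [trc_comm, h.sub_eq, trc_add_right, h4, mul_comm (trc σ 1 c), ← h3]
    exact h2
  have h0 : c - trc σ 1 c = 0 := h.eq_zero_of_trc key
  have h1 : c = trc σ 1 c := sub_eq_zero.1 h0
  rcases M.fix _ hs with h2 | h2
  · left; rw [h1, h2]
  · right; rw [h1, h2]

/-- an involution centralized by a 2-subgroup of index at most two in a Sylow 2-subgroup is conjugate to `x 4 1`. -/
theorem conj_x4_of_card [Finite X] {w : X} (hw : w * w = 1) (hw1 : w ≠ 1) {P : Subgroup X} (hP : IsPGroup 2 ↥P)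
    (hPw : ∀ p ∈ P, p * w = w * p) (hcard : Nat.card ↥(UU σ x) ≤ 2 * Nat.card ↥P) : ∃ g : X, g * w * g⁻¹ = x 4 1 := by
  have h := M.hex
  have := M.finE
  -- a Sylow 2-subgroup of `C(w)`
  obtain ⟨P', hP', hPP'⟩ := exists_isSyl (N := centralizer ({w} : Set X)) hP
    (fun p hp => mem_centralizer_singleton_iff.mpr (hPw p hp))
  have hwC : w ∈ centralizer ({w} : Set X) := mem_centralizer_singleton_iff.mpr rfl
  have hwP' : w ∈ P' := by
    have hz : IsPGroup 2 ↥(zpowers w) := Cfsg.Agent.TriTwo.SecOne.isPGroup_zpowers (m := 1) (by rw [pow_one, pow_two, hw])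
    have hn : P' ≤ normalizer (zpowers w : Set X) := by
      intro p hp
      have hpw : p * w = w * p := mem_centralizer_singleton_iff.mp (hP'.le hp)
      apply mem_normalizer_of_conj_le
      intro y hy
      obtain ⟨k, rfl⟩ := mem_zpowers_iff.mp hy
      have : p * w ^ k * p⁻¹ = w ^ k := by
        have : Commute p w := hpw
        rw [(this.zpow_right k).eq, mul_inv_cancel_right]
      rw [this]; exact hy
    have h2 : IsPGroup 2 ↥(P' ⊔ zpowers w) := IsPGroup.to_sup_of_normal_right' hP'.two hz hn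
    have h3 := hP'.max _ h2 (sup_le hP'.le (by rw [zpowers_le]; exact hwC)) le_sup_left
    rw [← h3]
    exact (le_sup_right : zpowers w ≤ _) (mem_zpowers w)
  have hcard' : Nat.card ↥(UU σ x) ≤ 2 * Nat.card ↥P' :=
    hcard.trans (Nat.mul_le_mul_left 2 (Nat.card_le_card_of_injective _ (Subgroup.inclusion_injective hPP')))
  -- conjugate it into `U`
  obtain ⟨g, -, hg⟩ := h.sylow_conj (S := AA σ x) (HexTwo.gen_le_AA _) le_rfl hP'.two (by rw [M.top]; exact le_top)
  set! w' := g * w * g⁻¹ with hw'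
  have hw'U : w' ∈ UU σ x := hg w hwP'
  have hw'2 : w' * w' = 1 := by
    rw [hw']
    calc g * w * g⁻¹ * (g * w * g⁻¹) = g * (w * w) * g⁻¹ := by group
      _ = 1 := by rw [hw]; group
  have hinv : w'⁻¹ = w' := inv_eq_of_mul_eq_one_left hw'2
  have hw'1 : w' ≠ 1 := by
    intro h0
    apply hw1
    have : w = g⁻¹ * w' * g := by rw [hw']; group
    rw [this, h0]; group
  set! C := UU σ x ⊓ centralizer ({w'} : Set X) with hC
  have hPC : P'.map (MulAut.conj g).toMonoidHom ≤ C := by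
    rintro _ ⟨p, hp, rfl⟩
    refine ⟨hg p hp, mem_centralizer_singleton_iff.mpr ?_⟩
    have hpw : p * w = w * p := mem_centralizer_singleton_iff.mp (hP'.le hp)
    show g * p * g⁻¹ * (g * w * g⁻¹) = g * w * g⁻¹ * (g * p * g⁻¹)
    calc g * p * g⁻¹ * (g * w * g⁻¹) = g * (p * w) * g⁻¹ := by group
      _ = g * (w * p) * g⁻¹ := by rw [hpw]
      _ = _ := by group
  have hcC : Nat.card ↥(UU σ x) ≤ 2 * Nat.card ↥C := by
    refine hcard'.trans (Nat.mul_le_mul_left 2 ?_)
    calc Nat.card ↥P' = Nat.card ↥(P'.map (MulAut.conj g).toMonoidHom) :=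
          Nat.card_congr (P'.equivMapOfInjective (MulAut.conj g).toMonoidHom (MulAut.conj g).injective).toEquiv
      _ ≤ Nat.card ↥C := Nat.card_le_card_of_injective _ (Subgroup.inclusion_injective hPC)
  have memC : ∀ {u : X}, u ∈ UU σ x → (u ∈ C ↔ u * w' * u⁻¹ = w') := by
    intro u hu
    constructor
    · rintro ⟨-, h2⟩
      rw [mem_centralizer_singleton_iff.mp h2, mul_inv_cancel_right]
    · intro h2
      exact ⟨hu, mem_centralizer_singleton_iff.mpr (mul_inv_eq_iff_eq_mul.mp h2)⟩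
  -- the index of `C` in `U`
  have hidx : C.relIndex (UU σ x) = 1 ∨ C.relIndex (UU σ x) = 2 := by
    have h1 := card_mul_relIndex (H := C) (K := UU σ x) inf_le_left
    have h2 : 0 < Nat.card ↥C := Nat.card_pos
    have h3 : 0 < Nat.card ↥(UU σ x) := Nat.card_pos
    have h4 : C.relIndex (UU σ x) ≤ 2 := by
      by_contra hcon
      have : Nat.card ↥C * 3 ≤ Nat.card ↥C * C.relIndex (UU σ x) := Nat.mul_le_mul_left _ (by omega)
      omega
    have h5 : C.relIndex (UU σ x) ≠ 0 := by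
      intro h0
      rw [h0, mul_zero] at h1
      omega
    omega
  -- `[w', v] ∈ X₄`
  have hcomm : ∀ v ∈ UU σ x, ⁅w', v⁆ ∈ gen σ x {4} := by
    intro v hv
    by_cases hvC : v ∈ C
    · have : ⁅w', v⁆ = 1 := by
        rw [commutatorElement_eq_one_iff_mul_comm]
        exact (mem_centralizer_singleton_iff.mp hvC.2).symm
      rw [this]; exact one_mem _
    have h2 : (C.subgroupOf (UU σ x)).index = 2 := by
      rcases hidx with h1 | h1
      · exfalso
        apply hvC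
        rw [Subgroup.relIndex_eq_one] at h1
        exact h1 hv
      · exact h1
    have hmul : ∀ {a b : X}, a ∈ UU σ x → b ∈ UU σ x → (a * b ∈ C ↔ (a ∈ C ↔ b ∈ C)) := by
      intro a b ha hb
      exact Subgroup.mul_mem_iff_of_index_two h2 (a := ⟨a, ha⟩) (b := ⟨b, hb⟩)
    -- all elements outside `C` do the same
    have hout : ∀ {u : X}, u ∈ UU σ x → u ∉ C → u * w' * u⁻¹ = v * w' * v⁻¹ := by
      intro u hu huC
      have h3 : v⁻¹ * u ∈ C := (hmul (inv_mem hv) hu).2 (by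
        rw [inv_mem_iff]
        exact ⟨fun h => absurd h hvC, fun h => absurd h huC⟩)
      have h4 := (memC (mul_mem (inv_mem hv) hu)).1 h3
      calc u * w' * u⁻¹ = v * (v⁻¹ * u * w' * (v⁻¹ * u)⁻¹) * v⁻¹ := by group
        _ = _ := by rw [h4]
    have hw'C : w' ∈ C := ⟨hw'U, mem_centralizer_singleton_iff.mpr rfl⟩
    have hvw : v * w' * v⁻¹ ∈ C := by
      rw [hmul (mul_mem hv hw'U) (inv_mem hv), hmul hv hw'U, inv_mem_iff]
      (clear * - hw'C; itauto)
    have hz : ⁅w', v⁆ = w' * (v * w' * v⁻¹) := by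
      rw [commutatorElement_def, hinv]; group
    rw [hz]
    refine h.mem_X4_of_U (mul_mem hw'U (mul_mem (mul_mem hv hw'U) (inv_mem hv))) fun u hu => ?_
    have hcw : v * w' * v⁻¹ * w' = w' * (v * w' * v⁻¹) := mem_centralizer_singleton_iff.mp hvw.2
    have key : u * (w' * (v * w' * v⁻¹)) * u⁻¹ = w' * (v * w' * v⁻¹) := by
      by_cases huC : u ∈ C
      · have h5 := (memC hu).1 huC
        have h6 : u * v ∉ C := by rw [hmul hu hv]; (clear * - hvC huC; itauto)
        have h7 := hout (mul_mem hu hv) h6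
        calc u * (w' * (v * w' * v⁻¹)) * u⁻¹ = (u * w' * u⁻¹) * (u * v * w' * (u * v)⁻¹) := by group
          _ = _ := by rw [h5, h7]
      · have h5 := hout hu huC
        have h6 : u * v ∈ C := by rw [hmul hu hv]; (clear * - hvC huC; itauto)
        have h7 := (memC (mul_mem hu hv)).1 h6
        calc u * (w' * (v * w' * v⁻¹)) * u⁻¹ = (u * w' * u⁻¹) * (u * v * w' * (u * v)⁻¹) := by group
          _ = _ := by rw [h5, h7, hcw]
    exact (mul_inv_eq_iff_eq_mul.mp key).symm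
  obtain ⟨g', hg', -⟩ := M.conj_x4_of_V (M.mem_V_of hw'U hcomm) hw'1
  refine ⟨g' * g, ?_⟩
  rw [← hg', hw']
  group

/-- `C_U(x 3 1)` -/
theorem card_U_le [Finite X] : Nat.card ↥(UU σ x) ≤ 4 * Nat.card ↥(UU σ x ⊓ centralizer ({x 3 1} : Set X)) := by
  classical
  have h := M.hex
  refine (card_le_of_conj (B := UU σ x ⊓ centralizer ({x 3 1} : Set X)) (w := x 3 1) (fun u hu huw => ⟨hu,
    mem_centralizer_singleton_iff.mpr huw⟩) ({q x 0 1 0 0 0, q x 0 1 1 0 0, q x 1 1 0 0 0, q x 1 1 1 0 0} : Finset X)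
    ?_).trans (Nat.mul_le_mul_right _ ?_)
  · intro u hu
    obtain ⟨a, b, c, d, e, f, hb, hd, hf, rfl⟩ := h.mem_UU.1 hu
    rw [h.uu_x3 hb hd hf, mul_inv_cancel_right]
    simp only [Finset.mem_insert, Finset.mem_singleton]
    rcases M.fix _ (h.fix_trc a 1) with h1 | h1 <;> rcases M.fix _ (h.fix_trc 1 e) with h2 | h2 <;>
      rw [h1, h2] <;> (clear * - E X x; tauto)
  · refine (Finset.card_insert_le _ _).trans ?_
    have h1 := Finset.card_insert_le (q x 0 1 1 0 0) ({q x 1 1 0 0 0, q x 1 1 1 0 0} : Finset X)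
    have h2 := Finset.card_insert_le (q x 1 1 0 0 0) ({q x 1 1 1 0 0} : Finset X)
    rw [Finset.card_singleton] at h2
    omega

/-- `C_U(x 3 1)` is a Sylow 2-subgroup of `C(x 3 1)`. -/
theorem isSyl_CU [Finite X] : IsSyl (UU σ x ⊓ centralizer ({x 3 1} : Set X)) (centralizer ({x 3 1} : Set X)) := by
  have h := M.hex
  have := M.finE
  have h2 : IsPGroup 2 ↥(UU σ x ⊓ centralizer ({x 3 1} : Set X)) := h.isPGroup_U.to_le inf_le_left
  refine ⟨inf_le_right, h2, fun Q hQ hQC hle => ?_⟩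
  refine (Subgroup.eq_of_le_of_card_ge hle ?_).symm
  by_contra hcon
  push Not at hcon
  have hlt : 2 * Nat.card ↥(UU σ x ⊓ centralizer ({x 3 1} : Set X)) ≤ Nat.card ↥Q := by
    obtain ⟨k, hk⟩ := card_dvd_of_le hle
    have : 0 < Nat.card ↥(UU σ x ⊓ centralizer ({x 3 1} : Set X)) := Nat.card_pos
    rcases k with _ | _ | k
    · omega
    · omega
    · rw [hk, mul_comm]
      exact Nat.mul_le_mul_left _ (by omega)
  have hcard := M.card_U_le
  have h31 : x 3 1 ≠ 1 := by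
    intro h0
    exact one_ne_zero ((h.x_eq_one (ok3 (1 : E))).1 h0)
  obtain ⟨g, hg⟩ := M.conj_x4_of_card (h.x_sq (ok3 (1 : E))) h31 hQ
    (fun p hp => mem_centralizer_singleton_iff.mp (hQC hp)) (by omega)
  exact h.x3_not_conj (M.mem_AA g) one_ne_zero (map_one σ) hg

/-- the key computation: a subgroup `T` of `C_U(w)`, `w = x 3 1 ∈ T`, normalised by `C_U(w)`, with `T ∩ V = 1` -/
theorem T_le {T : Subgroup X} (hT : T ≤ UU σ x ⊓ centralizer ({x 3 1} : Set X)) (hw : x 3 1 ∈ T)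
    (hn : ∀ b ∈ UU σ x ⊓ centralizer ({x 3 1} : Set X), ∀ t ∈ T, b * t * b⁻¹ ∈ T)
    (hV : ∀ t ∈ T, t ∈ gen σ x {2, 4} → t = 1) {t : X} (ht : t ∈ T) : t = 1 ∨ t = x 3 1 := by
  have h := M.hex
  have z : σ (0 : E) = 0 := map_zero σ
  have o : σ (1 : E) = 1 := map_one σ
  -- commutators with elements of `B` are in `T`
  have hcm : ∀ b ∈ UU σ x, b * x 3 1 = x 3 1 * b → ∀ t ∈ T, t * b * t⁻¹ * b⁻¹ ∈ T := by
    intro b hb hbc t ht
    have := hn b ⟨hb, mem_centralizer_singleton_iff.mpr hbc⟩ t⁻¹ (inv_mem ht)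
    have e : t * b * t⁻¹ * b⁻¹ = t * (b * t⁻¹ * b⁻¹) := by group
    rw [e]
    exact mul_mem ht this
  have x2U : x 2 1 ∈ UU σ x := x_mem_gen (by rw [mem_arc]; decide) (ok_one σ 2)
  have x3U : ∀ c, x 3 c ∈ UU σ x := fun c => x_mem_gen (by rw [mem_arc]; decide) (ok3 c)
  have x1U : ∀ c, x 1 c ∈ UU σ x := fun c => x_mem_gen (by rw [mem_arc]; decide) (ok1 c)
  have c33 : ∀ c, x 3 c * x 3 1 = x 3 1 * x 3 c := fun c => (h.x_comm_same (ok3 c) (ok3 1)).eq
  obtain ⟨a, b, c, d, e, f, hb, hd, hf, rfl⟩ := h.mem_UU.1 (hT ht).1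
  -- commutation with `x 2 1`
  have hf0 : f = 0 := by
    have h1 := hcm (x 2 1) x2U (h.s23 o 1) _ ht
    have e1 : uu x a b c d e f * x 2 1 * (uu x a b c d e f)⁻¹ * (x 2 1)⁻¹ = x 4 f := by
      have e2 : uu x a b c d e f * x 2 1 = q x 1 0 f 0 0 * uu x a b c d e f := by
        rw [← h.q2, h.uu_q234 hb hd hf o z]
        simp only [trc_zero_right, trc_zero_left, zero_add, add_zero, one_mul]
      rw [e2, mul_inv_cancel_right, h.q_234, h.x_zero, mul_one, h.s24 o hf, mul_inv_cancel_right]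
    rw [e1] at h1
    have h2 := hV _ h1 (x_mem_gen (by simp only [_root_.Set.mem_insert_iff, _root_.Set.mem_singleton_iff, _root_.or_true]) (ok_of_fix 4 hf))
    exact (h.x_eq_one (ok_of_fix 4 hf)).1 h2
  subst hf0
  -- commutation with `x 3 y`
  have h3 : ∀ y, trc σ a y = 0 ∧ trc σ y e = 0 := by
    intro y
    have h1 := hcm (x 3 y) (x3U y) (c33 y) _ ht
    have f1 := h.fix_trc a y
    have f2 := h.fix_trc y e
    have e1 : uu x a b c d e 0 * x 3 y * (uu x a b c d e 0)⁻¹ * (x 3 y)⁻¹ = q x (trc σ a y) 0 (trc σ y e) 0 0 := by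
      rw [h.uu_x3 hb hd hf, mul_inv_cancel_right, mul_inv_eq_iff_eq_mul, ← h.q3, h.q_mul f1 f2 z z z z]
      simp only [trc_zero_right, zero_add, add_zero, mul_zero]
    rw [e1] at h1
    have h2 := hV _ h1 (h.mem_24.2 ⟨_, _, f1, f2, rfl⟩)
    rw [← h.q_zero] at h2
    obtain ⟨r1, -, r2, -⟩ := h.q_inj f1 f2 z z z z h2
    exact ⟨r1, r2⟩
  have ha : a = 0 := h.eq_zero_of_trc fun y => (h3 y).1
  have he : e = 0 := h.eq_zero_of_trc fun y => by rw [trc_comm]; exact (h3 y).2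
  subst ha he
  -- commutation with `x 1 y`
  have h1 : ∀ y, trc σ y 1 = 0 → trc σ y c = 0 := by
    intro y hy
    have f1 := h.fix_trc y c
    have hy1 : x 1 y * x 3 1 = x 3 1 * x 1 y := by
      rw [h.c13, hy, h.x_zero, one_mul]
    have h1 := hcm (x 1 y) (x1U y) hy1 _ ht
    have e1 : uu x 0 b c d 0 0 * x 1 y * (uu x 0 b c d 0 0)⁻¹ * (x 1 y)⁻¹ = x 2 (trc σ y c) := by
      have e2 : x 1 y * q x b c d 0 0 = q x (b + trc σ y c) c d 0 0 * x 1 y := by
        rw [h.x1_q y hb hd z]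
        simp only [trc_zero_right, crs_zero_right, zero_mul, add_zero, shp_zero, show (0 : E) ^ 2 = 0 by norm_num]
      have e3 : x 2 (trc σ y c) * q x b c d 0 0 = q x (b + trc σ y c) c d 0 0 := by
        rw [← h.q2, h.q_mul f1 z z hb hd z]
        simp only [mul_zero, trc_zero_right, zero_add, add_zero]
        rw [add_comm]
      have i2 : x 2 (trc σ y c) * x 2 (trc σ y c) = 1 := h.x_sq (ok_of_fix 2 f1)
      have e4 : x 1 y * q x b c d 0 0 = x 2 (trc σ y c) * (q x b c d 0 0 * x 1 y) := by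
        rw [e2, ← e3, mul_assoc]
      have e5 : q x b c d 0 0 * x 1 y = x 2 (trc σ y c) * (x 1 y * q x b c d 0 0) := by
        rw [e4, ← mul_assoc, i2, one_mul]
      rw [h.uq, e5]
      group
    rw [e1] at h1
    have h2 := hV _ h1 (x_mem_gen (by simp only [_root_.Set.mem_insert_iff, _root_.Set.mem_singleton_iff, _root_.true_or]) (ok_of_fix 2 f1))
    exact (h.x_eq_one (ok_of_fix 2 f1)).1 h2
  rw [h.uq] at ht ⊢
  rcases M.zero_or_one_of_trc h1 with rfl | rfl
  · left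
    exact hV _ ht (h.mem_24.2 ⟨b, d, hb, hd, rfl⟩)
  · right
    have e1 : q x b 1 d 0 0 * x 3 1 = q x b 0 d 0 0 := by
      rw [← h.q3, h.q_mul hb hd z z z z]
      simp only [mul_zero, trc_zero_right, add_zero]
      rw [h.add_self]
    have h2 := hV _ (e1 ▸ mul_mem ht hw) (h.mem_24.2 ⟨b, d, hb, hd, rfl⟩)
    rw [← e1] at h2
    have h3 := h.x_sq (ok3 (1 : E))
    exact mul_right_cancel (h2.trans h3.symm)

/-- **`Bad` is impossible.** -/
theorem not_bad [Finite X] (w : X) (N : Subgroup X) : ¬ Bad w N := by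
  intro hB
  have h := M.hex
  have := M.finE
  -- `w` is conjugate to `x 3 1`
  have hz : IsPGroup 2 ↥(zpowers w) := Cfsg.Agent.TriTwo.SecOne.isPGroup_zpowers (m := 1)
    (by rw [pow_one, pow_two, hB.sq])
  obtain ⟨g, -, hg⟩ := h.sylow_conj (S := AA σ x) (HexTwo.gen_le_AA _) le_rfl hz (by rw [M.top]; exact le_top)
  have hgU := hg w (mem_zpowers w)
  have hg2 : g * w * g⁻¹ * (g * w * g⁻¹) = 1 := by
    calc g * w * g⁻¹ * (g * w * g⁻¹) = g * (w * w) * g⁻¹ := by group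
      _ = 1 := by rw [hB.sq]; group
  have hg1 : g * w * g⁻¹ ≠ 1 := by
    intro h0
    apply hB.ne
    have : w = g⁻¹ * (g * w * g⁻¹) * g := by group
    rw [this, h0]; group
  rcases h.cls_U hgU hg2 hg1 with ⟨a, -, ha⟩ | ⟨a, -, ha⟩
  · apply hB.non w hB.mem hB.sq hB.ne
    apply cen_of_conj g
    apply cen_of_conj a
    rw [ha]
    exact M.cen_x4
  have hB' : Bad (x 3 1) (N.map (MulAut.conj (a * g)).toMonoidHom) := by
    have := bad_map (MulAut.conj (a * g)) hB
    have e : (MulAut.conj (a * g)) w = x 3 1 := by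
      rw [← ha, MulAut.conj_apply]; group
    rwa [e] at this
  set N' := N.map (MulAut.conj (a * g)).toMonoidHom
  -- the Sylow subgroup
  have hNC : N' ≤ centralizer ({x 3 1} : Set X) := fun n hn => mem_centralizer_singleton_iff.mpr (hB'.le n hn)
  have hCN : centralizer ({x 3 1} : Set X) ≤ normalizer (N' : Set X) := by
    intro c hc
    apply mem_normalizer_of_conj_le
    intro n hn
    exact hB'.norm c (mem_centralizer_singleton_iff.mp hc) n hn
  have hS := M.isSyl_CU.inf_normal hNC hCN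
  set B := UU σ x ⊓ centralizer ({x 3 1} : Set X) with hBdef
  have hV : ∀ t ∈ B ⊓ N', t ∈ gen σ x {2, 4} → t = 1 := by
    intro t ht htV
    by_contra h1
    refine hB'.non t ht.2 ?_ h1 (M.cen_V htV h1)
    obtain ⟨b, d, hb, hd, rfl⟩ := h.mem_24.1 htV
    rw [h.q_mul hb hd (map_zero σ) hb hd (map_zero σ)]
    simp only [mul_zero, trc_zero_right, add_zero, h.add_self, h.q_zero]
  have hle : B ⊓ N' ≤ zpowers (x 3 1) := by
    intro t ht
    have hn : ∀ b ∈ B, ∀ t ∈ B ⊓ N', b * t * b⁻¹ ∈ B ⊓ N' := fun b hb t ht =>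
      ⟨mul_mem (mul_mem hb ht.1) (B.inv_mem hb), hB'.norm b (mem_centralizer_singleton_iff.mp hb.2) t ht.2⟩
    rcases M.T_le (T := B ⊓ N') inf_le_left ⟨⟨x_mem_gen (by rw [mem_arc]; decide) (ok3 1),
      mem_centralizer_singleton_iff.mpr rfl⟩, hB'.mem⟩ hn hV ht with rfl | rfl
    · exact one_mem _
    · exact mem_zpowers _
  have h2 : Nat.card ↥(zpowers (x 3 (1 : E))) ≤ 2 := by
    rw [Nat.card_zpowers]
    exact Nat.le_of_dvd (by norm_num) (orderOf_dvd_of_pow_eq_one (by rw [pow_two, h.x_sq (ok3 1)]))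
  have h3 : Nat.card ↥(B ⊓ N') ≤ 2 :=
    (Nat.card_le_card_of_injective _ (Subgroup.inclusion_injective hle)).trans h2
  -- `4 ∣ |N'|`
  obtain ⟨k, hk⟩ := hS.odd_relIndex
  have h4 := card_mul_relIndex (H := B ⊓ N') (K := N') inf_le_right
  have h5 := hB'.four
  rw [← h4, hk] at h5
  have h6 : 4 ∣ Nat.card ↥(B ⊓ N') := by
    have hc : Nat.Coprime 4 (2 * k + 1) := by
      have : Nat.Coprime (2 ^ 2) (2 * k + 1) := Nat.Coprime.pow_left 2 (by
        rw [Nat.coprime_two_left]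
        exact ⟨k, rfl⟩)
      simpa using this
    exact hc.dvd_of_dvd_mul_right h5
  have h7 : 0 < Nat.card ↥(B ⊓ N') := Nat.card_pos
  have := Nat.le_of_dvd h7 h6
  omega

end Mod

end Cfsg.Agent.OddHalf.D4.ThreeD4Two

end

-- merged: Cfsg.Agent.OddHalf.D4.ThreeD4Two.Bal
section

/-!
# ODD half, D4, `K ≅ ³D₄(2)`: `Z(U)` and balance
-/

set_option autoImplicit false
set_option linter.unusedSectionVars false
set_option linter.unusedSimpArgs false

namespace Cfsg.Agent.OddHalf.D4.ThreeD4Two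

open Subgroup Cfsg.Agent.StdRank2.Hex Cfsg.Agent.SplitTwo Cfsg.Agent.StdEven.Syl Cfsg.Agent.OddHalf.D4.Spor
open Cfsg.Agent.StdRank2.Hex.HexTwo (ok1 ok3 ok5 UU AA q uu q_mem uu_mem)
open scoped commutatorElement

/-- a subgroup of odd order contains no element of 2-power order -/
theorem eq_one_of_odd {X : Type*} [Group X] {I : Subgroup X} (hI : Odd (Nat.card ↥I)) {i : X} (hi : i ∈ I)
    {P : Subgroup X} (hP : IsPGroup 2 ↥P) (hiP : i ∈ P) : i = 1 := by
  have h0 : Nat.card ↥I ≠ 0 := by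
    intro h0
    rw [h0] at hI
    exact absurd hI (by decide)
  have := Nat.finite_of_card_ne_zero h0
  obtain ⟨n, hn⟩ := hP ⟨i, hiP⟩
  have hn' : i ^ 2 ^ n = 1 := congrArg Subtype.val hn
  have h1 : orderOf i ∣ 2 ^ n := orderOf_dvd_of_pow_eq_one hn'
  have h2 : orderOf i ∣ Nat.card ↥I := by
    have := _root_.orderOf_dvd_natCard (⟨i, hi⟩ : ↥I)
    rwa [Subgroup.orderOf_mk] at this
  have h3 : orderOf i = 1 := Nat.eq_one_of_dvd_coprimes
    (Nat.Coprime.pow_left n ((Nat.coprime_two_left).2 hI)) h1 h2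
  exact orderOf_eq_one_iff.1 h3

/-- a four-group (elements `a`, `b`, `ab`) acting fixed point freely on a group of odd order -/
theorem eq_bot_of_four {X : Type*} [Group X] [Finite X] {I : Subgroup X} {a b : X}
    (ha : a * a = 1) (hb : b * b = 1) (hna : ∀ i ∈ I, a * i * a⁻¹ ∈ I) (hnb : ∀ i ∈ I, b * i * b⁻¹ ∈ I)
    (hfa : ∀ i ∈ I, i * a = a * i → i = 1) (hfb : ∀ i ∈ I, i * b = b * i → i = 1)
    (hfab : ∀ i ∈ I, i * (a * b) = a * b * i → i = 1) : I = ⊥ := by
  have key : ∀ c : X, c * c = 1 → (∀ i ∈ I, c * i * c⁻¹ ∈ I) → (∀ i ∈ I, i * c = c * i → i = 1) →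
      ∀ i ∈ I, c * i * c⁻¹ = i⁻¹ := by
    intro c hc hn hf i hi
    have hcc : c⁻¹ = c := inv_eq_of_mul_eq_one_left hc
    let φ : ↥I →* ↥I :=
      { toFun := fun i => ⟨c * i * c⁻¹, hn i i.2⟩
        map_one' := Subtype.ext (by simp)
        map_mul' := fun i j => Subtype.ext (by
          show c * (i * j : X) * c⁻¹ = c * i * c⁻¹ * (c * j * c⁻¹)
          group) }
    have h1 : MonoidHom.FixedPointFree (φ : ↥I → ↥I) := by
      intro i hi
      have h2 : c * (i : X) * c⁻¹ = i := congrArg Subtype.val hi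
      exact Subtype.ext (hf i i.2 (mul_inv_eq_iff_eq_mul.mp h2).symm)
    have h2 : Function.Involutive (φ : ↥I → ↥I) := by
      intro i
      apply Subtype.ext
      show c * (c * (i : X) * c⁻¹) * c⁻¹ = i
      rw [hcc]
      calc c * (c * (i : X) * c) * c = (c * c) * i * (c * c) := by group
        _ = i := by rw [hc]; group
    have h3 := MonoidHom.FixedPointFree.coe_eq_inv_of_involutive (φ := φ) h1 h2
    have h4 := congrFun h3 ⟨i, hi⟩
    exact congrArg Subtype.val h4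
  rw [eq_bot_iff]
  intro i hi
  rw [mem_bot]
  refine hfab i hi ?_
  have h1 := key b hb hnb hfb i hi
  have h2 := key a ha hna hfa i⁻¹ (inv_mem hi)
  rw [inv_inv] at h2
  have h3 : a * b * i * (a * b)⁻¹ = i := by
    calc a * b * i * (a * b)⁻¹ = a * (b * i * b⁻¹) * a⁻¹ := by group
      _ = i := by rw [h1, h2]
  exact (mul_inv_eq_iff_eq_mul.mp h3).symm

variable {E : Type*} [Field E] {σ : E ≃+* E} {X : Type*} [Group X] {x : ZMod 12 → E → X}

namespace Mod

variable (M : Mod σ x)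

include M

/-- every involution is conjugate to `x 4 1` or `x 3 1` -/
theorem exists_std [Finite X] {w : X} (hw : w * w = 1) (hw1 : w ≠ 1) :
    ∃ g : X, g * w * g⁻¹ = x 4 1 ∨ g * w * g⁻¹ = x 3 1 := by
  have h := M.hex
  have := M.finE
  have hz : IsPGroup 2 ↥(zpowers w) := Cfsg.Agent.TriTwo.SecOne.isPGroup_zpowers (m := 1)
    (by rw [pow_one, pow_two, hw])
  obtain ⟨g, -, hg⟩ := h.sylow_conj (S := AA σ x) (HexTwo.gen_le_AA _) le_rfl hz (by rw [M.top]; exact le_top)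
  have hgU := hg w (mem_zpowers w)
  have hg2 : g * w * g⁻¹ * (g * w * g⁻¹) = 1 := by
    calc g * w * g⁻¹ * (g * w * g⁻¹) = g * (w * w) * g⁻¹ := by group
      _ = 1 := by rw [hw]; group
  have hg1 : g * w * g⁻¹ ≠ 1 := by
    intro h0
    apply hw1
    have : w = g⁻¹ * (g * w * g⁻¹) * g := by group
    rw [this, h0]; group
  rcases h.cls_U hgU hg2 hg1 with ⟨a, -, ha⟩ | ⟨a, -, ha⟩
  · exact ⟨a * g, Or.inl (by rw [← ha]; group)⟩
  · exact ⟨a * g, Or.inr (by rw [← ha]; group)⟩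

theorem mem_C4 {g : X} (hg : g * x 4 1 = x 4 1 * g) : g ∈ gen σ x (arc 1 7) := by
  have := M.finE
  exact (M.hex.mem_centralizer_x4 (M.mem_AA g) (map_one σ) one_ne_zero).1 (by rw [hg, mul_inv_cancel_right])

/-- `C(x 4 1)` normalises `Q₁` -/
theorem norm_Q1 {g y : X} (hg : g * x 4 1 = x 4 1 * g) (hy : y ∈ gen σ x (arc 2 5)) :
    g * y * g⁻¹ ∈ gen σ x (arc 2 5) := by
  have h := M.hex
  obtain ⟨r, hr, l, hl, rfl⟩ := (h.mem_P 1).1 (M.mem_C4 hg)
  have h1 : l * y * l⁻¹ ∈ gen σ x (arc 2 5) := h.L_conj 1 hl hy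
  have e : r * l * y * (r * l)⁻¹ = r * (l * y * l⁻¹) * r⁻¹ := by group
  rw [e]
  have hr' : r ∈ gen σ x (arc 2 5) := hr
  exact mul_mem (mul_mem hr' h1) (inv_mem hr')

theorem Q1_le_U : gen σ x (arc 2 5) ≤ UU σ x :=
  gen_mono fun l hl => arc_succ_sub (k := 1) (n := 5) (by norm_num) hl

theorem two_Q1 [Finite E] : IsPGroup 2 ↥(gen σ x (arc 2 5)) := M.hex.isPGroup_U.to_le M.Q1_le_U

/-- an element of odd order centralising `x 4 1` and `Q₁` is trivial -/
theorem eq_one_of_cent_Q1 {I : Subgroup X} (hI : Odd (Nat.card ↥I)) {i : X} (hi : i ∈ I)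
    (hc : ∀ v ∈ gen σ x (arc 2 5), i * v = v * i) : i = 1 := by
  have := M.finE
  have h1 : i ∈ gen σ x {4} := M.hex.mem_X4_of (M.mem_AA i) fun v hv => hc v hv
  have h2 : gen σ x {4} ≤ UU σ x := gen_mono (by
    intro l hl
    rw [Set.mem_singleton_iff] at hl
    subst hl
    rw [mem_arc]; decide)
  exact eq_one_of_odd hI hi M.hex.isPGroup_U (h2 h1)

/-- `O(C(x 4 1)) = 1` -/
theorem bal4 {I : Subgroup X} (hI : ∀ i ∈ I, i * x 4 1 = x 4 1 * i)
    (hn : ∀ c : X, c * x 4 1 = x 4 1 * c → ∀ i ∈ I, c * i * c⁻¹ ∈ I) (ho : Odd (Nat.card ↥I)) : I = ⊥ := by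
  have := M.finE
  rw [eq_bot_iff]
  intro i hi
  rw [mem_bot]
  refine M.eq_one_of_cent_Q1 ho hi fun v hv => ?_
  have h1 : i * v * i⁻¹ * v⁻¹ ∈ gen σ x (arc 2 5) := mul_mem (M.norm_Q1 (hI i hi) hv) (inv_mem hv)
  have h2 : i * v * i⁻¹ * v⁻¹ ∈ I := by
    have e : i * v * i⁻¹ * v⁻¹ = i * (v * i⁻¹ * v⁻¹) := by group
    rw [e]
    exact mul_mem hi (hn v (M.x4_comm (M.Q1_le_U hv)) _ (inv_mem hi))
  have h3 := eq_one_of_odd ho h2 M.two_Q1 h1
  rw [mul_inv_eq_one] at h3
  exact mul_inv_eq_iff_eq_mul.mp h3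

/-- `x 3 1` commutes modulo `X₄` with `Q₁` -/
theorem Q1_x3 {v : X} (hv : v ∈ gen σ x (arc 2 5)) : v * x 3 1 * v⁻¹ = x 3 1 ∨ v * x 3 1 * v⁻¹ = x 4 1 * x 3 1 := by
  have h := M.hex
  have z : σ (0 : E) = 0 := map_zero σ
  obtain ⟨b, c, d, e, f, hb, hd, hf, rfl⟩ := h.mem_Q1.1 hv
  have h1 := h.uu_x3 (a := 0) (b := b) (c := c) (d := d) (e := e) (f := f) hb hd hf 1
  rw [h.uq, trc_zero_left] at h1
  rw [h1, mul_inv_cancel_right, h.q_234, h.x_zero, one_mul]
  rcases M.fix _ (h.fix_trc 1 e) with h2 | h2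
  · left; rw [h2, h.x_zero, mul_one]
  · right; rw [h2, h.s34 1 (map_one σ)]

/-- no element `≠ 1` of a subgroup of odd order, normalised by `C(x 3 1)`, centralises `x 3 1` and `x 4 1`. -/
theorem no_fix4 {I : Subgroup X} (hI : ∀ i ∈ I, i * x 3 1 = x 3 1 * i)
    (hn : ∀ c : X, c * x 3 1 = x 3 1 * c → ∀ i ∈ I, c * i * c⁻¹ ∈ I) (ho : Odd (Nat.card ↥I)) {i : X} (hi : i ∈ I)
    (hi4 : i * x 4 1 = x 4 1 * i) : i = 1 := by
  have := M.finE
  -- `i` centralises `C_{Q₁}(x 3 1)`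
  have hD : ∀ v ∈ gen σ x (arc 2 5), v * x 3 1 = x 3 1 * v → i * v = v * i := by
    intro v hv hv3
    have h1 : i * v * i⁻¹ * v⁻¹ ∈ gen σ x (arc 2 5) := mul_mem (M.norm_Q1 hi4 hv) (inv_mem hv)
    have h2 : i * v * i⁻¹ * v⁻¹ ∈ I := by
      have e : i * v * i⁻¹ * v⁻¹ = i * (v * i⁻¹ * v⁻¹) := by group
      rw [e]
      exact mul_mem hi (hn v hv3 _ (inv_mem hi))
    have h3 := eq_one_of_odd ho h2 M.two_Q1 h1
    rw [mul_inv_eq_one] at h3
    exact mul_inv_eq_iff_eq_mul.mp h3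
  refine M.eq_one_of_cent_Q1 ho hi fun v hv => ?_
  set! d := v⁻¹ * (i * v * i⁻¹) with hd
  have hdQ : d ∈ gen σ x (arc 2 5) := mul_mem (inv_mem hv) (M.norm_Q1 hi4 hv)
  have hd3 : d * x 3 1 = x 3 1 * d := by
    have hi3 : i⁻¹ * x 3 1 * i = x 3 1 := by rw [mul_assoc, ← hI i hi]; group
    have hi34 : i * (x 4 1 * x 3 1) * i⁻¹ = x 4 1 * x 3 1 := by
      calc i * (x 4 1 * x 3 1) * i⁻¹ = (i * x 4 1) * x 3 1 * i⁻¹ := by group
        _ = x 4 1 * (i * x 3 1) * i⁻¹ := by rw [hi4]; group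
        _ = _ := by rw [hI i hi]; group
    have e1 : (i * v * i⁻¹) * x 3 1 * (i * v * i⁻¹)⁻¹ = v * x 3 1 * v⁻¹ := by
      calc (i * v * i⁻¹) * x 3 1 * (i * v * i⁻¹)⁻¹ = i * (v * (i⁻¹ * x 3 1 * i) * v⁻¹) * i⁻¹ := by group
        _ = i * (v * x 3 1 * v⁻¹) * i⁻¹ := by rw [hi3]
        _ = v * x 3 1 * v⁻¹ := by
          rcases M.Q1_x3 hv with h1 | h1
          · rw [h1, hI i hi, mul_inv_cancel_right]
          · rw [h1, hi34]
    have e2 : d * x 3 1 * d⁻¹ = x 3 1 := by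
      calc d * x 3 1 * d⁻¹ = v⁻¹ * ((i * v * i⁻¹) * x 3 1 * (i * v * i⁻¹)⁻¹) * v := by rw [hd]; group
        _ = x 3 1 := by rw [e1]; group
    exact mul_inv_eq_iff_eq_mul.mp e2
  have hid : i * d = d * i := hD d hdQ hd3
  -- `i ^ n * v * i ^ (-n) = v * d ^ n`
  have hpow : ∀ n : ℕ, i ^ n * v * (i ^ n)⁻¹ = v * d ^ n := by
    intro n
    induction n with
    | zero => simp
    | succ n ih =>
      have hc : i * d ^ n * i⁻¹ = d ^ n := by
        have : Commute i d := hid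
        rw [(this.pow_right n).eq, mul_inv_cancel_right]
      calc i ^ (n + 1) * v * (i ^ (n + 1))⁻¹ = i * (i ^ n * v * (i ^ n)⁻¹) * i⁻¹ := by rw [pow_succ']; group
        _ = i * (v * d ^ n) * i⁻¹ := by rw [ih]
        _ = (i * v * i⁻¹) * (i * d ^ n * i⁻¹) := by group
        _ = v * d * d ^ n := by rw [hc, hd]; group
        _ = v * d ^ (n + 1) := by rw [pow_succ']; group
  have h0 : Nat.card ↥I ≠ 0 := by
    intro h0
    rw [h0] at ho
    exact absurd ho (by decide)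
  have hfin := Nat.finite_of_card_ne_zero h0
  have hin : i ^ Nat.card ↥I = 1 := by
    have := pow_card_eq_one' (x := (⟨i, hi⟩ : ↥I))
    exact congrArg Subtype.val this
  have h1 := hpow (Nat.card ↥I)
  rw [hin] at h1
  have h2 : d ^ Nat.card ↥I = 1 := by
    have : v = v * d ^ Nat.card ↥I := by
      calc v = 1 * v * (1 : X)⁻¹ := by group
        _ = _ := h1
    exact (mul_eq_left.mp this.symm)
  obtain ⟨m, hm⟩ := M.two_Q1 ⟨d, hdQ⟩
  have hm' : d ^ 2 ^ m = 1 := congrArg Subtype.val hm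
  have h3 : orderOf d = 1 := Nat.eq_one_of_dvd_coprimes
    (Nat.Coprime.pow_left m ((Nat.coprime_two_left).2 ho)) (orderOf_dvd_of_pow_eq_one hm') (orderOf_dvd_of_pow_eq_one h2)
  have h4 : d = 1 := orderOf_eq_one_iff.1 h3
  rw [hd, inv_mul_eq_one] at h4
  exact (mul_inv_eq_iff_eq_mul.mp h4.symm)

/-- `O(C(x 3 1)) = 1` -/
theorem bal3 [Finite X] {I : Subgroup X} (hI : ∀ i ∈ I, i * x 3 1 = x 3 1 * i)
    (hn : ∀ c : X, c * x 3 1 = x 3 1 * c → ∀ i ∈ I, c * i * c⁻¹ ∈ I) (ho : Odd (Nat.card ↥I)) : I = ⊥ := by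
  have h := M.hex
  have o : σ (1 : E) = 1 := map_one σ
  have hfix : ∀ v ∈ gen σ x {2, 4}, v ≠ 1 → ∀ i ∈ I, i * v = v * i → i = 1 := by
    intro v hv hv1 i hi hiv
    obtain ⟨g, hg, hg3, -⟩ := M.conj_x4_of_V hv hv1
    have hgc : g * x 3 1 = x 3 1 * g := mul_inv_eq_iff_eq_mul.mp (hg3 1)
    have h1 := M.no_fix4 hI hn ho (hn g hgc i hi) (by
      rw [← hg]
      calc g * i * g⁻¹ * (g * v * g⁻¹) = g * (i * v) * g⁻¹ := by group
        _ = g * (v * i) * g⁻¹ := by rw [hiv]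
        _ = _ := by group)
    have : i = g⁻¹ * (g * i * g⁻¹) * g := by group
    rw [this, h1]; group
  have ne2 : x 2 1 ≠ 1 := fun h0 => one_ne_zero ((h.x_eq_one (ok_one σ 2)).1 h0)
  have ne4 : x 4 1 ≠ 1 := fun h0 => one_ne_zero ((h.x_eq_one (ok_one σ 4)).1 h0)
  have ne24 : x 2 1 * x 4 1 ≠ 1 := by
    intro h0
    have h1 : q x 1 0 1 0 0 = q x 0 0 0 0 0 := by rw [h.q_234, h.x_zero, mul_one, h0, h.q_zero]
    exact one_ne_zero (h.q_inj o o (map_zero σ) (map_zero σ) (map_zero σ) (map_zero σ) h1).1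
  have c2 : x 2 1 * x 3 1 = x 3 1 * x 2 1 := h.s23 o 1
  have c4 : x 4 1 * x 3 1 = x 3 1 * x 4 1 := (h.s34 1 o).symm
  refine eq_bot_of_four (a := x 2 1) (b := x 4 1) (h.x_sq (ok_one σ 2)) (h.x_sq (ok_one σ 4)) (hn _ c2) (hn _ c4)
    (hfix _ (x_mem_gen (by simp only [_root_.Set.mem_insert_iff, _root_.Set.mem_singleton_iff, _root_.true_or]) (ok_one σ 2)) ne2) (hfix _ (x_mem_gen (by simp only [_root_.Set.mem_insert_iff, _root_.Set.mem_singleton_iff, _root_.or_true]) (ok_one σ 4)) ne4)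
    (hfix _ (mul_mem (x_mem_gen (by simp only [_root_.Set.mem_insert_iff, _root_.Set.mem_singleton_iff, _root_.true_or]) (ok_one σ 2)) (x_mem_gen (by simp only [_root_.Set.mem_insert_iff, _root_.Set.mem_singleton_iff, _root_.or_true]) (ok_one σ 4))) ne24)

/-- **balance** -/
theorem bal [Finite X] (a : X) (ha : a * a = 1) (ha1 : a ≠ 1) (I : Subgroup X) (hI : ∀ i ∈ I, i * a = a * i)
    (hn : ∀ c : X, c * a = a * c → ∀ i ∈ I, c * i * c⁻¹ ∈ I) (ho : Odd (Nat.card ↥I)) : I = ⊥ := by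
  obtain ⟨g, hg⟩ := M.exists_std ha ha1
  set! I' := I.map (MulAut.conj g).toMonoidHom with hI'
  have hcard : Nat.card ↥I' = Nat.card ↥I :=
    (Nat.card_congr (I.equivMapOfInjective (MulAut.conj g).toMonoidHom (MulAut.conj g).injective).toEquiv).symm
  have h1 : ∀ i ∈ I', i * (g * a * g⁻¹) = g * a * g⁻¹ * i := by
    rintro _ ⟨i, hi, rfl⟩
    show g * i * g⁻¹ * (g * a * g⁻¹) = g * a * g⁻¹ * (g * i * g⁻¹)
    calc g * i * g⁻¹ * (g * a * g⁻¹) = g * (i * a) * g⁻¹ := by group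
      _ = g * (a * i) * g⁻¹ := by rw [hI i hi]
      _ = _ := by group
  have h2 : ∀ c : X, c * (g * a * g⁻¹) = g * a * g⁻¹ * c → ∀ i ∈ I', c * i * c⁻¹ ∈ I' := by
    rintro c hc _ ⟨i, hi, rfl⟩
    have hc' : (g⁻¹ * c * g) * a = a * (g⁻¹ * c * g) := by
      calc (g⁻¹ * c * g) * a = g⁻¹ * (c * (g * a * g⁻¹)) * g := by group
        _ = g⁻¹ * (g * a * g⁻¹ * c) * g := by rw [hc]
        _ = _ := by group
    refine ⟨_, hn _ hc' i hi, ?_⟩
    show g * (g⁻¹ * c * g * i * (g⁻¹ * c * g)⁻¹) * g⁻¹ = c * (g * i * g⁻¹) * c⁻¹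
    group
  have h3 : I' = ⊥ := by
    rcases hg with hg | hg
    · rw [hg] at h1 h2
      exact M.bal4 h1 h2 (by rw [hcard]; exact ho)
    · rw [hg] at h1 h2
      exact M.bal3 h1 h2 (by rw [hcard]; exact ho)
  rw [hI', Subgroup.map_eq_bot_iff_of_injective _ (MulAut.conj g).injective] at h3
  exact h3

/-- every Sylow 2-subgroup is conjugate to `U` -/
theorem exists_conj_U [Finite X] (S : Sylow 2 X) : ∃ p : X, ∀ y, y ∈ S ↔ p * y * p⁻¹ ∈ UU σ x := by
  have := M.finE
  obtain ⟨p, -, hp⟩ := M.hex.sylow_conj (S := AA σ x) (HexTwo.gen_le_AA _) le_rfl S.2 (by rw [M.top]; exact le_top)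
  refine ⟨p, fun y => ⟨hp y, fun hy => ?_⟩⟩
  have h1 : IsPGroup 2 ↥((UU σ x).map (MulAut.conj p⁻¹).toMonoidHom) := M.hex.isPGroup_U.map _
  have h2 : (S : Subgroup X) ≤ (UU σ x).map (MulAut.conj p⁻¹).toMonoidHom := by
    intro s hs
    rw [mem_map_conj, inv_inv]
    exact hp s hs
  have h3 := S.3 h1 h2
  show y ∈ (S : Subgroup X)
  rw [← h3, mem_map_conj, inv_inv]
  exact hy

/-- the centre of a Sylow 2-subgroup contains only one involution -/
theorem z1 [Finite X] (S : Sylow 2 X) (a : X) (ha : a ∈ S) (ha1 : a ≠ 1) (hac : ∀ s ∈ S, s * a = a * s)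
    (b : X) (hb : b ∈ S) (hb1 : b ≠ 1) (hbc : ∀ s ∈ S, s * b = b * s) : a = b := by
  obtain ⟨p, hp⟩ := M.exists_conj_U S
  have key : ∀ c ∈ S, c ≠ 1 → (∀ s ∈ S, s * c = c * s) → p * c * p⁻¹ = x 4 1 := by
    intro c hc hc1 hcc
    have h1 : p * c * p⁻¹ ∈ gen σ x {4} := by
      refine M.hex.mem_X4_of_U ((hp c).1 hc) fun v hv => ?_
      have h2 : p⁻¹ * v * p ∈ S := by
        rw [hp]
        have : p * (p⁻¹ * v * p) * p⁻¹ = v := by group
        rwa [this]
      have h3 := hcc _ h2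
      show p * c * p⁻¹ * v = v * (p * c * p⁻¹)
      calc p * c * p⁻¹ * v = p * (c * (p⁻¹ * v * p)) * p⁻¹ := by group
        _ = p * (p⁻¹ * v * p * c) * p⁻¹ := by rw [h3]
        _ = _ := by group
    rcases M.mem_Z.1 h1 with h2 | h2
    · exfalso
      apply hc1
      have : c = p⁻¹ * (p * c * p⁻¹) * p := by group
      rw [this, h2]; group
    · exact h2
  have h1 := key a ha ha1 hac
  have h2 := key b hb hb1 hbc
  rw [← h2] at h1
  exact mul_left_cancel (mul_right_cancel h1)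

end Mod

end Cfsg.Agent.OddHalf.D4.ThreeD4Two

end
end

-- part: OddHalf/D4/ThreeD4Two/Sheet
section
set_option linter.all false
open scoped Cfsg.Agent.FastGrp

-- merged: Cfsg.Agent.OddHalf.D4.ThreeD4Two.Aut
section

/-!
# ODD half, D4, `K ≅ ³D₄(2)`: the automorphism group and the fact sheet

Every automorphism is the product of an inner one and a field automorphism (`HexTwo.exists_conj`, helper607), whose
order divides three.
-/

set_option autoImplicit false
set_option linter.unusedSectionVars false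

namespace Cfsg.Agent.OddHalf.D4.ThreeD4Two

open Subgroup Cfsg.Agent.StdRank2.Hex Cfsg.Agent.SplitTwo Cfsg.Agent.StdEven.Syl Cfsg.Agent.OddHalf.D4.Spor
open Cfsg.Agent.StdRank2.Hex.HexTwo (ok1 ok3 ok5 UU AA q uu q_mem uu_mem)
open scoped commutatorElement

/-- automorphisms of the field with eight elements -/
theorem aut_cube {E : Type*} [Field E] (h2 : (2 : E) = 0) (hc : Nat.card E = 8) (τ : E ≃+* E) (a : E) :
    τ (τ (τ a)) = a := by
  have : Finite E := Cfsg.Agent.TriTwo.finE hc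
  have hp : Fact (Nat.Prime 2) := ⟨Nat.prime_two⟩
  have : CharP E 2 := CharTwo.of_one_ne_zero_of_two_eq_zero one_ne_zero h2
  let _ := ZMod.algebra E 2
  have hfin : Module.Finite (ZMod 2) E := Module.Finite.of_finite
  have h1 : Module.finrank (ZMod 2) E = 3 := by
    have h3 := Module.natCard_eq_pow_finrank (K := ZMod 2) (V := E)
    rw [hc, Nat.card_zmod] at h3
    have h4 : 2 ^ 3 = 2 ^ Module.finrank (ZMod 2) E := by rw [← h3]; norm_num
    exact (Nat.pow_right_injective le_rfl h4).symm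
  have h3 : Nat.card (E ≃ₐ[ZMod 2] E) = 3 := by rw [IsGalois.card_aut_eq_finrank, h1]
  let τ' : E ≃ₐ[ZMod 2] E := AlgEquiv.ofRingEquiv (f := τ) (fun r => by
    have h5 := (τ : E →+* E).comp (algebraMap (ZMod 2) E)
    have : (τ : E →+* E).comp (algebraMap (ZMod 2) E) = algebraMap (ZMod 2) E := RingHom.ext_zmod _ _
    exact congrArg (fun f : ZMod 2 →+* E => f r) this)
  have h6 : τ' ^ 3 = 1 := by
    have := pow_card_eq_one' (x := τ')
    rwa [h3] at this
  have h7 := congrArg (fun f : E ≃ₐ[ZMod 2] E => f a) h6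
  exact h7

theorem conj_range_normal (X : Type*) [Group X] : ((MulAut.conj : X →* MulAut X).range).Normal := by
  constructor
  rintro _ ⟨g, rfl⟩ β
  refine ⟨β g, ?_⟩
  ext y
  simp [MulAut.conj_apply]

variable {E : Type*} [Field E] {σ : E ≃+* E} {X : Type*} [Group X] {x : ZMod 12 → E → X}

namespace Mod

variable (M : Mod σ x)

include M

/-- two automorphisms which agree on the root elements are equal -/
theorem aut_ext {α β : MulAut X} (h : ∀ k a, Ok σ k a → α (x k a) = β (x k a)) : α = β := by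
  ext y
  have hy := M.mem_AA y
  unfold HexTwo.AA gen at hy
  induction hy using Subgroup.closure_induction with
  | mem y hy =>
    obtain ⟨k, -, a, ha, rfl⟩ := hy
    exact h k a ha
  | one => rw [map_one, map_one]
  | mul a b _ _ ha hb => rw [map_mul, map_mul, ha, hb]
  | inv a _ ha => rw [map_inv, map_inv, ha]

/-- the cube of an automorphism is inner -/
theorem cube_mem [Finite X] (β : MulAut X) : β ^ 3 ∈ (MulAut.conj : X →* MulAut X).range := by
  have h := M.hex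
  have := M.finE
  set y : ZMod 12 → E → X := fun k a => β (x k a) with hy
  have hH : HexTwo σ y := h.map β.toMonoidHom β.injective (fun k a _ => rfl)
  have hAA : AA σ y = AA σ x := by
    rw [M.top, eq_top_iff]
    intro g _
    have h1 : β.symm g ∈ AA σ x := M.mem_AA _
    have h2 : ∀ z ∈ AA σ x, β z ∈ AA σ y := by
      intro z hz
      unfold HexTwo.AA gen at hz
      induction hz using Subgroup.closure_induction with
      | mem z hz =>
        obtain ⟨k, -, a, ha, rfl⟩ := hz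
        exact x_mem_gen (x := y) (Set.mem_univ k) ha
      | one => rw [map_one]; exact one_mem _
      | mul a b _ _ ha hb => rw [map_mul]; exact mul_mem ha hb
      | inv a _ ha => rw [map_inv]; exact inv_mem ha
    have h3 := h2 _ h1
    have h4 : β (β.symm g) = g := β.apply_symm_apply g
    rwa [h4] at h3
  obtain ⟨g, -, τ, hg⟩ := exists_conj h hH (Or.inr M.exists_mover) hAA
  have hcube := aut_cube h.two M.card τ
  have hok : ∀ {k : ZMod 12} {a : E}, Ok σ k a → Ok σ k (τ a) := by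
    intro k a ha hk
    rcases M.fix a (ha hk) with rfl | rfl
    · rw [map_zero, map_zero]
    · rw [map_one, map_one]
  have hact : ∀ k a, Ok σ k a → (MulAut.conj g⁻¹ * β) (x k a) = x k (τ a) := by
    intro k a ha
    have h1 : β (x k a) = g * x k (τ a) * g⁻¹ := hg k a ha
    show MulAut.conj g⁻¹ (β (x k a)) = x k (τ a)
    rw [h1, MulAut.conj_apply]
    group
  have h3 : (MulAut.conj g⁻¹ * β) ^ 3 = 1 := by
    refine M.aut_ext fun k a ha => ?_
    have e : ((MulAut.conj g⁻¹ * β) ^ 3) (x k a) =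
        (MulAut.conj g⁻¹ * β) ((MulAut.conj g⁻¹ * β) ((MulAut.conj g⁻¹ * β) (x k a))) := rfl
    rw [e, hact k a ha, hact k _ (hok ha), hact k _ (hok (hok ha)), hcube]
    rfl
  have hN := conj_range_normal X
  -- modulo inner automorphisms
  have h4 : ((QuotientGroup.mk' (MulAut.conj : X →* MulAut X).range) β) ^ 3 = 1 := by
    have h5 := congrArg (QuotientGroup.mk' (MulAut.conj : X →* MulAut X).range) h3
    rw [map_pow, map_mul, map_one] at h5
    have h6 : (QuotientGroup.mk' (MulAut.conj : X →* MulAut X).range) (MulAut.conj g⁻¹) = 1 := by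
      rw [← MonoidHom.mem_ker, QuotientGroup.ker_mk']
      exact ⟨g⁻¹, rfl⟩
    rwa [h6, one_mul] at h5
  rw [← map_pow, ← MonoidHom.mem_ker, QuotientGroup.ker_mk'] at h4
  exact h4

/-- **`Out(³D₄(2))` is a 3-group.** -/
theorem out_three [Finite X] : (hN : ((MulAut.conj : X →* MulAut X).range).Normal) →
    IsPGroup 3 (MulAut X ⧸ (MulAut.conj : X →* MulAut X).range) := by
  intro hN q
  obtain ⟨β, rfl⟩ := QuotientGroup.mk'_surjective _ q
  refine ⟨1, ?_⟩
  rw [pow_one, ← map_pow, ← MonoidHom.mem_ker, QuotientGroup.ker_mk']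
  exact M.cube_mem β

theorem index_odd [Finite X] : ¬ 2 ∣ (MulAut.conj : X →* MulAut X).range.index := by
  intro h
  have hN := conj_range_normal X
  have h3 := M.out_three hN
  have hfin : Finite (MulAut X) := Finite.of_injective (fun α : MulAut X => (α : X → X)) (fun α β h => by
    ext y; exact congrFun h y)
  have : Fact (Nat.Prime 3) := ⟨Nat.prime_three⟩
  obtain ⟨n, hn⟩ := IsPGroup.iff_card.mp h3
  rw [Subgroup.index_eq_card, hn] at h
  have := (Nat.prime_two.dvd_of_dvd_pow h)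
  omega

/-- **2-elements of the automorphism group are inner.** -/
theorem inn_of_two [Finite X] {β : MulAut X} {m : ℕ} (hβ : β ^ 2 ^ m = 1) : Inn β := by
  have hc : Nat.Coprime 3 (2 ^ m) := by
    refine Nat.Coprime.pow_right m ?_
    decide
  have h1 : β = (β ^ 3) ^ (Nat.gcdA 3 (2 ^ m)) * (β ^ 2 ^ m) ^ (Nat.gcdB 3 (2 ^ m)) := by
    have h2 := Nat.gcd_eq_gcd_ab 3 (2 ^ m)
    rw [Nat.Coprime.gcd_eq_one hc] at h2
    calc β = β ^ ((1 : ℕ) : ℤ) := by simp
      _ = _ := by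
        rw [h2, zpow_add, zpow_mul, zpow_mul, zpow_natCast, zpow_natCast]
  have h3 : β ∈ (MulAut.conj : X →* MulAut X).range := by
    rw [h1, hβ, one_zpow, mul_one]
    exact zpow_mem (M.cube_mem β) _
  obtain ⟨g, hg⟩ := h3
  exact ⟨g, hg.symm⟩

theorem schreier [Finite X] (P : Subgroup (MulAut X)) (hP : ⁅P, P⁆ = P) :
    P ≤ (MulAut.conj : X →* MulAut X).range := by
  have hN := conj_range_normal X
  have h3 := M.out_three hN
  have : Fact (Nat.Prime 3) := ⟨Nat.prime_three⟩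
  have hfin : Finite (MulAut X) := Finite.of_injective (fun α : MulAut X => (α : X → X)) (fun α β h => by
    ext y; exact congrFun h y)
  have hnil : Group.IsNilpotent (MulAut X ⧸ (MulAut.conj : X →* MulAut X).range) := h3.isNilpotent
  have hsol : Group.IsSolvable (MulAut X ⧸ (MulAut.conj : X →* MulAut X).range) := inferInstance
  set f := QuotientGroup.mk' (MulAut.conj : X →* MulAut X).range with hf
  have h4 : ⁅P.map f, P.map f⁆ = P.map f := by rw [← Subgroup.map_commutator, hP]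
  have h5 : P.map f = ⊥ := by
    obtain ⟨n, hn⟩ := hsol.solvable
    have key : ∀ n, P.map f ≤ derivedSeries _ n := by
      intro n
      induction n with
      | zero => exact le_top
      | succ n ih =>
        rw [derivedSeries_succ, ← h4]
        exact commutator_mono ih ih
    rw [eq_bot_iff, ← hn]
    exact key n
  rw [Subgroup.map_eq_bot_iff, hf, QuotientGroup.ker_mk'] at h5
  exact h5

/-- **The fact sheet of `³D₄(2)`.** -/
theorem sheet [Finite X] : Sheet X where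
  out := fun h => M.index_odd (dvd_trans (by norm_num) h)
  schreier := M.schreier
  sylAut := by
    intro _ α hα _
    obtain ⟨n, hn⟩ := hα ⟨α, mem_zpowers α⟩
    exact M.inn_of_two (m := n) (congrArg Subtype.val hn)
  z1 := fun S a ha _ ha1 hac b hb _ hb1 hbc => M.z1 S a ha ha1 hac b hb hb1 hbc
  bal := M.bal
  out2 := by
    intro α h1 h2
    exact absurd (M.inn_of_two (m := 1) (by rw [pow_one, pow_two, h2])) h1
  tab := tab_of_not_bad M.not_bad

end Mod

end Cfsg.Agent.OddHalf.D4.ThreeD4Two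

end

-- merged: Cfsg.Agent.OddHalf.D4.ThreeD4Two.Sheet
section

/-!
# ODD half, D4, `K ≅ ³D₄(2)`: the fact sheet
-/

set_option autoImplicit false

namespace Cfsg.Agent.OddHalf.D4.ThreeD4Two

open Cfsg.Agent.OddHalf.D4.Spor

/-- **The fact sheet of `³D₄(2)`** -/
theorem sheet {X : Type*} [Group X] [Finite X] {L : Type*} [Field L] [Fintype L] (hL : Fintype.card L = 8)
    (e : X ≃* ↥(Cfsg.Lie.twistedD4 L 2)) : Sheet X := by
  obtain ⟨σ, hσ, h3, hne, hf⟩ := Cfsg.Agent.HexModel.Main.exists_sigma (K := L) (a := 1) le_rfl (by rw [hL]; norm_num)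
  have h2 : (2 : L) = 0 := Cfsg.Agent.HexModel.Main.two_eq_zero (n := 3) (by rw [hL]; norm_num)
  have hσ' : ∀ c, σ c = c ^ 2 := by simpa using hσ
  have hm : Mod σ (Cfsg.Agent.HexModel.Main.yy σ 2) := by
    refine ⟨Cfsg.Agent.HexModel.Main.d4_hexTwo hσ' h2 h3, by rw [Nat.card_eq_fintype_card, hL], ?_,
      Cfsg.Agent.HexModel.Main.d4_top hσ' h2⟩
    intro a ha
    rw [hσ'] at ha
    have h4 : a * (a - 1) = 0 := by
      have : a ^ 2 - a = 0 := sub_eq_zero.mpr ha
      linear_combination this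
    rcases mul_eq_zero.mp h4 with h5 | h5
    · exact Or.inl h5
    · exact Or.inr (sub_eq_zero.mp h5)
  have : Finite ↥(Cfsg.Lie.twistedD4 L 2) := Finite.of_equiv X e.toEquiv
  exact Sheet.of_equiv e.symm hm.sheet

end Cfsg.Agent.OddHalf.D4.ThreeD4Two

end
end

-- part: OddHalf/Quat/KTwoTri
section
prune_inst 0x101045401400020000000582110026407600019200230800a16009420c80250208000700b4b010121008aa84403d0068135c00c04028000000000400011d058100a91200b048a10006000e000084000000000000000000000000000000000004200000000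
set_option linter.all false
open scoped Cfsg.Agent.FastGrp

/-!
# `KTwo` for `³D₄(2)`

`kTwo_of_second`: `KTwo U V` if `Z(U) = ⟨z⟩`, `V = Z₂(U)` is elementary abelian of order at most 16 and some `r`
normalises `V` and moves `z`.
-/

set_option autoImplicit false
set_option linter.unusedSectionVars false
set_option linter.unusedSimpArgs false

namespace Cfsg.Agent.OddHalf.Quat

open Subgroup

theorem kTwo_of_second {K : Type*} [Group K] [Finite K] {U V : Subgroup K} {z r : K}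
    (hVU : V ≤ U) (hsq : ∀ x ∈ V, x * x = 1) (hcard : Nat.card V ≤ 16)
    (hzV : z ∈ V) (hz1 : z ≠ 1) (hUz : ∀ u ∈ U, u * z = z * u)
    (hZ : ∀ x ∈ U, (∀ u ∈ U, u * x = x * u) → x = 1 ∨ x = z)
    (hV : ∀ x ∈ V, ∀ u ∈ U, x * u = u * x ∨ x * u = u * x * z)
    (hV' : ∀ x ∈ U, (∀ u ∈ U, x * u = u * x ∨ x * u = u * x * z) → x ∈ V)
    (hr : ∀ x ∈ V, r * x * r⁻¹ ∈ V) (hrz : r * z ≠ z * r)
    (hout : ¬ 4 ∣ (MulAut.conj : K →* MulAut K).range.index) (hbig : 512 < Nat.card U) : KTwo U V where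
  le := hVU
  sq := hsq
  card := hcard
  inv := by
    intro α hα x hx
    have hsurj : ∀ u ∈ U, ∃ u' ∈ U, α u' = u := by
      intro u hu
      let f : U → U := fun u => ⟨α u, hα u u.2⟩
      have hf : Function.Injective f := fun a b hab => Subtype.ext (α.injective (congrArg Subtype.val hab))
      obtain ⟨u', hu'⟩ := (Finite.injective_iff_surjective.1 hf) ⟨u, hu⟩
      exact ⟨u', u'.2, congrArg Subtype.val hu'⟩
    have hαz : α z = z := by
      rcases hZ (α z) (hα z (hVU hzV)) (fun u hu => by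
        obtain ⟨u', hu', rfl⟩ := hsurj u hu
        rw [← map_mul, ← map_mul, hUz u' hu']) with h1 | h1
      · exact absurd (α.injective (h1.trans (map_one α).symm)) hz1
      · exact h1
    apply hV' _ (hα x (hVU hx))
    intro u hu
    obtain ⟨u', hu', rfl⟩ := hsurj u hu
    rcases hV x hx u' hu' with h1 | h1
    · left; rw [← map_mul, ← map_mul, h1]
    · right; rw [← map_mul, ← map_mul, h1, map_mul, hαz]
  w := ⟨z, hzV, hz1, fun x hx => hZ x hx.1 hx.2.2, r, hr, hrz⟩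
  out := hout
  big := hbig

namespace KTwoTri

open Cfsg.Agent.TriTwo Cfsg.Agent.StdRank2.Hex Cfsg.Agent.SplitTwo Cfsg.Agent.StdEven.Syl
open Cfsg.Agent.StdRank2.Hex.HexTwo (ok1 ok3 ok5 AA UU q uu)
open scoped commutatorElement

variable {E : Type*} [Field E] {σ : E ≃+* E} {G : Type*} [Group G] {x : ZMod 12 → E → G}

section Second

variable (h : HexTwo σ x) (hc : Nat.card E = 8) (hf : ∀ a, σ a = a → a = 0 ∨ a = 1)
include h hc hf

theorem ne_fix : ∃ r : E, σ r ≠ r := by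
  by_contra hcon
  push Not at hcon
  obtain ⟨η, h0, h1, -⟩ := exists_eta h.two hc hf h.cube
  rcases hf η (hcon η) with h2 | h2
  · exact h0 h2
  · exact h1 h2

/-- the second centre of `U` -/
theorem second {v : G} (hv : v ∈ Us σ x) (hz : ∀ u ∈ Us σ x, v * u = u * v ∨ v * u = u * v * x 4 1) : v ∈ Ws σ x := by
  have z : σ (0 : E) = 0 := map_zero σ
  have o : σ (1 : E) = 1 := map_one σ
  have mU : ∀ k ∈ ([1, 2, 3, 4, 5, 6] : List (ZMod 12)), ∀ b, Ok σ k b → x k b ∈ Us σ x := by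
    intro k hk b hb
    rw [Us_eq]; exact mem_gl hk hb
  rw [AFacts.Us_UU] at hv
  obtain ⟨a, b, c, d, e, f, hb, hd, hf', rfl⟩ := h.mem_UU.1 hv
  have u1 : ∀ a', x 1 a' = uu x a' 0 0 0 0 0 := fun a' => by rw [h.u1]
  have u4 : x 4 1 = uu x 0 0 0 1 0 0 := by rw [h.uq, h.q4]
  have u6 : x 6 1 = uu x 0 0 0 0 0 1 := by rw [h.uq, h.q6]
  -- commutation with `x 1 t`
  have key1 : ∀ t : E, f * t = 0 ∧ crs σ t e + f * shp σ t = 0 ∧ trc σ t c + trc σ (shp σ t) e + f * nrm σ t = 0 := by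
    intro t
    have t1 := h.fix_trc t c
    have t2 := h.fix_trc (shp σ t) e
    have t4 := h.fix_nrm t
    have t3 := h.fix_trc t (shp σ e)
    have gen : ∀ w : E, σ w = w → uu x (a + t) (b + trc σ t c + trc σ (shp σ t) e + f * nrm σ t + 0)
        (c + crs σ t e + f * shp σ t + 0)
        (d + trc σ t (shp σ e) + f ^ 2 * nrm σ t + f * trc σ (shp σ t) e + 0 + 0 * f + trc σ 0 (e + f * t))
        (e + f * t + 0) (f + 0) = uu x (t + a) b c w e f →
        f * t = 0 ∧ crs σ t e + f * shp σ t = 0 ∧ trc σ t c + trc σ (shp σ t) e + f * nrm σ t = 0 := by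
      intro w hw e1
      obtain ⟨-, r2, r3, -, r5, -⟩ := h.uu_inj (by simp only [map_add, map_mul, hb, t1, t2, hf', t4, z])
        (by simp only [map_add, map_mul, map_pow, hd, t3, hf', t4, t2, z, h.fix_trc]) (by simp [hf']) hb hw hf' e1
      refine ⟨?_, ?_, ?_⟩
      · have : e + f * t = e := by simpa using r5
        exact add_eq_left.1 this
      · have : c + (crs σ t e + f * shp σ t) = c := by
          rw [← add_assoc]; simpa using r3
        exact add_eq_left.1 this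
      · have : b + (trc σ t c + trc σ (shp σ t) e + f * nrm σ t) = b := by
          rw [← add_assoc, ← add_assoc]; simpa using r2
        exact add_eq_left.1 this
    rcases hz _ (mU 1 (by decide) t (ok1 t)) with e1 | e1
    · rw [u1, h.uu_mul hb hd hf' z z z, h.uu_mul z z z hb hd hf'] at e1
      refine gen d hd ?_
      rw [e1]
      simp only [trc_zero_left, trc_zero_right, crs_zero_left, crs_zero_right, shp_zero, nrm_zero, zero_mul, mul_zero,
        add_zero, zero_add, ne_eq, OfNat.ofNat_ne_zero, not_false_eq_true, zero_pow]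
    · rw [u1, u4, h.uu_mul hb hd hf' z z z, h.uu_mul z z z hb hd hf'] at e1
      simp only [trc_zero_left, trc_zero_right, crs_zero_left, crs_zero_right, shp_zero, nrm_zero, zero_mul, mul_zero,
        add_zero, zero_add, ne_eq, OfNat.ofNat_ne_zero, not_false_eq_true, zero_pow] at e1
      rw [h.uu_mul hb hd hf' z o z] at e1
      refine gen (d + 1) (by rw [map_add, hd, o]) ?_
      simp only [trc_zero_left, trc_zero_right, crs_zero_left, crs_zero_right, shp_zero, nrm_zero, zero_mul, mul_zero,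
        add_zero, zero_add, ne_eq, OfNat.ofNat_ne_zero, not_false_eq_true, zero_pow] at e1 ⊢
      exact e1
  have ef : f = 0 := by
    have := (key1 1).1
    rwa [mul_one] at this
  subst ef
  have ee : e = 0 := by
    by_contra hne
    obtain ⟨r, hr⟩ := ne_fix h hc hf
    have := (key1 (e * r)).2.1
    rw [zero_mul, add_zero] at this
    have e0 : crs σ (e * r) e = σ e * σ (σ e) * (σ r + σ (σ r)) := by
      unfold crs
      simp only [map_mul]
      ring
    rw [e0] at this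
    rcases mul_eq_zero.1 this with h1 | h1
    · rcases mul_eq_zero.1 h1 with h2 | h2
      · exact hne ((map_eq_zero σ).1 h2)
      · exact hne ((map_eq_zero σ).1 ((map_eq_zero σ).1 h2))
    · rw [← map_add] at h1
      have h2 : r + σ r = 0 := (map_eq_zero σ).1 h1
      apply hr
      have h3 := eq_neg_of_add_eq_zero_left h2
      rw [h.neg_eq] at h3
      exact h3.symm
  subst ee
  have ec : c = 0 := by
    by_contra hne
    have := (key1 c⁻¹).2.2
    rw [trc_zero_right, zero_mul, add_zero, add_zero, Cfsg.Agent.StdRank2.Hex.trc_comm, PF.trc_inv h hne] at this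
    exact one_ne_zero this
  subst ec
  -- commutation with `x 6 1`
  have ea : a = 0 := by
    have gen : ∀ w : E, σ w = w → uu x a b 0 d 0 1 = uu x a (nrm σ a + b) (shp σ a) w a 1 → a = 0 := by
      intro w hw e1
      obtain ⟨-, -, -, -, r5, -⟩ := h.uu_inj hb hd o (by simp only [map_add, hb, h.fix_nrm]) hw o e1
      exact r5.symm
    rcases hz _ (mU 6 (by decide) 1 (ok_one σ _)) with e1 | e1
    · rw [u6, h.uu_mul hb hd z z z o, h.uu_mul z z o hb hd z] at e1
      simp only [trc_zero_left, trc_zero_right, crs_zero_left, crs_zero_right, shp_zero, nrm_zero, zero_mul, mul_zero,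
        add_zero, zero_add, ne_eq, OfNat.ofNat_ne_zero, not_false_eq_true, zero_pow, one_mul, one_pow, mul_one] at e1
      exact gen _ (by simp only [map_add, hb, hd, h.fix_nrm]) e1
    · rw [u6, u4, h.uu_mul hb hd z z z o, h.uu_mul z z o hb hd z] at e1
      simp only [trc_zero_left, trc_zero_right, crs_zero_left, crs_zero_right, shp_zero, nrm_zero, zero_mul, mul_zero,
        add_zero, zero_add, ne_eq, OfNat.ofNat_ne_zero, not_false_eq_true, zero_pow, one_mul, one_pow, mul_one] at e1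
      rw [h.uu_mul (by simp only [map_add, hb, h.fix_nrm]) (by simp only [map_add, hb, hd, h.fix_nrm]) o z o z] at e1
      simp only [trc_zero_left, trc_zero_right, crs_zero_left, crs_zero_right, shp_zero, nrm_zero, zero_mul, mul_zero,
        add_zero, zero_add, ne_eq, OfNat.ofNat_ne_zero, not_false_eq_true, zero_pow, one_mul, one_pow, mul_one] at e1
      exact gen _ (by simp only [map_add, hb, hd, h.fix_nrm, o]) e1
  subst ea
  rw [h.uq]
  have : q x b 0 d 0 0 = x 2 b * x 4 d := by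
    unfold q
    rw [h.x_zero, h.x_zero, h.x_zero, mul_one, mul_one, mul_one]
  rw [this]
  exact mul_mem (mem_gens (by simp only [_root_.Set.mem_insert_iff, _root_.Set.mem_singleton_iff, _root_.true_or]) (ok_of_fix _ hb)) (mem_gens (by simp only [_root_.Set.mem_insert_iff, _root_.Set.mem_singleton_iff, _root_.or_true]) (ok_of_fix _ hd))

/-- `W ≤ Z₂(U)` -/
theorem first {v : G} (hv : v ∈ Ws σ x) : ∀ u ∈ Us σ x, v * u = u * v ∨ v * u = u * v * x 4 1 := by
  have h4 : ∀ u ∈ Us σ x, x 4 1 * u = u * x 4 1 := fun u hu => SecOne.z4_comm h (SecBase.Us_le_P1 hu)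
  have h44 : x 4 (1 : E) * x 4 1 = 1 := h.x_sq (ok_one σ _)
  have c26 : ⁅x 2 (1 : E), x 6 1⁆ = x 4 1 := by
    have := h.commL4 (k := 2) (by decide) (map_one σ) (map_one σ)
    rw [one_mul] at this
    exact this
  -- the elements fixing `v` modulo `z₄` form a subgroup
  have key : ∀ w : G, (∀ k ∈ ([1, 2, 3, 4, 5, 6] : List (ZMod 12)), ∀ b, Ok σ k b →
      w * x k b = x k b * w ∨ w * x k b = x k b * w * x 4 1) →
      ∀ u ∈ Us σ x, w * u = u * w ∨ w * u = u * w * x 4 1 := by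
    intro w hw u hu
    have hle : Us σ x ≤ Us σ x := le_rfl
    rw [Us_eq] at hu
    refine Subgroup.closure_induction (p := fun u _ => u ∈ Us σ x ∧ (w * u = u * w ∨ w * u = u * w * x 4 1)) ?_ ?_ ?_ ?_ hu |>.2
    · rintro _ ⟨k, hk, b, hb, rfl⟩
      exact ⟨by rw [Us_eq]; exact mem_gl hk hb, hw k hk b hb⟩
    · exact ⟨one_mem _, Or.inl (by rw [mul_one, one_mul])⟩
    · rintro a b - - ⟨ha, ha'⟩ ⟨hb, hb'⟩
      refine ⟨mul_mem ha hb, ?_⟩
      have e4 := h4 b hb
      rcases ha' with h1 | h1 <;> rcases hb' with h2 | h2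
      · left
        rw [← mul_assoc, h1, mul_assoc, h2, mul_assoc]
      · right
        rw [← mul_assoc, h1, mul_assoc, h2]; group
      · right
        calc w * (a * b) = a * w * x 4 1 * b := by rw [← mul_assoc, h1]
          _ = a * w * (x 4 1 * b) := by group
          _ = a * (w * b) * x 4 1 := by rw [e4]; group
          _ = a * b * w * x 4 1 := by rw [h2]; group
      · left
        calc w * (a * b) = a * w * x 4 1 * b := by rw [← mul_assoc, h1]
          _ = a * w * (x 4 1 * b) := by group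
          _ = a * (w * b) * x 4 1 := by rw [e4]; group
          _ = a * b * w * (x 4 1 * x 4 1) := by rw [h2]; group
          _ = a * b * w := by rw [h44, mul_one]
    · rintro a - ⟨ha, ha'⟩
      refine ⟨inv_mem ha, ?_⟩
      have e4 := h4 a ha
      have e4' := h4 _ (inv_mem ha)
      rcases ha' with h1 | h1
      · left
        calc w * a⁻¹ = a⁻¹ * (a * w) * a⁻¹ := by group
          _ = a⁻¹ * w := by rw [← h1]; group
      · right
        have h5 : a * w = w * a * x 4 1 := by rw [h1, mul_assoc, h44, mul_one]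
        calc w * a⁻¹ = a⁻¹ * (a * w) * a⁻¹ := by group
          _ = a⁻¹ * w * (a * (x 4 1 * a⁻¹)) := by rw [h5]; group
          _ = a⁻¹ * w * x 4 1 := by rw [e4']; group
  have k2 : ∀ u ∈ Us σ x, x 2 1 * u = u * x 2 1 ∨ x 2 1 * u = u * x 2 1 * x 4 1 := by
    apply key
    intro k hk b hb
    by_cases h6 : k = 6
    · subst h6
      rcases hf b (hb (by decide)) with rfl | rfl
      · left; rw [h.x_zero, mul_one, one_mul]
      · right
        have e1 : x 2 (1 : E) * x 6 1 = ⁅x 2 (1 : E), x 6 1⁆ * (x 6 1 * x 2 1) := by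
          rw [commutatorElement_def]; group
        rw [e1, c26, h4 _ (mul_mem (by rw [Us_eq]; exact mem_gl (by decide) (ok_one σ _))
          (by rw [Us_eq]; exact mem_gl (by decide) (ok_one σ _)))]
    · left
      simp only [List.mem_cons, List.not_mem_nil, or_false] at hk
      rcases hk with rfl | rfl | rfl | rfl | rfl | rfl
      · exact cm h (by decide) (ok_one σ _) hb
      · exact (h.x_comm_same (ok_one σ _) hb).eq
      · exact cm h (by decide) (ok_one σ _) hb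
      · exact cm h (by decide) (ok_one σ _) hb
      · exact cm h (by decide) (ok_one σ _) hb
      · exact absurd rfl h6
  intro u hu
  rcases AFacts.Ws_cases h hf hv with rfl | rfl | rfl | rfl
  · left; rw [one_mul, mul_one]
  · exact k2 u hu
  · left; exact h4 u hu
  · have e4 := h4 u hu
    rcases k2 u hu with h1 | h1
    · left
      rw [mul_assoc, e4, ← mul_assoc, h1, mul_assoc]
    · right
      calc x 2 1 * x 4 1 * u = x 2 1 * (x 4 1 * u) := by group
        _ = (x 2 1 * u) * x 4 1 := by rw [e4]; group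
        _ = u * (x 2 1 * x 4 1) * x 4 1 := by rw [h1]; group

end Second

/-! ### The outer automorphism group -/

section Out

variable {A : Type*} [Group A] [Finite A] {y : ZMod 12 → E → A}

/-- **`Out(³D₄(2))` has odd order.** -/
theorem index_odd (h : HexTwo σ y) (hc : Nat.card E = 8) (hf : ∀ a, σ a = a → a = 0 ∨ a = 1)
    (htop : AA σ y = ⊤) (hZ : Subgroup.center A = ⊥) :
    ¬ 2 ∣ (MulAut.conj : A →* MulAut A).range.index := by
  have hp : Fact (Nat.Prime 2) := ⟨Nat.prime_two⟩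
  set f : A →* MulAut A := MulAut.conj with hfd
  have hker : f.ker = ⊥ := by
    rw [← hZ]
    ext a
    rw [MonoidHom.mem_ker, Subgroup.mem_center_iff]
    constructor
    · intro h1 b
      have h2 : f a b = b := by rw [h1]; rfl
      have h3 : a * b * a⁻¹ = b := h2
      exact (mul_inv_eq_iff_eq_mul.1 h3).symm
    · intro h1
      ext b
      show a * b * a⁻¹ = b
      rw [← h1 b, mul_inv_cancel_right]
  have hinj : Function.Injective f := (MonoidHom.ker_eq_bot_iff f).1 hker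
  let x' : ZMod 12 → E → MulAut A := fun k a => f (y k a)
  have hx : ∀ k a, Ok σ k a → x' k a = f (y k a) := fun _ _ _ => rfl
  have h' : HexTwo σ x' := (Transport.hexTwo_iff f hx hinj).1 h
  have hAA : AA σ x' = f.range := by
    have h1 : AA σ x' = (AA σ y).map f := Transport.map_gens f hx Set.univ
    rw [h1, htop, ← MonoidHom.range_eq_map]
  have hUs := AFacts.isSyl_Us h' hc hf
  obtain ⟨S, hS⟩ := hUs.two.exists_le_sylow
  have hSA : (S : Subgroup (MulAut A)) ⊓ AA σ x' = Us σ x' :=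
    hUs.max _ (S.isPGroup'.to_le inf_le_left) inf_le_right (le_inf hS hUs.le)
  have hnorm : ∀ α : MulAut A, ∀ b ∈ f.range, α * b * α⁻¹ ∈ f.range := by
    rintro α _ ⟨a, rfl⟩
    refine ⟨α a, ?_⟩
    ext b
    show α a * b * (α a)⁻¹ = α (a * α⁻¹ b * a⁻¹)
    rw [map_mul, map_mul, map_inv, MulAut.apply_inv_self]
  have hTN : (S : Subgroup (MulAut A)) ≤ normalizer (AA σ x' : Set (MulAut A)) := by
    intro s _
    apply mem_normalizer_of_conj_le
    intro b hb
    rw [hAA] at hb ⊢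
    exact hnorm s b hb
  have hin := AFacts.inner h' hc hf S.isPGroup' hTN hSA
  have hle : (S : Subgroup (MulAut A)) ≤ f.range := by
    intro s hs
    obtain ⟨a, ha, hac⟩ := hin s hs
    have h1 : a⁻¹ * s = 1 := by
      rw [mem_centralizer_iff] at hac
      ext b
      have h2 := hac (f b) (by rw [hAA]; exact ⟨b, rfl⟩)
      have h3 : f ((a⁻¹ * s) b) = f b := by
        ext c
        have h4 : (a⁻¹ * s) * f b * (a⁻¹ * s)⁻¹ = f b := by rw [← h2, mul_inv_cancel_right]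
        have h5 := DFunLike.congr_fun h4 c
        have h6 : ((a⁻¹ * s) * f b * (a⁻¹ * s)⁻¹) c = (a⁻¹ * s) (b * (a⁻¹ * s)⁻¹ c * b⁻¹) := rfl
        rw [h6, map_mul, map_mul, MulAut.apply_inv_self, map_inv] at h5
        exact h5
      exact hinj h3
    rw [inv_mul_eq_one] at h1
    rw [← h1, ← hAA]
    exact ha
  intro h2
  exact S.not_dvd_index (h2.trans (Subgroup.index_dvd_of_le hle))

end Out

/-! ### `KTwo` -/

theorem kTwo [Finite G] (h : HexTwo σ x) (hc : Nat.card E = 8) (hf : ∀ a, σ a = a → a = 0 ∨ a = 1)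
    (htop : AA σ x = ⊤) (hZ : Subgroup.center G = ⊥) : KTwo (Us σ x) (Ws σ x) := by
  have hW := fun {w : G} (hw : w ∈ Ws σ x) => AFacts.Ws_cases h hf hw
  have h22 : x 2 (1 : E) * x 2 1 = 1 := h.x_sq (ok_one σ _)
  have h44 : x 4 (1 : E) * x 4 1 = 1 := h.x_sq (ok_one σ _)
  have h24 : x 2 (1 : E) * x 4 1 = x 4 1 * x 2 1 := cm h (by decide) (ok_one σ _) (ok_one σ _)
  have m2 : x 2 (1 : E) ∈ Ws σ x := mem_gens (by simp only [_root_.Set.mem_insert_iff, _root_.Set.mem_singleton_iff, _root_.true_or]) (ok_one σ _)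
  have m4 : x 4 (1 : E) ∈ Ws σ x := mem_gens (by simp only [_root_.Set.mem_insert_iff, _root_.Set.mem_singleton_iff, _root_.or_true]) (ok_one σ _)
  have hne4 : x 4 (1 : E) ≠ 1 := fun e => one_ne_zero (h.inj 4 1 (ok_one σ _) e)
  have hne : x 2 (1 : E) ≠ x 4 1 := by
    intro e
    rw [← h.q2, ← h.q4] at e
    have z : σ (0 : E) = 0 := map_zero σ
    exact one_ne_zero (h.q_inj (map_one σ) z z z (map_one σ) z e).1
  have r2 : nn x 6 * x 2 1 * (nn x 6)⁻¹ = x 4 1 := by
    have := h.refl6 2 1 (ok_one σ _)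
    rw [show (6 : ZMod 12) - 2 = 4 by decide] at this
    exact this
  have r4 : nn x 6 * x 4 1 * (nn x 6)⁻¹ = x 2 1 := by
    have := h.refl6 4 1 (ok_one σ _)
    rw [show (6 : ZMod 12) - 4 = 2 by decide] at this
    exact this
  refine kTwo_of_second (z := x 4 1) (r := nn x 6) ?_ ?_ ?_ m4 hne4 ?_ ?_ (fun v hv => first h hc hf hv)
    (fun v hv hv' => second h hc hf hv hv') ?_ ?_ ?_ ?_
  · rw [Ws_eq, Us_eq]; exact gl_mono (by decide)
  · intro w hw
    rcases hW hw with rfl | rfl | rfl | rfl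
    · exact one_mul 1
    · exact h22
    · exact h44
    · calc x 2 (1 : E) * x 4 1 * (x 2 1 * x 4 1) = x 2 1 * (x 4 1 * x 2 1) * x 4 1 := by group
        _ = (x 2 1 * x 2 1) * (x 4 1 * x 4 1) := by rw [← h24]; group
        _ = 1 := by rw [h22, h44, one_mul]
  · have h1 : ((Ws σ x : Subgroup G) : Set G) ⊆ ({1, x 2 1, x 4 1, x 2 1 * x 4 1} : Set G) := fun w hw => hW hw
    have h2 : Nat.card (Ws σ x) ≤ ({1, x 2 1, x 4 1, x 2 1 * x 4 1} : Set G).ncard :=
      Set.ncard_le_ncard h1 (Set.toFinite _)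
    have h3 : ({1, x 2 1, x 4 1, x 2 1 * x 4 1} : Set G).ncard ≤ 4 := by
      classical
      have e : ({1, x 2 1, x 4 1, x 2 1 * x 4 1} : Set G) =
        (({1, x 2 1, x 4 1, x 2 1 * x 4 1} : Finset G) : Set G) := by simp only [_root_.Finset.coe_insert, _root_.Finset.coe_singleton]
      rw [e, Set.ncard_coe_finset]
      exact Finset.card_le_four
    omega
  · intro u hu
    exact (SecOne.z4_comm h (SecBase.Us_le_P1 hu)).symm
  · intro u hu hv
    exact AFacts.center_Us h hc hf hu fun v hv' => (hv v hv').symm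
  · intro w hw
    rcases hW hw with rfl | rfl | rfl | rfl
    · rw [mul_one, mul_inv_cancel]; exact one_mem _
    · rw [r2]; exact m4
    · rw [r4]; exact m2
    · have e : nn x 6 * (x 2 1 * x 4 1) * (nn x 6)⁻¹ = nn x 6 * x 2 1 * (nn x 6)⁻¹ * (nn x 6 * x 4 1 * (nn x 6)⁻¹) := by
        group
      rw [e, r2, r4]
      exact mul_mem m4 m2
  · intro e
    have : nn x 6 * x 4 1 * (nn x 6)⁻¹ = x 4 1 := by rw [e, mul_inv_cancel_right]
    exact hne (r4.symm.trans this)
  · intro h4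
    exact index_odd h hc hf htop hZ ((by norm_num : (2 : ℕ) ∣ 4).trans h4)
  · rw [PF.card_Us h hc hf]; norm_num

open Cfsg.Lie in
/-- **`KTwo` for `³D₄(2)`.** -/
theorem main {K : Type*} [Field K] [Fintype K] (hK : Fintype.card K = 8) {X : Type*} [Group X]
    (e : X ≃* ↥(twistedD4 K 2)) : ∃ (S : Sylow 2 X) (V : Subgroup X), KTwo (S : Subgroup X) V := by
  have hp : Fact (Nat.Prime 2) := ⟨Nat.prime_two⟩
  have hs : IsSimpleGroup ↥(twistedD4 K 2) := (Cfsg.Agent.S1071.result (K := K) (q := 2) Nat.prime_two.isPrimePow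
    (by rw [hK]; norm_num)).1
  have hna := (Cfsg.Agent.S1071.result (K := K) (q := 2) Nat.prime_two.isPrimePow (by rw [hK]; norm_num)).2
  have hfin : Finite ↥(twistedD4 K 2) := inferInstance
  have : Finite X := Finite.of_equiv _ e.symm.toEquiv
  obtain ⟨σ, hσ, h3, hne, hcf⟩ := Cfsg.Agent.HexModel.Main.exists_sigma (K := K) (a := 1) le_rfl (by rw [hK]; norm_num)
  have h2 : (2 : K) = 0 := Cfsg.Agent.HexModel.Main.two_eq_zero (n := 3) (by rw [hK]; norm_num)
  have hσ' : ∀ c, σ c = c ^ 2 := fun c => by rw [hσ]; norm_num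
  have hf : ∀ a, σ a = a → a = 0 ∨ a = 1 := by
    intro a ha
    rw [hσ', pow_two] at ha
    by_cases h0 : a = 0
    · exact Or.inl h0
    · right
      exact mul_left_cancel₀ h0 (ha.trans (mul_one a).symm)
  have hc : Nat.card K = 8 := by rw [Nat.card_eq_fintype_card, hK]
  have h := Cfsg.Agent.HexModel.Main.d4_hexTwo (q := 2) hσ' h2 h3
  have htop := Cfsg.Agent.HexModel.Main.d4_top (q := 2) hσ' h2
  have hZ : Subgroup.center ↥(twistedD4 K 2) = ⊥ := by
    rcases hs.eq_bot_or_eq_top_of_normal (Subgroup.center ↥(twistedD4 K 2)) inferInstance with h1 | h1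
    · exact h1
    · exfalso
      refine hna ⟨⟨fun a b => ?_⟩⟩
      have ha : b ∈ Subgroup.center ↥(twistedD4 K 2) := by rw [h1]; trivial
      exact Subgroup.mem_center_iff.1 ha a
  have hk := kTwo h hc hf htop hZ
  have hsyl := AFacts.isSyl_Us h hc hf
  rw [htop] at hsyl
  let S : Sylow 2 ↥(twistedD4 K 2) :=
    { toSubgroup := Us σ (Cfsg.Agent.HexModel.Main.yy σ 2)
      isPGroup' := hsyl.two
      is_maximal' := fun hQ hle => hsyl.max _ hQ le_top hle }
  have h1 : IsPGroup 2 ((S : Subgroup ↥(twistedD4 K 2)).map e.symm.toMonoidHom) := S.isPGroup'.map _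
  have h2' : ¬ 2 ∣ ((S : Subgroup ↥(twistedD4 K 2)).map e.symm.toMonoidHom).index := by
    have h3' := Subgroup.index_map_equiv (S : Subgroup ↥(twistedD4 K 2)) e.symm
    have h4' : ((S : Subgroup ↥(twistedD4 K 2)).map e.symm.toMonoidHom).index =
      (S : Subgroup ↥(twistedD4 K 2)).index := h3'
    rw [h4']
    exact S.not_dvd_index
  exact ⟨h1.toSylow h2', _, hk.map_equiv e.symm⟩

end KTwoTri

end Cfsg.Agent.OddHalf.Quat
end
end
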